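import Mathlib
import Groth.Prelude.Def_GSzMilK

set_option autoImplicit false
universe u v w

namespace H9_MilK

open MilK

variable {F : Type u} [Field F]

/-- the symbol as a multilinear map -/
noncomputable def symbolMulti (F : Type u) [Field F] (n : ℕ) :
    MultilinearMap ℤ (fun _ : Fin n => Additive Fˣ) (K F n) :=
  ((MilK.mk F n).toIntLinearMap).compMultilinearMap (PiTensorProduct.tprod ℤ)

theorem symbolMulti_apply {n : ℕ} (x : Fin n → Additive Fˣ) :
    symbolMulti F n x = symbol fun i => (x i).toMul := rfl

theorem symbol_eq_symbolMulti {n : ℕ} (x : Fin n → Fˣ) :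
    symbol x = symbolMulti F n (fun i => Additive.ofMul (x i)) := rfl

theorem symbol_update_mul {n : ℕ} (x : Fin n → Fˣ) (i : Fin n) (a b : Fˣ) :
    symbol (Function.update x i (a * b)) =
      symbol (Function.update x i a) + symbol (Function.update x i b) := by
  classical
  have h := (symbolMulti F n).map_update_add (fun j => Additive.ofMul (x j)) i
    (Additive.ofMul a) (Additive.ofMul b)
  have e : ∀ c : Fˣ, (Function.update (fun j => Additive.ofMul (x j)) i (Additive.ofMul c)) =
      fun j => Additive.ofMul (Function.update x i c j) := by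
    intro c
    funext j
    by_cases hj : j = i
    · subst hj; simp
    · simp [Function.update_of_ne hj]
  rw [← ofMul_mul, e, e, e] at h
  exact h

theorem symbol_update_one {n : ℕ} (x : Fin n → Fˣ) (i : Fin n) :
    symbol (Function.update x i 1) = 0 := by
  have h := symbol_update_mul x i 1 1
  rw [mul_one] at h
  exact left_eq_add.mp h

theorem symbol_update_inv {n : ℕ} (x : Fin n → Fˣ) (i : Fin n) (a : Fˣ) :
    symbol (Function.update x i a⁻¹) = -symbol (Function.update x i a) := by
  have h := symbol_update_mul x i a a⁻¹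
  rw [mul_inv_cancel, symbol_update_one] at h
  exact eq_neg_of_add_eq_zero_right h.symm

theorem symbol_update_div {n : ℕ} (x : Fin n → Fˣ) (i : Fin n) (a b : Fˣ) :
    symbol (Function.update x i (a / b)) =
      symbol (Function.update x i a) - symbol (Function.update x i b) := by
  rw [div_eq_mul_inv, symbol_update_mul, symbol_update_inv, sub_eq_add_neg]

theorem symbol_update_zpow {n : ℕ} (x : Fin n → Fˣ) (i : Fin n) (a : Fˣ) (e : ℤ) :
    symbol (Function.update x i (a ^ e)) = e • symbol (Function.update x i a) := by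
  classical
  have h := (symbolMulti F n).map_update_smul (fun j => Additive.ofMul (x j)) i e
    (Additive.ofMul a)
  have e1 : ∀ c : Fˣ, (Function.update (fun j => Additive.ofMul (x j)) i (Additive.ofMul c)) =
      fun j => Additive.ofMul (Function.update x i c j) := by
    intro c
    funext j
    by_cases hj : j = i
    · subst hj; simp
    · simp [Function.update_of_ne hj]
  rw [← ofMul_zpow, e1, e1] at h
  exact h

/-- additive maps out of `K F n` are determined by symbols -/
theorem hom_ext {n : ℕ} {M : Type w} [AddCommGroup M] (f g : K F n →+ M)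
    (h : ∀ x : Fin n → Fˣ, f (symbol x) = g (symbol x)) : f = g := by
  have h1 : (f.comp (MilK.mk F n)).toIntLinearMap = (g.comp (MilK.mk F n)).toIntLinearMap := by
    apply PiTensorProduct.ext
    ext x
    exact h (fun i => (x i).toMul)
  ext y
  obtain ⟨t, rfl⟩ := MilK.mk_surjective F n y
  exact DFunLike.congr_fun h1 t

/-- induction principle for `K F n` -/
theorem induction_on {n : ℕ} {P : K F n → Prop} (y : K F n)
    (hs : ∀ x : Fin n → Fˣ, P (symbol x)) (hadd : ∀ a b, P a → P b → P (a + b))
    (hneg : ∀ a, P a → P (-a)) : P y := by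
  have h0 : P 0 := by
    have h1 := hs (fun _ => 1)
    have := hadd _ _ h1 (hneg _ h1)
    rwa [add_neg_cancel] at this
  obtain ⟨t, rfl⟩ := MilK.mk_surjective F n y
  induction t using PiTensorProduct.induction_on with
  | smul_tprod r f =>
    rw [map_zsmul]
    have hP : P (MilK.mk F n (PiTensorProduct.tprod ℤ f)) := hs (fun i => (f i).toMul)
    induction r using Int.induction_on with
    | zero => rw [zero_smul]; exact h0
    | succ k ih => rw [add_smul, one_smul]; exact hadd _ _ ih hP
    | pred k ih => rw [sub_smul, one_smul, sub_eq_add_neg]; exact hadd _ _ ih (hneg _ hP)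
  | add a b ha hb => rw [map_add]; exact hadd _ _ ha hb

/-! ### degree 2 -/

theorem two_update0 (a b c : Fˣ) : Function.update ![a, b] 0 c = ![c, b] := by
  funext i; fin_cases i <;> simp

theorem two_update1 (a b c : Fˣ) : Function.update ![a, b] 1 c = ![a, c] := by
  funext i; fin_cases i <;> simp

theorem symbol2_mul_left (a b c : Fˣ) :
    (symbol ![a * b, c] : K F 2) = symbol ![a, c] + symbol ![b, c] := by
  have h := symbol_update_mul ![a, c] 0 a b
  simpa only [two_update0] using h

theorem symbol2_mul_right (a b c : Fˣ) :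
    (symbol ![a, b * c] : K F 2) = symbol ![a, b] + symbol ![a, c] := by
  have h := symbol_update_mul ![a, b] 1 b c
  simpa only [two_update1] using h

theorem symbol2_one_left (c : Fˣ) : (symbol ![1, c] : K F 2) = 0 := by
  have h := symbol_update_one ![1, c] 0
  simpa only [two_update0] using h

theorem symbol2_one_right (a : Fˣ) : (symbol ![a, 1] : K F 2) = 0 := by
  have h := symbol_update_one ![a, 1] 1
  simpa only [two_update1] using h

theorem symbol2_inv_left (a c : Fˣ) : (symbol ![a⁻¹, c] : K F 2) = -symbol ![a, c] := by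
  have h := symbol_update_inv ![a, c] 0 a
  simpa only [two_update0] using h

theorem symbol2_inv_right (a c : Fˣ) : (symbol ![a, c⁻¹] : K F 2) = -symbol ![a, c] := by
  have h := symbol_update_inv ![a, c] 1 c
  simpa only [two_update1] using h

theorem symbol2_steinberg (a b : Fˣ) (h : (a : F) + (b : F) = 1) :
    (symbol ![a, b] : K F 2) = 0 := by
  apply symbol_eq_zero_of_isSteinberg
  refine ⟨0, 1, by decide, ?_⟩
  simpa using h

/-- `{x, -x} = 0` -/
theorem symbol2_neg_self (x : Fˣ) : (symbol ![x, -x] : K F 2) = 0 := by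
  by_cases hx : x = 1
  · subst hx
    exact symbol2_one_left _
  · -- 1 - x ≠ 0 and 1 - x⁻¹ ≠ 0
    have hx1 : (1 : F) - (x : F) ≠ 0 := by
      intro h
      apply hx
      apply Units.ext
      rw [Units.val_one]
      exact (sub_eq_zero.mp h).symm
    have hx2 : (1 : F) - ((x⁻¹ : Fˣ) : F) ≠ 0 := by
      intro h
      apply hx
      have : ((x⁻¹ : Fˣ) : F) = 1 := (sub_eq_zero.mp h).symm
      have h2 : x⁻¹ = 1 := Units.ext (by rw [this, Units.val_one])
      exact inv_eq_one.mp h2
    set u : Fˣ := Units.mk0 _ hx1 with hu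
    set v : Fˣ := Units.mk0 _ hx2 with hv
    have e : -x = u / v := by
      apply Units.ext
      rw [Units.val_neg, Units.val_div_eq_div_val, hu, hv, Units.val_mk0, Units.val_mk0,
        Units.val_inv_eq_inv_val]
      have hxne : (x : F) ≠ 0 := x.ne_zero
      rw [Units.val_inv_eq_inv_val] at hx2
      rw [eq_div_iff hx2, mul_sub, mul_one, neg_mul, mul_inv_cancel₀ hxne]
      ring
    have h1 : (symbol ![x, u] : K F 2) = 0 := by
      apply symbol2_steinberg
      rw [hu, Units.val_mk0]; ring
    have h2 : (symbol ![x⁻¹, v] : K F 2) = 0 := by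
      apply symbol2_steinberg
      rw [hv, Units.val_mk0]; ring
    rw [e, div_eq_mul_inv, symbol2_mul_right, symbol2_inv_right, h1, zero_add]
    rw [symbol2_inv_left] at h2
    exact h2

/-- antisymmetry -/
theorem symbol2_swap (x y : Fˣ) : (symbol ![x, y] : K F 2) = -symbol ![y, x] := by
  have h := symbol2_neg_self (x * y)
  have e : -(x * y) = (-x) * y := by rw [neg_mul]
  have e' : -(x * y) = x * (-y) := by rw [mul_neg]
  rw [symbol2_mul_left] at h
  nth_rewrite 1 [e] at h
  nth_rewrite 1 [e'] at h
  rw [symbol2_mul_right, symbol2_mul_right, symbol2_neg_self, symbol2_neg_self] at h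
  rw [eq_neg_iff_add_eq_zero]
  simpa using h

/-- `{x, x} = {x, -1}` -/
theorem symbol2_self (x : Fˣ) : (symbol ![x, x] : K F 2) = symbol ![x, -1] := by
  have h := symbol2_neg_self x
  have e : x = (-x) * (-1) := by simp
  nth_rewrite 2 [e]
  rw [symbol2_mul_right, h, zero_add]

end H9_MilK

namespace H9_MilK

open MilK

variable {F : Type u} [Field F]

theorem symbol_cons_mul {n : ℕ} (a b : Fˣ) (t : Fin n → Fˣ) :
    (symbol (Fin.cons (a * b) t : Fin (n + 1) → Fˣ) : K F (n + 1)) =
      symbol (Fin.cons a t : Fin (n + 1) → Fˣ) + symbol (Fin.cons b t : Fin (n + 1) → Fˣ) := by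
  have h := symbol_update_mul (Fin.cons a t : Fin (n + 1) → Fˣ) 0 a b
  simpa only [Fin.update_cons_zero] using h

section DVR

variable (A : Type u) [CommRing A] [IsDomain A] [IsDiscreteValuationRing A]
  (L : Type v) [Field L] [Algebra A L] [IsFractionRing A L]

theorem unitFrac_mul_unit (ϖ : A) (hϖ : ϖ ≠ 0) (u : Aˣ) (h : ϖ * (u : A) ≠ 0) :
    unitFrac A L (ϖ * u) h = unitFrac A L ϖ hϖ * unitToFrac A L u := by
  apply Units.ext
  simp [unitToFrac]

/-- the tame symbol kills symbols of units -/
theorem tame_units (n : ℕ) (d : K L (n + 1) →+ K (IsLocalRing.ResidueField A) n)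
    (hd : IsTameSymbol A L n d) (u : Fin (n + 1) → Aˣ) :
    d (symbol fun i => unitToFrac A L (u i)) = 0 := by
  obtain ⟨ϖ, hϖ⟩ := IsDiscreteValuationRing.exists_irreducible A
  have hϖ' : Irreducible (ϖ * (u 0 : A)) := (irreducible_mul_units (u 0)).mpr hϖ
  have h1 := hd ϖ hϖ (fun i => u i.succ)
  have h2 := hd (ϖ * (u 0 : A)) hϖ' (fun i => u i.succ)
  rw [unitFrac_mul_unit A L ϖ hϖ.ne_zero (u 0) hϖ'.ne_zero, symbol_cons_mul, map_add, h1] at h2
  have e : (fun i => unitToFrac A L (u i)) =
      (Fin.cons (unitToFrac A L (u 0)) fun i => unitToFrac A L (u i.succ) : Fin (n + 1) → Lˣ) := by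
    funext i
    refine Fin.cases ?_ (fun j => ?_) i
    · simp
    · simp
  rw [e]
  exact left_eq_add.mp h2.symm

end DVR

end H9_MilK
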