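import Mathlib

/-! Logarithmic-derivative calculus for power series over `ℚ`, and the exponential of
`∑ a^v t^v / v`-type series. -/

namespace Groth.Agent.H9Dlog

open PowerSeries

theorem dlog_mul {f1 f2 g1 g2 : ℚ⟦X⟧} (h1 : d⁄dX ℚ f1 = f1 * g1) (h2 : d⁄dX ℚ f2 = f2 * g2) :
    d⁄dX ℚ (f1 * f2) = (f1 * f2) * (g1 + g2) := by
  rw [Derivation.leibniz, h1, h2, smul_eq_mul, smul_eq_mul]
  ring

theorem dlog_pow {f g : ℚ⟦X⟧} (h : d⁄dX ℚ f = f * g) (m : ℕ) :
    d⁄dX ℚ (f ^ m) = f ^ m * (m • g) := by
  induction m with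
  | zero => simp
  | succ m ih =>
    rw [pow_succ, dlog_mul ih h, succ_nsmul]

theorem dlog_prod {ι : Type*} (s : Finset ι) (f g : ι → ℚ⟦X⟧)
    (h : ∀ i ∈ s, d⁄dX ℚ (f i) = f i * g i) :
    d⁄dX ℚ (∏ i ∈ s, f i) = (∏ i ∈ s, f i) * ∑ i ∈ s, g i := by
  classical
  induction s using Finset.induction_on with
  | empty => simp
  | insert a s ha ih =>
    rw [Finset.prod_insert ha, Finset.sum_insert ha]
    exact dlog_mul (h a (Finset.mem_insert_self a s))
      (ih fun i hi => h i (Finset.mem_insert_of_mem hi))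

theorem dlog_zero {D g : ℚ⟦X⟧} (hD : d⁄dX ℚ D = D * g) (h0 : constantCoeff D = 0) : D = 0 := by
  ext n
  rw [map_zero]
  induction n using Nat.strong_induction_on with
  | _ n ih =>
    cases n with
    | zero => rw [coeff_zero_eq_constantCoeff_apply]; exact h0
    | succ n =>
      have h1 : coeff n (d⁄dX ℚ D) = coeff (n + 1) D * (n + 1) := coeff_derivative D n
      have h2 : coeff n (D * g) = 0 := by
        rw [coeff_mul]
        apply Finset.sum_eq_zero
        intro p hp
        have : p.1 < n + 1 := by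
          have := Finset.HasAntidiagonal.mem_antidiagonal.mp hp
          omega
        rw [ih p.1 this, zero_mul]
      rw [hD, h2] at h1
      have h3 : ((n : ℚ) + 1) ≠ 0 := by positivity
      rcases mul_eq_zero.mp h1.symm with h | h
      · exact h
      · exact absurd h h3

theorem dlog_unique {F G g : ℚ⟦X⟧} (hF : d⁄dX ℚ F = F * g) (hG : d⁄dX ℚ G = G * g)
    (h0 : constantCoeff F = constantCoeff G) : F = G := by
  have : F - G = 0 := by
    apply dlog_zero (g := g)
    · rw [map_sub, hF, hG]; ring
    · rw [map_sub, h0, sub_self]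
  exact sub_eq_zero.mp this

/-- geometric series -/
theorem one_sub_mul_geom (a : ℚ) :
    (1 - C a * X) * (PowerSeries.mk fun v : ℕ => a ^ (v + 1)) = C a := by
  ext v
  rw [sub_mul, one_mul, map_sub, mul_assoc, coeff_C_mul]
  cases v with
  | zero =>
    rw [coeff_zero_X_mul, coeff_mk, coeff_zero_C]
    ring
  | succ v =>
    rw [coeff_succ_X_mul, coeff_mk, coeff_mk, coeff_C, if_neg (Nat.succ_ne_zero v)]
    ring

theorem dlog_one_sub (a : ℚ) :
    d⁄dX ℚ (1 - C a * X) = (1 - C a * X) * (-(PowerSeries.mk fun v : ℕ => a ^ (v + 1))) := by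
  rw [mul_neg, one_sub_mul_geom, map_sub, Derivation.leibniz, derivative_X, derivative_C,
    derivative_one]
  simp

theorem constantCoeff_exp_subst {L : ℚ⟦X⟧} (hL : constantCoeff L = 0) :
    constantCoeff ((exp ℚ).subst L) = 1 := by
  have hs : HasSubst L := HasSubst.of_constantCoeff_zero' hL
  have h1 : exp ℚ = 1 + (exp ℚ - 1) := by ring
  rw [h1, subst_add hs]
  have h2 : (1 : ℚ⟦X⟧).subst L = 1 := by
    rw [← coe_substAlgHom hs, map_one]
  have h3 : constantCoeff ((exp ℚ - 1).subst L) = 0 :=
    constantCoeff_subst_eq_zero hL _ (by simp [constantCoeff_exp])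
  rw [h2, map_add, map_one, h3, add_zero]

theorem dlog_exp_subst {L : ℚ⟦X⟧} (hL : constantCoeff L = 0) :
    d⁄dX ℚ ((exp ℚ).subst L) = (exp ℚ).subst L * d⁄dX ℚ L := by
  rw [derivative_subst (HasSubst.of_constantCoeff_zero' hL), derivative_exp]

section general

variable {K : Type*} [Field K] [CharZero K]

theorem dlog_zero' {D g : K⟦X⟧} (hD : d⁄dX K D = D * g) (h0 : constantCoeff D = 0) : D = 0 := by
  ext n
  rw [map_zero]
  induction n using Nat.strong_induction_on with
  | _ n ih =>
    cases n with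
    | zero => rw [coeff_zero_eq_constantCoeff_apply]; exact h0
    | succ n =>
      have h1 : coeff n (d⁄dX K D) = coeff (n + 1) D * (n + 1) := coeff_derivative D n
      have h2 : coeff n (D * g) = 0 := by
        rw [coeff_mul]
        apply Finset.sum_eq_zero
        intro p hp
        have : p.1 < n + 1 := by
          have := Finset.HasAntidiagonal.mem_antidiagonal.mp hp
          omega
        rw [ih p.1 this, zero_mul]
      rw [hD, h2] at h1
      have h3 : ((n : K) + 1) ≠ 0 := by
        have : ((n + 1 : ℕ) : K) ≠ 0 := Nat.cast_ne_zero.mpr (Nat.succ_ne_zero n)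
        simpa using this
      rcases mul_eq_zero.mp h1.symm with h | h
      · exact h
      · exact absurd h h3

theorem dlog_unique' {F G g : K⟦X⟧} (hF : d⁄dX K F = F * g) (hG : d⁄dX K G = G * g)
    (h0 : constantCoeff F = constantCoeff G) : F = G := by
  have : F - G = 0 := by
    apply dlog_zero' (g := g)
    · rw [map_sub, hF, hG]; ring
    · rw [map_sub, h0, sub_self]
  exact sub_eq_zero.mp this

theorem constantCoeff_exp_subst' {L : K⟦X⟧} (hL : constantCoeff L = 0) :
    constantCoeff ((exp K).subst L) = 1 := by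
  have hs : HasSubst L := HasSubst.of_constantCoeff_zero' hL
  have h1 : exp K = 1 + (exp K - 1) := by ring
  rw [h1, subst_add hs]
  have h2 : (1 : K⟦X⟧).subst L = 1 := by
    rw [← coe_substAlgHom hs, map_one]
  have h3 : constantCoeff ((exp K - 1).subst L) = 0 :=
    constantCoeff_subst_eq_zero hL _ (by simp [constantCoeff_exp])
  rw [h2, map_add, map_one, h3, add_zero]

theorem dlog_exp_subst' {L : K⟦X⟧} (hL : constantCoeff L = 0) :
    d⁄dX K ((exp K).subst L) = (exp K).subst L * d⁄dX K L := by
  rw [derivative_subst (HasSubst.of_constantCoeff_zero' hL), derivative_exp]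

end general

end Groth.Agent.H9Dlog
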