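import Mathlib
import Groth.Prelude.Def_HopfRep
import Groth.Prelude.Def_Hoch
import Groth.Agent.Lib.helper4.Comod

set_option autoImplicit false
set_option linter.unusedSectionVars false
universe u v w w'
open scoped TensorProduct

/-!
Comodules over a coalgebra `C` over a field `k` as modules over the free algebra
`R = FreeAlgebra k (Module.Dual k C)`: a functional `f` acts by `v ↦ (id ⊗ f)(ρ v)`.
Subcomodules are exactly the `R`-submodules and comodule maps exactly the `R`-linear maps.
-/

namespace H9_ComodMod

open Groth.Agent.H4

variable {k : Type u} [Field k] {C : Type v} [AddCommGroup C] [Module k C] [Coalgebra k C]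

section T

variable (V : Type w) [AddCommGroup V] [Module k V] [HopfRep.Comod k C V]

/-- the operator of a functional on a comodule -/
noncomputable def T (f : Module.Dual k C) : V →ₗ[k] V :=
  (TensorProduct.rid k V).toLinearMap ∘ₗ f.lTensor V ∘ₗ HopfRep.Comod.coact (k := k) (A := C)

theorem T_apply (f : Module.Dual k C) (v : V) :
    T V f v = TensorProduct.rid k V (f.lTensor V (HopfRep.Comod.coact (k := k) (A := C) v)) := rfl

end T

/-- contraction with the coordinate functional computes the coefficient -/
theorem coef_eq {V : Type w} [AddCommGroup V] [Module k V] (x : V ⊗[k] C)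
    (i : Module.Basis.ofVectorSpaceIndex k C) :
    H4_coef (k := k) x i =
      TensorProduct.rid k V (((Module.Basis.ofVectorSpace k C).coord i).lTensor V x) := by
  induction x using TensorProduct.induction_on with
  | zero => simp [H4_coef_zero]
  | tmul m a =>
    rw [H4_coef_tmul, LinearMap.lTensor_tmul, TensorProduct.rid_tmul, Module.Basis.coord_apply]
  | add x y hx hy => simp only [map_add, H4_coef_add, Finsupp.add_apply, hx, hy]

theorem coef_injective {V : Type w} [AddCommGroup V] [Module k V] (x y : V ⊗[k] C)
    (h : ∀ i, H4_coef (k := k) x i = H4_coef (k := k) y i) : x = y := by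
  rw [H4_coef_expand x, H4_coef_expand y]
  have : H4_coef (k := k) x = H4_coef (k := k) y := Finsupp.ext h
  rw [this]

section Sub

variable {V : Type w} [AddCommGroup V] [Module k V] [HopfRep.Comod k C V]

theorem T_mem_of_isSubcomod (W : Submodule k V) (hW : HopfRep.IsSubcomod (k := k) (A := C) W)
    (f : Module.Dual k C) (w : V) (hw : w ∈ W) : T V f w ∈ W := by
  obtain ⟨y, hy⟩ := hW w hw
  rw [T_apply, ← hy]
  have : ∀ y : (W : Type w) ⊗[k] C, TensorProduct.rid k V (f.lTensor V (W.subtype.rTensor C y)) ∈ W := by
    intro y
    induction y using TensorProduct.induction_on with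
    | zero => simp
    | tmul m a =>
      rw [LinearMap.rTensor_tmul, LinearMap.lTensor_tmul, TensorProduct.rid_tmul]
      exact W.smul_mem _ m.2
    | add x y hx hy =>
      rw [map_add, map_add, map_add]
      exact W.add_mem hx hy
  exact this y

theorem isSubcomod_of_T_mem (W : Submodule k V)
    (h : ∀ (f : Module.Dual k C) (w : V), w ∈ W → T V f w ∈ W) :
    HopfRep.IsSubcomod (k := k) (A := C) W := by
  rw [H4_isSubcomod_iff]
  intro w hw i
  rw [coef_eq]
  exact h _ w hw

theorem isSubcomod_iff_T (W : Submodule k V) :
    HopfRep.IsSubcomod (k := k) (A := C) W ↔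
      ∀ (f : Module.Dual k C) (w : V), w ∈ W → T V f w ∈ W :=
  ⟨fun hW f w hw => T_mem_of_isSubcomod W hW f w hw, isSubcomod_of_T_mem W⟩

end Sub

section Hom

variable {V : Type w} [AddCommGroup V] [Module k V] [HopfRep.Comod k C V]
  {W : Type w'} [AddCommGroup W] [Module k W] [HopfRep.Comod k C W]

theorem T_comm_of_isComodHom (g : V →ₗ[k] W) (hg : Hoch.IsComodHom C g)
    (f : Module.Dual k C) (v : V) : g (T V f v) = T W f (g v) := by
  rw [T_apply, T_apply]
  have h1 := LinearMap.congr_fun hg v
  simp only [LinearMap.comp_apply] at h1
  rw [h1]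
  have : ∀ x : V ⊗[k] C, g (TensorProduct.rid k V (f.lTensor V x)) =
      TensorProduct.rid k W (f.lTensor W (g.rTensor C x)) := by
    intro x
    induction x using TensorProduct.induction_on with
    | zero => simp
    | tmul m a => simp
    | add x y hx hy => simp only [map_add, hx, hy]
  exact this _

theorem isComodHom_of_T_comm (g : V →ₗ[k] W)
    (h : ∀ (f : Module.Dual k C) (v : V), g (T V f v) = T W f (g v)) :
    Hoch.IsComodHom C g := by
  unfold Hoch.IsComodHom
  ext v
  simp only [LinearMap.comp_apply]
  apply coef_injective
  intro i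
  rw [H4_coef_nat, coef_eq, coef_eq]
  exact (h _ v).symm

theorem isComodHom_iff_T (g : V →ₗ[k] W) :
    Hoch.IsComodHom C g ↔ ∀ (f : Module.Dual k C) (v : V), g (T V f v) = T W f (g v) :=
  ⟨fun hg f v => T_comm_of_isComodHom g hg f v, isComodHom_of_T_comm g⟩

end Hom

end H9_ComodMod

namespace H9_ComodMod

open Groth.Agent.H4

variable (k : Type u) [Field k] (C : Type v) [AddCommGroup C] [Module k C] [Coalgebra k C]

/-- the acting ring -/
abbrev R : Type (max u v) := FreeAlgebra k (Module.Dual k C)

variable {k C}

section Mod

variable (V : Type w) [AddCommGroup V] [Module k V] [HopfRep.Comod k C V]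

/-- the action as an algebra map -/
noncomputable def act : R k C →ₐ[k] Module.End k V := FreeAlgebra.lift k (T V)

theorem act_ι (f : Module.Dual k C) : act V (FreeAlgebra.ι k f) = T V f :=
  FreeAlgebra.lift_ι_apply _ _

/-- the `R`-module structure on a comodule -/
@[reducible] noncomputable def modR : Module (R k C) V := Module.compHom V (act V).toRingHom

theorem smul_def' (r : R k C) (v : V) : (letI := modR (k := k) (C := C) V; r • v) = act V r v := rfl

theorem isScalarTower : letI := modR (k := k) (C := C) V; IsScalarTower k (R k C) V := by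
  letI := modR (k := k) (C := C) V
  refine ⟨fun c r v => ?_⟩
  show act V (c • r) v = c • act V r v
  rw [map_smul]
  rfl

end Mod

section SubMod

variable {V : Type w} [AddCommGroup V] [Module k V] [HopfRep.Comod k C V]

theorem act_mem (W : Submodule k V) (hW : HopfRep.IsSubcomod (k := k) (A := C) W)
    (r : R k C) (w : V) (hw : w ∈ W) : act V r w ∈ W := by
  induction r using FreeAlgebra.induction generalizing w with
  | grade0 c =>
    rw [AlgHom.commutes]
    exact W.smul_mem c hw
  | grade1 f =>
    rw [act_ι]
    exact T_mem_of_isSubcomod W hW f w hw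
  | mul a b ha hb =>
    rw [map_mul]
    exact ha _ (hb _ hw)
  | add a b ha hb =>
    rw [map_add]
    exact W.add_mem (ha _ hw) (hb _ hw)

/-- a subcomodule as an `R`-submodule -/
noncomputable def toSub (W : Submodule k V) (hW : HopfRep.IsSubcomod (k := k) (A := C) W) :
    letI := modR (k := k) (C := C) V; Submodule (R k C) V :=
  letI := modR (k := k) (C := C) V
  { carrier := W
    add_mem' := W.add_mem
    zero_mem' := W.zero_mem
    smul_mem' := fun r w hw => act_mem W hW r w hw }

theorem mem_toSub (W : Submodule k V) (hW : HopfRep.IsSubcomod (k := k) (A := C) W) (v : V) :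
    (letI := modR (k := k) (C := C) V; v ∈ toSub W hW) ↔ v ∈ W := Iff.rfl

/-- an `R`-submodule as a subspace -/
noncomputable def ofSub (N : letI := modR (k := k) (C := C) V; Submodule (R k C) V) :
    Submodule k V :=
  letI := modR (k := k) (C := C) V
  { carrier := N
    add_mem' := N.add_mem
    zero_mem' := N.zero_mem
    smul_mem' := fun c w hw => by
      have : c • w = (algebraMap k (R k C) c) • w := by
        show c • w = act V (algebraMap k (R k C) c) w
        rw [AlgHom.commutes]
        rfl
      rw [this]
      exact N.smul_mem _ hw }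

theorem mem_ofSub (N : letI := modR (k := k) (C := C) V; Submodule (R k C) V) (v : V) :
    v ∈ ofSub N ↔ (letI := modR (k := k) (C := C) V; v ∈ N) := Iff.rfl

theorem isSubcomod_ofSub (N : letI := modR (k := k) (C := C) V; Submodule (R k C) V) :
    HopfRep.IsSubcomod (k := k) (A := C) (ofSub N) := by
  letI := modR (k := k) (C := C) V
  apply isSubcomod_of_T_mem
  intro f w hw
  have : T V f w = (FreeAlgebra.ι k f : R k C) • w := by
    show T V f w = act V (FreeAlgebra.ι k f) w
    rw [act_ι]
  rw [this]
  exact N.smul_mem _ hw

theorem ofSub_toSub (W : Submodule k V) (hW : HopfRep.IsSubcomod (k := k) (A := C) W) :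
    ofSub (toSub W hW) = W := by
  ext v; rfl

theorem toSub_ofSub (N : letI := modR (k := k) (C := C) V; Submodule (R k C) V) :
    toSub (ofSub N) (isSubcomod_ofSub N) = N := by
  letI := modR (k := k) (C := C) V
  ext v; rfl

end SubMod

section HomMod

variable {V : Type w} [AddCommGroup V] [Module k V] [HopfRep.Comod k C V]
  {W : Type w'} [AddCommGroup W] [Module k W] [HopfRep.Comod k C W]

theorem act_comm (g : V →ₗ[k] W) (hg : Hoch.IsComodHom C g) (r : R k C) (v : V) :
    g (act V r v) = act W r (g v) := by
  induction r using FreeAlgebra.induction generalizing v with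
  | grade0 c =>
    rw [AlgHom.commutes, AlgHom.commutes]
    exact map_smul g c v
  | grade1 f =>
    rw [act_ι, act_ι]
    exact T_comm_of_isComodHom g hg f v
  | mul a b ha hb =>
    rw [map_mul, map_mul]
    show g (act V a (act V b v)) = act W a (act W b (g v))
    rw [ha, hb]
  | add a b ha hb =>
    rw [map_add, map_add]
    show g (act V a v + act V b v) = act W a (g v) + act W b (g v)
    rw [map_add, ha, hb]

/-- a comodule map as an `R`-linear map -/
noncomputable def toLin (g : V →ₗ[k] W) (hg : Hoch.IsComodHom C g) :
    letI := modR (k := k) (C := C) V; letI := modR (k := k) (C := C) W; V →ₗ[R k C] W :=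
  letI := modR (k := k) (C := C) V
  letI := modR (k := k) (C := C) W
  { toFun := g
    map_add' := g.map_add
    map_smul' := fun r v => act_comm g hg r v }

theorem toLin_apply (g : V →ₗ[k] W) (hg : Hoch.IsComodHom C g) (v : V) :
    (letI := modR (k := k) (C := C) V; letI := modR (k := k) (C := C) W; toLin g hg v) = g v := rfl

/-- an `R`-linear map as a `k`-linear map -/
noncomputable def ofLin
    (g : letI := modR (k := k) (C := C) V; letI := modR (k := k) (C := C) W; V →ₗ[R k C] W) :
    V →ₗ[k] W :=
  letI := modR (k := k) (C := C) V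
  letI := modR (k := k) (C := C) W
  { toFun := g
    map_add' := g.map_add
    map_smul' := fun c v => by
      have e1 : c • v = (algebraMap k (R k C) c) • v := by
        show c • v = act V (algebraMap k (R k C) c) v
        rw [AlgHom.commutes]; rfl
      have e2 : c • g v = (algebraMap k (R k C) c) • g v := by
        show c • g v = act W (algebraMap k (R k C) c) (g v)
        rw [AlgHom.commutes]; rfl
      rw [RingHom.id_apply, e1, e2, map_smul] }

theorem ofLin_apply
    (g : letI := modR (k := k) (C := C) V; letI := modR (k := k) (C := C) W; V →ₗ[R k C] W)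
    (v : V) : ofLin g v = (letI := modR (k := k) (C := C) V; letI := modR (k := k) (C := C) W; g v) :=
  rfl

theorem isComodHom_ofLin
    (g : letI := modR (k := k) (C := C) V; letI := modR (k := k) (C := C) W; V →ₗ[R k C] W) :
    Hoch.IsComodHom C (ofLin g) := by
  letI := modR (k := k) (C := C) V
  letI := modR (k := k) (C := C) W
  apply isComodHom_of_T_comm
  intro f v
  have e1 : T V f v = (FreeAlgebra.ι k f : R k C) • v := by
    show T V f v = act V (FreeAlgebra.ι k f) v
    rw [act_ι]
  have e2 : T W f (ofLin g v) = (FreeAlgebra.ι k f : R k C) • (ofLin g v) := by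
    show T W f (ofLin g v) = act W (FreeAlgebra.ι k f) (ofLin g v)
    rw [act_ι]
  rw [e1, e2, ofLin_apply, ofLin_apply, map_smul]

end HomMod

end H9_ComodMod
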