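import Mathlib
import Groth.Prelude.Def_HopfRep
import Groth.Prelude.Def_Hoch
import Groth.Agent.Lib.helper9.H9_ComodMod

set_option autoImplicit false
set_option linter.unusedSectionVars false
universe u v v' w w'
open scoped TensorProduct

/-!
Commuting coactions: if a vector space carries a `C`-coaction and a `D`-coaction that commute,
then the operators `T_C φ` and `T_D ψ` commute.
-/

namespace H9_ComodMod

variable {k : Type u} [Field k] {C : Type v} [AddCommGroup C] [Module k C]
  {D : Type v'} [AddCommGroup D] [Module k D]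
  {V : Type w} [AddCommGroup V] [Module k V]

/-- contraction with `φ ⊗ ψ` -/
noncomputable def contr2 (φ : Module.Dual k C) (ψ : Module.Dual k D) : V ⊗[k] (C ⊗[k] D) →ₗ[k] V :=
  (TensorProduct.rid k V).toLinearMap ∘ₗ
    ((TensorProduct.lid k k).toLinearMap ∘ₗ TensorProduct.map φ ψ).lTensor V

theorem contr2_tmul (φ : Module.Dual k C) (ψ : Module.Dual k D) (v : V) (c : C) (d : D) :
    contr2 φ ψ (v ⊗ₜ[k] (c ⊗ₜ[k] d)) = (φ c * ψ d) • v := by
  simp [contr2]

theorem contr2_assoc_tmul (φ : Module.Dual k C) (ψ : Module.Dual k D) (y : V ⊗[k] C) (d : D) :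
    contr2 φ ψ (TensorProduct.assoc k V C D (y ⊗ₜ[k] d)) =
      ψ d • TensorProduct.rid k V (φ.lTensor V y) := by
  induction y using TensorProduct.induction_on with
  | zero => simp
  | tmul v c =>
    rw [TensorProduct.assoc_tmul, contr2_tmul, LinearMap.lTensor_tmul, TensorProduct.rid_tmul,
      smul_smul, mul_comm]
  | add x y hx hy =>
    rw [TensorProduct.add_tmul, map_add, map_add, hx, hy, map_add, map_add, smul_add]

theorem contr2_assoc_rTensor (φ : Module.Dual k C) (ψ : Module.Dual k D)
    (ρ : V →ₗ[k] V ⊗[k] C) (x : V ⊗[k] D) :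
    contr2 φ ψ (TensorProduct.assoc k V C D (ρ.rTensor D x)) =
      TensorProduct.rid k V (φ.lTensor V (ρ (TensorProduct.rid k V (ψ.lTensor V x)))) := by
  induction x using TensorProduct.induction_on with
  | zero => simp
  | tmul v d =>
    rw [LinearMap.rTensor_tmul, contr2_assoc_tmul, LinearMap.lTensor_tmul, TensorProduct.rid_tmul,
      map_smul, map_smul, map_smul]
  | add x y hx hy =>
    simp only [map_add, hx, hy]

theorem contr2_comm_assoc_tmul (φ : Module.Dual k C) (ψ : Module.Dual k D) (y : V ⊗[k] D) (c : C) :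
    contr2 φ ψ ((TensorProduct.comm k D C).toLinearMap.lTensor V
      (TensorProduct.assoc k V D C (y ⊗ₜ[k] c))) =
      φ c • TensorProduct.rid k V (ψ.lTensor V y) := by
  induction y using TensorProduct.induction_on with
  | zero => simp
  | tmul v d =>
    rw [TensorProduct.assoc_tmul, LinearMap.lTensor_tmul, LinearEquiv.coe_coe,
      TensorProduct.comm_tmul, contr2_tmul, LinearMap.lTensor_tmul, TensorProduct.rid_tmul,
      smul_smul]
  | add x y hx hy =>
    rw [TensorProduct.add_tmul, map_add, map_add, map_add, hx, hy, map_add, map_add, smul_add]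

theorem contr2_comm_assoc_rTensor (φ : Module.Dual k C) (ψ : Module.Dual k D)
    (ρ : V →ₗ[k] V ⊗[k] D) (x : V ⊗[k] C) :
    contr2 φ ψ ((TensorProduct.comm k D C).toLinearMap.lTensor V
      (TensorProduct.assoc k V D C (ρ.rTensor C x))) =
      TensorProduct.rid k V (ψ.lTensor V (ρ (TensorProduct.rid k V (φ.lTensor V x)))) := by
  induction x using TensorProduct.induction_on with
  | zero => simp
  | tmul v c =>
    rw [LinearMap.rTensor_tmul, contr2_comm_assoc_tmul, LinearMap.lTensor_tmul,
      TensorProduct.rid_tmul, map_smul, map_smul, map_smul]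
  | add x y hx hy =>
    simp only [map_add, hx, hy]

end H9_ComodMod

namespace H9_ComodMod

variable {k : Type u} [Field k] {C : Type v} [AddCommGroup C] [Module k C] [Coalgebra k C]
  {D : Type v'} [AddCommGroup D] [Module k D] [Coalgebra k D]
  {V : Type w} [AddCommGroup V] [Module k V] [HopfRep.Comod k C V] [HopfRep.Comod k D V]

/-- commuting coactions give commuting operators -/
theorem T_comm_of_coact_comm
    (hcomm : (TensorProduct.assoc k V C D).toLinearMap ∘ₗ
        (HopfRep.Comod.coact (k := k) (A := C) (V := V)).rTensor D ∘ₗ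
          HopfRep.Comod.coact (k := k) (A := D) =
      (TensorProduct.comm k D C).toLinearMap.lTensor V ∘ₗ
        (TensorProduct.assoc k V D C).toLinearMap ∘ₗ
        (HopfRep.Comod.coact (k := k) (A := D) (V := V)).rTensor C ∘ₗ
          HopfRep.Comod.coact (k := k) (A := C))
    (φ : Module.Dual k C) (ψ : Module.Dual k D) (v : V) :
    T (C := C) V φ (T (C := D) V ψ v) = T (C := D) V ψ (T (C := C) V φ v) := by
  have h := LinearMap.congr_fun hcomm v
  simp only [LinearMap.comp_apply, LinearEquiv.coe_coe] at h
  have h2 := congrArg (contr2 (V := V) φ ψ) h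
  rw [contr2_assoc_rTensor, contr2_comm_assoc_rTensor] at h2
  exact h2

end H9_ComodMod
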