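import Mathlib
import Groth.Prelude.Def_HopfRep
import Groth.Prelude.Def_Hoch
import Groth.Agent.Lib.helper9.H9_ComodMod
import Groth.Agent.Lib.helper9.H9_ComodComm

set_option autoImplicit false
set_option linter.unusedSectionVars false
universe u v v' w w'
open scoped TensorProduct

/-!
The operators `T f` of a comodule form a representation of the convolution algebra of functionals:
`T φ ∘ T ψ = T (φ * ψ)`, `T ε = id`, and `T` is linear in the functional.
-/

namespace H9_ComodMod

variable {k : Type u} [Field k] {C : Type v} [AddCommGroup C] [Module k C] [Coalgebra k C]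
  {V : Type w} [AddCommGroup V] [Module k V] [HopfRep.Comod k C V]

/-- convolution of functionals on a coalgebra -/
noncomputable def conv (φ ψ : Module.Dual k C) : Module.Dual k C :=
  (TensorProduct.lid k k).toLinearMap ∘ₗ TensorProduct.map φ ψ ∘ₗ Coalgebra.comul

theorem conv_apply (φ ψ : Module.Dual k C) (c : C) :
    conv φ ψ c = TensorProduct.lid k k (TensorProduct.map φ ψ (Coalgebra.comul c)) := rfl

theorem T_T (φ ψ : Module.Dual k C) (v : V) :
    T (C := C) V φ (T (C := C) V ψ v) = T (C := C) V (conv φ ψ) v := by
  have h1 := contr2_assoc_rTensor (V := V) φ ψ (HopfRep.Comod.coact (k := k) (A := C))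
    (HopfRep.Comod.coact (k := k) (A := C) v)
  have h2 := LinearMap.congr_fun (HopfRep.Comod.coassoc (k := k) (A := C) (V := V)) v
  simp only [LinearMap.comp_apply, LinearEquiv.coe_coe] at h2
  rw [h2] at h1
  rw [T_apply, T_apply, ← h1, T_apply]
  unfold contr2 conv
  rw [LinearMap.comp_apply, ← LinearMap.lTensor_comp_apply]
  rfl

theorem T_counit (v : V) : T (C := C) V (Coalgebra.counit (R := k) (A := C)) v = v := by
  have h := LinearMap.congr_fun (HopfRep.Comod.counit_comp (k := k) (A := C) (V := V)) v
  simp only [LinearMap.comp_apply] at h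
  rw [T_apply, h]
  simp

theorem T_add (φ ψ : Module.Dual k C) (v : V) :
    T (C := C) V (φ + ψ) v = T (C := C) V φ v + T (C := C) V ψ v := by
  rw [T_apply, T_apply, T_apply, LinearMap.lTensor_add, LinearMap.add_apply, map_add]

theorem T_smul (c : k) (φ : Module.Dual k C) (v : V) :
    T (C := C) V (c • φ) v = c • T (C := C) V φ v := by
  rw [T_apply, T_apply, LinearMap.lTensor_smul, LinearMap.smul_apply, map_smul]

theorem T_zero (v : V) : T (C := C) V (0 : Module.Dual k C) v = 0 := by
  rw [T_apply, LinearMap.lTensor_zero, LinearMap.zero_apply, map_zero]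

theorem T_sum {ι : Type*} (s : Finset ι) (φ : ι → Module.Dual k C) (v : V) :
    T (C := C) V (∑ i ∈ s, φ i) v = ∑ i ∈ s, T (C := C) V (φ i) v := by
  classical
  induction s using Finset.induction_on with
  | empty => simp [T_zero]
  | insert a s ha ih => rw [Finset.sum_insert ha, Finset.sum_insert ha, T_add, ih]

end H9_ComodMod
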