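import Mathlib
import Groth.Agent.Lib.helper9.H9_ComodMod
import Groth.Agent.S7952

/-!
# The lattice of subcomodules (over a field) and local finiteness
-/

set_option autoImplicit false
universe u v w
open scoped TensorProduct

namespace H9_SubLat

open H9_ComodMod

variable {k : Type u} [Field k] {C : Type v} [AddCommGroup C] [Module k C] [Coalgebra k C]
  {V : Type w} [AddCommGroup V] [Module k V] [HopfRep.Comod k C V]

theorem isSubcomod_bot : HopfRep.IsSubcomod (k := k) (A := C) (⊥ : Submodule k V) := by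
  rw [isSubcomod_iff_T]
  intro f w hw
  rw [Submodule.mem_bot] at hw ⊢
  rw [hw, map_zero]

theorem isSubcomod_top : HopfRep.IsSubcomod (k := k) (A := C) (⊤ : Submodule k V) := by
  rw [isSubcomod_iff_T]
  intro f w _
  exact Submodule.mem_top

theorem isSubcomod_inf (W₁ W₂ : Submodule k V) (h₁ : HopfRep.IsSubcomod (k := k) (A := C) W₁)
    (h₂ : HopfRep.IsSubcomod (k := k) (A := C) W₂) :
    HopfRep.IsSubcomod (k := k) (A := C) (W₁ ⊓ W₂) := by
  rw [isSubcomod_iff_T] at *
  intro f w hw
  exact ⟨h₁ f w hw.1, h₂ f w hw.2⟩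

theorem isSubcomod_sup (W₁ W₂ : Submodule k V) (h₁ : HopfRep.IsSubcomod (k := k) (A := C) W₁)
    (h₂ : HopfRep.IsSubcomod (k := k) (A := C) W₂) :
    HopfRep.IsSubcomod (k := k) (A := C) (W₁ ⊔ W₂) := by
  rw [isSubcomod_iff_T] at *
  intro f w hw
  obtain ⟨a, ha, b, hb, rfl⟩ := Submodule.mem_sup.1 hw
  rw [map_add]
  exact Submodule.add_mem _ (Submodule.mem_sup_left (h₁ f a ha))
    (Submodule.mem_sup_right (h₂ f b hb))

theorem isSubcomod_iSup {ι : Sort*} (W : ι → Submodule k V)
    (h : ∀ i, HopfRep.IsSubcomod (k := k) (A := C) (W i)) :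
    HopfRep.IsSubcomod (k := k) (A := C) (⨆ i, W i) := by
  rw [isSubcomod_iff_T]
  intro f w hw
  refine Submodule.iSup_induction W (motive := fun w => T V f w ∈ ⨆ i, W i) hw ?_ ?_ ?_
  · intro i x hx
    exact Submodule.mem_iSup_of_mem i ((isSubcomod_iff_T _).1 (h i) f x hx)
  · rw [map_zero]; exact Submodule.zero_mem _
  · intro x y hx hy
    rw [map_add]; exact Submodule.add_mem _ hx hy

theorem isSubcomod_finset_sup {ι : Type*} (s : Finset ι) (W : ι → Submodule k V)
    (h : ∀ i ∈ s, HopfRep.IsSubcomod (k := k) (A := C) (W i)) :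
    HopfRep.IsSubcomod (k := k) (A := C) (s.sup W) := by
  classical
  induction s using Finset.induction_on with
  | empty => rw [Finset.sup_empty]; exact isSubcomod_bot
  | insert a s ha ih =>
    rw [Finset.sup_insert]
    exact isSubcomod_sup _ _ (h a (Finset.mem_insert_self a s))
      (ih fun i hi => h i (Finset.mem_insert_of_mem hi))

/-- every finite set of vectors lies in a finite-dimensional subcomodule, which can be taken
inside any given subcomodule containing the set -/
theorem exists_finite_subcomod (s : Finset V) (U : Submodule k V)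
    (hU : HopfRep.IsSubcomod (k := k) (A := C) U) (hs : (s : Set V) ⊆ U) :
    ∃ W : Submodule k V, Module.Finite k W ∧ HopfRep.IsSubcomod (k := k) (A := C) W ∧
      W ≤ U ∧ (s : Set V) ⊆ W := by
  classical
  choose F hFfin hvF hF using fun v : V => Groth.Agent.S7952.result k C V v
  refine ⟨s.sup (fun v => F v ⊓ U), ?_, ?_, ?_, ?_⟩
  · haveI : ∀ v, Module.Finite k (F v) := hFfin
    haveI : ∀ v, Module.Finite k ↥(F v ⊓ U) := fun v => Submodule.finiteDimensional_inf_left _ _
    exact Submodule.finite_finset_sup s _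
  · exact isSubcomod_finset_sup s _ fun v _ => isSubcomod_inf _ _ (hF v) hU
  · exact Finset.sup_le fun v _ => inf_le_right
  · intro v hv
    have h1 : F v ⊓ U ≤ s.sup (fun v => F v ⊓ U) := Finset.le_sup (f := fun v => F v ⊓ U) hv
    exact h1 ⟨hvF v, hs hv⟩

/-- a nonzero finite-dimensional subcomodule contains a minimal nonzero subcomodule -/
theorem exists_simple_subcomod (W : Submodule k V) [Module.Finite k W]
    (hW : HopfRep.IsSubcomod (k := k) (A := C) W) (hne : W ≠ ⊥) :
    ∃ E : Submodule k V, E ≤ W ∧ E ≠ ⊥ ∧ HopfRep.IsSubcomod (k := k) (A := C) E ∧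
      ∀ E' : Submodule k V, E' ≤ E → HopfRep.IsSubcomod (k := k) (A := C) E' → E' = ⊥ ∨ E' = E := by
  classical
  induction h : Module.finrank k W using Nat.strong_induction_on generalizing W with
  | _ n ih =>
    by_cases hs : ∀ E' : Submodule k V, E' ≤ W → HopfRep.IsSubcomod (k := k) (A := C) E' →
        E' = ⊥ ∨ E' = W
    · exact ⟨W, le_rfl, hne, hW, hs⟩
    · push_neg at hs
      obtain ⟨E', hE'W, hE'sub, hE'ne, hE'neW⟩ := hs
      have hlt : E' < W := lt_of_le_of_ne hE'W hE'neW
      haveI : Module.Finite k E' := Submodule.finiteDimensional_of_le hE'W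
      have hrank : Module.finrank k E' < n := h ▸ Submodule.finrank_lt_finrank_of_lt hlt
      obtain ⟨E, hEE', hEne, hEsub, hEmin⟩ := ih _ hrank E' hE'sub hE'ne rfl
      exact ⟨E, hEE'.trans hE'W, hEne, hEsub, hEmin⟩

end H9_SubLat
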