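import Mathlib
import Groth.Prelude.Def_HopfRep
import Groth.Prelude.Def_ComodSub
import Groth.Agent.Lib.helper9.H9_ComodConv
import Groth.Agent.Lib.helper9.H9_SubLat

/-!
# The action of rational points on a comodule as a monoid homomorphism
-/

set_option autoImplicit false
universe u v w
open scoped TensorProduct

namespace H9_ActHom

open H9_ComodMod

variable {k : Type u} [Field k] {A : Type v} [CommRing A] [Bialgebra k A]

theorem conv_toLinearMap (g g' : A →ₐ[k] k) :
    conv g.toLinearMap g'.toLinearMap =
      ((Algebra.TensorProduct.lmul' k).comp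
        ((Algebra.TensorProduct.map g g').comp (Bialgebra.comulAlgHom k A))).toLinearMap := by
  ext c
  rw [conv_apply]
  show TensorProduct.lid k k (TensorProduct.map g.toLinearMap g'.toLinearMap
    (Coalgebra.comul c)) = Algebra.TensorProduct.lmul' k
      (Algebra.TensorProduct.map g g' (Coalgebra.comul c))
  generalize (Coalgebra.comul (R := k) c : A ⊗[k] A) = x
  induction x using TensorProduct.induction_on with
  | zero => simp
  | tmul a b => simp
  | add x y hx hy => simp only [map_add, hx, hy]

variable (V : Type w) [AddCommGroup V] [Module k V] [HopfRep.Comod k A V]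

theorem act_eq_T (g : A →ₐ[k] k) : HopfRep.Comod.act k A V g = T (C := A) V g.toLinearMap := rfl

/-- the action of the monoid of rational points -/
noncomputable def actHom : WithConv (A →ₐ[k] k) →* Module.End k V where
  toFun g := HopfRep.Comod.act k A V g.ofConv
  map_one' := by
    ext v
    rw [act_eq_T]
    exact T_counit (C := A) v
  map_mul' g g' := by
    ext v
    rw [Module.End.mul_apply, act_eq_T, act_eq_T, act_eq_T, T_T, conv_toLinearMap]
    rfl

theorem actHom_apply (g : WithConv (A →ₐ[k] k)) :
    actHom V g = HopfRep.Comod.act k A V g.ofConv := rfl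

/-- a rational point acting trivially on every finite-dimensional comodule is the identity -/
theorem eq_one_of_act_eq_one (g : WithConv (A →ₐ[k] k))
    (h : ∀ (W : Type v) [AddCommGroup W] [Module k W] [HopfRep.Comod k A W],
      Module.Finite k W → HopfRep.Comod.act k A W g.ofConv = 1) : g = 1 := by
  classical
  have key : ∀ a : A, g.ofConv a = Coalgebra.counit (R := k) a := by
    intro a
    obtain ⟨W, hWfin, hWsub, -, haW⟩ := H9_SubLat.exists_finite_subcomod (k := k) (C := A) (V := A)
      {a} ⊤ H9_SubLat.isSubcomod_top (by simp)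
    have ha : a ∈ W := haW (by simp)
    letI cW : HopfRep.Comod k A ↥W := ComodSub.Comod.restr inferInstance W hWsub
    have hsub := ComodSub.isComodHom_subtype (k := k) (A := A) inferInstance W hWsub
    have h1 := h ↥W hWfin
    have h2 : T (C := A) ↥W g.ofConv.toLinearMap ⟨a, ha⟩ = ⟨a, ha⟩ := by
      rw [← act_eq_T, h1]; rfl
    have h3 := T_comm_of_isComodHom W.subtype hsub g.ofConv.toLinearMap ⟨a, ha⟩
    rw [h2] at h3
    have h4 : T (C := A) A g.ofConv.toLinearMap a = a := h3.symm
    have h5 : ∀ x : A ⊗[k] A, Coalgebra.counit (R := k)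
        (TensorProduct.rid k A (g.ofConv.toLinearMap.lTensor A x)) =
        g.ofConv (TensorProduct.lid k A ((Coalgebra.counit (R := k) (A := A)).rTensor A x)) := by
      intro x
      induction x using TensorProduct.induction_on with
      | zero => simp
      | tmul a b => simp [mul_comm]
      | add x y hx hy => simp only [map_add, hx, hy]
    have h6 := h5 (Coalgebra.comul (R := k) a)
    have h7 : T (C := A) A g.ofConv.toLinearMap a =
        TensorProduct.rid k A (g.ofConv.toLinearMap.lTensor A (Coalgebra.comul (R := k) a)) := rfl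
    rw [← h7, h4, Coalgebra.rTensor_counit_comul, TensorProduct.lid_tmul, one_smul] at h6
    exact h6.symm
  apply WithConv.ofConv_injective
  apply AlgHom.ext
  intro a
  rw [key a]
  rfl

/-- a unipotent element of finite order prime to the characteristic is trivial -/
theorem eq_one_of_pow_eq_one {K : Type u} [Field K] {B : Type w} [Ring B] [Algebra K B]
    (x : B) (hx : IsNilpotent (x - 1)) (m : ℕ) (hm : x ^ m = 1) (hmK : (m : K) ≠ 0) : x = 1 := by
  classical
  open Polynomial in
  obtain ⟨N, hN⟩ := hx
  let p : K[X] := ∑ i ∈ Finset.range m, X ^ i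
  have hp1 : p.eval 1 = (m : K) := by
    simp [p, Polynomial.eval_finset_sum]
  have hcop : IsCoprime p (X - C (1 : K)) := by
    have h1 := Polynomial.modByMonic_add_div p (X - C (1 : K))
    rw [Polynomial.modByMonic_X_sub_C_eq_C_eval, hp1] at h1
    refine ⟨C ((m : K)⁻¹), - C ((m : K)⁻¹) * (p /ₘ (X - C 1)), ?_⟩
    have h2 : p = C (m : K) + (X - C 1) * (p /ₘ (X - C 1)) := h1.symm
    have h3 : C ((m : K)⁻¹) * C (m : K) = 1 := by
      rw [← C_mul, inv_mul_cancel₀ hmK, C_1]
    calc C ((m : K)⁻¹) * p + - C ((m : K)⁻¹) * (p /ₘ (X - C 1)) * (X - C 1)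
        = C ((m : K)⁻¹) * (p - (X - C 1) * (p /ₘ (X - C 1))) := by ring
      _ = C ((m : K)⁻¹) * C (m : K) := by
          congr 1
          rw [sub_eq_iff_eq_add]
          exact h2
      _ = 1 := h3
  obtain ⟨a, b, hab⟩ := hcop.pow_right (n := N)
  have h4 := congrArg (Polynomial.aeval x) hab
  have h5 : Polynomial.aeval x (X - C (1 : K)) = x - 1 := by simp
  rw [map_add, map_mul, map_mul, map_pow, h5, hN, mul_zero, add_zero, map_one] at h4
  have h6 : Polynomial.aeval x p * (x - 1) = 0 := by
    have : Polynomial.aeval x p = ∑ i ∈ Finset.range m, x ^ i := by simp [p, map_sum]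
    rw [this, geom_sum_mul, hm, sub_self]
  have h7 : x - 1 = 0 := by
    calc x - 1 = (Polynomial.aeval x a * Polynomial.aeval x p) * (x - 1) := by rw [h4, one_mul]
      _ = Polynomial.aeval x a * (Polynomial.aeval x p * (x - 1)) := by rw [mul_assoc]
      _ = 0 := by rw [h6, mul_zero]
  exact sub_eq_zero.1 h7

end H9_ActHom
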