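import Mathlib

set_option autoImplicit false
universe u v
open TensorProduct WithConv

/-!
The antipode of a commutative Hopf algebra is anti-comultiplicative:
`Δ (S a) = Σ S a₂ ⊗ S a₁`.
-/

namespace H9_Antipode

variable {k : Type u} [CommRing k] {A : Type v} [CommRing A] [HopfAlgebra k A]

theorem comul_antipode (a : A) :
    Coalgebra.comul (R := k) (HopfAlgebra.antipode k a) =
      TensorProduct.map (HopfAlgebra.antipode k) (HopfAlgebra.antipode k)
        (TensorProduct.comm k A A (Coalgebra.comul (R := k) a)) := by
  let i1 : A →ₐ[k] A ⊗[k] A := Algebra.TensorProduct.includeLeft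
  let i2 : A →ₐ[k] A ⊗[k] A := Algebra.TensorProduct.includeRight
  have h1 : toConv (Bialgebra.comulAlgHom k A) = toConv i1 * toConv i2 := by
    apply WithConv.ofConv_injective
    apply AlgHom.ext
    intro b
    show Coalgebra.comul (R := k) b = (toConv i1 * toConv i2) b
    rw [AlgHom.convMul_apply]
    generalize Coalgebra.comul (R := k) b = x
    induction x using TensorProduct.induction_on with
    | zero => simp
    | tmul x y => simp [i1, i2]
    | add x y hx hy => rw [map_add, ← hx, ← hy]
  have h2 : (toConv (Bialgebra.comulAlgHom k A))⁻¹ = (toConv i2)⁻¹ * (toConv i1)⁻¹ := by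
    rw [h1]
    exact mul_inv_rev (toConv i1) (toConv i2)
  have h3 : ((toConv (Bialgebra.comulAlgHom k A))⁻¹) a = ((toConv i2)⁻¹ * (toConv i1)⁻¹) a := by
    rw [h2]
  have h4 : ((toConv (Bialgebra.comulAlgHom k A))⁻¹) a =
      Coalgebra.comul (R := k) (HopfAlgebra.antipode k a) := rfl
  rw [← h4, h3, AlgHom.convMul_apply]
  generalize Coalgebra.comul (R := k) a = x
  induction x using TensorProduct.induction_on with
  | zero => simp
  | tmul x y =>
    show (i2 (HopfAlgebra.antipode k x)) * (i1 (HopfAlgebra.antipode k y)) = _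
    simp [i1, i2]
  | add x y hx hy => simp only [map_add, hx, hy]

/-- the antipode of a commutative Hopf algebra is an involution -/
theorem antipode_antipode (a : A) :
    HopfAlgebra.antipode k (HopfAlgebra.antipode k a) = a := by
  have h1 : ((toConv (AlgHom.id k A))⁻¹)⁻¹ = toConv (AlgHom.id k A) := inv_inv _
  have h2 : (((toConv (AlgHom.id k A))⁻¹)⁻¹) a = (toConv (AlgHom.id k A)) a := by rw [h1]
  exact h2

end H9_Antipode
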