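import Mathlib
import Groth.Prelude.Def_Dieu

/-! Injectivity of `m ↦ 1 ⊗ m` into a scalar extension `BC g M` when `g` factors through a surjection
followed by a faithfully flat map and `M` is killed by the kernel of the surjection. -/

namespace Groth.Agent.H9BC

open TensorProduct

universe u v w

theorem tmul_one_eq_zero_imp
    {A : Type u} {S B : Type v} [CommRing A] [CommRing S] [CommRing B] [Algebra S B]
    [Module.FaithfullyFlat S B]
    (π : A →+* S) (hπ : Function.Surjective π)
    (M : Type w) [AddCommGroup M] [Module A M]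
    (hM : ∀ a : A, π a = 0 → ∀ m : M, a • m = 0)
    (g : A →+* B) (hg : ∀ a, g a = algebraMap S B (π a))
    (m : M) (h : Dieu.BC.tmul g (1 : B) m = 0) : m = 0 := by
  classical
  letI : SMul S M := ⟨fun s m => (Classical.choose (hπ s)) • m⟩
  have hsm : ∀ (a : A) (m : M), π a • m = a • m := by
    intro a m
    show (Classical.choose (hπ (π a))) • m = a • m
    have := Classical.choose_spec (hπ (π a))
    rw [← sub_eq_zero, ← sub_smul]
    exact hM _ (by rw [map_sub, this, sub_self]) m
  letI : Module S M := Function.Surjective.moduleLeft π hπ hsm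
  let Φ : Dieu.Res g ⊗[A] M →+ B ⊗[S] M :=
    TensorProduct.liftAddHom
      { toFun := fun b =>
          { toFun := fun m => (Dieu.Res.val b) ⊗ₜ[S] m
            map_zero' := TensorProduct.tmul_zero _ _
            map_add' := fun x y => TensorProduct.tmul_add _ _ _ }
        map_zero' := by
          ext m
          exact TensorProduct.zero_tmul _ _
        map_add' := fun b c => by
          ext m
          exact TensorProduct.add_tmul _ _ _ }
      (by
        intro a b m
        show (Dieu.Res.val (a • b)) ⊗ₜ[S] m = (Dieu.Res.val b) ⊗ₜ[S] (a • m)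
        rw [Dieu.Res.val_smul, hg, ← Algebra.smul_def, TensorProduct.smul_tmul, hsm])
  have h1 : Φ ((Dieu.Res.mk g 1) ⊗ₜ[A] m) = (1 : B) ⊗ₜ[S] m := rfl
  have h2 : Φ ((Dieu.Res.mk g 1) ⊗ₜ[A] m) = 0 := by
    have : (Dieu.Res.mk g 1) ⊗ₜ[A] m = (0 : Dieu.Res g ⊗[A] M) := h
    rw [this, map_zero]
  rw [h1] at h2
  apply Module.FaithfullyFlat.tensorProduct_mk_injective (A := S) (B := B) M
  simpa using h2

end Groth.Agent.H9BC
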