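import Mathlib

/-! Binomial difference identities `(1+y)^n - (1+z)^n = (y - z) * ...`. -/

namespace Groth.Agent.H9Binom

open Finset

variable {A : Type*} [CommRing A]

theorem tri (N : ℕ) (h : ℕ → ℕ → A) :
    ∑ i ∈ range (N + 1), ∑ j ∈ range (N + 1), (if i + j + 1 ≤ N then h i j else 0) =
      ∑ m ∈ range N, ∑ i ∈ range (m + 1), h i (m - i) := by
  rw [sum_range_diag_flip N h, sum_range_succ]
  have hlast : ∑ j ∈ range (N + 1), (if N + j + 1 ≤ N then h N j else 0) = 0 := by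
    apply sum_eq_zero
    intro j _
    rw [if_neg (by omega)]
  rw [hlast, add_zero]
  refine sum_congr rfl fun i hi => ?_
  rw [← sum_filter]
  congr 1
  ext j
  simp only [mem_filter, mem_range]
  have := mem_range.mp hi
  omega

theorem pow_sub_pow' (y z : A) (k : ℕ) :
    y ^ k - z ^ k = (y - z) * ∑ i ∈ range k, y ^ i * z ^ (k - 1 - i) := by
  rw [← geom_sum₂_mul, mul_comm]

theorem id1 (y z : A) (n : ℕ) :
    (1 + y) ^ n - (1 + z) ^ n = (y - z) * ∑ i ∈ range (n + 1), ∑ j ∈ range (n + 1),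
      (if i + j + 1 ≤ n then (n.choose (i + j + 1) : A) * y ^ i * z ^ j else 0) := by
  rw [tri n (fun i j => (n.choose (i + j + 1) : A) * y ^ i * z ^ j)]
  rw [add_comm 1 y, add_comm 1 z, add_pow, add_pow, ← sum_sub_distrib, sum_range_succ']
  simp only [one_pow, mul_one, pow_zero, Nat.choose_zero_right, Nat.cast_one, sub_self, add_zero]
  rw [mul_sum]
  refine sum_congr rfl fun m _ => ?_
  rw [← sub_mul, pow_sub_pow', mul_assoc, sum_mul]
  congr 1
  refine sum_congr rfl fun i hi => ?_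
  have hi' := mem_range.mp hi
  have e1 : i + (m - i) + 1 = m + 1 := by omega
  have e2 : m + 1 - 1 - i = m - i := by omega
  rw [e1, e2]
  ring

theorem id2 (y z : A) (a : ℕ) (ha : 1 ≤ a) :
    (1 + y) ^ a * z - (1 + z) ^ a * y = (y - z) * (-1 + ∑ i ∈ range (a + 1), ∑ j ∈ range (a + 1),
      (if 1 ≤ i ∧ 1 ≤ j ∧ i + j ≤ a then (a.choose (i + j) : A) * y ^ i * z ^ j else 0)) := by
  obtain ⟨N, rfl⟩ : ∃ N, a = N + 1 := ⟨a - 1, by omega⟩
  have hshift : ∑ i ∈ range (N + 1 + 1), ∑ j ∈ range (N + 1 + 1),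
      (if 1 ≤ i ∧ 1 ≤ j ∧ i + j ≤ N + 1 then ((N + 1).choose (i + j) : A) * y ^ i * z ^ j else 0)
      = ∑ i ∈ range (N + 1), ∑ j ∈ range (N + 1),
        (if i + j + 1 ≤ N then ((N + 1).choose (i + j + 2) : A) * y ^ (i + 1) * z ^ (j + 1)
          else 0) := by
    rw [sum_range_succ']
    have h0 : ∑ j ∈ range (N + 1 + 1), (if 1 ≤ 0 ∧ 1 ≤ j ∧ 0 + j ≤ N + 1 then
        ((N + 1).choose (0 + j) : A) * y ^ 0 * z ^ j else 0) = 0 := by
      apply sum_eq_zero
      intro j _
      rw [if_neg (by omega)]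
    rw [h0, add_zero]
    refine sum_congr rfl fun i _ => ?_
    rw [sum_range_succ']
    rw [if_neg (by omega), add_zero]
    refine sum_congr rfl fun j _ => ?_
    have e : i + 1 + (j + 1) = i + j + 2 := by omega
    by_cases hc : i + j + 1 ≤ N
    · rw [if_pos hc, if_pos (by omega), e]
    · rw [if_neg hc, if_neg (by omega)]
  rw [hshift, tri N (fun i j => ((N + 1).choose (i + j + 2) : A) * y ^ (i + 1) * z ^ (j + 1))]
  rw [add_comm 1 y, add_comm 1 z, add_pow, add_pow, sum_mul, sum_mul, ← sum_sub_distrib,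
    sum_range_succ', sum_range_succ']
  simp only [one_pow, mul_one, pow_zero, Nat.choose_zero_right, Nat.cast_one, one_mul]
  have hmid : y ^ (0 + 1) * ((N + 1).choose (0 + 1) : A) * z -
      z ^ (0 + 1) * ((N + 1).choose (0 + 1) : A) * y = 0 := by ring
  rw [hmid, add_zero, mul_add, mul_sum]
  have hneg : z - y = (y - z) * (-1) := by ring
  rw [hneg, add_comm]
  congr 1
  refine sum_congr rfl fun l _ => ?_
  have hl : y ^ (l + 1 + 1) * ((N + 1).choose (l + 1 + 1) : A) * z -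
      z ^ (l + 1 + 1) * ((N + 1).choose (l + 1 + 1) : A) * y =
      (y ^ (l + 1) - z ^ (l + 1)) * (((N + 1).choose (l + 2) : A) * y * z) := by ring
  rw [hl, pow_sub_pow', mul_assoc, sum_mul]
  congr 1
  refine sum_congr rfl fun i hi => ?_
  have hi' := mem_range.mp hi
  have e1 : i + (l - i) + 2 = l + 2 := by omega
  have e2 : l + 1 - 1 - i = l - i := by omega
  rw [e1, e2]
  ring

end Groth.Agent.H9Binom
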