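import Mathlib

/-!
# Flatness of the cokernel of a faithfully flat ring map, and flatness of fibre product rings
-/

namespace Groth.Agent.H9FlatPullback

open TensorProduct

universe u

section coker

variable (B C : Type u) [CommRing B] [CommRing C] [Algebra B C]

/-- The cokernel of `B → C` as a `B`-module. -/
abbrev Q : Type u := C ⧸ LinearMap.range (Algebra.linearMap B C)

/-- The projection `C → C/B`. -/
abbrev pi : C →ₗ[B] Q B C := (LinearMap.range (Algebra.linearMap B C)).mkQ

theorem pi_one : pi B C 1 = 0 := by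
  rw [Submodule.mkQ_apply, Submodule.Quotient.mk_eq_zero]
  exact ⟨1, by simp⟩

theorem rid_lTensor_mem (J : Ideal B) (y : C ⊗[B] J) :
    TensorProduct.rid B C (LinearMap.lTensor C J.subtype y) ∈ J.map (algebraMap B C) := by
  induction y using TensorProduct.induction_on with
  | zero => simp
  | tmul c j =>
    simp only [LinearMap.lTensor_tmul, Submodule.coe_subtype, TensorProduct.rid_tmul]
    rw [Algebra.smul_def]
    exact Ideal.mul_mem_right _ _ (Ideal.mem_map_of_mem _ j.2)
  | add a b ha hb =>
    rw [map_add, map_add]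
    exact Ideal.add_mem _ ha hb

/-- The cokernel of a faithfully flat ring map is flat. -/
theorem flat_coker [Module.FaithfullyFlat B C] : Module.Flat B (Q B C) := by
  rw [Module.Flat.iff_lTensor_injective']
  intro J
  rw [injective_iff_map_eq_zero]
  intro x hx
  obtain ⟨y, rfl⟩ := LinearMap.rTensor_surjective J (Submodule.mkQ_surjective
    (LinearMap.range (Algebra.linearMap B C))) x
  set c : C := TensorProduct.rid B C (LinearMap.lTensor C J.subtype y) with hc
  have hpc : pi B C c = 0 := by
    have h1 : pi B C c = TensorProduct.rid B (Q B C)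
        (LinearMap.lTensor (Q B C) J.subtype (LinearMap.rTensor J (pi B C) y)) := by
      rw [hc]
      clear hx hc
      induction y using TensorProduct.induction_on with
      | zero => simp
      | tmul c j => simp
      | add a b ha hb => simp only [map_add, ha, hb]
    rw [h1, hx, map_zero]
  rw [Submodule.mkQ_apply, Submodule.Quotient.mk_eq_zero] at hpc
  obtain ⟨b, hb⟩ := hpc
  have hbJ : b ∈ J := by
    rw [← Ideal.comap_map_eq_self_of_faithfullyFlat (B := C) J, Ideal.mem_comap]
    have : algebraMap B C b = c := by rw [← hb]; rfl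
    rw [this]
    exact rid_lTensor_mem B C J y
  have hy : y = (1 : C) ⊗ₜ[B] (⟨b, hbJ⟩ : J) := by
    have hflat := (Module.Flat.iff_lTensor_injective' (R := B) (M := C)).mp inferInstance J
    apply hflat
    apply (TensorProduct.rid B C).injective
    rw [← hc, ← hb]
    simp [Algebra.smul_def]
  rw [hy, LinearMap.rTensor_tmul, pi_one, TensorProduct.zero_tmul]

end coker

section exact

variable {R : Type u} [CommRing R] {P A Q : Type u} [AddCommGroup P] [AddCommGroup A]
  [AddCommGroup Q] [Module R P] [Module R A] [Module R Q]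

/-- In a short exact sequence `0 → P → A → Q → 0` with `A` and `Q` flat, `P` is flat. -/
theorem flat_of_exact [Module.Flat R A] [Module.Flat R Q] (g : P →ₗ[R] A) (f : A →ₗ[R] Q)
    (hg : Function.Injective g) (hf : Function.Surjective f) (H : Function.Exact g f) :
    Module.Flat R P := by
  rw [Module.Flat.iff_rTensor_injective']
  intro J
  have h1 : Function.Injective (g.lTensor J) :=
    LinearMap.lTensor_injective_of_exact_of_flat f hf g hg H J
  have h2 : Function.Injective (LinearMap.rTensor A J.subtype) :=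
    (Module.Flat.iff_rTensor_injective' (R := R) (M := A)).mp inferInstance J
  have h3 : (g.lTensor R) ∘ₗ (LinearMap.rTensor P J.subtype) =
      (LinearMap.rTensor A J.subtype) ∘ₗ (g.lTensor J) := by
    rw [LinearMap.lTensor_comp_rTensor, LinearMap.rTensor_comp_lTensor]
  have h4 : Function.Injective ((g.lTensor R) ∘ₗ (LinearMap.rTensor P J.subtype)) := by
    rw [h3]; exact h2.comp h1
  exact Function.Injective.of_comp h4

end exact

end Groth.Agent.H9FlatPullback

namespace Groth.Agent.H9FlatPullback

open TensorProduct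

universe u

section pullback

variable (R A B : Type u) [CommRing R] [CommRing A] [CommRing B]
    [Algebra R A] [Algebra R B] (I : Ideal A)
    [Algebra B (A ⧸ I)] [IsScalarTower R B (A ⧸ I)]

/-- The fibre product ring `B ×_{A/I} A`. -/
abbrev Pb : Subalgebra R (B × A) :=
  AlgHom.equalizer ((IsScalarTower.toAlgHom R B (A ⧸ I)).comp (AlgHom.fst R B A))
    ((Ideal.Quotient.mkₐ R I).comp (AlgHom.snd R B A))

theorem mem_Pb (x : B × A) : x ∈ Pb R A B I ↔ algebraMap B (A ⧸ I) x.1 = Ideal.Quotient.mk I x.2 := by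
  rw [AlgHom.mem_equalizer]
  rfl

/-- second projection -/
abbrev sndP : ↥(Pb R A B I) →ₗ[R] A := ((AlgHom.snd R B A).comp (Pb R A B I).val).toLinearMap

/-- first projection -/
abbrev fstP : ↥(Pb R A B I) →ₗ[R] B := ((AlgHom.fst R B A).comp (Pb R A B I).val).toLinearMap

/-- the map `A → (A/I)/B` -/
noncomputable abbrev toQ : A →ₗ[R] Q B (A ⧸ I) :=
  ((pi B (A ⧸ I)).restrictScalars R) ∘ₗ (Ideal.Quotient.mkₐ R I).toLinearMap

theorem sndP_injective (hinj : Function.Injective (algebraMap B (A ⧸ I))) :
    Function.Injective (sndP R A B I) := by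
  rw [injective_iff_map_eq_zero]
  intro x hx
  have hx2 : (x : B × A).2 = 0 := hx
  have hm := (mem_Pb R A B I x).mp x.2
  rw [hx2, map_zero] at hm
  have hx1 : (x : B × A).1 = 0 := hinj (by rw [hm, map_zero])
  ext
  · exact hx1
  · exact hx2

theorem toQ_surjective : Function.Surjective (toQ R A B I) := by
  intro q
  obtain ⟨c, rfl⟩ := Submodule.mkQ_surjective _ q
  obtain ⟨a, rfl⟩ := Ideal.Quotient.mk_surjective c
  exact ⟨a, rfl⟩

theorem exact_sndP_toQ : Function.Exact (sndP R A B I) (toQ R A B I) := by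
  intro a
  constructor
  · intro h
    have h' : (LinearMap.range (Algebra.linearMap B (A ⧸ I))).mkQ (Ideal.Quotient.mk I a) = 0 := h
    rw [Submodule.mkQ_apply, Submodule.Quotient.mk_eq_zero] at h'
    obtain ⟨b, hb⟩ := h'
    exact ⟨⟨(b, a), (mem_Pb R A B I (b, a)).mpr hb⟩, rfl⟩
  · rintro ⟨x, rfl⟩
    show (LinearMap.range (Algebra.linearMap B (A ⧸ I))).mkQ (Ideal.Quotient.mk I (x : B × A).2) = 0
    rw [Submodule.mkQ_apply, Submodule.Quotient.mk_eq_zero]
    exact ⟨(x : B × A).1, (mem_Pb R A B I x).mp x.2⟩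

theorem faithfullyFlat [Module.Finite B (A ⧸ I)] [Module.Flat B (A ⧸ I)]
    (hinj : Function.Injective (algebraMap B (A ⧸ I))) : Module.FaithfullyFlat B (A ⧸ I) := by
  have : FaithfulSMul B (A ⧸ I) := (faithfulSMul_iff_algebraMap_injective B (A ⧸ I)).mpr hinj
  exact Module.FaithfullyFlat.of_comap_surjective (Algebra.IsIntegral.comap_surjective B (A ⧸ I))

theorem flat_Q [Module.Flat R B] [Module.Finite B (A ⧸ I)] [Module.Flat B (A ⧸ I)]
    (hinj : Function.Injective (algebraMap B (A ⧸ I))) : Module.Flat R (Q B (A ⧸ I)) := by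
  have := faithfullyFlat A B I hinj
  have := flat_coker B (A ⧸ I)
  exact Module.Flat.trans R B (Q B (A ⧸ I))

/-- S14085 -/
theorem flat_Pb [Module.Flat R A] [Module.Flat R B] [Module.Finite B (A ⧸ I)]
    [Module.Flat B (A ⧸ I)] (hinj : Function.Injective (algebraMap B (A ⧸ I))) :
    Module.Flat R ↥(Pb R A B I) := by
  have := flat_Q R A B I hinj
  exact flat_of_exact (sndP R A B I) (toQ R A B I) (sndP_injective R A B I hinj)
    (toQ_surjective R A B I) (exact_sndP_toQ R A B I)

end pullback

end Groth.Agent.H9FlatPullback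

namespace Groth.Agent.H9FlatPullback

open TensorProduct

universe u

section baseChange

variable (R A B R' : Type u) [CommRing R] [CommRing A] [CommRing B] [CommRing R']
    [Algebra R A] [Algebra R B] [Algebra R R'] (I : Ideal A)
    [Algebra B (A ⧸ I)] [IsScalarTower R B (A ⧸ I)]

theorem lTensor_sndP_injective [Module.Flat R A] [Module.Flat R B] [Module.Finite B (A ⧸ I)]
    [Module.Flat B (A ⧸ I)] (hinj : Function.Injective (algebraMap B (A ⧸ I))) :
    Function.Injective ((sndP R A B I).lTensor R') := by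
  have := flat_Q R A B I hinj
  exact LinearMap.lTensor_injective_of_exact_of_flat (toQ R A B I) (toQ_surjective R A B I)
    (sndP R A B I) (sndP_injective R A B I hinj) (exact_sndP_toQ R A B I) R'

theorem fstP_surjective : Function.Surjective (fstP R A B I) := by
  intro b
  obtain ⟨a, ha⟩ := Ideal.Quotient.mk_surjective (algebraMap B (A ⧸ I) b)
  exact ⟨⟨(b, a), (mem_Pb R A B I (b, a)).mpr ha.symm⟩, rfl⟩

/-- inclusion of `I` into the fibre product as `i ↦ (0, i)` -/
def iP : ↥I →ₗ[R] ↥(Pb R A B I) where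
  toFun i := ⟨(0, (i : A)), (mem_Pb R A B I (0, (i : A))).mpr (by
    rw [map_zero]; exact ((Ideal.Quotient.eq_zero_iff_mem).mpr i.2).symm)⟩
  map_add' x y := by ext <;> simp
  map_smul' r x := by ext <;> simp

theorem fstP_comp_iP : (fstP R A B I) ∘ₗ (iP R A B I) = 0 := by
  ext i
  rfl

theorem sndP_comp_iP : (sndP R A B I) ∘ₗ (iP R A B I) = I.subtype.restrictScalars R := by
  ext i
  rfl

theorem exists_glue (b : R' ⊗[R] B) (a : R' ⊗[R] A)
    (h : (IsScalarTower.toAlgHom R B (A ⧸ I)).toLinearMap.lTensor R' b =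
      (Ideal.Quotient.mkₐ R I).toLinearMap.lTensor R' a) :
    ∃ x : R' ⊗[R] ↥(Pb R A B I), (fstP R A B I).lTensor R' x = b ∧
      (sndP R A B I).lTensor R' x = a := by
  obtain ⟨x0, hx0⟩ := LinearMap.lTensor_surjective R' (fstP_surjective R A B I) b
  have hcomp : (Ideal.Quotient.mkₐ R I).toLinearMap ∘ₗ (sndP R A B I) =
      (IsScalarTower.toAlgHom R B (A ⧸ I)).toLinearMap ∘ₗ (fstP R A B I) := by
    ext x
    exact ((mem_Pb R A B I x).mp x.2).symm
  have hker : (Ideal.Quotient.mkₐ R I).toLinearMap.lTensor R'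
      (a - (sndP R A B I).lTensor R' x0) = 0 := by
    rw [map_sub, ← h, ← LinearMap.comp_apply, ← LinearMap.lTensor_comp, hcomp,
      LinearMap.lTensor_comp, LinearMap.comp_apply, hx0, sub_self]
  have hex : Function.Exact (I.subtype.restrictScalars R) (Ideal.Quotient.mkₐ R I).toLinearMap := by
    intro a
    constructor
    · intro ha
      have : a ∈ I := Ideal.Quotient.eq_zero_iff_mem.mp ha
      exact ⟨⟨a, this⟩, rfl⟩
    · rintro ⟨i, rfl⟩
      exact Ideal.Quotient.eq_zero_iff_mem.mpr i.2
  have hex' := lTensor_exact R' hex (Ideal.Quotient.mkₐ_surjective R I)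
  obtain ⟨t, ht⟩ := (hex' _).mp hker
  refine ⟨x0 + (iP R A B I).lTensor R' t, ?_, ?_⟩
  · rw [map_add, hx0, ← LinearMap.comp_apply, ← LinearMap.lTensor_comp, fstP_comp_iP,
      LinearMap.lTensor_zero, LinearMap.zero_apply, add_zero]
  · rw [map_add, ← LinearMap.comp_apply, ← LinearMap.lTensor_comp, sndP_comp_iP, ht]
    abel

end baseChange

end Groth.Agent.H9FlatPullback
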