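import Mathlib
import Groth.Agent.Lib.helper9.H9_FlatPullback

/-! Vanishing of `Tor` for flat modules, in either variable. -/

namespace Groth.Agent.H9TorFlat

open CategoryTheory CategoryTheory.Limits MonoidalCategory

universe u

variable {A : Type u} [CommRing A]

theorem isZero_leftDerived_of_exactAt {X : ModuleCat.{u} A} (P : ProjectiveResolution X)
    (F : ModuleCat.{u} A ⥤ ModuleCat.{u} A) [F.Additive] (n : ℕ)
    (h : ((F.mapHomologicalComplex _).obj P.complex).ExactAt n) :
    IsZero ((F.leftDerived n).obj X) := by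
  refine IsZero.of_iso ?_ (P.isoLeftDerivedObj F n)
  exact (HomologicalComplex.exactAt_iff_isZero_homology _ _).mp h

theorem exactAt_map_succ (C : ChainComplex (ModuleCat.{u} A) ℕ) (N : ModuleCat.{u} A) (n : ℕ)
    (h : Function.Exact (LinearMap.lTensor N (C.d (n + 2) (n + 1)).hom)
      (LinearMap.lTensor N (C.d (n + 1) n).hom)) :
    ((((tensoringLeft (ModuleCat.{u} A)).obj N).mapHomologicalComplex _).obj C).ExactAt (n + 1) := by
  rw [HomologicalComplex.exactAt_iff' _ (n + 2) (n + 1) n (by simp) (by simp)]
  rw [ShortComplex.ShortExact.moduleCat_exact_iff_function_exact]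
  exact h

section chain

variable (C : ChainComplex (ModuleCat.{u} A) ℕ)

theorem range_eq_ker_of_exactAt (n : ℕ) (h : C.ExactAt (n + 1)) :
    LinearMap.range (C.d (n + 2) (n + 1)).hom = LinearMap.ker (C.d (n + 1) n).hom := by
  rw [HomologicalComplex.exactAt_iff' _ (n + 2) (n + 1) n (by simp) (by simp)] at h
  exact (ShortComplex.moduleCat_exact_iff_range_eq_ker _).mp h

theorem flat_quot_succ (n : ℕ) [Module.Flat A (C.X n)] (hex : C.ExactAt (n + 1))
    (h : Module.Flat A (C.X n ⧸ LinearMap.range (C.d (n + 1) n).hom)) :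
    Module.Flat A (C.X (n + 1) ⧸ LinearMap.range (C.d (n + 2) (n + 1)).hom) := by
  have hr : Module.Flat A (LinearMap.range (C.d (n + 1) n).hom) :=
    H9FlatPullback.flat_of_exact (LinearMap.range (C.d (n + 1) n).hom).subtype (Submodule.mkQ _)
      (Submodule.injective_subtype _) (Submodule.mkQ_surjective _)
      (LinearMap.exact_subtype_mkQ _)
  rw [range_eq_ker_of_exactAt C n hex]
  exact Module.Flat.of_linearEquiv (LinearMap.quotKerEquivRange (C.d (n + 1) n).hom)

theorem flat_quot (hflat : ∀ n, Module.Flat A (C.X n)) (hex : ∀ n, C.ExactAt (n + 1))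
    (h0 : Module.Flat A (C.X 0 ⧸ LinearMap.range (C.d 1 0).hom)) (n : ℕ) :
    Module.Flat A (C.X n ⧸ LinearMap.range (C.d (n + 1) n).hom) := by
  induction n with
  | zero => exact h0
  | succ n ih =>
    haveI := hflat n
    exact flat_quot_succ C n (hex n) ih

theorem lTensor_exact_succ (N : Type u) [AddCommGroup N] [Module A N] (n : ℕ)
    (hex : C.ExactAt (n + 1))
    (h : Module.Flat A (C.X n ⧸ LinearMap.range (C.d (n + 1) n).hom)) :
    Function.Exact (LinearMap.lTensor N (C.d (n + 2) (n + 1)).hom)
      (LinearMap.lTensor N (C.d (n + 1) n).hom) := by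
  have hd : (C.d (n + 1) n).hom = (LinearMap.range (C.d (n + 1) n).hom).subtype ∘ₗ
      (C.d (n + 1) n).hom.rangeRestrict := by
    ext x
    rfl
  have hinj : Function.Injective
      (LinearMap.lTensor N (LinearMap.range (C.d (n + 1) n).hom).subtype) :=
    LinearMap.lTensor_injective_of_exact_of_flat (Submodule.mkQ _) (Submodule.mkQ_surjective _) _
      (Submodule.injective_subtype _) (LinearMap.exact_subtype_mkQ _) N
  have hex' : Function.Exact (C.d (n + 2) (n + 1)).hom (C.d (n + 1) n).hom.rangeRestrict := by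
    rw [LinearMap.exact_iff, LinearMap.ker_rangeRestrict]
    exact (range_eq_ker_of_exactAt C n hex).symm
  have h1 := lTensor_exact N hex' (LinearMap.surjective_rangeRestrict _)
  rw [hd, LinearMap.lTensor_comp]
  exact h1.comp_injective _ hinj (map_zero _)

end chain

theorem tor_left_flat (M N : ModuleCat.{u} A) [Module.Flat A M] (p : ℕ) (hp : 0 < p) :
    IsZero (((Tor (ModuleCat.{u} A) p).obj M).obj N) := by
  obtain ⟨n, rfl⟩ := Nat.exists_eq_succ_of_ne_zero hp.ne'
  let P : ProjectiveResolution N := (HasProjectiveResolution.out (Z := N)).some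
  refine isZero_leftDerived_of_exactAt P _ _ ?_
  apply exactAt_map_succ
  apply Module.Flat.lTensor_exact M
  rw [LinearMap.exact_iff]
  exact (range_eq_ker_of_exactAt P.complex n (P.complex_exactAt_succ n)).symm

theorem tor_right_flat (M N : ModuleCat.{u} A) [Module.Flat A M] (p : ℕ) (hp : 0 < p) :
    IsZero (((Tor (ModuleCat.{u} A) p).obj N).obj M) := by
  obtain ⟨n, rfl⟩ := Nat.exists_eq_succ_of_ne_zero hp.ne'
  let P : ProjectiveResolution M := (HasProjectiveResolution.out (Z := M)).some
  refine isZero_leftDerived_of_exactAt P _ _ ?_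
  apply exactAt_map_succ
  apply lTensor_exact_succ P.complex N n (P.complex_exactAt_succ n)
  have hproj : ∀ k, Module.Flat A (P.complex.X k) := by
    intro k
    haveI : Module.Projective A (P.complex.X k) :=
      (IsProjective.iff_projective (R := A) (P := P.complex.X k)).mpr (P.projective k)
    infer_instance
  refine flat_quot P.complex hproj P.complex_exactAt_succ ?_ n
  have hπ : Function.Surjective (P.π.f 0).hom :=
    (ModuleCat.epi_iff_surjective _).mp inferInstance
  have hker : LinearMap.range (P.complex.d 1 0).hom = LinearMap.ker (P.π.f 0).hom :=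
    (ShortComplex.moduleCat_exact_iff_range_eq_ker _).mp P.exact₀
  rw [hker]
  haveI : Module.Flat A (((ChainComplex.single₀ (ModuleCat.{u} A)).obj M).X 0) :=
    (inferInstance : Module.Flat A M)
  exact Module.Flat.of_linearEquiv ((P.π.f 0).hom.quotKerEquivOfSurjective hπ)

end Groth.Agent.H9TorFlat
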