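import Mathlib
import Groth.Agent.Lib.helper9.H9_TorFlat

/-! `Tor` vanishes above the projective dimension of the second variable. -/

namespace Groth.Agent.H9TorPd

open CategoryTheory CategoryTheory.Limits MonoidalCategory

universe u

variable {A : Type u} [CommRing A]

theorem pd_sub_of_pd_quot {X : Type u} [AddCommGroup X] [Module A X] (B : Submodule A X) (k : ℕ)
    (h₂ : HasProjectiveDimensionLT (ModuleCat.of A X) k)
    (h₃ : HasProjectiveDimensionLT (ModuleCat.of A (X ⧸ B)) (k + 1)) :
    HasProjectiveDimensionLT (ModuleCat.of A B) k := by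
  let S : ShortComplex (ModuleCat.{u} A) :=
    ShortComplex.moduleCatMkOfKerLERange (ModuleCat.ofHom B.subtype) (ModuleCat.ofHom B.mkQ) (by
      rw [ModuleCat.hom_ofHom, ModuleCat.hom_ofHom, Submodule.ker_mkQ, Submodule.range_subtype])
  have hS : S.ShortExact := by
    refine ShortComplex.ShortExact.mk' ?_ ?_ ?_
    · exact ShortComplex.Exact.moduleCat_of_range_eq_ker _ _ (by
        rw [ModuleCat.hom_ofHom, ModuleCat.hom_ofHom, Submodule.ker_mkQ, Submodule.range_subtype])
    · exact (ModuleCat.mono_iff_injective _).mpr (Submodule.injective_subtype _)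
    · exact (ModuleCat.epi_iff_surjective _).mpr (Submodule.mkQ_surjective _)
  exact hS.hasProjectiveDimensionLT_X₁ k h₂ h₃

section chain

variable (C : ChainComplex (ModuleCat.{u} A) ℕ)

theorem pd_quot_succ (n k : ℕ) (hex : C.ExactAt (n + 1))
    (h₂ : HasProjectiveDimensionLT (ModuleCat.of A (C.X n)) k)
    (h₃ : HasProjectiveDimensionLT
      (ModuleCat.of A (C.X n ⧸ LinearMap.range (C.d (n + 1) n).hom)) (k + 1)) :
    HasProjectiveDimensionLT
      (ModuleCat.of A (C.X (n + 1) ⧸ LinearMap.range (C.d (n + 2) (n + 1)).hom)) k := by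
  haveI h1 := pd_sub_of_pd_quot (LinearMap.range (C.d (n + 1) n).hom) k h₂ h₃
  rw [H9TorFlat.range_eq_ker_of_exactAt C n hex]
  exact hasProjectiveDimensionLT_of_iso
    (LinearMap.quotKerEquivRange (C.d (n + 1) n).hom).symm.toModuleIso k

theorem pd_quot (hproj : ∀ n, Projective (C.X n)) (hex : ∀ n, C.ExactAt (n + 1)) (q : ℕ)
    (h0 : HasProjectiveDimensionLT
      (ModuleCat.of A (C.X 0 ⧸ LinearMap.range (C.d 1 0).hom)) (q + 1)) (n : ℕ) :
    HasProjectiveDimensionLT
      (ModuleCat.of A (C.X n ⧸ LinearMap.range (C.d (n + 1) n).hom)) (max (q + 1 - n) 1) := by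
  induction n with
  | zero =>
    have : max (q + 1 - 0) 1 = q + 1 := by omega
    rw [this]
    exact h0
  | succ n ih =>
    apply pd_quot_succ C n _ (hex n)
    · haveI : Projective (ModuleCat.of A (C.X n)) := hproj n
      exact hasProjectiveDimensionLT_of_ge (ModuleCat.of A (C.X n)) 1 _ (le_max_right _ _)
    · haveI := ih
      exact hasProjectiveDimensionLT_of_ge _ (max (q + 1 - n) 1) _ (by omega)

end chain

theorem tor_pd (M N : ModuleCat.{u} A) (q : ℕ) [HasProjectiveDimensionLE N q] (i : ℕ)
    (hi : q < i) : IsZero (((Tor (ModuleCat.{u} A) i).obj M).obj N) := by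
  obtain ⟨n, rfl⟩ := Nat.exists_eq_succ_of_ne_zero (Nat.ne_of_gt (lt_of_le_of_lt (Nat.zero_le _) hi))
  let P : ProjectiveResolution N := (HasProjectiveResolution.out (Z := N)).some
  refine H9TorFlat.isZero_leftDerived_of_exactAt P _ _ ?_
  apply H9TorFlat.exactAt_map_succ
  apply H9TorFlat.lTensor_exact_succ P.complex M n (P.complex_exactAt_succ n)
  have hπ : Function.Surjective (P.π.f 0).hom :=
    (ModuleCat.epi_iff_surjective _).mp inferInstance
  have hker : LinearMap.range (P.complex.d 1 0).hom = LinearMap.ker (P.π.f 0).hom :=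
    (ShortComplex.moduleCat_exact_iff_range_eq_ker _).mp P.exact₀
  have h0 : HasProjectiveDimensionLT
      (ModuleCat.of A (P.complex.X 0 ⧸ LinearMap.range (P.complex.d 1 0).hom)) (q + 1) := by
    rw [hker]
    haveI : HasProjectiveDimensionLT
        (ModuleCat.of A (((ChainComplex.single₀ (ModuleCat.{u} A)).obj N).X 0)) (q + 1) :=
      (inferInstance : HasProjectiveDimensionLT N (q + 1))
    exact hasProjectiveDimensionLT_of_iso
      ((P.π.f 0).hom.quotKerEquivOfSurjective hπ).symm.toModuleIso (q + 1)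
  have h1 := pd_quot P.complex P.projective P.complex_exactAt_succ q h0 n
  have h2 : max (q + 1 - n) 1 = 1 := by omega
  rw [h2] at h1
  haveI : Projective
      (ModuleCat.of A (P.complex.X n ⧸ LinearMap.range (P.complex.d (n + 1) n).hom)) :=
    inferInstance
  haveI : Module.Projective A (P.complex.X n ⧸ LinearMap.range (P.complex.d (n + 1) n).hom) :=
    (IsProjective.iff_projective (R := A)
      (P := P.complex.X n ⧸ LinearMap.range (P.complex.d (n + 1) n).hom)).mpr inferInstance
  infer_instance

end Groth.Agent.H9TorPd
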