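import Mathlib
import Groth.Agent.Lib.helper9.H9_TorPd

/-! Projective dimension `≤ d` iff there is a projective resolution of length `≤ d`
(for modules). -/

namespace Groth.Agent.H9PdRes

open CategoryTheory CategoryTheory.Limits

universe u v

section splice

variable {C : Type u} [Category.{v} C] [Abelian C]

/-- Splice a projective resolution of the kernel with a projective cover. -/
theorem exists_splice {M K F : C} [Projective F] (ι : K ⟶ F) (p : F ⟶ M) [Mono ι] [Epi p]
    (w : ι ≫ p = 0) (hex : (ShortComplex.mk ι p w).Exact) (Q : ProjectiveResolution K) :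
    ∃ P : ProjectiveResolution M, ∀ n, IsZero (Q.complex.X n) → IsZero (P.complex.X (n + 1)) := by
  obtain ⟨q, hq0, hqepi, hqex⟩ : ∃ q : Q.complex.X 0 ⟶ K, ∃ (h0 : Q.complex.d 1 0 ≫ q = 0),
      Epi q ∧ (ShortComplex.mk (Q.complex.d 1 0) q h0).Exact :=
    ⟨Q.π.f 0, Q.complex_d_comp_π_f_zero, (inferInstance : Epi (Q.π.f 0)), Q.exact₀⟩
  have w' : Q.complex.d 1 0 ≫ (q ≫ ι) = 0 := by
    rw [← Category.assoc, hq0, zero_comp]
  let D : ChainComplex C ℕ := ChainComplex.augment Q.complex (q ≫ ι) w'
  have hd10 : D.d 1 0 = q ≫ ι := rfl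
  have hproj : ∀ n, Projective (D.X n) := by
    intro n
    cases n with
    | zero => exact (inferInstance : Projective F)
    | succ n => exact Q.projective n
  let π : D ⟶ (ChainComplex.single₀ C).obj M :=
    (ChainComplex.toSingle₀Equiv _ _).symm ⟨p, by
      change (q ≫ ι) ≫ p = 0
      rw [Category.assoc, w, comp_zero]⟩
  have hq : QuasiIso π := by
    refine ⟨fun n => ?_⟩
    cases n with
    | zero =>
      rw [ChainComplex.quasiIsoAt₀_iff, ShortComplex.quasiIso_iff_of_zeros' _ rfl rfl rfl]
      have hw2 : (q ≫ ι) ≫ p = 0 := by rw [Category.assoc, w, comp_zero]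
      have hex2 : (ShortComplex.mk (q ≫ ι) p hw2).Exact := by
        let α : ShortComplex.mk (q ≫ ι) p hw2 ⟶ ShortComplex.mk ι p w :=
          { τ₁ := q
            τ₂ := 𝟙 _
            τ₃ := 𝟙 _ }
        rw [ShortComplex.exact_iff_of_epi_of_isIso_of_mono α]
        exact hex
      refine (ShortComplex.exact_and_epi_g_iff_of_iso ?_).2 ⟨hex2, (inferInstance : Epi p)⟩
      exact ShortComplex.isoMk (Iso.refl _) (Iso.refl _) (Iso.refl _)
        (by
          simp [D]
          exact (Category.id_comp _).trans (Category.comp_id _).symm)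
        (by
          simp [π, ChainComplex.toSingle₀Equiv]
          exact (Category.id_comp _).trans (Category.comp_id _).symm)
    | succ n =>
      rw [quasiIsoAt_iff_exactAt' (hL := ChainComplex.exactAt_succ_single_obj ..),
        HomologicalComplex.exactAt_iff' _ (n + 2) (n + 1) n (by simp) (by simp)]
      cases n with
      | zero =>
        have hex3 : (ShortComplex.mk (Q.complex.d 1 0) (q ≫ ι) w').Exact := by
          let α : ShortComplex.mk (Q.complex.d 1 0) q hq0 ⟶
              ShortComplex.mk (Q.complex.d 1 0) (q ≫ ι) w' :=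
            { τ₁ := 𝟙 _
              τ₂ := 𝟙 _
              τ₃ := ι }
          rw [← ShortComplex.exact_iff_of_epi_of_isIso_of_mono α]
          exact hqex
        exact hex3
      | succ n => exact Q.exact_succ n
  exact ⟨{ complex := D, projective := hproj, π := π, quasiIso := hq }, fun n hn => hn⟩

theorem exists_finite_res [EnoughProjectives C] : ∀ (d : ℕ) (M : C),
    HasProjectiveDimensionLT M (d + 1) →
      ∃ P : ProjectiveResolution M, ∀ i, d < i → IsZero (P.complex.X i)
  | 0, M, h => by
    haveI : Projective M := projective_iff_hasProjectiveDimensionLT_one.mpr h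
    refine ⟨ProjectiveResolution.self M, fun i hi => ?_⟩
    exact HomologicalComplex.isZero_single_obj_X _ _ _ _ (by omega)
  | d + 1, M, h => by
    have w : kernel.ι (Projective.π M) ≫ Projective.π M = 0 := kernel.condition _
    have hex : (ShortComplex.mk (kernel.ι (Projective.π M)) (Projective.π M) w).Exact :=
      ShortComplex.exact_of_f_is_kernel _ (kernelIsKernel _)
    have hS : (ShortComplex.mk (kernel.ι (Projective.π M)) (Projective.π M) w).ShortExact :=
      { exact := hex
        mono_f := (inferInstance : Mono (kernel.ι (Projective.π M)))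
        epi_g := (inferInstance : Epi (Projective.π M)) }
    have h2 : HasProjectiveDimensionLT (Projective.over M) (d + 1) :=
      hasProjectiveDimensionLT_of_ge (Projective.over M) 1 (d + 1) (by omega)
    have hK : HasProjectiveDimensionLT (kernel (Projective.π M)) (d + 1) :=
      hS.hasProjectiveDimensionLT_X₁ (d + 1) h2 h
    obtain ⟨Q, hQ⟩ := exists_finite_res d (kernel (Projective.π M)) hK
    obtain ⟨P, hP⟩ := exists_splice (kernel.ι (Projective.π M)) (Projective.π M) w hex Q
    refine ⟨P, fun i hi => ?_⟩
    obtain ⟨n, rfl⟩ : ∃ n, i = n + 1 := ⟨i - 1, by omega⟩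
    exact hP n (hQ n (by omega))

end splice

section modules

variable {A : Type u} [CommRing A]

theorem pd_quot_of_pd_sub {X : Type u} [AddCommGroup X] [Module A X] (B : Submodule A X) (k : ℕ)
    (h₁ : HasProjectiveDimensionLT (ModuleCat.of A B) k)
    (h₂ : HasProjectiveDimensionLT (ModuleCat.of A X) (k + 1)) :
    HasProjectiveDimensionLT (ModuleCat.of A (X ⧸ B)) (k + 1) := by
  let S : ShortComplex (ModuleCat.{u} A) :=
    ShortComplex.moduleCatMkOfKerLERange (ModuleCat.ofHom B.subtype) (ModuleCat.ofHom B.mkQ) (by
      rw [ModuleCat.hom_ofHom, ModuleCat.hom_ofHom, Submodule.ker_mkQ, Submodule.range_subtype])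
  have hS : S.ShortExact := by
    refine ShortComplex.ShortExact.mk' ?_ ?_ ?_
    · exact ShortComplex.Exact.moduleCat_of_range_eq_ker _ _ (by
        rw [ModuleCat.hom_ofHom, ModuleCat.hom_ofHom, Submodule.ker_mkQ, Submodule.range_subtype])
    · exact (ModuleCat.mono_iff_injective _).mpr (Submodule.injective_subtype _)
    · exact (ModuleCat.epi_iff_surjective _).mpr (Submodule.mkQ_surjective _)
  exact hS.hasProjectiveDimensionLT_X₃ k h₁ h₂

theorem pd_of_finite_res (M : ModuleCat.{u} A) (d : ℕ) (P : ProjectiveResolution M)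
    (hP : ∀ i, d < i → IsZero (P.complex.X i)) : HasProjectiveDimensionLT M (d + 1) := by
  have claim : ∀ k n, n + k = d → HasProjectiveDimensionLT
      (ModuleCat.of A (P.complex.X n ⧸ LinearMap.range (P.complex.d (n + 1) n).hom)) (k + 1) := by
    intro k
    induction k with
    | zero =>
      intro n hn
      have hz : IsZero (P.complex.X (n + 1)) := hP (n + 1) (by omega)
      have hbot : LinearMap.range (P.complex.d (n + 1) n).hom = ⊥ := by
        haveI : Subsingleton (P.complex.X (n + 1)) := ModuleCat.subsingleton_of_isZero hz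
        rw [LinearMap.range_eq_bot]
        ext x
        rw [Subsingleton.elim x 0, map_zero]
        rfl
      haveI : Projective (ModuleCat.of A (P.complex.X n)) := P.projective n
      haveI : HasProjectiveDimensionLT (ModuleCat.of A (P.complex.X n)) 1 := inferInstance
      exact hasProjectiveDimensionLT_of_iso
        ((Submodule.quotEquivOfEqBot _ hbot).symm.toModuleIso) 1
    | succ k ih =>
      intro n hn
      have ih' := ih (n + 1) (by omega)
      have hB : HasProjectiveDimensionLT
          (ModuleCat.of A (LinearMap.range (P.complex.d (n + 1) n).hom)) (k + 1) := by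
        rw [H9TorFlat.range_eq_ker_of_exactAt P.complex n (P.complex_exactAt_succ n)] at ih'
        haveI := ih'
        exact hasProjectiveDimensionLT_of_iso
          (LinearMap.quotKerEquivRange (P.complex.d (n + 1) n).hom).toModuleIso (k + 1)
      haveI : Projective (ModuleCat.of A (P.complex.X n)) := P.projective n
      have hX : HasProjectiveDimensionLT (ModuleCat.of A (P.complex.X n)) (k + 1 + 1) :=
        hasProjectiveDimensionLT_of_ge _ 1 _ (by omega)
      exact pd_quot_of_pd_sub _ (k + 1) hB hX
  have h0 := claim d 0 (by omega)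
  have hπ : Function.Surjective (P.π.f 0).hom :=
    (ModuleCat.epi_iff_surjective _).mp inferInstance
  have hker : LinearMap.range (P.complex.d 1 0).hom = LinearMap.ker (P.π.f 0).hom :=
    (ShortComplex.moduleCat_exact_iff_range_eq_ker _).mp P.exact₀
  rw [hker] at h0
  haveI := h0
  have e : ModuleCat.of A (P.complex.X 0 ⧸ LinearMap.ker (P.π.f 0).hom) ≅ M :=
    ((P.π.f 0).hom.quotKerEquivOfSurjective hπ).toModuleIso
  exact hasProjectiveDimensionLT_of_iso e (d + 1)

theorem pd_iff_finite_res (M : ModuleCat.{u} A) (d : ℕ) :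
    HasProjectiveDimensionLE M d ↔
      ∃ P : ProjectiveResolution M, ∀ i : ℕ, d < i → IsZero (P.complex.X i) :=
  ⟨fun h => exists_finite_res d M h, fun ⟨P, hP⟩ => pd_of_finite_res M d P hP⟩

end modules

end Groth.Agent.H9PdRes
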