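import Mathlib
import Groth.Agent.Lib.helper9.H9_TorFlat

/-! A step of the local flatness criterion, for Mathlib's `Tor`. -/

namespace Groth.Agent.H9TorLF

open TensorProduct

universe u

section linalg

variable {R : Type u} [CommRing R] (I : Ideal R)
variable {K F M : Type u} [AddCommGroup K] [AddCommGroup F] [AddCommGroup M]
  [Module R K] [Module R F] [Module R M]
  (ι : K →ₗ[R] F) (π : F →ₗ[R] M)

include I in
theorem inj_of_killed [Module.Flat (R ⧸ I) ((R ⧸ I) ⊗[R] M)]
    (hπ : Function.Surjective π) (hex : Function.Exact ι π)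
    (h1 : Function.Injective (LinearMap.lTensor (R ⧸ I) ι))
    (N : Type u) [AddCommGroup N] [Module R N] (hN : ∀ a ∈ I, ∀ x : N, a • x = 0) :
    Function.Injective (LinearMap.lTensor N ι) := by
  have htors : Module.IsTorsionBySet R N (I : Set R) := fun x a => hN a.1 a.2 x
  letI : Module (R ⧸ I) N := htors.module
  haveI : IsScalarTower R (R ⧸ I) N := htors.isScalarTower
  have hex' : Function.Exact (ι.baseChange (R ⧸ I)) (π.baseChange (R ⧸ I)) := by
    have := lTensor_exact (R ⧸ I) hex hπ
    intro y
    exact this y
  have hπ' : Function.Surjective (π.baseChange (R ⧸ I)) := by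
    intro y
    exact LinearMap.lTensor_surjective (R ⧸ I) hπ y
  have hι' : Function.Injective (ι.baseChange (R ⧸ I)) := by
    intro a b hab
    exact h1 hab
  have key := LinearMap.lTensor_injective_of_exact_of_flat (π.baseChange (R ⧸ I)) hπ'
    (ι.baseChange (R ⧸ I)) hι' hex' N
  have hnat : ∀ z : N ⊗[R ⧸ I] ((R ⧸ I) ⊗[R] K),
      (LinearMap.lTensor N ι)
        (TensorProduct.AlgebraTensorModule.cancelBaseChange R (R ⧸ I) (R ⧸ I) N K z) =
      TensorProduct.AlgebraTensorModule.cancelBaseChange R (R ⧸ I) (R ⧸ I) N F
        ((LinearMap.lTensor N (ι.baseChange (R ⧸ I))) z) := by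
    intro z
    induction z using TensorProduct.induction_on with
    | zero => simp
    | add x y hx hy => rw [map_add, map_add, hx, hy, map_add, map_add]
    | tmul n w =>
      induction w using TensorProduct.induction_on with
      | zero => simp
      | add x y hx hy =>
        rw [TensorProduct.tmul_add, map_add, map_add, hx, hy, map_add, map_add]
      | tmul a k =>
        simp
  intro x y hxy
  have hx := hnat ((TensorProduct.AlgebraTensorModule.cancelBaseChange R (R ⧸ I) (R ⧸ I) N K).symm x)
  have hy := hnat ((TensorProduct.AlgebraTensorModule.cancelBaseChange R (R ⧸ I) (R ⧸ I) N K).symm y)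
  rw [LinearEquiv.apply_symm_apply] at hx hy
  rw [hx, hy] at hxy
  have := key ((TensorProduct.AlgebraTensorModule.cancelBaseChange R (R ⧸ I) (R ⧸ I) N F).injective hxy)
  exact (TensorProduct.AlgebraTensorModule.cancelBaseChange R (R ⧸ I) (R ⧸ I) N K).symm.injective this

include I in
theorem inj_of_killed_pow [Module.Flat (R ⧸ I) ((R ⧸ I) ⊗[R] M)] [Module.Flat R F]
    (hπ : Function.Surjective π) (hex : Function.Exact ι π)
    (h1 : Function.Injective (LinearMap.lTensor (R ⧸ I) ι)) (m : ℕ) :
    ∀ (N : Type u) [AddCommGroup N] [Module R N], (∀ a ∈ I ^ m, ∀ x : N, a • x = 0) →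
      Function.Injective (LinearMap.lTensor N ι) := by
  induction m with
  | zero =>
    intro N _ _ hN
    haveI : Subsingleton N := ⟨fun x y => by
      have hx := hN 1 (by simp) x
      have hy := hN 1 (by simp) y
      rw [one_smul] at hx hy
      rw [hx, hy]⟩
    intro x y _
    exact Subsingleton.elim x y
  | succ m ih =>
    intro N _ _ hN
    let N' : Submodule R N := I • (⊤ : Submodule R N)
    have hN' : ∀ a ∈ I ^ m, ∀ x : N', a • x = 0 := by
      intro a ha x
      apply Subtype.ext
      rw [Submodule.coe_smul, Submodule.coe_zero]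
      have hx : (x : N) ∈ I • (⊤ : Submodule R N) := x.2
      refine Submodule.smul_induction_on (p := fun z => a • z = 0) hx ?_ ?_
      · intro r hr n _
        rw [← mul_smul]
        exact hN _ (by rw [pow_succ]; exact Ideal.mul_mem_mul ha hr) n
      · intro x y hx hy
        rw [smul_add, hx, hy, add_zero]
    have hQ : ∀ a ∈ I, ∀ x : N ⧸ N', a • x = 0 := by
      intro a ha x
      obtain ⟨y, rfl⟩ := Submodule.mkQ_surjective N' x
      rw [← map_smul, Submodule.mkQ_apply, Submodule.Quotient.mk_eq_zero]
      exact Submodule.smul_mem_smul ha Submodule.mem_top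
    have inj1 := ih N' hN'
    have inj2 := inj_of_killed I ι π hπ hex h1 (N ⧸ N') hQ
    have hexK : Function.Exact (LinearMap.rTensor K N'.subtype) (LinearMap.rTensor K N'.mkQ) :=
      rTensor_exact K (LinearMap.exact_subtype_mkQ N') (Submodule.mkQ_surjective N')
    have hinjF : Function.Injective (LinearMap.rTensor F N'.subtype) :=
      Module.Flat.rTensor_preserves_injective_linearMap _ (Submodule.injective_subtype N')
    rw [injective_iff_map_eq_zero]
    intro x hx
    have h2 : (LinearMap.lTensor (N ⧸ N') ι) ((LinearMap.rTensor K N'.mkQ) x) = 0 := by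
      have : (LinearMap.lTensor (N ⧸ N') ι) ((LinearMap.rTensor K N'.mkQ) x) =
          (LinearMap.rTensor F N'.mkQ) ((LinearMap.lTensor N ι) x) := by
        rw [← LinearMap.comp_apply, ← LinearMap.comp_apply, LinearMap.lTensor_comp_rTensor,
          LinearMap.rTensor_comp_lTensor]
      rw [this, hx, map_zero]
    have h3 : (LinearMap.rTensor K N'.mkQ) x = 0 :=
      (injective_iff_map_eq_zero _).mp inj2 _ h2
    obtain ⟨y, rfl⟩ := (hexK x).mp h3
    have h4 : (LinearMap.rTensor F N'.subtype) ((LinearMap.lTensor N' ι) y) = 0 := by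
      have : (LinearMap.rTensor F N'.subtype) ((LinearMap.lTensor N' ι) y) =
          (LinearMap.lTensor N ι) ((LinearMap.rTensor K N'.subtype) y) := by
        rw [← LinearMap.comp_apply, ← LinearMap.comp_apply, LinearMap.lTensor_comp_rTensor,
          LinearMap.rTensor_comp_lTensor]
      rw [this, hx]
    have h5 : (LinearMap.lTensor N' ι) y = 0 :=
      (injective_iff_map_eq_zero _).mp hinjF _ h4
    have h6 : y = 0 := (injective_iff_map_eq_zero _).mp inj1 _ h5
    rw [h6, map_zero]

end linalg

section translate

open CategoryTheory CategoryTheory.Limits MonoidalCategory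

variable {R : Type u} [CommRing R]

theorem exact_lTensor_iff {X2 X1 X0 : Type u} [AddCommGroup X2] [AddCommGroup X1]
    [AddCommGroup X0] [Module R X2] [Module R X1] [Module R X0]
    (f : X2 →ₗ[R] X1) (g : X1 →ₗ[R] X0) (hfg : LinearMap.range f = LinearMap.ker g)
    (N : Type u) [AddCommGroup N] [Module R N] :
    Function.Exact (LinearMap.lTensor N f) (LinearMap.lTensor N g) ↔
      Function.Injective (LinearMap.lTensor N (LinearMap.range g).subtype) := by
  have hd : LinearMap.lTensor N g = (LinearMap.lTensor N (LinearMap.range g).subtype) ∘ₗ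
      (LinearMap.lTensor N g.rangeRestrict) := by
    rw [← LinearMap.lTensor_comp]
    congr 1
  have hex' : Function.Exact f g.rangeRestrict := by
    rw [LinearMap.exact_iff, LinearMap.ker_rangeRestrict]
    exact hfg.symm
  have h1 := lTensor_exact N hex' (LinearMap.surjective_rangeRestrict _)
  have hsurj : Function.Surjective (LinearMap.lTensor N g.rangeRestrict) :=
    LinearMap.lTensor_surjective N (LinearMap.surjective_rangeRestrict _)
  constructor
  · intro hE
    rw [injective_iff_map_eq_zero]
    intro z hz
    obtain ⟨y, rfl⟩ := hsurj z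
    have h2 : LinearMap.lTensor N g y = 0 := by
      rw [hd]
      exact hz
    obtain ⟨w, rfl⟩ := (hE y).mp h2
    exact (h1 _).mpr ⟨w, rfl⟩
  · intro hinj
    rw [hd]
    exact h1.comp_injective _ hinj (map_zero _)

theorem exactAt_map_one_iff (C : ChainComplex (ModuleCat.{u} R) ℕ) (N : ModuleCat.{u} R) :
    ((((tensoringLeft (ModuleCat.{u} R)).obj N).mapHomologicalComplex _).obj C).ExactAt 1 ↔
      Function.Exact (LinearMap.lTensor N (C.d 2 1).hom) (LinearMap.lTensor N (C.d 1 0).hom) := by
  rw [HomologicalComplex.exactAt_iff' _ 2 1 0 (by simp) (by simp)]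
  rw [ShortComplex.ShortExact.moduleCat_exact_iff_function_exact]
  rfl

theorem tor1_isZero_iff (N M : ModuleCat.{u} R) (P : ProjectiveResolution M) :
    IsZero (((Tor (ModuleCat.{u} R) 1).obj N).obj M) ↔
      Function.Injective
        (LinearMap.lTensor N (LinearMap.range (P.complex.d 1 0).hom).subtype) := by
  rw [← exact_lTensor_iff (P.complex.d 2 1).hom (P.complex.d 1 0).hom
    (H9TorFlat.range_eq_ker_of_exactAt P.complex 0 (P.complex_exactAt_succ 0)) N,
    ← exactAt_map_one_iff, HomologicalComplex.exactAt_iff_isZero_homology]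
  exact (P.isoLeftDerivedObj ((tensoringLeft (ModuleCat.{u} R)).obj N) 1).isZero_iff

end translate

section main

open CategoryTheory CategoryTheory.Limits MonoidalCategory

theorem tor1_of_killed_pow (R : Type u) [CommRing R] (I : Ideal R) (M : Type u)
    [AddCommGroup M] [Module R M] [Module.Flat (R ⧸ I) ((R ⧸ I) ⊗[R] M)]
    (h : IsZero (((Tor (ModuleCat.{u} R) 1).obj (ModuleCat.of R (R ⧸ I))).obj (ModuleCat.of R M)))
    (N : Type u) [AddCommGroup N] [Module R N] (m : ℕ)
    (hN : ∀ a : R, a ∈ I ^ m → ∀ x : N, a • x = 0) :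
    IsZero (((Tor (ModuleCat.{u} R) 1).obj (ModuleCat.of R N)).obj (ModuleCat.of R M)) := by
  let P : ProjectiveResolution (ModuleCat.of R M) :=
    (HasProjectiveResolution.out (Z := ModuleCat.of R M)).some
  rw [tor1_isZero_iff _ _ P] at h ⊢
  let π : P.complex.X 0 →ₗ[R] M := (P.π.f 0).hom
  have hπ : Function.Surjective π :=
    (ModuleCat.epi_iff_surjective (P.π.f 0)).mp inferInstance
  have hker : LinearMap.range (P.complex.d 1 0).hom = LinearMap.ker π :=
    (ShortComplex.moduleCat_exact_iff_range_eq_ker _).mp P.exact₀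
  have hex : Function.Exact (LinearMap.range (P.complex.d 1 0).hom).subtype π := by
    rw [LinearMap.exact_iff, Submodule.range_subtype]
    exact hker.symm
  haveI : Module.Projective R (P.complex.X 0) :=
    (IsProjective.iff_projective (R := R) (P := P.complex.X 0)).mpr (P.projective 0)
  haveI : Module.Flat R (P.complex.X 0) := inferInstance
  exact inj_of_killed_pow I _ π hπ hex h m N hN

end main

end Groth.Agent.H9TorLF
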