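import Mathlib
import Groth.Agent.Lib.helper9.H9_TorLF

/-! Balancing of `Tor₁` at the level of injectivity statements, and the criterion
"flat iff `Tor₁(M, A/p) = 0` for all primes" over a Noetherian ring. -/

namespace Groth.Agent.H9TorBal

open TensorProduct

universe u

section chase

variable {R : Type u} [CommRing R]
variable {L G M K F X : Type u} [AddCommGroup L] [AddCommGroup G] [AddCommGroup M]
  [AddCommGroup K] [AddCommGroup F] [AddCommGroup X]
  [Module R L] [Module R G] [Module R M] [Module R K] [Module R F] [Module R X]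

/-- Balancing chase: with presentations `L → G → M → 0` (`G` flat) and `0 → K → F → X → 0`,
injectivity of `L ⊗ X → G ⊗ X` implies injectivity of `M ⊗ K → M ⊗ F`. -/
theorem lTensor_inj_of_rTensor_inj [Module.Flat R G]
    (j : L →ₗ[R] G) (ρ : G →ₗ[R] M) (hρ : Function.Surjective ρ) (hjρ : Function.Exact j ρ)
    (ι : K →ₗ[R] F) (π : F →ₗ[R] X) (hι : Function.Injective ι)
    (hπ : Function.Surjective π) (hιπ : Function.Exact ι π)
    (h : Function.Injective (LinearMap.rTensor X j)) :
    Function.Injective (LinearMap.lTensor M ι) := by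
  rw [injective_iff_map_eq_zero]
  intro z hz
  obtain ⟨y, rfl⟩ := LinearMap.rTensor_surjective K hρ z
  -- (G ⊗ ι) y ∈ ker (ρ ⊗ F)
  have h1 : (LinearMap.rTensor F ρ) ((LinearMap.lTensor G ι) y) = 0 := by
    have : (LinearMap.rTensor F ρ) ((LinearMap.lTensor G ι) y) =
        (LinearMap.lTensor M ι) ((LinearMap.rTensor K ρ) y) := by
      rw [← LinearMap.comp_apply, ← LinearMap.comp_apply, LinearMap.rTensor_comp_lTensor,
        LinearMap.lTensor_comp_rTensor]
    rw [this, hz]
  obtain ⟨w, hw⟩ := (rTensor_exact F hjρ hρ _).mp h1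
  -- push w to L ⊗ X
  have h2 : (LinearMap.rTensor X j) ((LinearMap.lTensor L π) w) = 0 := by
    have : (LinearMap.rTensor X j) ((LinearMap.lTensor L π) w) =
        (LinearMap.lTensor G π) ((LinearMap.rTensor F j) w) := by
      rw [← LinearMap.comp_apply, ← LinearMap.comp_apply, LinearMap.rTensor_comp_lTensor,
        LinearMap.lTensor_comp_rTensor]
    rw [this, hw, ← LinearMap.comp_apply, ← LinearMap.lTensor_comp]
    have hπι : π ∘ₗ ι = 0 := by
      ext k
      exact hιπ.apply_apply_eq_zero k
    rw [hπι, LinearMap.lTensor_zero, LinearMap.zero_apply]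
  have h3 : (LinearMap.lTensor L π) w = 0 := (injective_iff_map_eq_zero _).mp h _ h2
  obtain ⟨v, rfl⟩ := (lTensor_exact L hιπ hπ _).mp h3
  have h4 : (LinearMap.lTensor G ι) ((LinearMap.rTensor K j) v) = (LinearMap.lTensor G ι) y := by
    rw [← hw, ← LinearMap.comp_apply, ← LinearMap.comp_apply, LinearMap.lTensor_comp_rTensor,
      LinearMap.rTensor_comp_lTensor]
  have h5 : (LinearMap.rTensor K j) v = y :=
    Module.Flat.lTensor_preserves_injective_linearMap ι hι h4
  rw [← h5, ← LinearMap.comp_apply, ← LinearMap.rTensor_comp]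
  have hρj : ρ ∘ₗ j = 0 := by
    ext l
    exact hjρ.apply_apply_eq_zero l
  rw [hρj, LinearMap.rTensor_zero, LinearMap.zero_apply]

theorem rTensor_inj_of_lTensor_inj [Module.Flat R F]
    (j : L →ₗ[R] G) (ρ : G →ₗ[R] M) (hj : Function.Injective j) (hρ : Function.Surjective ρ)
    (hjρ : Function.Exact j ρ)
    (ι : K →ₗ[R] F) (π : F →ₗ[R] X) (hπ : Function.Surjective π) (hιπ : Function.Exact ι π)
    (h : Function.Injective (LinearMap.lTensor M ι)) :
    Function.Injective (LinearMap.rTensor X j) := by
  rw [← LinearMap.lTensor_inj_iff_rTensor_inj]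
  exact lTensor_inj_of_rTensor_inj ι π hπ hιπ j ρ hj hρ hjρ
    ((LinearMap.lTensor_inj_iff_rTensor_inj _ _).mp h)

theorem rTensor_inj_of_exact [Module.Flat R G] (j : L →ₗ[R] G)
    {X' X'' : Type u} [AddCommGroup X'] [AddCommGroup X''] [Module R X'] [Module R X'']
    (i : X' →ₗ[R] X) (q : X →ₗ[R] X'') (hi : Function.Injective i) (hq : Function.Surjective q)
    (hiq : Function.Exact i q)
    (h' : Function.Injective (LinearMap.rTensor X' j))
    (h'' : Function.Injective (LinearMap.rTensor X'' j)) :
    Function.Injective (LinearMap.rTensor X j) := by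
  rw [injective_iff_map_eq_zero]
  intro z hz
  have h1 : (LinearMap.rTensor X'' j) ((LinearMap.lTensor L q) z) = 0 := by
    have : (LinearMap.rTensor X'' j) ((LinearMap.lTensor L q) z) =
        (LinearMap.lTensor G q) ((LinearMap.rTensor X j) z) := by
      rw [← LinearMap.comp_apply, ← LinearMap.comp_apply, LinearMap.rTensor_comp_lTensor,
        LinearMap.lTensor_comp_rTensor]
    rw [this, hz, map_zero]
  have h2 : (LinearMap.lTensor L q) z = 0 := (injective_iff_map_eq_zero _).mp h'' _ h1
  obtain ⟨y, rfl⟩ := (lTensor_exact L hiq hq _).mp h2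
  have h3 : (LinearMap.lTensor G i) ((LinearMap.rTensor X' j) y) = 0 := by
    have : (LinearMap.lTensor G i) ((LinearMap.rTensor X' j) y) =
        (LinearMap.rTensor X j) ((LinearMap.lTensor L i) y) := by
      rw [← LinearMap.comp_apply, ← LinearMap.comp_apply, LinearMap.rTensor_comp_lTensor,
        LinearMap.lTensor_comp_rTensor]
    rw [this, hz]
  have h4 : (LinearMap.rTensor X' j) y = 0 :=
    (injective_iff_map_eq_zero _).mp
      (Module.Flat.lTensor_preserves_injective_linearMap i hi) _ h3
  have h5 : y = 0 := (injective_iff_map_eq_zero _).mp h' _ h4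
  rw [h5, map_zero]

end chase

section main

open CategoryTheory CategoryTheory.Limits MonoidalCategory

theorem flat_of_tor1_primes_aux (A : Type u) [CommRing A] [IsNoetherianRing A] (M : Type u)
    [AddCommGroup M] [Module A M]
    {L G : Type u} [AddCommGroup L] [AddCommGroup G] [Module A L] [Module A G] [Module.Flat A G]
    (j : L →ₗ[A] G) (ρ : G →ₗ[A] M) (hj : Function.Injective j) (hρ : Function.Surjective ρ)
    (hjρ : Function.Exact j ρ)
    (h : ∀ p : Ideal A, p.IsPrime →
      IsZero (((Tor (ModuleCat.{u} A) 1).obj (ModuleCat.of A M)).obj (ModuleCat.of A (A ⧸ p)))) :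
    Module.Flat A M := by
  -- the key property for all finite modules
  have key : ∀ (X : Type u) [AddCommGroup X] [Module A X] [Module.Finite A X],
      Function.Injective (LinearMap.rTensor X j) := by
    intro X _ _ hX
    induction hX using IsNoetherianRing.induction_on_isQuotientEquivQuotientPrime A with
    | subsingleton N =>
      intro a b _
      exact Subsingleton.elim a b
    | quotient N p f =>
      -- first for `A ⧸ p`
      have hQ : Function.Injective (LinearMap.rTensor (A ⧸ p.asIdeal) j) := by
        let P : ProjectiveResolution (ModuleCat.of A (A ⧸ p.asIdeal)) :=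
          (HasProjectiveResolution.out (Z := ModuleCat.of A (A ⧸ p.asIdeal))).some
        have h0 := (H9TorLF.tor1_isZero_iff (ModuleCat.of A M) _ P).mp (h p.asIdeal p.2)
        let π : P.complex.X 0 →ₗ[A] (A ⧸ p.asIdeal) := (P.π.f 0).hom
        have hπ : Function.Surjective π :=
          (ModuleCat.epi_iff_surjective (P.π.f 0)).mp inferInstance
        have hker : LinearMap.range (P.complex.d 1 0).hom = LinearMap.ker π :=
          (ShortComplex.moduleCat_exact_iff_range_eq_ker _).mp P.exact₀
        have hex : Function.Exact (LinearMap.range (P.complex.d 1 0).hom).subtype π := by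
          rw [LinearMap.exact_iff, Submodule.range_subtype]
          exact hker.symm
        haveI : Module.Projective A (P.complex.X 0) :=
          (IsProjective.iff_projective (R := A) (P := P.complex.X 0)).mpr (P.projective 0)
        haveI : Module.Flat A (P.complex.X 0) := inferInstance
        exact rTensor_inj_of_lTensor_inj j ρ hj hρ hjρ _ π hπ hex h0
      -- transport along `f`
      have hcomm : (LinearMap.lTensor G (f : N →ₗ[A] A ⧸ p.asIdeal)) ∘ₗ
          (LinearMap.rTensor N j) =
          (LinearMap.rTensor (A ⧸ p.asIdeal) j) ∘ₗ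
            (LinearMap.lTensor L (f : N →ₗ[A] A ⧸ p.asIdeal)) := by
        rw [LinearMap.lTensor_comp_rTensor, LinearMap.rTensor_comp_lTensor]
      have hinj : Function.Injective ((LinearMap.lTensor G (f : N →ₗ[A] A ⧸ p.asIdeal)) ∘ₗ
          (LinearMap.rTensor N j)) := by
        rw [hcomm]
        refine hQ.comp ?_
        exact (LinearEquiv.lTensor L f).injective
      exact Function.Injective.of_comp hinj
    | exact N₁ N₂ N₃ f g hf hg hfg h₁ h₃ =>
      exact rTensor_inj_of_exact j f g hf hg hfg h₁ h₃
  rw [Module.Flat.iff_lTensor_injective']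
  intro I
  exact lTensor_inj_of_rTensor_inj j ρ hρ hjρ I.subtype I.mkQ (Submodule.injective_subtype _)
    (Submodule.mkQ_surjective _) (LinearMap.exact_subtype_mkQ I) (key (A ⧸ I))

theorem flat_of_tor1_primes (A : Type u) [CommRing A] [IsNoetherianRing A] (M : Type u)
    [AddCommGroup M] [Module A M]
    (h : ∀ p : Ideal A, p.IsPrime →
      IsZero (((Tor (ModuleCat.{u} A) 1).obj (ModuleCat.of A M)).obj (ModuleCat.of A (A ⧸ p)))) :
    Module.Flat A M := by
  have hpres : ∃ (G : Type u) (_ : AddCommGroup G) (_ : Module A G) (_ : Module.Flat A G)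
      (ρ : G →ₗ[A] M), Function.Surjective ρ :=
    ⟨M →₀ A, inferInstance, inferInstance, inferInstance,
      Finsupp.linearCombination A (id : M → M), Finsupp.linearCombination_id_surjective A M⟩
  obtain ⟨G, _, _, _, ρ, hρ⟩ := hpres
  exact flat_of_tor1_primes_aux A M (LinearMap.ker ρ).subtype ρ (Submodule.injective_subtype _) hρ
    (LinearMap.exact_subtype_ker_map ρ) h

end main

section more

open CategoryTheory CategoryTheory.Limits MonoidalCategory

/-- `Tor₁(M, X) = 0` iff `L ⊗ X → G ⊗ X` is injective, for a flat presentation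
`0 → L → G → M → 0` of `M`. -/
theorem tor1_isZero_iff_rTensor_inj (A : Type u) [CommRing A] (M X : Type u)
    [AddCommGroup M] [Module A M] [AddCommGroup X] [Module A X]
    {L G : Type u} [AddCommGroup L] [AddCommGroup G] [Module A L] [Module A G] [Module.Flat A G]
    (j : L →ₗ[A] G) (ρ : G →ₗ[A] M) (hj : Function.Injective j) (hρ : Function.Surjective ρ)
    (hjρ : Function.Exact j ρ) :
    IsZero (((Tor (ModuleCat.{u} A) 1).obj (ModuleCat.of A M)).obj (ModuleCat.of A X)) ↔
      Function.Injective (LinearMap.rTensor X j) := by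
  let P : ProjectiveResolution (ModuleCat.of A X) :=
    (HasProjectiveResolution.out (Z := ModuleCat.of A X)).some
  rw [H9TorLF.tor1_isZero_iff (ModuleCat.of A M) _ P]
  let π : P.complex.X 0 →ₗ[A] X := (P.π.f 0).hom
  have hπ : Function.Surjective π :=
    (ModuleCat.epi_iff_surjective (P.π.f 0)).mp inferInstance
  have hker : LinearMap.range (P.complex.d 1 0).hom = LinearMap.ker π :=
    (ShortComplex.moduleCat_exact_iff_range_eq_ker _).mp P.exact₀
  have hex : Function.Exact (LinearMap.range (P.complex.d 1 0).hom).subtype π := by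
    rw [LinearMap.exact_iff, Submodule.range_subtype]
    exact hker.symm
  haveI : Module.Projective A (P.complex.X 0) :=
    (IsProjective.iff_projective (R := A) (P := P.complex.X 0)).mpr (P.projective 0)
  haveI : Module.Flat A (P.complex.X 0) := inferInstance
  constructor
  · intro h0
    exact rTensor_inj_of_lTensor_inj j ρ hj hρ hjρ _ π hπ hex h0
  · intro h0
    exact lTensor_inj_of_rTensor_inj j ρ hρ hjρ _ π (Submodule.injective_subtype _) hπ hex h0

/-- `M` is flat iff `Tor₁(M, R/I) = 0` for all finitely generated ideals `I`. -/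
theorem flat_of_tor1_fg (A : Type u) [CommRing A] (M : Type u)
    [AddCommGroup M] [Module A M]
    (h : ∀ I : Ideal A, I.FG →
      IsZero (((Tor (ModuleCat.{u} A) 1).obj (ModuleCat.of A M)).obj (ModuleCat.of A (A ⧸ I)))) :
    Module.Flat A M := by
  have hpres : ∃ (G : Type u) (_ : AddCommGroup G) (_ : Module A G) (_ : Module.Flat A G)
      (ρ : G →ₗ[A] M), Function.Surjective ρ :=
    ⟨M →₀ A, inferInstance, inferInstance, inferInstance,
      Finsupp.linearCombination A (id : M → M), Finsupp.linearCombination_id_surjective A M⟩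
  obtain ⟨G, _, _, _, ρ, hρ⟩ := hpres
  rw [Module.Flat.iff_lTensor_injective]
  intro I hI
  have h1 := (tor1_isZero_iff_rTensor_inj A M (A ⧸ I) (LinearMap.ker ρ).subtype ρ
    (Submodule.injective_subtype _) hρ (LinearMap.exact_subtype_ker_map ρ)).mp (h I hI)
  exact lTensor_inj_of_rTensor_inj (LinearMap.ker ρ).subtype ρ hρ
    (LinearMap.exact_subtype_ker_map ρ) I.subtype I.mkQ (Submodule.injective_subtype _)
    (Submodule.mkQ_surjective _) (LinearMap.exact_subtype_mkQ I) h1

end more

section finlen

open CategoryTheory CategoryTheory.Limits MonoidalCategory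

variable {R : Type u} [CommRing R]
variable {K F : Type u} [AddCommGroup K] [AddCommGroup F] [Module R K] [Module R F]

theorem lTensor_inj_of_exact [Module.Flat R F] (ι : K →ₗ[R] F)
    {N' N N'' : Type u} [AddCommGroup N'] [AddCommGroup N] [AddCommGroup N'']
    [Module R N'] [Module R N] [Module R N'']
    (i : N' →ₗ[R] N) (q : N →ₗ[R] N'') (hi : Function.Injective i) (hq : Function.Surjective q)
    (hiq : Function.Exact i q)
    (h' : Function.Injective (LinearMap.lTensor N' ι))
    (h'' : Function.Injective (LinearMap.lTensor N'' ι)) :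
    Function.Injective (LinearMap.lTensor N ι) := by
  rw [LinearMap.lTensor_inj_iff_rTensor_inj] at h' h'' ⊢
  exact rTensor_inj_of_exact ι i q hi hq hiq h' h''

theorem lTensor_inj_of_equiv (ι : K →ₗ[R] F)
    {N N' : Type u} [AddCommGroup N] [AddCommGroup N'] [Module R N] [Module R N']
    (e : N ≃ₗ[R] N') (h : Function.Injective (LinearMap.lTensor N' ι)) :
    Function.Injective (LinearMap.lTensor N ι) := by
  have hcomm : (LinearMap.rTensor F (e : N →ₗ[R] N')) ∘ₗ (LinearMap.lTensor N ι) =
      (LinearMap.lTensor N' ι) ∘ₗ (LinearMap.rTensor K (e : N →ₗ[R] N')) := by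
    rw [LinearMap.rTensor_comp_lTensor, LinearMap.lTensor_comp_rTensor]
  have hinj : Function.Injective ((LinearMap.rTensor F (e : N →ₗ[R] N')) ∘ₗ
      (LinearMap.lTensor N ι)) := by
    rw [hcomm]
    exact h.comp (LinearEquiv.rTensor K e).injective
  exact Function.Injective.of_comp hinj

theorem lTensor_inj_of_finiteLength [IsLocalRing R] [Module.Flat R F] (ι : K →ₗ[R] F)
    (h : Function.Injective (LinearMap.lTensor (R ⧸ IsLocalRing.maximalIdeal R) ι))
    (N : Type u) [AddCommGroup N] [Module R N] (hN : IsFiniteLength R N) :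
    Function.Injective (LinearMap.lTensor N ι) := by
  induction hN with
  | of_subsingleton =>
    intro a b _
    exact Subsingleton.elim a b
  | @of_simple_quotient N' _ _ S hS _ ih =>
    obtain ⟨I, hI, ⟨e⟩⟩ := isSimpleModule_iff_quot_maximal.mp hS
    have hIm : I = IsLocalRing.maximalIdeal R := IsLocalRing.eq_maximalIdeal hI
    subst hIm
    have h'' : Function.Injective (LinearMap.lTensor (N' ⧸ S) ι) := lTensor_inj_of_equiv ι e h
    exact lTensor_inj_of_exact ι S.subtype S.mkQ (Submodule.injective_subtype _)
      (Submodule.mkQ_surjective _) (LinearMap.exact_subtype_mkQ S) ih h''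

theorem tor1_of_finiteLength (R : Type u) [CommRing R] [IsLocalRing R]
    (M : Type u) [AddCommGroup M] [Module R M]
    (h : IsZero (((Tor (ModuleCat.{u} R) 1).obj
      (ModuleCat.of R (IsLocalRing.ResidueField R))).obj (ModuleCat.of R M)))
    (N : Type u) [AddCommGroup N] [Module R N] (hN : IsFiniteLength R N) :
    IsZero (((Tor (ModuleCat.{u} R) 1).obj (ModuleCat.of R N)).obj (ModuleCat.of R M)) := by
  let P : ProjectiveResolution (ModuleCat.of R M) :=
    (HasProjectiveResolution.out (Z := ModuleCat.of R M)).some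
  rw [H9TorLF.tor1_isZero_iff _ _ P] at h ⊢
  haveI : Module.Projective R (P.complex.X 0) :=
    (IsProjective.iff_projective (R := R) (P := P.complex.X 0)).mpr (P.projective 0)
  haveI : Module.Flat R (P.complex.X 0) := inferInstance
  exact lTensor_inj_of_finiteLength _ h N hN

end finlen

end Groth.Agent.H9TorBal
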