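import Mathlib
import Groth.Agent.Lib.helper9.H9_PdRes
import Groth.Agent.Lib.helper9.H9_TorBal

/-! Dimension shifting for left derived functors via splicing of resolutions, and applications
to `Tor` over Noetherian (local) rings. -/

namespace Groth.Agent.H9TorShift

open CategoryTheory CategoryTheory.Limits

universe u v

section splice

variable {C : Type u} [Category.{v} C] [Abelian C]

/-- Splice a projective resolution of the kernel with a projective cover. -/
theorem exists_splice' {M K F : C} [Projective F] (ι : K ⟶ F) (p : F ⟶ M) [Mono ι] [Epi p]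
    (w : ι ≫ p = 0) (hex : (ShortComplex.mk ι p w).Exact) (Q : ProjectiveResolution K) :
    ∃ (P : ProjectiveResolution M) (f : Q.complex.X 0 ⟶ F) (w' : Q.complex.d 1 0 ≫ f = 0),
      P.complex = ChainComplex.augment Q.complex f w' := by
  obtain ⟨q, hq0, hqepi, hqex⟩ : ∃ q : Q.complex.X 0 ⟶ K, ∃ (h0 : Q.complex.d 1 0 ≫ q = 0),
      Epi q ∧ (ShortComplex.mk (Q.complex.d 1 0) q h0).Exact :=
    ⟨Q.π.f 0, Q.complex_d_comp_π_f_zero, (inferInstance : Epi (Q.π.f 0)), Q.exact₀⟩
  have w' : Q.complex.d 1 0 ≫ (q ≫ ι) = 0 := by
    rw [← Category.assoc, hq0, zero_comp]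
  let D : ChainComplex C ℕ := ChainComplex.augment Q.complex (q ≫ ι) w'
  have hd10 : D.d 1 0 = q ≫ ι := rfl
  have hproj : ∀ n, Projective (D.X n) := by
    intro n
    cases n with
    | zero => exact (inferInstance : Projective F)
    | succ n => exact Q.projective n
  let π : D ⟶ (ChainComplex.single₀ C).obj M :=
    (ChainComplex.toSingle₀Equiv _ _).symm ⟨p, by
      change (q ≫ ι) ≫ p = 0
      rw [Category.assoc, w, comp_zero]⟩
  have hq : QuasiIso π := by
    refine ⟨fun n => ?_⟩
    cases n with
    | zero =>
      rw [ChainComplex.quasiIsoAt₀_iff, ShortComplex.quasiIso_iff_of_zeros' _ rfl rfl rfl]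
      have hw2 : (q ≫ ι) ≫ p = 0 := by rw [Category.assoc, w, comp_zero]
      have hex2 : (ShortComplex.mk (q ≫ ι) p hw2).Exact := by
        let α : ShortComplex.mk (q ≫ ι) p hw2 ⟶ ShortComplex.mk ι p w :=
          { τ₁ := q
            τ₂ := 𝟙 _
            τ₃ := 𝟙 _ }
        rw [ShortComplex.exact_iff_of_epi_of_isIso_of_mono α]
        exact hex
      refine (ShortComplex.exact_and_epi_g_iff_of_iso ?_).2 ⟨hex2, (inferInstance : Epi p)⟩
      exact ShortComplex.isoMk (Iso.refl _) (Iso.refl _) (Iso.refl _)
        (by
          simp [D]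
          exact (Category.id_comp _).trans (Category.comp_id _).symm)
        (by
          simp [π, ChainComplex.toSingle₀Equiv]
          exact (Category.id_comp _).trans (Category.comp_id _).symm)
    | succ n =>
      rw [quasiIsoAt_iff_exactAt' (hL := ChainComplex.exactAt_succ_single_obj ..),
        HomologicalComplex.exactAt_iff' _ (n + 2) (n + 1) n (by simp) (by simp)]
      cases n with
      | zero =>
        have hex3 : (ShortComplex.mk (Q.complex.d 1 0) (q ≫ ι) w').Exact := by
          let α : ShortComplex.mk (Q.complex.d 1 0) q hq0 ⟶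
              ShortComplex.mk (Q.complex.d 1 0) (q ≫ ι) w' :=
            { τ₁ := 𝟙 _
              τ₂ := 𝟙 _
              τ₃ := ι }
          rw [← ShortComplex.exact_iff_of_epi_of_isIso_of_mono α]
          exact hqex
        exact hex3
      | succ n => exact Q.exact_succ n
  exact ⟨{ complex := D, projective := hproj, π := π, quasiIso := hq }, q ≫ ι, w', rfl⟩


theorem leftDerived_shift_iff {D : Type*} [Category D] [Abelian D] [HasProjectiveResolutions C]
    (G : C ⥤ D) [G.Additive] {M K F : C} [Projective F] (ι : K ⟶ F) (p : F ⟶ M) [Mono ι] [Epi p]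
    (w : ι ≫ p = 0) (hex : (ShortComplex.mk ι p w).Exact) (n : ℕ) :
    IsZero ((G.leftDerived (n + 2)).obj M) ↔ IsZero ((G.leftDerived (n + 1)).obj K) := by
  let Q : ProjectiveResolution K := (HasProjectiveResolution.out (Z := K)).some
  obtain ⟨P, f, w', hP⟩ := exists_splice' ι p w hex Q
  rw [(P.isoLeftDerivedObj G (n + 2)).isZero_iff, (Q.isoLeftDerivedObj G (n + 1)).isZero_iff]
  change IsZero (((G.mapHomologicalComplex _).obj P.complex).homology (n + 2)) ↔
    IsZero (((G.mapHomologicalComplex _).obj Q.complex).homology (n + 1))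
  rw [← HomologicalComplex.exactAt_iff_isZero_homology,
    ← HomologicalComplex.exactAt_iff_isZero_homology, hP]
  rw [HomologicalComplex.exactAt_iff' _ (n + 3) (n + 2) (n + 1) (by simp) (by simp),
    HomologicalComplex.exactAt_iff' _ (n + 2) (n + 1) n (by simp) (by simp)]
  exact Iff.rfl

end splice

section local_

open MonoidalCategory

variable (A : Type u) [CommRing A]

/-- categorical short exact data from a surjection from a projective module -/
theorem ses_of_surjective {F M : Type u} [AddCommGroup F] [AddCommGroup M] [Module A F]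
    [Module A M] (π : F →ₗ[A] M) (hπ : Function.Surjective π) :
    ∃ (w : ModuleCat.ofHom (LinearMap.ker π).subtype ≫ ModuleCat.ofHom π = 0),
      Mono (ModuleCat.ofHom (LinearMap.ker π).subtype) ∧ Epi (ModuleCat.ofHom π) ∧
      (ShortComplex.mk (ModuleCat.ofHom (LinearMap.ker π).subtype) (ModuleCat.ofHom π) w).Exact := by
  have w : ModuleCat.ofHom (LinearMap.ker π).subtype ≫ ModuleCat.ofHom π = 0 := by
    ext x
    exact x.2
  refine ⟨w, ?_, ?_, ?_⟩
  · exact (ModuleCat.mono_iff_injective _).mpr (Submodule.injective_subtype _)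
  · exact (ModuleCat.epi_iff_surjective _).mpr hπ
  · rw [ShortComplex.moduleCat_exact_iff_range_eq_ker]
    exact Submodule.range_subtype _

theorem pd_of_tor_residue [IsLocalRing A] [IsNoetherianRing A] :
    ∀ (n : ℕ) (M : Type u) [AddCommGroup M] [Module A M] [Module.Finite A M],
      IsZero (((Tor (ModuleCat.{u} A) (n + 1)).obj
        (ModuleCat.of A (IsLocalRing.ResidueField A))).obj (ModuleCat.of A M)) →
      HasProjectiveDimensionLT (ModuleCat.of A M) (n + 1) := by
  intro n
  induction n with
  | zero =>
    intro M _ _ _ h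
    obtain ⟨m, π, hπ⟩ := Module.Finite.exists_fin' A M
    have h1 := (H9TorBal.tor1_isZero_iff_rTensor_inj A (IsLocalRing.ResidueField A) M
      (IsLocalRing.maximalIdeal A).subtype (IsLocalRing.maximalIdeal A).mkQ
      (Submodule.injective_subtype _) (Submodule.mkQ_surjective _)
      (LinearMap.exact_subtype_mkQ _)).mp h
    have h2 : Function.Injective (LinearMap.lTensor (IsLocalRing.ResidueField A)
        (LinearMap.ker π).subtype) :=
      H9TorBal.lTensor_inj_of_rTensor_inj (IsLocalRing.maximalIdeal A).subtype
        (IsLocalRing.maximalIdeal A).mkQ (Submodule.mkQ_surjective _)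
        (LinearMap.exact_subtype_mkQ _) (LinearMap.ker π).subtype π
        (Submodule.injective_subtype _) hπ (LinearMap.exact_subtype_ker_map π) h1
    haveI : Module.Free A M :=
      Module.free_of_lTensor_residueField_injective (LinearMap.ker π).subtype π hπ
        (LinearMap.exact_subtype_ker_map π) h2
    haveI : Projective (ModuleCat.of A M) :=
      (IsProjective.iff_projective (R := A) (P := M)).mp inferInstance
    infer_instance
  | succ n ih =>
    intro M _ _ _ h
    obtain ⟨m, π, hπ⟩ := Module.Finite.exists_fin' A M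
    obtain ⟨w, hmono, hepi, hex⟩ := ses_of_surjective A π hπ
    haveI : Projective (ModuleCat.of A (Fin m → A)) :=
      (IsProjective.iff_projective (R := A) (P := Fin m → A)).mp inferInstance
    have hK := (leftDerived_shift_iff ((tensoringLeft (ModuleCat.{u} A)).obj
      (ModuleCat.of A (IsLocalRing.ResidueField A))) _ _ w hex n).mp h
    have hpdK := ih (LinearMap.ker π) hK
    have hS : (ShortComplex.mk (ModuleCat.ofHom (LinearMap.ker π).subtype) (ModuleCat.ofHom π)
        w).ShortExact := { exact := hex, mono_f := hmono, epi_g := hepi }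
    have hF : HasProjectiveDimensionLT (ModuleCat.of A (Fin m → A)) (n + 1 + 1) :=
      hasProjectiveDimensionLT_of_ge _ 1 _ (by omega)
    exact hS.hasProjectiveDimensionLT_X₃ (n + 1) hpdK hF

end local_

section finite

open MonoidalCategory

variable (R : Type u) [CommRing R] [IsNoetherianRing R]

theorem finite_homology (S : ShortComplex (ModuleCat.{u} R)) [Module.Finite R S.X₂] :
    Module.Finite R S.homology := by
  haveI : Module.Finite R (LinearMap.ker S.g.hom) := inferInstance
  have e : S.cycles ≅ ModuleCat.of R (LinearMap.ker S.g.hom) := S.moduleCatCyclesIso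
  haveI : Module.Finite R S.cycles := Module.Finite.equiv e.symm.toLinearEquiv
  exact Module.Finite.of_surjective S.homologyπ.hom
    ((ModuleCat.epi_iff_surjective _).mp inferInstance)

/-- Over a Noetherian ring, a finite module has a projective resolution whose terms are finite
up to any given degree. -/
theorem exists_res_finite_upto : ∀ (p : ℕ) (N : Type u) [AddCommGroup N] [Module R N]
    [Module.Finite R N], ∃ P : ProjectiveResolution (ModuleCat.of R N),
      ∀ i, i ≤ p → Module.Finite R (P.complex.X i) := by
  intro p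
  induction p with
  | zero =>
    intro N _ _ _
    obtain ⟨m, π, hπ⟩ := Module.Finite.exists_fin' R N
    obtain ⟨w, hmono, hepi, hex⟩ := ses_of_surjective R π hπ
    haveI : Projective (ModuleCat.of R (Fin m → R)) :=
      (IsProjective.iff_projective (R := R) (P := Fin m → R)).mp inferInstance
    let Q : ProjectiveResolution (ModuleCat.of R (LinearMap.ker π)) :=
      (HasProjectiveResolution.out (Z := ModuleCat.of R (LinearMap.ker π))).some
    obtain ⟨P, f, w', hP⟩ := exists_splice' _ _ w hex Q
    refine ⟨P, fun i hi => ?_⟩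
    obtain rfl : i = 0 := by omega
    have h0 : P.complex.X 0 = ModuleCat.of R (Fin m → R) := congrArg (fun C => C.X 0) hP
    have e : P.complex.X 0 ≅ ModuleCat.of R (Fin m → R) := eqToIso h0
    exact Module.Finite.equiv e.symm.toLinearEquiv
  | succ p ih =>
    intro N _ _ _
    obtain ⟨m, π, hπ⟩ := Module.Finite.exists_fin' R N
    obtain ⟨w, hmono, hepi, hex⟩ := ses_of_surjective R π hπ
    haveI : Projective (ModuleCat.of R (Fin m → R)) :=
      (IsProjective.iff_projective (R := R) (P := Fin m → R)).mp inferInstance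
    obtain ⟨Q, hQ⟩ := ih (LinearMap.ker π)
    obtain ⟨P, f, w', hP⟩ := exists_splice' _ _ w hex Q
    refine ⟨P, fun i hi => ?_⟩
    cases i with
    | zero =>
      have h0 : P.complex.X 0 = ModuleCat.of R (Fin m → R) := congrArg (fun C => C.X 0) hP
      have e : P.complex.X 0 ≅ ModuleCat.of R (Fin m → R) := eqToIso h0
      exact Module.Finite.equiv e.symm.toLinearEquiv
    | succ i =>
      have h0 : P.complex.X (i + 1) = Q.complex.X i := congrArg (fun C => C.X (i + 1)) hP
      have e : P.complex.X (i + 1) ≅ Q.complex.X i := eqToIso h0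
      haveI := hQ i (by omega)
      exact Module.Finite.equiv e.symm.toLinearEquiv

theorem finite_tor (M N : Type u) [AddCommGroup M] [Module R M] [AddCommGroup N] [Module R N]
    [Module.Finite R M] [Module.Finite R N] (p : ℕ) :
    Module.Finite R (((Tor (ModuleCat.{u} R) p).obj (ModuleCat.of R M)).obj (ModuleCat.of R N)) := by
  obtain ⟨P, hP⟩ := exists_res_finite_upto R p N
  have e := P.isoLeftDerivedObj ((tensoringLeft (ModuleCat.{u} R)).obj (ModuleCat.of R M)) p
  haveI := hP p le_rfl
  haveI : Module.Finite R ((((((tensoringLeft (ModuleCat.{u} R)).obj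
      (ModuleCat.of R M)).mapHomologicalComplex (ComplexShape.down ℕ)).obj P.complex).sc p).X₂) :=
    (inferInstance : Module.Finite R (TensorProduct R M (P.complex.X p)))
  haveI hfin : Module.Finite R ((((((tensoringLeft (ModuleCat.{u} R)).obj
      (ModuleCat.of R M)).mapHomologicalComplex (ComplexShape.down ℕ)).obj P.complex).sc
        p).homology) := finite_homology R _
  haveI : Module.Finite R ((HomologicalComplex.homologyFunctor (ModuleCat.{u} R)
      (ComplexShape.down ℕ) p).obj ((((tensoringLeft (ModuleCat.{u} R)).obj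
      (ModuleCat.of R M)).mapHomologicalComplex (ComplexShape.down ℕ)).obj P.complex)) := hfin
  exact Module.Finite.equiv e.symm.toLinearEquiv

end finite

section regular

open MonoidalCategory

variable (A : Type u) [CommRing A]

theorem ses_of_exact {K F M : Type u} [AddCommGroup K] [AddCommGroup F] [AddCommGroup M]
    [Module A K] [Module A F] [Module A M] (ι : K →ₗ[A] F) (π : F →ₗ[A] M)
    (hι : Function.Injective ι) (hπ : Function.Surjective π) (hex : Function.Exact ι π) :
    ∃ (w : ModuleCat.ofHom ι ≫ ModuleCat.ofHom π = 0),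
      Mono (ModuleCat.ofHom ι) ∧ Epi (ModuleCat.ofHom π) ∧
      (ShortComplex.mk (ModuleCat.ofHom ι) (ModuleCat.ofHom π) w).Exact := by
  have w : ModuleCat.ofHom ι ≫ ModuleCat.ofHom π = 0 := by
    ext x
    exact hex.apply_apply_eq_zero x
  refine ⟨w, ?_, ?_, ?_⟩
  · exact (ModuleCat.mono_iff_injective _).mpr hι
  · exact (ModuleCat.epi_iff_surjective _).mpr hπ
  · rw [ShortComplex.moduleCat_exact_iff_range_eq_ker]
    exact (LinearMap.exact_iff.mp hex).symm

/-- `Tor₁(M₁, X) = 0` iff `M₁ ⊗ K → M₁ ⊗ F` is injective, for a flat presentation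
`0 → K → F → X → 0` of the second variable. -/
theorem tor1_isZero_iff_lTensor_inj (M₁ X : Type u) [AddCommGroup M₁] [Module A M₁]
    [AddCommGroup X] [Module A X]
    {K F : Type u} [AddCommGroup K] [AddCommGroup F] [Module A K] [Module A F] [Module.Flat A F]
    (ι : K →ₗ[A] F) (π : F →ₗ[A] X) (hι : Function.Injective ι) (hπ : Function.Surjective π)
    (hιπ : Function.Exact ι π) :
    IsZero (((Tor (ModuleCat.{u} A) 1).obj (ModuleCat.of A M₁)).obj (ModuleCat.of A X)) ↔
      Function.Injective (LinearMap.lTensor M₁ ι) := by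
  have hpres : ∃ (G : Type u) (_ : AddCommGroup G) (_ : Module A G) (_ : Module.Flat A G)
      (ρ : G →ₗ[A] M₁), Function.Surjective ρ :=
    ⟨M₁ →₀ A, inferInstance, inferInstance, inferInstance,
      Finsupp.linearCombination A (id : M₁ → M₁), Finsupp.linearCombination_id_surjective A M₁⟩
  obtain ⟨G, _, _, _, ρ, hρ⟩ := hpres
  rw [H9TorBal.tor1_isZero_iff_rTensor_inj A M₁ X (LinearMap.ker ρ).subtype ρ
    (Submodule.injective_subtype _) hρ (LinearMap.exact_subtype_ker_map ρ)]
  constructor
  · intro h
    exact H9TorBal.lTensor_inj_of_rTensor_inj _ ρ hρ (LinearMap.exact_subtype_ker_map ρ) ι π hι hπ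
      hιπ h
  · intro h
    exact H9TorBal.rTensor_inj_of_lTensor_inj _ ρ (Submodule.injective_subtype _) hρ
      (LinearMap.exact_subtype_ker_map ρ) ι π hπ hιπ h

theorem tor_quot_regular (M : Type u) [AddCommGroup M] [Module A M]
    (x : A) (hxR : IsSMulRegular A x) (hxM : IsSMulRegular M x) (i : ℕ) (hi : 1 ≤ i) :
    IsZero (((Tor (ModuleCat.{u} A) i).obj (ModuleCat.of A M)).obj
      (ModuleCat.of A (A ⧸ Ideal.span {x}))) := by
  have hι : Function.Injective (LinearMap.lsmul A A x) := hxR
  have hπ : Function.Surjective (Ideal.span {x}).mkQ := Submodule.mkQ_surjective _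
  have hex : Function.Exact (LinearMap.lsmul A A x) (Ideal.span {x}).mkQ := by
    rw [LinearMap.exact_iff, Submodule.ker_mkQ]
    ext y
    rw [Ideal.mem_span_singleton', LinearMap.mem_range]
    constructor
    · rintro ⟨a, rfl⟩
      exact ⟨a, by simp [mul_comm]⟩
    · rintro ⟨a, rfl⟩
      exact ⟨a, by simp [mul_comm]⟩
  obtain ⟨n, rfl⟩ : ∃ n, i = n + 1 := ⟨i - 1, by omega⟩
  cases n with
  | zero =>
    rw [tor1_isZero_iff_lTensor_inj A M (A ⧸ Ideal.span {x}) (LinearMap.lsmul A A x)
      (Ideal.span {x}).mkQ hι hπ hex]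
    have h1 : ∀ z : TensorProduct A M A,
        (LinearMap.lTensor M (LinearMap.lsmul A A x)) z = x • z := by
      intro z
      induction z using TensorProduct.induction_on with
      | zero => simp
      | add a b ha hb => rw [map_add, ha, hb, smul_add]
      | tmul m r =>
        rw [LinearMap.lTensor_tmul, TensorProduct.smul_tmul', TensorProduct.smul_tmul]
        rfl
    rw [injective_iff_map_eq_zero]
    intro z hz
    rw [h1] at hz
    have h2 : x • (TensorProduct.rid A M z) = 0 := by rw [← map_smul, hz, map_zero]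
    have h3 : TensorProduct.rid A M z = 0 := hxM (by
      show x • _ = x • (0 : M)
      rw [h2, smul_zero])
    exact (TensorProduct.rid A M).injective (by rw [h3, map_zero])
  | succ n =>
    obtain ⟨w, hmono, hepi, hex'⟩ := ses_of_exact A _ _ hι hπ hex
    haveI : Projective (ModuleCat.of A A) :=
      (IsProjective.iff_projective (R := A) (P := A)).mp inferInstance
    rw [show ((Tor (ModuleCat.{u} A) (n + 1 + 1)).obj (ModuleCat.of A M)).obj
        (ModuleCat.of A (A ⧸ Ideal.span {x})) =
      (((tensoringLeft (ModuleCat.{u} A)).obj (ModuleCat.of A M)).leftDerived (n + 2)).obj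
        (ModuleCat.of A (A ⧸ Ideal.span {x})) from rfl]
    rw [leftDerived_shift_iff ((tensoringLeft (ModuleCat.{u} A)).obj (ModuleCat.of A M)) _ _ w
      hex' n]
    exact isZero_Tor_succ_of_projective (ModuleCat.{u} A) (ModuleCat.of A M) (ModuleCat.of A A) n

end regular

end Groth.Agent.H9TorShift
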