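import Mathlib
import Groth.Agent.Lib.helper9.H9_TorShift

/-! Vanishing of `Ext^i(N, M)` below the length of an `M`-regular sequence contained in an
ideal a power of which kills `N`. -/

namespace Groth.Agent.H9ExtReg

open CategoryTheory CategoryTheory.Limits Abelian
open scoped Pointwise

universe u w

variable (A : Type u) [CommRing A] [HasExt.{w} (ModuleCat.{u} A)]

theorem exact_lsmul_mkQ (M : Type u) [AddCommGroup M] [Module A M] (r : A) :
    Function.Exact (LinearMap.lsmul A M r) (r • (⊤ : Submodule A M)).mkQ := by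
  intro y
  rw [Submodule.mkQ_apply, Submodule.Quotient.mk_eq_zero]
  constructor
  · intro hy
    obtain ⟨m, -, rfl⟩ := (Submodule.mem_smul_pointwise_iff_exists _ _ _).mp hy
    exact ⟨m, rfl⟩
  · rintro ⟨m, rfl⟩
    exact (Submodule.mem_smul_pointwise_iff_exists _ _ _).mpr ⟨m, Submodule.mem_top, rfl⟩

theorem ext_subsingleton_of_regular (I : Ideal A) (N : Type u) [AddCommGroup N] [Module A N]
    (k : ℕ) (hN : ∀ a ∈ I ^ k, ∀ y : N, a • y = 0) :
    ∀ (rs : List A) (M : Type u) [AddCommGroup M] [Module A M],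
      RingTheory.Sequence.IsWeaklyRegular M rs → (∀ r ∈ rs, r ∈ I) → ∀ i : ℕ, i < rs.length →
      Subsingleton (Ext (ModuleCat.of A N) (ModuleCat.of A M) i) := by
  intro rs
  induction rs with
  | nil =>
    intro M _ _ _ _ i hi
    simp at hi
  | cons r rs ih =>
    intro M _ _ hreg hI i hi
    obtain ⟨hr, hrs⟩ := (RingTheory.Sequence.isWeaklyRegular_cons_iff M r rs).mp hreg
    obtain ⟨w, hmono, hepi, hex⟩ := H9TorShift.ses_of_exact A (LinearMap.lsmul A M r)
      (r • (⊤ : Submodule A M)).mkQ hr (Submodule.mkQ_surjective _) (exact_lsmul_mkQ A M r)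
    have hS : (ShortComplex.mk (ModuleCat.ofHom (LinearMap.lsmul A M r))
        (ModuleCat.ofHom (r • (⊤ : Submodule A M)).mkQ) w).ShortExact :=
      { exact := hex, mono_f := hmono, epi_g := hepi }
    have hrid : r • 𝟙 (ModuleCat.of A M) = ModuleCat.ofHom (LinearMap.lsmul A M r) := by
      ext x
      rfl
    have keyA : ∀ y : Ext (ModuleCat.of A N) (ModuleCat.of A M) i, r • y = 0 → y = 0 := by
      intro y hy
      rw [Ext.smul_eq_comp_mk₀, hrid] at hy
      cases i with
      | zero =>
        obtain ⟨φ, rfl⟩ := (Ext.mk₀_bijective _ _).2 y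
        rw [Ext.mk₀_comp_mk₀] at hy
        have h1 : φ ≫ ModuleCat.ofHom (LinearMap.lsmul A M r) = 0 :=
          (Ext.mk₀_bijective _ _).1 (hy.trans (Ext.mk₀_zero _ _).symm)
        have h2 : φ = 0 := (cancel_mono (ModuleCat.ofHom (LinearMap.lsmul A M r))).mp
          (by rw [h1, zero_comp])
        rw [h2, Ext.mk₀_zero]
      | succ n₀ =>
        obtain ⟨x₃, rfl⟩ := Ext.covariant_sequence_exact₁ (ModuleCat.of A N) hS y hy
          (rfl : n₀ + 1 = n₀ + 1)
        haveI : Subsingleton (Ext (ModuleCat.of A N) (ModuleCat.of A (QuotSMulTop r M)) n₀) :=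
          ih (QuotSMulTop r M) hrs (fun r' hr' => hI r' (List.mem_cons_of_mem _ hr')) n₀
            (by simpa using hi)
        rw [Subsingleton.elim x₃ 0, Ext.zero_comp]
    have keyB : ∀ y : Ext (ModuleCat.of A N) (ModuleCat.of A M) i, r ^ k • y = 0 := by
      intro y
      have hz : (r ^ k) • 𝟙 (ModuleCat.of A N) = 0 := by
        ext x
        exact hN (r ^ k) (Ideal.pow_mem_pow (hI r List.mem_cons_self) k) x
      have h1 : (Ext.mk₀ ((r ^ k) • 𝟙 (ModuleCat.of A N))).comp y (zero_add i) = r ^ k • y := by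
        rw [Ext.mk₀_smul, Ext.smul_comp, Ext.mk₀_id_comp]
      rw [← h1, hz, Ext.mk₀_zero, Ext.zero_comp]
    have keyC : ∀ (j : ℕ) (y : Ext (ModuleCat.of A N) (ModuleCat.of A M) i),
        r ^ j • y = 0 → y = 0 := by
      intro j
      induction j with
      | zero =>
        intro y hy
        simpa using hy
      | succ j ihj =>
        intro y hy
        rw [pow_succ', mul_smul] at hy
        exact ihj y (keyA _ hy)
    exact ⟨fun a b => by rw [keyC k a (keyB a), keyC k b (keyB b)]⟩

end Groth.Agent.H9ExtReg
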