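import Mathlib
import Groth.Agent.Lib.helper9.H9_ExtReg

/-! `Hom(k, M/(xs)M) ≃ Ext^n(k, M)` for an `M`-regular sequence `xs` of length `n` in the
maximal ideal of a local ring. -/

namespace Groth.Agent.H9ExtRegIso

open CategoryTheory CategoryTheory.Limits Abelian
open scoped Pointwise

universe u w

variable (A : Type u) [CommRing A] [IsLocalRing A] [HasExt.{w} (ModuleCat.{u} A)]

theorem residue_killed : ∀ a ∈ IsLocalRing.maximalIdeal A ^ 1,
    ∀ y : IsLocalRing.ResidueField A, a • y = 0 := by
  intro a ha y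
  rw [pow_one] at ha
  rw [Algebra.smul_def, IsLocalRing.ResidueField.algebraMap_eq,
    (IsLocalRing.residue_eq_zero_iff a).mpr ha, zero_mul]

theorem hom_equiv_ext_of_regular : ∀ (xs : List A) (M : Type u) [AddCommGroup M] [Module A M],
    (∀ x ∈ xs, x ∈ IsLocalRing.maximalIdeal A) → RingTheory.Sequence.IsWeaklyRegular M xs →
    Nonempty ((IsLocalRing.ResidueField A →ₗ[A] (M ⧸ (Ideal.ofList xs • (⊤ : Submodule A M)))) ≃+
      Ext (ModuleCat.of A (IsLocalRing.ResidueField A)) (ModuleCat.of A M) xs.length) := by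
  intro xs
  induction xs with
  | nil =>
    intro M _ _ _ _
    have h0 : Ideal.ofList ([] : List A) • (⊤ : Submodule A M) = ⊥ := by
      rw [Ideal.ofList_nil, Submodule.bot_smul]
    exact ⟨((LinearEquiv.congrRight (Submodule.quotEquivOfEqBot _ h0)).toAddEquiv.trans
      (ModuleCat.homAddEquiv (M := ModuleCat.of A (IsLocalRing.ResidueField A))
        (N := ModuleCat.of A M)).symm).trans Ext.addEquiv₀.symm⟩
  | cons r rs ih =>
    intro M _ _ hI hreg
    obtain ⟨hr, hrs⟩ := (RingTheory.Sequence.isWeaklyRegular_cons_iff M r rs).mp hreg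
    obtain ⟨e₁⟩ := ih (QuotSMulTop r M) (fun x hx => hI x (List.mem_cons_of_mem _ hx)) hrs
    obtain ⟨w, hmono, hepi, hex⟩ := H9TorShift.ses_of_exact A (LinearMap.lsmul A M r)
      (r • (⊤ : Submodule A M)).mkQ hr (Submodule.mkQ_surjective _)
      (H9ExtReg.exact_lsmul_mkQ A M r)
    have hS : (ShortComplex.mk (ModuleCat.ofHom (LinearMap.lsmul A M r))
        (ModuleCat.ofHom (r • (⊤ : Submodule A M)).mkQ) w).ShortExact :=
      { exact := hex, mono_f := hmono, epi_g := hepi }
    have hrid : r • 𝟙 (ModuleCat.of A M) = ModuleCat.ofHom (LinearMap.lsmul A M r) := by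
      ext x
      rfl
    have hrk : r • 𝟙 (ModuleCat.of A (IsLocalRing.ResidueField A)) = 0 := by
      ext x
      exact residue_killed A r (by rw [pow_one]; exact hI r List.mem_cons_self) x
    have key : ∀ y : Ext (ModuleCat.of A (IsLocalRing.ResidueField A)) (ModuleCat.of A M)
        (rs.length + 1),
        y.comp (Ext.mk₀ (ModuleCat.ofHom (LinearMap.lsmul A M r))) (add_zero _) = 0 := by
      intro y
      rw [← hrid, ← Ext.smul_eq_comp_mk₀]
      have h2 : (Ext.mk₀ (r • 𝟙 (ModuleCat.of A (IsLocalRing.ResidueField A)))).comp y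
          (zero_add _) = r • y := by
        rw [Ext.mk₀_smul, Ext.smul_comp, Ext.mk₀_id_comp]
      rw [← h2, hrk, Ext.mk₀_zero, Ext.zero_comp]
    have hinj : Function.Injective (hS.extClass.postcomp
        (ModuleCat.of A (IsLocalRing.ResidueField A)) (rfl : rs.length + 1 = rs.length + 1)) := by
      rw [injective_iff_map_eq_zero]
      intro x₃ hx₃
      obtain ⟨x₂, rfl⟩ := Ext.covariant_sequence_exact₃
        (ModuleCat.of A (IsLocalRing.ResidueField A)) hS x₃ rfl hx₃
      haveI : Subsingleton (Ext (ModuleCat.of A (IsLocalRing.ResidueField A)) (ModuleCat.of A M)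
          rs.length) :=
        H9ExtReg.ext_subsingleton_of_regular A (IsLocalRing.maximalIdeal A)
          (IsLocalRing.ResidueField A) 1 (residue_killed A) (r :: rs) M hreg hI rs.length
          (by simp)
      rw [Subsingleton.elim x₂ 0, Ext.zero_comp]
    have hsurj : Function.Surjective (hS.extClass.postcomp
        (ModuleCat.of A (IsLocalRing.ResidueField A)) (rfl : rs.length + 1 = rs.length + 1)) := by
      intro x₁
      have h1 := key x₁
      obtain ⟨x₃, hx₃⟩ := Ext.covariant_sequence_exact₁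
        (ModuleCat.of A (IsLocalRing.ResidueField A)) hS x₁ h1
        (rfl : rs.length + 1 = rs.length + 1)
      exact ⟨x₃, hx₃⟩
    exact ⟨((LinearEquiv.congrRight
      (Submodule.quotOfListConsSMulTopEquivQuotSMulTopInner M r rs)).toAddEquiv.trans e₁).trans
      (AddEquiv.ofBijective _ ⟨hinj, hsurj⟩)⟩

end Groth.Agent.H9ExtRegIso

namespace Groth.Agent.H9ExtRegIso

open CategoryTheory CategoryTheory.Limits Abelian
open scoped Pointwise

universe u w

variable (A : Type u) [CommRing A] [HasExt.{w} (ModuleCat.{u} A)]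

theorem hom_equiv_ext_of_regular_gen (I : Ideal A) (N : Type u) [AddCommGroup N] [Module A N]
    (hN : ∀ a ∈ I ^ 1, ∀ y : N, a • y = 0) : ∀ (xs : List A) (M : Type u) [AddCommGroup M] [Module A M],
    (∀ x ∈ xs, x ∈ I) → RingTheory.Sequence.IsWeaklyRegular M xs →
    Nonempty ((N →ₗ[A] (M ⧸ (Ideal.ofList xs • (⊤ : Submodule A M)))) ≃+
      Ext (ModuleCat.of A (N)) (ModuleCat.of A M) xs.length) := by
  intro xs
  induction xs with
  | nil =>
    intro M _ _ _ _
    have h0 : Ideal.ofList ([] : List A) • (⊤ : Submodule A M) = ⊥ := by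
      rw [Ideal.ofList_nil, Submodule.bot_smul]
    exact ⟨((LinearEquiv.congrRight (Submodule.quotEquivOfEqBot _ h0)).toAddEquiv.trans
      (ModuleCat.homAddEquiv (M := ModuleCat.of A (N))
        (N := ModuleCat.of A M)).symm).trans Ext.addEquiv₀.symm⟩
  | cons r rs ih =>
    intro M _ _ hI hreg
    obtain ⟨hr, hrs⟩ := (RingTheory.Sequence.isWeaklyRegular_cons_iff M r rs).mp hreg
    obtain ⟨e₁⟩ := ih (QuotSMulTop r M) (fun x hx => hI x (List.mem_cons_of_mem _ hx)) hrs
    obtain ⟨w, hmono, hepi, hex⟩ := H9TorShift.ses_of_exact A (LinearMap.lsmul A M r)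
      (r • (⊤ : Submodule A M)).mkQ hr (Submodule.mkQ_surjective _)
      (H9ExtReg.exact_lsmul_mkQ A M r)
    have hS : (ShortComplex.mk (ModuleCat.ofHom (LinearMap.lsmul A M r))
        (ModuleCat.ofHom (r • (⊤ : Submodule A M)).mkQ) w).ShortExact :=
      { exact := hex, mono_f := hmono, epi_g := hepi }
    have hrid : r • 𝟙 (ModuleCat.of A M) = ModuleCat.ofHom (LinearMap.lsmul A M r) := by
      ext x
      rfl
    have hrk : r • 𝟙 (ModuleCat.of A (N)) = 0 := by
      ext x
      exact hN r (by rw [pow_one]; exact hI r List.mem_cons_self) x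
    have key : ∀ y : Ext (ModuleCat.of A (N)) (ModuleCat.of A M)
        (rs.length + 1),
        y.comp (Ext.mk₀ (ModuleCat.ofHom (LinearMap.lsmul A M r))) (add_zero _) = 0 := by
      intro y
      rw [← hrid, ← Ext.smul_eq_comp_mk₀]
      have h2 : (Ext.mk₀ (r • 𝟙 (ModuleCat.of A (N)))).comp y
          (zero_add _) = r • y := by
        rw [Ext.mk₀_smul, Ext.smul_comp, Ext.mk₀_id_comp]
      rw [← h2, hrk, Ext.mk₀_zero, Ext.zero_comp]
    have hinj : Function.Injective (hS.extClass.postcomp
        (ModuleCat.of A (N)) (rfl : rs.length + 1 = rs.length + 1)) := by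
      rw [injective_iff_map_eq_zero]
      intro x₃ hx₃
      obtain ⟨x₂, rfl⟩ := Ext.covariant_sequence_exact₃
        (ModuleCat.of A (N)) hS x₃ rfl hx₃
      haveI : Subsingleton (Ext (ModuleCat.of A (N)) (ModuleCat.of A M)
          rs.length) :=
        H9ExtReg.ext_subsingleton_of_regular A (I)
          (N) 1 hN (r :: rs) M hreg hI rs.length
          (by simp)
      rw [Subsingleton.elim x₂ 0, Ext.zero_comp]
    have hsurj : Function.Surjective (hS.extClass.postcomp
        (ModuleCat.of A (N)) (rfl : rs.length + 1 = rs.length + 1)) := by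
      intro x₁
      have h1 := key x₁
      obtain ⟨x₃, hx₃⟩ := Ext.covariant_sequence_exact₁
        (ModuleCat.of A (N)) hS x₁ h1
        (rfl : rs.length + 1 = rs.length + 1)
      exact ⟨x₃, hx₃⟩
    exact ⟨((LinearEquiv.congrRight
      (Submodule.quotOfListConsSMulTopEquivQuotSMulTopInner M r rs)).toAddEquiv.trans e₁).trans
      (AddEquiv.ofBijective _ ⟨hinj, hsurj⟩)⟩

end Groth.Agent.H9ExtRegIso
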