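import Mathlib
import Groth.Agent.Lib.helper9.H9_ExtRegIso

/-! Rees' theorem: the `I`-depth of a finite module over a Noetherian ring is the index of the
first nonvanishing `Ext^i(R/I, M)`. -/

namespace Groth.Agent.H9Rees

open CategoryTheory CategoryTheory.Limits Abelian
open scoped Pointwise

universe u w

variable (R : Type u) [CommRing R] [IsNoetherianRing R] [HasExt.{w} (ModuleCat.{u} R)]
  (I : Ideal R) (M : Type u) [AddCommGroup M] [Module R M] [Module.Finite R M]

theorem quot_killed : ∀ a ∈ I ^ 1, ∀ y : R ⧸ I, a • y = 0 := by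
  intro a ha y
  rw [pow_one] at ha
  rw [Algebra.smul_def, Ideal.Quotient.algebraMap_eq, Ideal.Quotient.eq_zero_iff_mem.mpr ha,
    zero_mul]

theorem ext_sub_of_valid (rs : List R)
    (h : RingTheory.Sequence.IsWeaklyRegular M rs ∧ ∀ r ∈ rs, r ∈ I) (i : ℕ) (hi : i < rs.length) :
    Subsingleton (Ext (ModuleCat.of R (R ⧸ I)) (ModuleCat.of R M) i) :=
  H9ExtReg.ext_subsingleton_of_regular R I (R ⧸ I) 1 (quot_killed R I) rs M h.1 h.2 i hi

theorem extend (rs : List R)
    (h : RingTheory.Sequence.IsWeaklyRegular M rs ∧ ∀ r ∈ rs, r ∈ I)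
    (hs : Subsingleton (Ext (ModuleCat.of R (R ⧸ I)) (ModuleCat.of R M) rs.length)) :
    ∃ x : R, RingTheory.Sequence.IsWeaklyRegular M (rs ++ [x]) ∧ ∀ r ∈ rs ++ [x], r ∈ I := by
  obtain ⟨e⟩ := H9ExtRegIso.hom_equiv_ext_of_regular_gen R I (R ⧸ I) (quot_killed R I) rs M h.2 h.1
  haveI : Subsingleton ((R ⧸ I) →ₗ[R] M ⧸ (Ideal.ofList rs • (⊤ : Submodule R M))) :=
    e.toEquiv.subsingleton
  obtain ⟨x, hxann, hxreg⟩ := IsSMulRegular.subsingleton_linearMap_iff.mp this
  rw [Ideal.annihilator_quotient] at hxann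
  refine ⟨x, ?_, ?_⟩
  · exact (RingTheory.Sequence.isWeaklyRegular_append_iff M rs [x]).mpr
      ⟨h.1, (RingTheory.Sequence.isWeaklyRegular_singleton_iff _ x).mpr hxreg⟩
  · intro r hr
    rcases List.mem_append.mp hr with h1 | h1
    · exact h.2 r h1
    · rw [List.mem_singleton] at h1
      rw [h1]
      exact hxann

theorem exists_valid_of_ext : ∀ n : ℕ,
    (∀ i : ℕ, i < n → Subsingleton (Ext (ModuleCat.of R (R ⧸ I)) (ModuleCat.of R M) i)) →
    ∃ rs : List R, (RingTheory.Sequence.IsWeaklyRegular M rs ∧ ∀ r ∈ rs, r ∈ I) ∧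
      rs.length = n := by
  intro n
  induction n with
  | zero =>
    intro _
    exact ⟨[], ⟨RingTheory.Sequence.IsWeaklyRegular.nil R M, by simp⟩, rfl⟩
  | succ n ih =>
    intro h
    obtain ⟨rs, hrs, hlen⟩ := ih (fun i hi => h i (by omega))
    have hs : Subsingleton (Ext (ModuleCat.of R (R ⧸ I)) (ModuleCat.of R M) rs.length) := by
      rw [hlen]
      exact h n (by omega)
    obtain ⟨x, hx⟩ := extend R I M rs hrs hs
    exact ⟨rs ++ [x], hx, by simp [hlen]⟩

theorem rees (n : ℕ) :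
    (⨆ (rs : List R) (_ : RingTheory.Sequence.IsWeaklyRegular M rs ∧ ∀ r ∈ rs, r ∈ I),
      (rs.length : ℕ∞)) = n ↔
    ((∀ i : ℕ, i < n → Subsingleton (Ext (ModuleCat.of R (R ⧸ I)) (ModuleCat.of R M) i)) ∧
      Nontrivial (Ext (ModuleCat.of R (R ⧸ I)) (ModuleCat.of R M) n)) := by
  constructor
  · intro hsup
    have hle : ∀ rs : List R, (RingTheory.Sequence.IsWeaklyRegular M rs ∧ ∀ r ∈ rs, r ∈ I) →
        rs.length ≤ n := by
      intro rs h
      have h1 : (rs.length : ℕ∞) ≤ ⨆ (rs : List R)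
          (_ : RingTheory.Sequence.IsWeaklyRegular M rs ∧ ∀ r ∈ rs, r ∈ I), (rs.length : ℕ∞) :=
        le_iSup₂ (f := fun (rs : List R)
          (_ : RingTheory.Sequence.IsWeaklyRegular M rs ∧ ∀ r ∈ rs, r ∈ I) => (rs.length : ℕ∞))
          rs h
      rw [hsup] at h1
      exact Nat.cast_le.mp h1
    have hex : ∃ rs : List R, (RingTheory.Sequence.IsWeaklyRegular M rs ∧ ∀ r ∈ rs, r ∈ I) ∧
        rs.length = n := by
      by_contra hno
      push_neg at hno
      have h2 : (⨆ (rs : List R)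
          (_ : RingTheory.Sequence.IsWeaklyRegular M rs ∧ ∀ r ∈ rs, r ∈ I), (rs.length : ℕ∞)) ≤
          ((n - 1 : ℕ) : ℕ∞) := by
        refine iSup₂_le (fun rs h => Nat.cast_le.mpr ?_)
        have h3 := hle rs h
        have h4 := hno rs h
        omega
      rw [hsup] at h2
      have h5 : n ≤ n - 1 := Nat.cast_le.mp h2
      have h6 : n = 0 := by omega
      exact hno [] ⟨RingTheory.Sequence.IsWeaklyRegular.nil R M, by simp⟩ (by simp [h6])
    obtain ⟨rs, hrs, hlen⟩ := hex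
    refine ⟨fun i hi => ext_sub_of_valid R I M rs hrs i (by omega), ?_⟩
    by_contra hnt
    have hs : Subsingleton (Ext (ModuleCat.of R (R ⧸ I)) (ModuleCat.of R M) rs.length) := by
      rw [hlen]
      exact not_nontrivial_iff_subsingleton.mp hnt
    obtain ⟨x, hx⟩ := extend R I M rs hrs hs
    have h7 := hle (rs ++ [x]) hx
    simp [hlen] at h7
  · rintro ⟨h1, h2⟩
    apply le_antisymm
    · refine iSup₂_le (fun rs h => Nat.cast_le.mpr ?_)
      by_contra hlt
      haveI := ext_sub_of_valid R I M rs h n (by omega)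
      exact false_of_nontrivial_of_subsingleton
        (Ext (ModuleCat.of R (R ⧸ I)) (ModuleCat.of R M) n)
    · obtain ⟨rs, hrs, hlen⟩ := exists_valid_of_ext R I M n h1
      refine le_iSup₂_of_le rs hrs ?_
      rw [hlen]

end Groth.Agent.H9Rees
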