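import Mathlib
import Groth.Prelude.Def_CAlg
import Groth.Agent.Lib.helper9.H9_Rees

/-! Ext-characterisation of `n ≤ idealDepth I M` and the depth lemma. -/

namespace Groth.Agent.H9DepthLES

open CategoryTheory CategoryTheory.Limits Abelian
open scoped Pointwise

universe u

section les

variable {C : Type*} [Category C] [Abelian C] [HasExt C] {S : ShortComplex C} (hS : S.ShortExact)
  (X : C)

include hS

theorem ext_X2_sub (i : ℕ) (h1 : Subsingleton (Ext X S.X₁ i)) (h3 : Subsingleton (Ext X S.X₃ i)) :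
    Subsingleton (Ext X S.X₂ i) := by
  refine ⟨fun a b => ?_⟩
  have key : ∀ y : Ext X S.X₂ i, y = 0 := by
    intro y
    obtain ⟨y₁, rfl⟩ := Ext.covariant_sequence_exact₂ X hS y (Subsingleton.elim _ _)
    rw [Subsingleton.elim y₁ 0, Ext.zero_comp]
  rw [key a, key b]

theorem ext_X3_sub (i : ℕ) (h2 : Subsingleton (Ext X S.X₂ i))
    (h1 : Subsingleton (Ext X S.X₁ (i + 1))) : Subsingleton (Ext X S.X₃ i) := by
  refine ⟨fun a b => ?_⟩
  have key : ∀ y : Ext X S.X₃ i, y = 0 := by
    intro y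
    obtain ⟨y₂, rfl⟩ := Ext.covariant_sequence_exact₃ X hS y (n₁ := i + 1) rfl
      (Subsingleton.elim _ _)
    rw [Subsingleton.elim y₂ 0, Ext.zero_comp]
  rw [key a, key b]

theorem ext_X1_zero (h2 : Subsingleton (Ext X S.X₂ 0)) : Subsingleton (Ext X S.X₁ 0) := by
  haveI := hS.mono_f
  refine ⟨fun a b => ?_⟩
  apply Ext.postcomp_mk₀_injective_of_mono X S.f
  exact Subsingleton.elim _ _

theorem ext_X1_succ (j : ℕ) (h2 : Subsingleton (Ext X S.X₂ (j + 1)))
    (h3 : Subsingleton (Ext X S.X₃ j)) : Subsingleton (Ext X S.X₁ (j + 1)) := by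
  refine ⟨fun a b => ?_⟩
  have key : ∀ y : Ext X S.X₁ (j + 1), y = 0 := by
    intro y
    obtain ⟨y₃, rfl⟩ := Ext.covariant_sequence_exact₁ X hS y (Subsingleton.elim _ _) (n₀ := j) rfl
    rw [Subsingleton.elim y₃ 0, Ext.zero_comp]
  rw [key a, key b]

end les

variable (R : Type u) [CommRing R] [IsNoetherianRing R]
  (I : Ideal R) (M : Type u) [AddCommGroup M] [Module R M] [Module.Finite R M]

theorem ext_zero_of_smul_top (h : I • (⊤ : Submodule R M) = ⊤) (i : ℕ) :
    Subsingleton (Ext (ModuleCat.of R (R ⧸ I)) (ModuleCat.of R M) i) := by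
  obtain ⟨r, hr1, hr2⟩ := Submodule.exists_sub_one_mem_and_smul_eq_zero_of_fg_of_le_smul I
    (⊤ : Submodule R M) Module.Finite.fg_top (by rw [h])
  have hM : r • 𝟙 (ModuleCat.of R M) = 0 := by
    ext x
    exact hr2 x Submodule.mem_top
  have hQ : (r - 1) • 𝟙 (ModuleCat.of R (R ⧸ I)) = 0 := by
    refine ModuleCat.hom_ext (LinearMap.ext fun x => ?_)
    change (r - 1) • x = 0
    obtain ⟨a, rfl⟩ := Ideal.Quotient.mk_surjective x
    rw [Algebra.smul_def, Ideal.Quotient.algebraMap_eq, ← map_mul]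
    exact Ideal.Quotient.eq_zero_iff_mem.mpr (I.mul_mem_right a hr1)
  refine ⟨fun a b => ?_⟩
  have key : ∀ y : Ext (ModuleCat.of R (R ⧸ I)) (ModuleCat.of R M) i, y = 0 := by
    intro y
    have h1 : r • y = 0 := by
      rw [Ext.smul_eq_comp_mk₀, hM, Ext.mk₀_zero, Ext.comp_zero]
    have h2 : (r - 1) • y = 0 := by
      have : (r - 1) • y = (Ext.mk₀ ((r - 1) • 𝟙 (ModuleCat.of R (R ⧸ I)))).comp y
          (zero_add i) := by
        rw [Ext.mk₀_smul, Ext.smul_comp, Ext.mk₀_id_comp]
      rw [this, hQ, Ext.mk₀_zero, Ext.zero_comp]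
    have h3 : y = r • y - (r - 1) • y := by
      rw [← sub_smul]
      simp
    rw [h3, h1, h2, sub_zero]
  rw [key a, key b]

theorem le_idealDepth_iff (n : ℕ) : (n : ℕ∞) ≤ LocCoh.idealDepth I M ↔
    ∀ i : ℕ, i < n → Subsingleton (Ext (ModuleCat.of R (R ⧸ I)) (ModuleCat.of R M) i) := by
  classical
  unfold LocCoh.idealDepth
  split_ifs with h
  · simp only [le_top, true_iff]
    exact fun i _ => ext_zero_of_smul_top R I M h i
  · constructor
    · intro hle i hi
      by_contra hns
      have hex : ∃ j, ¬ Subsingleton (Ext (ModuleCat.of R (R ⧸ I)) (ModuleCat.of R M) j) :=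
        ⟨i, hns⟩
      have h1 := Nat.find_spec hex
      have h2 : ∀ j < Nat.find hex,
          Subsingleton (Ext (ModuleCat.of R (R ⧸ I)) (ModuleCat.of R M) j) :=
        fun j hj => not_not.mp (Nat.find_min hex hj)
      have h3 : Nat.find hex ≤ i := Nat.find_min' hex hns
      have h4 := (H9Rees.rees R I M (Nat.find hex)).mpr
        ⟨h2, not_subsingleton_iff_nontrivial.mp h1⟩
      rw [h4] at hle
      have h5 : n ≤ Nat.find hex := by exact_mod_cast hle
      omega
    · intro hv
      obtain ⟨rs, hrs, hlen⟩ := H9Rees.exists_valid_of_ext R I M n hv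
      exact le_iSup₂_of_le rs hrs (by rw [hlen])

theorem depth_lemma (N' : Type u) [AddCommGroup N'] [Module R N'] [Module.Finite R N']
    (N : Type u) [AddCommGroup N] [Module R N] [Module.Finite R N]
    (N'' : Type u) [AddCommGroup N''] [Module R N''] [Module.Finite R N'']
    (f : N' →ₗ[R] N) (g : N →ₗ[R] N'') (hf : Function.Injective f) (hg : Function.Surjective g)
    (hfg : Function.Exact f g) :
    min (LocCoh.idealDepth I N') (LocCoh.idealDepth I N'') ≤ LocCoh.idealDepth I N ∧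
    min (LocCoh.idealDepth I N) (LocCoh.idealDepth I N' - 1) ≤ LocCoh.idealDepth I N'' ∧
    min (LocCoh.idealDepth I N) (LocCoh.idealDepth I N'' + 1) ≤ LocCoh.idealDepth I N' := by
  obtain ⟨w, hmono, hepi, hex⟩ := H9TorShift.ses_of_exact R f g hf hg hfg
  have hS : (ShortComplex.mk (ModuleCat.ofHom f) (ModuleCat.ofHom g) w).ShortExact :=
    { exact := hex, mono_f := hmono, epi_g := hepi }
  refine ⟨?_, ?_, ?_⟩
  · refine ENat.forall_natCast_le_iff_le.mp (fun n hn => ?_)
    have h1 := (le_idealDepth_iff R I N' n).mp (hn.trans (min_le_left _ _))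
    have h2 := (le_idealDepth_iff R I N'' n).mp (hn.trans (min_le_right _ _))
    rw [le_idealDepth_iff]
    intro i hi
    exact ext_X2_sub hS _ i (h1 i hi) (h2 i hi)
  · refine ENat.forall_natCast_le_iff_le.mp (fun n hn => ?_)
    have h1 := (le_idealDepth_iff R I N n).mp (hn.trans (min_le_left _ _))
    have h2 : (n : ℕ∞) ≤ LocCoh.idealDepth I N' - 1 := hn.trans (min_le_right _ _)
    rw [le_idealDepth_iff]
    intro i hi
    have h3 : ((i + 2 : ℕ) : ℕ∞) ≤ LocCoh.idealDepth I N' := by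
      rcases eq_or_ne (LocCoh.idealDepth I N') ⊤ with ht | hnt
      · rw [ht]
        exact le_top
      · obtain ⟨k, hk⟩ := ENat.ne_top_iff_exists.mp hnt
        rw [← hk] at h2 ⊢
        have h4 : n ≤ k - 1 := by exact_mod_cast h2
        have h5 : i + 2 ≤ k := by omega
        exact_mod_cast h5
    have h6 := (le_idealDepth_iff R I N' (i + 2)).mp h3 (i + 1) (by omega)
    exact ext_X3_sub hS _ i (h1 i hi) h6
  · refine ENat.forall_natCast_le_iff_le.mp (fun n hn => ?_)
    have h1 := (le_idealDepth_iff R I N n).mp (hn.trans (min_le_left _ _))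
    have h2 : (n : ℕ∞) ≤ LocCoh.idealDepth I N'' + 1 := hn.trans (min_le_right _ _)
    rw [le_idealDepth_iff]
    intro i hi
    rcases i with _ | j
    · exact ext_X1_zero hS _ (h1 0 hi)
    · have h3 : ((j + 1 : ℕ) : ℕ∞) ≤ LocCoh.idealDepth I N'' := by
        rcases eq_or_ne (LocCoh.idealDepth I N'') ⊤ with ht | hnt
        · rw [ht]
          exact le_top
        · obtain ⟨k, hk⟩ := ENat.ne_top_iff_exists.mp hnt
          rw [← hk] at h2 ⊢
          have h4 : n ≤ k + 1 := by exact_mod_cast h2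
          have h5 : j + 1 ≤ k := by omega
          exact_mod_cast h5
      have h6 := (le_idealDepth_iff R I N'' (j + 1)).mp h3 j (by omega)
      exact ext_X1_succ hS _ j (h1 (j + 1) hi) h6

theorem one_le_of_injective (K E : Type u) [AddCommGroup K] [Module R K] [Module.Finite R K]
    [AddCommGroup E] [Module R E] [Module.Finite R E] (f : K →ₗ[R] E)
    (hf : Function.Injective f) (h : (1 : ℕ∞) ≤ LocCoh.idealDepth I E) :
    (1 : ℕ∞) ≤ LocCoh.idealDepth I K := by
  have h1 : ((1 : ℕ) : ℕ∞) ≤ LocCoh.idealDepth I E := by exact_mod_cast h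
  have h2 := (le_idealDepth_iff R I E 1).mp h1 0 (by omega)
  have h3 : ((1 : ℕ) : ℕ∞) ≤ LocCoh.idealDepth I K := by
    rw [le_idealDepth_iff]
    intro i hi
    have hi0 : i = 0 := by omega
    subst hi0
    haveI : Mono (ModuleCat.ofHom f) := (ModuleCat.mono_iff_injective _).mpr hf
    refine ⟨fun a b => ?_⟩
    apply Ext.postcomp_mk₀_injective_of_mono (ModuleCat.of R (R ⧸ I)) (ModuleCat.ofHom f)
    exact Subsingleton.elim _ _
  exact_mod_cast h3

theorem depth_ker (E0 E1 : Type u) [AddCommGroup E0] [Module R E0] [Module.Finite R E0]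
    [AddCommGroup E1] [Module R E1] [Module.Finite R E1] (u : E0 →ₗ[R] E1) :
    (1 ≤ LocCoh.idealDepth I E0 → 1 ≤ LocCoh.idealDepth I (LinearMap.ker u)) ∧
    (2 ≤ LocCoh.idealDepth I E0 → 1 ≤ LocCoh.idealDepth I E1 →
      2 ≤ LocCoh.idealDepth I (LinearMap.ker u)) := by
  have hK1 : (1 : ℕ∞) ≤ LocCoh.idealDepth I E0 → 1 ≤ LocCoh.idealDepth I (LinearMap.ker u) :=
    one_le_of_injective R I _ E0 (LinearMap.ker u).subtype (Submodule.injective_subtype _)
  refine ⟨hK1, fun h2 h1 => ?_⟩
  have hIm : (1 : ℕ∞) ≤ LocCoh.idealDepth I (LinearMap.range u) :=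
    one_le_of_injective R I _ E1 (LinearMap.range u).subtype (Submodule.injective_subtype _) h1
  have hex : Function.Exact (LinearMap.ker u).subtype u.rangeRestrict := by
    rw [LinearMap.exact_iff, LinearMap.ker_rangeRestrict, Submodule.range_subtype]
  have hd := (depth_lemma R I (LinearMap.ker u) E0 (LinearMap.range u) (LinearMap.ker u).subtype
    u.rangeRestrict (Submodule.injective_subtype _) u.surjective_rangeRestrict hex).2.2
  refine le_trans (le_min h2 ?_) hd
  calc (2 : ℕ∞) = 1 + 1 := by norm_num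
    _ ≤ LocCoh.idealDepth I (LinearMap.range u) + 1 := add_le_add hIm le_rfl

end Groth.Agent.H9DepthLES
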