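import Mathlib
import Groth.Prelude.Def_CAlg
import Groth.Agent.Lib.helper9.H9_Rees

/-! The `I`-depth drops by exactly one modulo a regular element of `I`. -/

namespace Groth.Agent.H9DepthQuot

open CategoryTheory CategoryTheory.Limits Abelian
open scoped Pointwise

universe u

variable (R : Type u) [CommRing R] [IsNoetherianRing R]
  (I : Ideal R) (M : Type u) [AddCommGroup M] [Module R M] [Module.Finite R M]

theorem smul_top_quot_ne_top (hIM : I • (⊤ : Submodule R M) ≠ ⊤) (x : R) (hx : x ∈ I) :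
    I • (⊤ : Submodule R (QuotSMulTop x M)) ≠ ⊤ := by
  intro h
  apply hIM
  have h1 : (I • (⊤ : Submodule R M)).map (x • (⊤ : Submodule R M)).mkQ = ⊤ := by
    rw [Submodule.map_smul'', Submodule.map_top, Submodule.range_mkQ]
    exact h
  have h2 := (Submodule.map_mkQ_eq_top _ _).mp h1
  have h3 : x • (⊤ : Submodule R M) ≤ I • (⊤ : Submodule R M) := by
    intro y hy
    obtain ⟨m, -, rfl⟩ := (Submodule.mem_smul_pointwise_iff_exists _ _ _).mp hy
    exact Submodule.smul_mem_smul hx Submodule.mem_top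
  exact (sup_eq_right.mpr h3).symm.trans h2

theorem ext_quot_sub (x : R) (hreg : IsSMulRegular M x) (X : ModuleCat.{u} R) (i : ℕ)
    (h1 : Subsingleton (Ext X (ModuleCat.of R M) i))
    (h2 : Subsingleton (Ext X (ModuleCat.of R M) (i + 1))) :
    Subsingleton (Ext X (ModuleCat.of R (QuotSMulTop x M)) i) := by
  obtain ⟨w, hmono, hepi, hex⟩ := H9TorShift.ses_of_exact R (LinearMap.lsmul R M x)
    (x • (⊤ : Submodule R M)).mkQ hreg (Submodule.mkQ_surjective _)
    (H9ExtReg.exact_lsmul_mkQ R M x)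
  have hS : (ShortComplex.mk (ModuleCat.ofHom (LinearMap.lsmul R M x))
      (ModuleCat.ofHom (x • (⊤ : Submodule R M)).mkQ) w).ShortExact :=
    { exact := hex, mono_f := hmono, epi_g := hepi }
  refine ⟨fun a b => ?_⟩
  have key : ∀ y : Ext X (ModuleCat.of R (QuotSMulTop x M)) i, y = 0 := by
    intro y
    obtain ⟨y₂, rfl⟩ := Ext.covariant_sequence_exact₃ X hS y (n₁ := i + 1) rfl
      (Subsingleton.elim _ _)
    rw [Subsingleton.elim y₂ 0, Ext.zero_comp]
  rw [key a, key b]

theorem sup_quot (x : R) (hx : x ∈ I) (hreg : IsSMulRegular M x) :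
    (⨆ (rs : List R) (_ : RingTheory.Sequence.IsWeaklyRegular (QuotSMulTop x M) rs ∧
      ∀ r ∈ rs, r ∈ I), (rs.length : ℕ∞)) + 1 =
    ⨆ (rs : List R) (_ : RingTheory.Sequence.IsWeaklyRegular M rs ∧ ∀ r ∈ rs, r ∈ I),
      (rs.length : ℕ∞) := by
  apply le_antisymm
  · rw [iSup_subtype' (p := fun rs : List R =>
      RingTheory.Sequence.IsWeaklyRegular (QuotSMulTop x M) rs ∧ ∀ r ∈ rs, r ∈ I)
      (f := fun rs _ => (rs.length : ℕ∞))]
    haveI : Nonempty {rs : List R //
        RingTheory.Sequence.IsWeaklyRegular (QuotSMulTop x M) rs ∧ ∀ r ∈ rs, r ∈ I} :=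
      ⟨⟨[], RingTheory.Sequence.IsWeaklyRegular.nil R _, by simp⟩⟩
    rw [ENat.iSup_add]
    apply iSup_le
    rintro ⟨rs, h1, h2⟩
    refine le_iSup₂_of_le (x :: rs)
      ⟨(RingTheory.Sequence.isWeaklyRegular_cons_iff M x rs).mpr ⟨hreg, h1⟩, ?_⟩ (by simp)
    intro r hr
    rcases List.mem_cons.mp hr with h | h
    · rw [h]
      exact hx
    · exact h2 r h
  · refine iSup₂_le (fun rs h => ?_)
    rcases Nat.eq_zero_or_pos rs.length with h0 | hpos
    · rw [h0]
      simp
    · have hv : ∀ i : ℕ, i < rs.length - 1 → Subsingleton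
          (Ext (ModuleCat.of R (R ⧸ I)) (ModuleCat.of R (QuotSMulTop x M)) i) := by
        intro i hi
        exact ext_quot_sub R M x hreg _ i (H9Rees.ext_sub_of_valid R I M rs h i (by omega))
          (H9Rees.ext_sub_of_valid R I M rs h (i + 1) (by omega))
      obtain ⟨rs', hrs', hlen⟩ :=
        H9Rees.exists_valid_of_ext R I (QuotSMulTop x M) (rs.length - 1) hv
      have h1 : ((rs.length - 1 : ℕ) : ℕ∞) ≤
          ⨆ (rs : List R) (_ : RingTheory.Sequence.IsWeaklyRegular (QuotSMulTop x M) rs ∧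
            ∀ r ∈ rs, r ∈ I), (rs.length : ℕ∞) :=
        le_iSup₂_of_le rs' hrs' (by rw [hlen])
      have h2 : (rs.length : ℕ∞) = ((rs.length - 1 : ℕ) : ℕ∞) + 1 := by
        have : rs.length = (rs.length - 1) + 1 := by omega
        exact_mod_cast this
      rw [h2]
      exact add_le_add h1 le_rfl

theorem depth_quot (hIM : I • (⊤ : Submodule R M) ≠ ⊤) (x : R) (hx : x ∈ I)
    (hreg : IsSMulRegular M x) :
    LocCoh.idealDepth I (QuotSMulTop x M) + 1 = LocCoh.idealDepth I M := by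
  have hIM' := smul_top_quot_ne_top R I M hIM x hx
  rw [LocCoh.idealDepth, LocCoh.idealDepth, if_neg hIM, if_neg hIM']
  exact sup_quot R I M x hx hreg

end Groth.Agent.H9DepthQuot
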