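import Mathlib
import Groth.Prelude.Def_CAlg
import Groth.Agent.Lib.helper9.H9_DepthLES
import Groth.Agent.Lib.helper9.H9_DepthQuot

/-! Invariance of `idealDepth` under linear equivalences and under finite ring maps. -/

namespace Groth.Agent.H9DepthFinite

open CategoryTheory Abelian
open scoped Pointwise

universe u

section congr

variable {R : Type u} [CommRing R] (I : Ideal R) {M M' : Type u} [AddCommGroup M] [Module R M]
  [AddCommGroup M'] [Module R M']

theorem smul_top_eq_top_congr (e : M ≃ₗ[R] M') :
    I • (⊤ : Submodule R M) = ⊤ ↔ I • (⊤ : Submodule R M') = ⊤ := by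
  have h : (I • (⊤ : Submodule R M)).map e.toLinearMap = I • (⊤ : Submodule R M') := by
    rw [Submodule.map_smul'', Submodule.map_top, LinearEquiv.range]
  constructor
  · intro h1
    rw [← h, h1, Submodule.map_top, LinearEquiv.range]
  · intro h1
    have h2 : (I • (⊤ : Submodule R M)).map e.toLinearMap =
        (⊤ : Submodule R M).map e.toLinearMap := by
      rw [h, h1, Submodule.map_top, LinearEquiv.range]
    exact Submodule.map_injective_of_injective e.injective h2

theorem depth_congr (e : M ≃ₗ[R] M') : LocCoh.idealDepth I M = LocCoh.idealDepth I M' := by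
  unfold LocCoh.idealDepth
  by_cases h : I • (⊤ : Submodule R M) = ⊤
  · rw [if_pos h, if_pos ((smul_top_eq_top_congr I e).mp h)]
  · rw [if_neg h, if_neg (fun h' => h ((smul_top_eq_top_congr I e).mpr h'))]
    refine iSup_congr (fun rs => ?_)
    refine iSup_congr_Prop ?_ (fun _ => rfl)
    rw [e.isWeaklyRegular_congr rs]

end congr

section torsion

variable (R : Type u) [CommRing R] [IsNoetherianRing R] (I : Ideal R) (M : Type u)
  [AddCommGroup M] [Module R M] [Module.Finite R M]

theorem one_le_iff : (1 : ℕ∞) ≤ LocCoh.idealDepth I M ↔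
    ∀ m : M, (∀ r ∈ I, r • m = 0) → m = 0 := by
  have h1 : (1 : ℕ∞) ≤ LocCoh.idealDepth I M ↔ ((1 : ℕ) : ℕ∞) ≤ LocCoh.idealDepth I M := by
    norm_cast
  rw [h1, H9DepthLES.le_idealDepth_iff]
  constructor
  · intro h m hm
    haveI := h 0 (by omega)
    let f : (R ⧸ I) →ₗ[R] M := Submodule.liftQ I (LinearMap.toSpanSingleton R M m) (by
      intro r hr
      simpa using hm r hr)
    have hf1 : f (Ideal.Quotient.mk I 1) = m := by
      change (LinearMap.toSpanSingleton R M m) 1 = m
      simp
    have h2 : Ext.mk₀ (ModuleCat.ofHom f) = 0 := Subsingleton.elim _ _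
    have hz : ModuleCat.ofHom f = 0 :=
      (Ext.mk₀_bijective _ _).1 (h2.trans (Ext.mk₀_zero _ _).symm)
    rw [← hf1]
    have h3 := congrArg (fun φ => φ.hom (Ideal.Quotient.mk I 1)) hz
    simpa using h3
  · intro h i hi
    have hi0 : i = 0 := by omega
    subst hi0
    refine ⟨fun a b => ?_⟩
    have key : ∀ y : Ext (ModuleCat.of R (R ⧸ I)) (ModuleCat.of R M) 0, y = 0 := by
      intro y
      obtain ⟨φ, rfl⟩ := (Ext.mk₀_bijective _ _).2 y
      have hφ : φ = 0 := by
        refine ModuleCat.hom_ext (LinearMap.ext fun q => ?_)
        obtain ⟨r, rfl⟩ := Ideal.Quotient.mk_surjective q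
        have h1 : φ.hom (Ideal.Quotient.mk I 1) = 0 := by
          apply h
          intro s hs
          rw [← map_smul]
          have h0 : s • (Ideal.Quotient.mk I 1 : R ⧸ I) = 0 := by
            rw [Algebra.smul_def, Ideal.Quotient.algebraMap_eq, map_one, mul_one]
            exact Ideal.Quotient.eq_zero_iff_mem.mpr hs
          rw [h0, map_zero]
        have h2 : (Ideal.Quotient.mk I r : R ⧸ I) = r • (Ideal.Quotient.mk I 1 : R ⧸ I) := by
          rw [Algebra.smul_def, Ideal.Quotient.algebraMap_eq, map_one, mul_one]
        rw [h2, map_smul, h1, smul_zero]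
        rfl
      rw [hφ, Ext.mk₀_zero]
    rw [key a, key b]

theorem exists_regular_of_one_le (h : (1 : ℕ∞) ≤ LocCoh.idealDepth I M) :
    ∃ x ∈ I, IsSMulRegular M x := by
  have h1 : ((1 : ℕ) : ℕ∞) ≤ LocCoh.idealDepth I M := by exact_mod_cast h
  have hv := (H9DepthLES.le_idealDepth_iff R I M 1).mp h1
  obtain ⟨rs, hrs, hlen⟩ := H9Rees.exists_valid_of_ext R I M 1 hv
  obtain ⟨x, rfl⟩ := List.length_eq_one_iff.mp hlen
  exact ⟨x, hrs.2 x (by simp),
    ((RingTheory.Sequence.isWeaklyRegular_cons_iff M x []).mp hrs.1).1⟩

end torsion

section main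

variable {A B : Type u} [CommRing A] [IsNoetherianRing A] [CommRing B] [Algebra A B]
  [Module.Finite A B] (a : Ideal A)

omit [IsNoetherianRing A] [Module.Finite A B] in
theorem top_iff (M : Type u) [AddCommGroup M] [Module B M] [Module A M] [IsScalarTower A B M] :
    a • (⊤ : Submodule A M) = ⊤ ↔ (a.map (algebraMap A B)) • (⊤ : Submodule B M) = ⊤ := by
  constructor
  · intro h
    rw [eq_top_iff]
    intro m _
    have hm : m ∈ a • (⊤ : Submodule A M) := by
      rw [h]
      exact Submodule.mem_top
    refine Submodule.smul_induction_on hm (fun r hr n _ => ?_) (fun x y hx hy => add_mem hx hy)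
    rw [← algebraMap_smul B r n]
    exact Submodule.smul_mem_smul (Ideal.mem_map_of_mem _ hr) Submodule.mem_top
  · intro h
    rw [eq_top_iff]
    intro m _
    have hm : m ∈ (a.map (algebraMap A B)) • (⊤ : Submodule B M) := by
      rw [h]
      exact Submodule.mem_top
    refine Submodule.smul_induction_on hm (fun b hb n _ => ?_) (fun x y hx hy => add_mem hx hy)
    have key : ∀ n : M, b • n ∈ a • (⊤ : Submodule A M) := by
      refine Submodule.span_induction (p := fun b _ => ∀ n : M, b • n ∈ a • (⊤ : Submodule A M))
        ?_ ?_ ?_ ?_ hb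
      · rintro _ ⟨r, hr, rfl⟩ n
        rw [algebraMap_smul B r n]
        exact Submodule.smul_mem_smul hr Submodule.mem_top
      · intro n
        simp
      · intro x y _ _ hx hy n
        rw [add_smul]
        exact add_mem (hx n) (hy n)
      · intro c x _ hx n
        rw [smul_eq_mul, mul_comm, mul_smul]
        exact hx (c • n)
    exact key n

theorem le_iff : ∀ (n : ℕ) (M : Type u) [AddCommGroup M] [Module B M] [Module A M]
    [IsScalarTower A B M] [Module.Finite B M],
    (n : ℕ∞) ≤ LocCoh.idealDepth a M ↔
      (n : ℕ∞) ≤ LocCoh.idealDepth (a.map (algebraMap A B)) M := by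
  intro n
  induction n with
  | zero =>
    intro M _ _ _ _ _
    simp
  | succ n ih =>
    intro M _ _ _ _ _
    haveI : IsNoetherianRing B := IsNoetherianRing.of_finite A B
    haveI : Module.Finite A M := Module.Finite.trans B M
    by_cases htop : a • (⊤ : Submodule A M) = ⊤
    · have htop' := (top_iff (B := B) a M).mp htop
      have h1 : LocCoh.idealDepth a M = ⊤ := by
        unfold LocCoh.idealDepth
        rw [if_pos htop]
      have h2 : LocCoh.idealDepth (a.map (algebraMap A B)) M = ⊤ := by
        unfold LocCoh.idealDepth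
        rw [if_pos htop']
      rw [h1, h2]
    · have htop' : (a.map (algebraMap A B)) • (⊤ : Submodule B M) ≠ ⊤ :=
        fun h => htop ((top_iff (B := B) a M).mpr h)
      have h1iff : (1 : ℕ∞) ≤ LocCoh.idealDepth a M ↔
          (1 : ℕ∞) ≤ LocCoh.idealDepth (a.map (algebraMap A B)) M := by
        rw [one_le_iff A a M, one_le_iff B (a.map (algebraMap A B)) M]
        constructor
        · intro h m hm
          apply h m
          intro r hr
          rw [← algebraMap_smul B r m]
          exact hm _ (Ideal.mem_map_of_mem _ hr)
        · intro h m hm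
          apply h m
          intro b hb
          refine Submodule.span_induction (p := fun b _ => b • m = 0) ?_ ?_ ?_ ?_ hb
          · rintro _ ⟨r, hr, rfl⟩
            rw [algebraMap_smul B r m]
            exact hm r hr
          · simp
          · intro x y _ _ hx hy
            rw [add_smul, hx, hy, add_zero]
          · intro c x _ hx
            rw [smul_eq_mul, mul_smul, hx, smul_zero]
      have hkey : (1 : ℕ∞) ≤ LocCoh.idealDepth a M →
          (((n + 1 : ℕ) : ℕ∞) ≤ LocCoh.idealDepth a M ↔
            ((n + 1 : ℕ) : ℕ∞) ≤ LocCoh.idealDepth (a.map (algebraMap A B)) M) := by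
        intro h1
        obtain ⟨x, hxa, hxreg⟩ := exists_regular_of_one_le A a M h1
        have hxregB : IsSMulRegular M (algebraMap A B x) := by
          intro m m' h
          apply hxreg
          change x • m = x • m'
          rw [← algebraMap_smul B x m, ← algebraMap_smul B x m']
          exact h
        have eA := H9DepthQuot.depth_quot A a M htop x hxa hxreg
        have eB := H9DepthQuot.depth_quot B (a.map (algebraMap A B)) M htop'
          (algebraMap A B x) (Ideal.mem_map_of_mem _ hxa) hxregB
        have hsub : ((algebraMap A B x) • (⊤ : Submodule B M)).restrictScalars A =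
            x • (⊤ : Submodule A M) := by
          ext m
          simp only [Submodule.restrictScalars_mem, Submodule.mem_smul_pointwise_iff_exists]
          constructor
          · rintro ⟨n, -, rfl⟩
            exact ⟨n, Submodule.mem_top, (algebraMap_smul B x n).symm⟩
          · rintro ⟨n, -, rfl⟩
            exact ⟨n, Submodule.mem_top, algebraMap_smul B x n⟩
        let e : QuotSMulTop x M ≃ₗ[A] QuotSMulTop (algebraMap A B x) M :=
          (Submodule.quotEquivOfEq _ _ hsub.symm).trans
            (Submodule.Quotient.restrictScalarsEquiv A _)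
        have eC := depth_congr a e
        have ihM := ih (QuotSMulTop (algebraMap A B x) M)
        rw [← eA, ← eB, eC]
        push_cast
        rw [ENat.add_le_add_iff_right (by simp), ENat.add_le_add_iff_right (by simp)]
        exact ihM
      have hone : (1 : ℕ∞) ≤ ((n + 1 : ℕ) : ℕ∞) := by
        have : 1 ≤ n + 1 := by omega
        exact_mod_cast this
      constructor
      · intro h
        exact (hkey (le_trans hone h)).mp h
      · intro h
        exact (hkey (h1iff.mpr (le_trans hone h))).mpr h

theorem depth_eq (M : Type u) [AddCommGroup M] [Module B M] [Module A M]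
    [IsScalarTower A B M] [Module.Finite B M] :
    LocCoh.idealDepth a M = LocCoh.idealDepth (a.map (algebraMap A B)) M := by
  apply le_antisymm
  · exact ENat.forall_natCast_le_iff_le.mp (fun n hn => (le_iff a n M).mp hn)
  · exact ENat.forall_natCast_le_iff_le.mp (fun n hn => (le_iff a n M).mpr hn)

end main

end Groth.Agent.H9DepthFinite
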