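import Mathlib
import Groth.Agent.Lib.helper9.H9_TorShift

/-! Auslander's theorem: the global dimension is detected on cyclic modules. -/

namespace Groth.Agent.H9GlDim

open CategoryTheory CategoryTheory.Limits Abelian

universe u

variable (A : Type u) [CommRing A]

/-- Baer's criterion via `Ext¹`. -/
theorem injective_of_ext_one (N : ModuleCat.{u} A)
    (hN : letI := HasExt.standard (ModuleCat.{u} A)
      ∀ I : Ideal A, Subsingleton (Ext (ModuleCat.of A (A ⧸ I)) N 1)) :
    Injective N := by
  letI := HasExt.standard (ModuleCat.{u} A)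
  have hB : Module.Baer A N := by
    intro I g
    obtain ⟨w, hmono, hepi, hex⟩ := H9TorShift.ses_of_exact A I.subtype I.mkQ
      (Submodule.injective_subtype _) (Submodule.mkQ_surjective _) (LinearMap.exact_subtype_mkQ I)
    have hS : (ShortComplex.mk (ModuleCat.ofHom I.subtype) (ModuleCat.ofHom I.mkQ) w).ShortExact :=
      { exact := hex, mono_f := hmono, epi_g := hepi }
    haveI := hN I
    obtain ⟨x₂, hx₂⟩ := Ext.contravariant_sequence_exact₁ hS N (Ext.mk₀ (ModuleCat.ofHom g))
      (n₁ := 1) (by omega) (Subsingleton.elim _ _)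
    obtain ⟨g', rfl⟩ := (Ext.mk₀_bijective _ _).2 x₂
    rw [Ext.mk₀_comp_mk₀] at hx₂
    have h2 := (Ext.mk₀_bijective _ _).1 hx₂
    refine ⟨g'.hom, fun x mem => ?_⟩
    have h3 := congrArg (fun φ => φ.hom ⟨x, mem⟩) h2
    exact h3
  haveI : Module.Injective A N := hB.injective
  exact Module.injective_object_of_injective_module A N

theorem injdim_of_ext_cyclic : ∀ (k : ℕ) (N : ModuleCat.{u} A),
    (letI := HasExt.standard (ModuleCat.{u} A)
      ∀ I : Ideal A, Subsingleton (Ext (ModuleCat.of A (A ⧸ I)) N (k + 1))) →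
    HasInjectiveDimensionLT N (k + 1) := by
  letI := HasExt.standard (ModuleCat.{u} A)
  intro k
  induction k with
  | zero =>
    intro N hN
    haveI : Injective N := injective_of_ext_one A N hN
    infer_instance
  | succ k ih =>
    intro N hN
    have w : Injective.ι N ≫ cokernel.π (Injective.ι N) = 0 := cokernel.condition _
    have hex : (ShortComplex.mk (Injective.ι N) (cokernel.π (Injective.ι N)) w).Exact :=
      ShortComplex.exact_of_g_is_cokernel _ (cokernelIsCokernel _)
    have hS : (ShortComplex.mk (Injective.ι N) (cokernel.π (Injective.ι N)) w).ShortExact :=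
      { exact := hex
        mono_f := (inferInstance : Mono (Injective.ι N))
        epi_g := (inferInstance : Epi (cokernel.π (Injective.ι N))) }
    have hC : ∀ I : Ideal A, Subsingleton
        (Ext (ModuleCat.of A (A ⧸ I)) (cokernel (Injective.ι N)) (k + 1)) := by
      intro I
      refine ⟨fun a b => ?_⟩
      have key : ∀ x₃ : Ext (ModuleCat.of A (A ⧸ I)) (cokernel (Injective.ι N)) (k + 1),
          x₃ = 0 := by
        intro x₃
        haveI := hN I
        obtain ⟨x₂, rfl⟩ := Ext.covariant_sequence_exact₃ (ModuleCat.of A (A ⧸ I)) hS x₃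
          (n₁ := k + 1 + 1) rfl (Subsingleton.elim _ _)
        rw [Ext.eq_zero_of_injective x₂, Ext.zero_comp]
      rw [key a, key b]
    have hidC := ih (cokernel (Injective.ι N)) hC
    exact (hS.hasInjectiveDimensionLT_X₃_iff k (inferInstance : Injective (Injective.under N))).mp
      hidC

theorem pd_of_pd_cyclic (n : ℕ)
    (h : ∀ I : Ideal A, HasProjectiveDimensionLT (ModuleCat.of A (A ⧸ I)) (n + 1))
    (M : ModuleCat.{u} A) : HasProjectiveDimensionLT M (n + 1) := by
  letI := HasExt.standard (ModuleCat.{u} A)
  have hid : ∀ N : ModuleCat.{u} A, HasInjectiveDimensionLT N (n + 1) := by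
    intro N
    apply injdim_of_ext_cyclic A n N
    intro I
    haveI := h I
    exact HasProjectiveDimensionLT.subsingleton (ModuleCat.of A (A ⧸ I)) (n + 1) (n + 1) le_rfl N
  apply hasProjectiveDimensionLT_of_enoughInjectives M (n + 1)
  intro Y
  haveI := hid Y
  exact HasInjectiveDimensionLT.subsingleton Y (n + 1) (n + 1) le_rfl M

section general
universe w
variable [HasExt.{w} (ModuleCat.{u} A)]

/-- Baer's criterion via `Ext¹`, for an arbitrary `HasExt` instance. -/
theorem injective_of_ext_one' (N : ModuleCat.{u} A)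
    (hN : ∀ I : Ideal A, Subsingleton (Ext (ModuleCat.of A (A ⧸ I)) N 1)) :
    Injective N := by
  have hB : Module.Baer A N := by
    intro I g
    obtain ⟨w, hmono, hepi, hex⟩ := H9TorShift.ses_of_exact A I.subtype I.mkQ
      (Submodule.injective_subtype _) (Submodule.mkQ_surjective _) (LinearMap.exact_subtype_mkQ I)
    have hS : (ShortComplex.mk (ModuleCat.ofHom I.subtype) (ModuleCat.ofHom I.mkQ) w).ShortExact :=
      { exact := hex, mono_f := hmono, epi_g := hepi }
    haveI := hN I
    obtain ⟨x₂, hx₂⟩ := Ext.contravariant_sequence_exact₁ hS N (Ext.mk₀ (ModuleCat.ofHom g))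
      (n₁ := 1) (by omega) (Subsingleton.elim _ _)
    obtain ⟨g', rfl⟩ := (Ext.mk₀_bijective _ _).2 x₂
    rw [Ext.mk₀_comp_mk₀] at hx₂
    have h2 := (Ext.mk₀_bijective _ _).1 hx₂
    refine ⟨g'.hom, fun x mem => ?_⟩
    have h3 := congrArg (fun φ => φ.hom ⟨x, mem⟩) h2
    exact h3
  haveI : Module.Injective A N := hB.injective
  exact Module.injective_object_of_injective_module A N

theorem injdim_of_ext_cyclic' : ∀ (k : ℕ) (N : ModuleCat.{u} A),
    (∀ I : Ideal A, Subsingleton (Ext (ModuleCat.of A (A ⧸ I)) N (k + 1))) →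
    HasInjectiveDimensionLT N (k + 1) := by
  intro k
  induction k with
  | zero =>
    intro N hN
    haveI : Injective N := injective_of_ext_one' A N hN
    infer_instance
  | succ k ih =>
    intro N hN
    have w : Injective.ι N ≫ cokernel.π (Injective.ι N) = 0 := cokernel.condition _
    have hex : (ShortComplex.mk (Injective.ι N) (cokernel.π (Injective.ι N)) w).Exact :=
      ShortComplex.exact_of_g_is_cokernel _ (cokernelIsCokernel _)
    have hS : (ShortComplex.mk (Injective.ι N) (cokernel.π (Injective.ι N)) w).ShortExact :=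
      { exact := hex
        mono_f := (inferInstance : Mono (Injective.ι N))
        epi_g := (inferInstance : Epi (cokernel.π (Injective.ι N))) }
    have hC : ∀ I : Ideal A, Subsingleton
        (Ext (ModuleCat.of A (A ⧸ I)) (cokernel (Injective.ι N)) (k + 1)) := by
      intro I
      refine ⟨fun a b => ?_⟩
      have key : ∀ x₃ : Ext (ModuleCat.of A (A ⧸ I)) (cokernel (Injective.ι N)) (k + 1),
          x₃ = 0 := by
        intro x₃
        haveI := hN I
        obtain ⟨x₂, rfl⟩ := Ext.covariant_sequence_exact₃ (ModuleCat.of A (A ⧸ I)) hS x₃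
          (n₁ := k + 1 + 1) rfl (Subsingleton.elim _ _)
        rw [Ext.eq_zero_of_injective x₂, Ext.zero_comp]
      rw [key a, key b]
    have hidC := ih (cokernel (Injective.ι N)) hC
    exact (hS.hasInjectiveDimensionLT_X₃_iff k (inferInstance : Injective (Injective.under N))).mp
      hidC

end general

end Groth.Agent.H9GlDim
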