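import Mathlib
import Groth.Prelude.Def_CAlg
import Groth.Agent.Lib.helper9.H9_Rees
import Groth.Agent.Lib.helper9.H9_GlDim

/-! Ischebeck's theorem: `Ext^i(N, M) = 0` for `i < depth M - dim N` over a Noetherian local
ring. -/

namespace Groth.Agent.H9Ischebeck

open CategoryTheory CategoryTheory.Limits Abelian
open scoped Pointwise

universe u

variable (A : Type u) [CommRing A]

theorem ext_zero_of_subsingleton (N : Type u) [AddCommGroup N] [Module A N] [Subsingleton N]
    (Y : ModuleCat.{u} A) (i : ℕ) : Subsingleton (Ext (ModuleCat.of A N) Y i) := by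
  refine ⟨fun a b => ?_⟩
  have hz : 𝟙 (ModuleCat.of A N) = 0 := by
    ext x
    exact Subsingleton.elim _ _
  have key : ∀ x : Ext (ModuleCat.of A N) Y i, x = 0 := by
    intro x
    rw [← Ext.mk₀_id_comp x, hz, Ext.mk₀_zero, Ext.zero_comp]
  rw [key a, key b]

theorem ext_of_equiv (N N' : Type u) [AddCommGroup N] [Module A N] [AddCommGroup N']
    [Module A N'] (f : N ≃ₗ[A] N') (Y : ModuleCat.{u} A) (i : ℕ)
    (h : Subsingleton (Ext (ModuleCat.of A N') Y i)) :
    Subsingleton (Ext (ModuleCat.of A N) Y i) := by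
  refine ⟨fun a b => ?_⟩
  have key : ∀ x : Ext (ModuleCat.of A N) Y i, x = 0 := by
    intro x
    have h1 : 𝟙 (ModuleCat.of A N) = f.toModuleIso.hom ≫ f.toModuleIso.inv :=
      (Iso.hom_inv_id _).symm
    rw [← Ext.mk₀_id_comp x, h1, ← Ext.mk₀_comp_mk₀_assoc,
      Subsingleton.elim ((Ext.mk₀ f.toModuleIso.inv).comp x (zero_add i)) 0, Ext.comp_zero]
  rw [key a, key b]

variable [IsNoetherianRing A] [IsLocalRing A]
  (M : Type u) [AddCommGroup M] [Module A M] [Module.Finite A M]

theorem step0 (d : ℕ) (hd : LocCoh.depth A M = d) (i : ℕ) (hi : i < d) :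
    Subsingleton (Ext (ModuleCat.of A (A ⧸ IsLocalRing.maximalIdeal A)) (ModuleCat.of A M) i) := by
  unfold LocCoh.depth LocCoh.idealDepth at hd
  split_ifs at hd with h
  · exact absurd hd (ENat.top_ne_coe d)
  · exact ((H9Rees.rees A (IsLocalRing.maximalIdeal A) M d).mp hd).1 i hi

theorem main' (d : ℕ) (h0 : ∀ i : ℕ, i < d → Subsingleton
      (Ext (ModuleCat.of A (A ⧸ IsLocalRing.maximalIdeal A)) (ModuleCat.of A M) i)) :
    ∀ (r : ℕ) (N : Type u) [AddCommGroup N] [Module A N] [Module.Finite A N],
      Module.supportDim A N < (r : WithBot ℕ∞) → ∀ i : ℕ, i + r ≤ d →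
      Subsingleton (Ext (ModuleCat.of A N) (ModuleCat.of A M) i) := by
  intro r
  induction r with
  | zero =>
    intro N _ _ _ hlt i hi
    have hbot : Module.supportDim A N = ⊥ := by
      have h0 : ((0 : ℕ) : WithBot ℕ∞) = ((⊥ : ℕ∞) : WithBot ℕ∞) := by simp
      rw [h0] at hlt
      exact WithBot.lt_coe_bot.mp hlt
    haveI := (Module.supportDim_eq_bot_iff_subsingleton A N).mp hbot
    exact ext_zero_of_subsingleton A N _ i
  | succ r ih =>
    intro N _ _ hN
    induction hN using IsNoetherianRing.induction_on_isQuotientEquivQuotientPrime A with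
    | subsingleton N =>
      intro _ i _
      exact ext_zero_of_subsingleton A N _ i
    | quotient N p f =>
      intro hlt i hi
      apply ext_of_equiv A N (A ⧸ p.asIdeal) f
      rw [Module.supportDim_eq_of_equiv f] at hlt
      by_cases hp : p.asIdeal = IsLocalRing.maximalIdeal A
      · rw [hp]
        exact h0 i (by omega)
      · have hle : p.asIdeal ≤ IsLocalRing.maximalIdeal A :=
          IsLocalRing.le_maximalIdeal p.2.ne_top
        obtain ⟨x, hxm, hxp⟩ : ∃ x ∈ IsLocalRing.maximalIdeal A, x ∉ p.asIdeal := by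
          by_contra hcon
          push Not at hcon
          exact hp (le_antisymm hle hcon)
        have hreg : IsSMulRegular (A ⧸ p.asIdeal) x := by
          intro y y' h
          have h' : (Ideal.Quotient.mk p.asIdeal x) * y = (Ideal.Quotient.mk p.asIdeal x) * y' := by
            simpa [Algebra.smul_def] using h
          refine mul_left_cancel₀ ?_ h'
          intro h0
          exact hxp (Ideal.Quotient.eq_zero_iff_mem.mp h0)
        have hdim := Module.supportDim_quotSMulTop_succ_eq_supportDim hreg hxm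
        have hlt' : Module.supportDim A (QuotSMulTop x (A ⧸ p.asIdeal)) < (r : WithBot ℕ∞) := by
          refine lt_of_not_ge (fun h => ?_)
          have h2 := add_le_add h (le_refl (1 : WithBot ℕ∞))
          rw [hdim] at h2
          have h3 : ((r + 1 : ℕ) : WithBot ℕ∞) = (r : WithBot ℕ∞) + 1 := by push_cast; rfl
          rw [h3] at hlt
          exact absurd h2 (not_le.mpr hlt)
        haveI := ih (QuotSMulTop x (A ⧸ p.asIdeal)) hlt' (i + 1) (by omega)
        obtain ⟨w, hmono, hepi, hex⟩ := H9TorShift.ses_of_exact A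
          (LinearMap.lsmul A (A ⧸ p.asIdeal) x)
          (x • (⊤ : Submodule A (A ⧸ p.asIdeal))).mkQ hreg (Submodule.mkQ_surjective _)
          (H9ExtReg.exact_lsmul_mkQ A _ x)
        have hS : (ShortComplex.mk (ModuleCat.ofHom (LinearMap.lsmul A (A ⧸ p.asIdeal) x))
            (ModuleCat.ofHom (x • (⊤ : Submodule A (A ⧸ p.asIdeal))).mkQ) w).ShortExact :=
          { exact := hex, mono_f := hmono, epi_g := hepi }
        have hrid : x • 𝟙 (ModuleCat.of A (A ⧸ p.asIdeal)) =
            ModuleCat.ofHom (LinearMap.lsmul A (A ⧸ p.asIdeal) x) := by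
          ext y
          rfl
        have hsurj : ∀ y : Ext (ModuleCat.of A (A ⧸ p.asIdeal)) (ModuleCat.of A M) i,
            ∃ z : Ext (ModuleCat.of A (A ⧸ p.asIdeal)) (ModuleCat.of A M) i, y = x • z := by
          intro y
          obtain ⟨z, hz⟩ := Ext.contravariant_sequence_exact₁ hS (ModuleCat.of A M) y
            (n₁ := i + 1) (by omega) (Subsingleton.elim _ _)
          refine ⟨z, ?_⟩
          rw [← hz]
          change (Ext.mk₀ (ModuleCat.ofHom (LinearMap.lsmul A (A ⧸ p.asIdeal) x))).comp z _ = _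
          rw [← hrid, Ext.mk₀_smul, Ext.smul_comp, Ext.mk₀_id_comp]
        refine ⟨fun a b => ?_⟩
        have htop : (⊤ : Submodule A
            (Ext (ModuleCat.of A (A ⧸ p.asIdeal)) (ModuleCat.of A M) i)) = ⊥ := by
          apply Submodule.eq_bot_of_le_smul_of_le_jacobson_bot (IsLocalRing.maximalIdeal A) ⊤
            Module.Finite.fg_top
          · intro y _
            obtain ⟨z, rfl⟩ := hsurj y
            exact Submodule.smul_mem_smul hxm Submodule.mem_top
          · exact IsLocalRing.maximalIdeal_le_jacobson ⊥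
        have key : ∀ y : Ext (ModuleCat.of A (A ⧸ p.asIdeal)) (ModuleCat.of A M) i, y = 0 := by
          intro y
          have hy : y ∈ (⊤ : Submodule A
            (Ext (ModuleCat.of A (A ⧸ p.asIdeal)) (ModuleCat.of A M) i)) := Submodule.mem_top
          rw [htop] at hy
          exact (Submodule.mem_bot A).mp hy
        rw [key a, key b]
    | exact N₁ N₂ N₃ f g hf hg hfg h₁ h₃ =>
      intro hlt i hi
      haveI := h₁ (lt_of_le_of_lt (Module.supportDim_le_of_injective f hf) hlt) i hi
      haveI := h₃ (lt_of_le_of_lt (Module.supportDim_le_of_surjective g hg) hlt) i hi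
      obtain ⟨w, hmono, hepi, hex⟩ := H9TorShift.ses_of_exact A f g hf hg hfg
      have hS : (ShortComplex.mk (ModuleCat.ofHom f) (ModuleCat.ofHom g) w).ShortExact :=
        { exact := hex, mono_f := hmono, epi_g := hepi }
      refine ⟨fun a b => ?_⟩
      have key : ∀ y : Ext (ModuleCat.of A N₂) (ModuleCat.of A M) i, y = 0 := by
        intro y
        obtain ⟨y₃, rfl⟩ := Ext.contravariant_sequence_exact₂ hS (ModuleCat.of A M) y
          (Subsingleton.elim _ _)
        rw [Subsingleton.elim y₃ 0, Ext.comp_zero]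
      rw [key a, key b]

theorem main_gen (Pi : ℕ → ℕ → Prop) (hstep : ∀ r i, Pi (r + 1) i → Pi r (i + 1))
    (h0 : ∀ r i : ℕ, Pi (r + 1) i → Subsingleton
      (Ext (ModuleCat.of A (A ⧸ IsLocalRing.maximalIdeal A)) (ModuleCat.of A M) i)) :
    ∀ (r : ℕ) (N : Type u) [AddCommGroup N] [Module A N] [Module.Finite A N],
      Module.supportDim A N < (r : WithBot ℕ∞) → ∀ i : ℕ, Pi r i →
      Subsingleton (Ext (ModuleCat.of A N) (ModuleCat.of A M) i) := by
  intro r
  induction r with
  | zero =>
    intro N _ _ _ hlt i hi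
    have hbot : Module.supportDim A N = ⊥ := by
      have h0 : ((0 : ℕ) : WithBot ℕ∞) = ((⊥ : ℕ∞) : WithBot ℕ∞) := by simp
      rw [h0] at hlt
      exact WithBot.lt_coe_bot.mp hlt
    haveI := (Module.supportDim_eq_bot_iff_subsingleton A N).mp hbot
    exact ext_zero_of_subsingleton A N _ i
  | succ r ih =>
    intro N _ _ hN
    induction hN using IsNoetherianRing.induction_on_isQuotientEquivQuotientPrime A with
    | subsingleton N =>
      intro _ i _
      exact ext_zero_of_subsingleton A N _ i
    | quotient N p f =>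
      intro hlt i hi
      apply ext_of_equiv A N (A ⧸ p.asIdeal) f
      rw [Module.supportDim_eq_of_equiv f] at hlt
      by_cases hp : p.asIdeal = IsLocalRing.maximalIdeal A
      · rw [hp]
        exact h0 r i hi
      · have hle : p.asIdeal ≤ IsLocalRing.maximalIdeal A :=
          IsLocalRing.le_maximalIdeal p.2.ne_top
        obtain ⟨x, hxm, hxp⟩ : ∃ x ∈ IsLocalRing.maximalIdeal A, x ∉ p.asIdeal := by
          by_contra hcon
          push Not at hcon
          exact hp (le_antisymm hle hcon)
        have hreg : IsSMulRegular (A ⧸ p.asIdeal) x := by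
          intro y y' h
          have h' : (Ideal.Quotient.mk p.asIdeal x) * y = (Ideal.Quotient.mk p.asIdeal x) * y' := by
            simpa [Algebra.smul_def] using h
          refine mul_left_cancel₀ ?_ h'
          intro h0
          exact hxp (Ideal.Quotient.eq_zero_iff_mem.mp h0)
        have hdim := Module.supportDim_quotSMulTop_succ_eq_supportDim hreg hxm
        have hlt' : Module.supportDim A (QuotSMulTop x (A ⧸ p.asIdeal)) < (r : WithBot ℕ∞) := by
          refine lt_of_not_ge (fun h => ?_)
          have h2 := add_le_add h (le_refl (1 : WithBot ℕ∞))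
          rw [hdim] at h2
          have h3 : ((r + 1 : ℕ) : WithBot ℕ∞) = (r : WithBot ℕ∞) + 1 := by push_cast; rfl
          rw [h3] at hlt
          exact absurd h2 (not_le.mpr hlt)
        haveI := ih (QuotSMulTop x (A ⧸ p.asIdeal)) hlt' (i + 1) (hstep r i hi)
        obtain ⟨w, hmono, hepi, hex⟩ := H9TorShift.ses_of_exact A
          (LinearMap.lsmul A (A ⧸ p.asIdeal) x)
          (x • (⊤ : Submodule A (A ⧸ p.asIdeal))).mkQ hreg (Submodule.mkQ_surjective _)
          (H9ExtReg.exact_lsmul_mkQ A _ x)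
        have hS : (ShortComplex.mk (ModuleCat.ofHom (LinearMap.lsmul A (A ⧸ p.asIdeal) x))
            (ModuleCat.ofHom (x • (⊤ : Submodule A (A ⧸ p.asIdeal))).mkQ) w).ShortExact :=
          { exact := hex, mono_f := hmono, epi_g := hepi }
        have hrid : x • 𝟙 (ModuleCat.of A (A ⧸ p.asIdeal)) =
            ModuleCat.ofHom (LinearMap.lsmul A (A ⧸ p.asIdeal) x) := by
          ext y
          rfl
        have hsurj : ∀ y : Ext (ModuleCat.of A (A ⧸ p.asIdeal)) (ModuleCat.of A M) i,
            ∃ z : Ext (ModuleCat.of A (A ⧸ p.asIdeal)) (ModuleCat.of A M) i, y = x • z := by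
          intro y
          obtain ⟨z, hz⟩ := Ext.contravariant_sequence_exact₁ hS (ModuleCat.of A M) y
            (n₁ := i + 1) (by omega) (Subsingleton.elim _ _)
          refine ⟨z, ?_⟩
          rw [← hz]
          change (Ext.mk₀ (ModuleCat.ofHom (LinearMap.lsmul A (A ⧸ p.asIdeal) x))).comp z _ = _
          rw [← hrid, Ext.mk₀_smul, Ext.smul_comp, Ext.mk₀_id_comp]
        refine ⟨fun a b => ?_⟩
        have htop : (⊤ : Submodule A
            (Ext (ModuleCat.of A (A ⧸ p.asIdeal)) (ModuleCat.of A M) i)) = ⊥ := by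
          apply Submodule.eq_bot_of_le_smul_of_le_jacobson_bot (IsLocalRing.maximalIdeal A) ⊤
            Module.Finite.fg_top
          · intro y _
            obtain ⟨z, rfl⟩ := hsurj y
            exact Submodule.smul_mem_smul hxm Submodule.mem_top
          · exact IsLocalRing.maximalIdeal_le_jacobson ⊥
        have key : ∀ y : Ext (ModuleCat.of A (A ⧸ p.asIdeal)) (ModuleCat.of A M) i, y = 0 := by
          intro y
          have hy : y ∈ (⊤ : Submodule A
            (Ext (ModuleCat.of A (A ⧸ p.asIdeal)) (ModuleCat.of A M) i)) := Submodule.mem_top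
          rw [htop] at hy
          exact (Submodule.mem_bot A).mp hy
        rw [key a, key b]
    | exact N₁ N₂ N₃ f g hf hg hfg h₁ h₃ =>
      intro hlt i hi
      haveI := h₁ (lt_of_le_of_lt (Module.supportDim_le_of_injective f hf) hlt) i hi
      haveI := h₃ (lt_of_le_of_lt (Module.supportDim_le_of_surjective g hg) hlt) i hi
      obtain ⟨w, hmono, hepi, hex⟩ := H9TorShift.ses_of_exact A f g hf hg hfg
      have hS : (ShortComplex.mk (ModuleCat.ofHom f) (ModuleCat.ofHom g) w).ShortExact :=
        { exact := hex, mono_f := hmono, epi_g := hepi }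
      refine ⟨fun a b => ?_⟩
      have key : ∀ y : Ext (ModuleCat.of A N₂) (ModuleCat.of A M) i, y = 0 := by
        intro y
        obtain ⟨y₃, rfl⟩ := Ext.contravariant_sequence_exact₂ hS (ModuleCat.of A M) y
          (Subsingleton.elim _ _)
        rw [Subsingleton.elim y₃ 0, Ext.comp_zero]
      rw [key a, key b]

theorem main (d : ℕ) (hd : LocCoh.depth A M = d) :
    ∀ (r : ℕ) (N : Type u) [AddCommGroup N] [Module A N] [Module.Finite A N],
      Module.supportDim A N < (r : WithBot ℕ∞) → ∀ i : ℕ, i + r ≤ d →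
      Subsingleton (Ext (ModuleCat.of A N) (ModuleCat.of A M) i) :=
  main' A M d (fun i hi => step0 A M d hd i hi)

omit [Module.Finite A M] in
theorem exists_nat_supportDim_lt (X : Type u) [AddCommGroup X] [Module A X] :
    ∃ r : ℕ, Module.supportDim A X < (r : WithBot ℕ∞) := by
  have h1 := Module.supportDim_le_ringKrullDim A X
  have h2 : ringKrullDim A ≠ ⊤ := ringKrullDim_ne_top
  have h3 : ringKrullDim A ≠ ⊥ := ringKrullDim_ne_bot
  obtain ⟨e, he⟩ := WithBot.ne_bot_iff_exists.mp h3
  have he' : e ≠ ⊤ := by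
    rintro rfl
    exact h2 he.symm
  obtain ⟨n, rfl⟩ := ENat.ne_top_iff_exists.mp he'
  refine ⟨n + 1, lt_of_le_of_lt h1 ?_⟩
  rw [← he]
  exact_mod_cast Nat.lt_succ_self n

/-- If `Ext^i(k, M) = 0` for all `i ≥ N₀` then `Ext^i(X, M) = 0` for all finite `X`, `i ≥ N₀`. -/
theorem ext_vanish_of_residue (N₀ : ℕ) (h : ∀ i : ℕ, N₀ ≤ i → Subsingleton
      (Ext (ModuleCat.of A (A ⧸ IsLocalRing.maximalIdeal A)) (ModuleCat.of A M) i))
    (X : Type u) [AddCommGroup X] [Module A X] [Module.Finite A X] (i : ℕ) (hi : N₀ ≤ i) :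
    Subsingleton (Ext (ModuleCat.of A X) (ModuleCat.of A M) i) := by
  obtain ⟨r, hr⟩ := exists_nat_supportDim_lt A X
  exact main_gen A M (fun _ i => N₀ ≤ i) (fun r i h => Nat.le_succ_of_le h)
    (fun r i hi => h i hi) r X hr i hi

theorem injdim_of_residue (N₀ : ℕ) (h : ∀ i : ℕ, N₀ ≤ i → Subsingleton
      (Ext (ModuleCat.of A (A ⧸ IsLocalRing.maximalIdeal A)) (ModuleCat.of A M) i)) :
    HasInjectiveDimensionLT (ModuleCat.of A M) (N₀ + 1) :=
  H9GlDim.injdim_of_ext_cyclic' A N₀ (ModuleCat.of A M)
    (fun I => ext_vanish_of_residue A M N₀ h (A ⧸ I) (N₀ + 1) (Nat.le_succ N₀))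

end Groth.Agent.H9Ischebeck
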