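import Mathlib
import Groth.Prelude.Def_CAlg
import Groth.Agent.Lib.helper9.H9_DepthFinite
import Groth.Agent.Lib.helper9.H9_Ischebeck
import Groth.Agent.S2083
import Groth.Agent.S2089

/-! For a Cohen–Macaulay module `M` over a Noetherian local ring and a proper ideal `I`:
`dim M = dim M/IM + depth_I M`. -/

namespace Groth.Agent.H9CMDim

open scoped Pointwise

universe u

variable (R : Type u) [CommRing R] [IsLocalRing R] [IsNoetherianRing R]

theorem nontrivial_of_cm (M : Type u) [AddCommGroup M] [Module R M]
    (hM : LocCoh.IsCohenMacaulayModule R M) : Nontrivial M := by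
  unfold LocCoh.IsCohenMacaulayModule at hM
  by_contra hne
  rw [not_nontrivial_iff_subsingleton] at hne
  rw [(Module.supportDim_eq_bot_iff_subsingleton R M).mpr hne] at hM
  exact WithBot.bot_ne_coe hM

theorem cm_quot (M : Type u) [AddCommGroup M] [Module R M] [Module.Finite R M]
    (hM : LocCoh.IsCohenMacaulayModule R M) (x : R) (hx : x ∈ IsLocalRing.maximalIdeal R)
    (hreg : IsSMulRegular M x) : LocCoh.IsCohenMacaulayModule R (QuotSMulTop x M) := by
  have hs : Ideal.span {x} • (⊤ : Submodule R M) = x • (⊤ : Submodule R M) :=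
    Submodule.ideal_span_singleton_smul x ⊤
  have hdim : Module.supportDim R (QuotSMulTop x M) + 1 = Module.supportDim R M :=
    Module.supportDim_quotSMulTop_succ_eq_supportDim hreg hx
  have hdim' : Module.supportDim R (M ⧸ Ideal.span {x} • (⊤ : Submodule R M)) + 1 =
      Module.supportDim R M := by
    rw [hs]
    exact hdim
  have h := (Groth.Agent.S2083.result hM x hx hdim').2.1
  rw [hs] at h
  exact h

theorem main (I : Ideal R) (hI : I ≠ ⊤) :
    ∀ (n : ℕ) (M : Type u) [AddCommGroup M] [Module R M] [Module.Finite R M],
      LocCoh.IsCohenMacaulayModule R M → LocCoh.idealDepth I M = n →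
      Module.supportDim R M =
        Module.supportDim R (M ⧸ (I • (⊤ : Submodule R M))) + ((n : ℕ∞) : WithBot ℕ∞) := by
  have hIm : I ≤ IsLocalRing.maximalIdeal R := IsLocalRing.le_maximalIdeal hI
  intro n
  induction n with
  | zero =>
    intro M _ _ _ hM hd
    haveI := nontrivial_of_cm R M hM
    have hnot : ¬ (1 : ℕ∞) ≤ LocCoh.idealDepth I M := by
      rw [hd]
      simp
    rw [H9DepthFinite.one_le_iff R I M] at hnot
    push Not at hnot
    obtain ⟨x, hx, hx0⟩ := hnot
    obtain ⟨p, hp, hle⟩ := exists_le_isAssociatedPrime_of_isNoetherianRing R x hx0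
    have hIp : I ≤ p := by
      intro r hr
      apply hle
      rw [Submodule.mem_colon_singleton, Submodule.mem_bot]
      exact hx r hr
    have h1 := Groth.Agent.S2089.result p hp
    haveI := hp.isPrime
    have hpM : (⟨p, hp.isPrime⟩ : PrimeSpectrum R) ∈ Module.support R M :=
      Module.mem_support_iff_of_finite.mpr (by
        rw [← Submodule.annihilator_top]
        exact hp.annihilator_le)
    have hpQ : (⟨p, hp.isPrime⟩ : PrimeSpectrum R) ∈
        Module.support R (M ⧸ (I • (⊤ : Submodule R M))) := by
      rw [Module.support_quotient]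
      exact ⟨hpM, by simpa [PrimeSpectrum.mem_zeroLocus] using hIp⟩
    have hann := Module.mem_support_iff_of_finite.mp hpQ
    have h2 : ringKrullDim (R ⧸ p) ≤ Module.supportDim R (M ⧸ (I • (⊤ : Submodule R M))) := by
      rw [Module.supportDim_eq_ringKrullDim_quotient_annihilator]
      exact ringKrullDim_le_of_surjective (Ideal.Quotient.factor hann)
        (Ideal.Quotient.factor_surjective hann)
    have h3 : Module.supportDim R M ≤ Module.supportDim R (M ⧸ (I • (⊤ : Submodule R M))) := by
      unfold LocCoh.IsCohenMacaulayModule at hM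
      rw [hM]
      exact h1.trans h2
    have h4 : Module.supportDim R (M ⧸ (I • (⊤ : Submodule R M))) ≤ Module.supportDim R M :=
      Module.supportDim_le_of_surjective _ (Submodule.mkQ_surjective _)
    simp only [Nat.cast_zero, WithBot.coe_zero, add_zero]
    exact le_antisymm h3 h4
  | succ n ih =>
    intro M _ _ _ hM hd
    have hone : (1 : ℕ∞) ≤ LocCoh.idealDepth I M := by
      rw [hd]
      have : 1 ≤ n + 1 := by omega
      exact_mod_cast this
    obtain ⟨x, hxI, hxreg⟩ := H9DepthFinite.exists_regular_of_one_le R I M hone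
    have hxm := hIm hxI
    haveI := nontrivial_of_cm R M hM
    have hmM : IsLocalRing.maximalIdeal R • (⊤ : Submodule R M) ≠ ⊤ := by
      intro htop
      have h1 := Submodule.eq_bot_of_le_smul_of_le_jacobson_bot (IsLocalRing.maximalIdeal R)
        (⊤ : Submodule R M) Module.Finite.fg_top (by rw [htop])
        (IsLocalRing.maximalIdeal_le_jacobson ⊥)
      exact top_ne_bot h1
    have hIM : I • (⊤ : Submodule R M) ≠ ⊤ := by
      intro htop
      apply hmM
      have hle : I • (⊤ : Submodule R M) ≤ IsLocalRing.maximalIdeal R • (⊤ : Submodule R M) :=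
        Submodule.smul_mono_left hIm
      rw [htop] at hle
      exact top_le_iff.mp hle
    have hM' := cm_quot R M hM x hxm hxreg
    have hdq := H9DepthQuot.depth_quot R I M hIM x hxI hxreg
    have hd' : LocCoh.idealDepth I (QuotSMulTop x M) = n := by
      rw [hd] at hdq
      have h5 : LocCoh.idealDepth I (QuotSMulTop x M) + 1 = (n : ℕ∞) + 1 := by
        rw [hdq]
        push_cast
        rfl
      exact (ENat.add_left_injective_of_ne_top (by simp : (1 : ℕ∞) ≠ ⊤)) h5
    have hih := ih (QuotSMulTop x M) hM' hd'
    have hdim : Module.supportDim R (QuotSMulTop x M) + 1 = Module.supportDim R M :=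
      Module.supportDim_quotSMulTop_succ_eq_supportDim hxreg hxm
    have hsupp : Module.support R (QuotSMulTop x M ⧸ (I • (⊤ : Submodule R (QuotSMulTop x M)))) =
        Module.support R (M ⧸ (I • (⊤ : Submodule R M))) := by
      rw [Module.support_quotient, Module.support_quotient, Module.support_quotSMulTop,
        Set.inter_assoc]
      congr 1
      apply Set.inter_eq_right.mpr
      intro q hq
      rw [PrimeSpectrum.mem_zeroLocus] at hq ⊢
      intro y hy
      rw [Set.mem_singleton_iff] at hy
      rw [hy]
      exact hq hxI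
    have hsd : Module.supportDim R (QuotSMulTop x M ⧸ (I • (⊤ : Submodule R (QuotSMulTop x M)))) =
        Module.supportDim R (M ⧸ (I • (⊤ : Submodule R M))) := by
      unfold Module.supportDim
      rw [hsupp]
    rw [← hdim, hih, hsd, add_assoc]
    congr 1

end Groth.Agent.H9CMDim
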