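import Mathlib

set_option autoImplicit false

universe u v

namespace Groth.Agent.H9.Melk

variable {R : Type u} [CommRing R]

/-- Melkersson's lemma, principal case: an `x`-power torsion module whose `x`-torsion is Artinian
is Artinian. -/
theorem artinian_of_principal {M : Type v} [AddCommGroup M] [Module R M] (x : R)
    (hx : ∀ m : M, ∃ n : ℕ, x ^ n • m = 0)
    (hA : IsArtinian R (Submodule.torsionBy R M x)) : IsArtinian R M := by
  classical
  set T := Submodule.torsionBy R M x with hT
  let E : Submodule R M → ℕ → Submodule R M := fun L j =>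
    (L ⊓ Submodule.torsionBy R M (x ^ (j + 1))).map (LinearMap.lsmul R M (x ^ j))
  have memE : ∀ L j z, z ∈ E L j ↔ ∃ y ∈ L, x ^ (j + 1) • y = 0 ∧ x ^ j • y = z := by
    intro L j z
    simp only [E, Submodule.mem_map, Submodule.mem_inf, Submodule.mem_torsionBy_iff,
      LinearMap.lsmul_apply]
    constructor
    · rintro ⟨y, ⟨hy1, hy2⟩, rfl⟩; exact ⟨y, hy1, hy2, rfl⟩
    · rintro ⟨y, hy1, hy2, rfl⟩; exact ⟨y, ⟨hy1, hy2⟩, rfl⟩
  have E_le_T : ∀ L j, E L j ≤ T := by
    intro L j z hz
    obtain ⟨y, -, hy2, rfl⟩ := (memE L j z).1 hz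
    rw [hT, Submodule.mem_torsionBy_iff, smul_smul, ← pow_succ', hy2]
  have E_mono : ∀ {L L' : Submodule R M} (_ : L ≤ L') (j : ℕ), E L j ≤ E L' j := by
    intro L L' h j z hz
    obtain ⟨y, hy1, hy2, rfl⟩ := (memE L j z).1 hz
    exact (memE L' j _).2 ⟨y, h hy1, hy2, rfl⟩
  have E_anti : ∀ (L : Submodule R M) {j j' : ℕ} (_ : j ≤ j'), E L j' ≤ E L j := by
    intro L j j' h z hz
    obtain ⟨y, hy1, hy2, rfl⟩ := (memE L j' z).1 hz
    refine (memE L j _).2 ⟨x ^ (j' - j) • y, L.smul_mem _ hy1, ?_, ?_⟩
    · rw [smul_smul, ← pow_add, show j + 1 + (j' - j) = j' + 1 by omega, hy2]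
    · rw [smul_smul, ← pow_add, show j + (j' - j) = j' by omega]
  let c : Submodule R M → Submodule R T := Submodule.comap T.subtype
  have c_inj : ∀ {P Q : Submodule R M}, P ≤ T → Q ≤ T → c P = c Q → P = Q := by
    intro P Q hP hQ h
    have h1 : (c P).map T.subtype = P := by
      rw [Submodule.map_comap_subtype, inf_eq_right.2 hP]
    have h2 : (c Q).map T.subtype = Q := by
      rw [Submodule.map_comap_subtype, inf_eq_right.2 hQ]
    rw [← h1, ← h2, h]
  rw [← monotone_stabilizes_iff_artinian]
  intro f
  let L : ℕ → Submodule R M := fun i => OrderDual.ofDual (f i)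
  have L_anti : ∀ {i i' : ℕ}, i ≤ i' → L i' ≤ L i := fun h => f.monotone h
  have stab : ∀ j, ∃ n, ∀ i, n ≤ i → c (E (L n) j) = c (E (L i) j) := by
    intro j
    let g : ℕ →o (Submodule R T)ᵒᵈ :=
      ⟨fun i => OrderDual.toDual (c (E (L i) j)), fun i i' h =>
        Submodule.comap_mono (E_mono (L_anti h) j)⟩
    obtain ⟨n, hn⟩ := IsArtinian.monotone_stabilizes g
    exact ⟨n, fun i hi => congrArg OrderDual.ofDual (hn i hi)⟩
  choose N hN using stab
  obtain ⟨k, hk⟩ : ∃ k, ∀ i, k ≤ i → c (E (L k) k) = c (E (L i) i) := by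
    let g : ℕ →o (Submodule R T)ᵒᵈ :=
      ⟨fun i => OrderDual.toDual (c (E (L i) i)), fun i i' h =>
        Submodule.comap_mono ((E_mono (L_anti h) i').trans (E_anti (L i) h))⟩
    obtain ⟨n, hn⟩ := IsArtinian.monotone_stabilizes g
    exact ⟨n, fun i hi => congrArg OrderDual.ofDual (hn i hi)⟩
  set K := max k ((Finset.range k).sup N) with hK
  have hEK : ∀ j i, K ≤ i → E (L K) j = E (L i) j := by
    intro j i hi
    apply c_inj (E_le_T _ _) (E_le_T _ _)
    by_cases hj : j < k
    · have hNj : N j ≤ K :=
        le_trans (Finset.le_sup (f := N) (Finset.mem_range.2 hj)) (le_max_right _ _)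
      rw [← hN j K hNj, ← hN j i (hNj.trans hi)]
    · rw [not_lt] at hj
      have hkK : k ≤ K := le_max_left _ _
      have aux : ∀ i', k ≤ i' → c (E (L i') j) = c (E (L k) k) := by
        intro i' hi'
        apply le_antisymm
        · exact Submodule.comap_mono ((E_mono (L_anti hi') j).trans (E_anti (L k) hj))
        · rw [hk (max i' j) (le_max_of_le_left hi')]
          exact Submodule.comap_mono
            ((E_mono (L_anti (le_max_left i' j)) _).trans (E_anti (L i') (le_max_right i' j)))
      rw [aux K hkK, aux i (hkK.trans hi)]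
  refine ⟨K, fun i hi => ?_⟩
  have key : ∀ j, ∀ y ∈ L K, x ^ (j + 1) • y = 0 → y ∈ L i := by
    intro j
    induction j with
    | zero =>
      intro y hy hxy
      have h0 : y ∈ E (L K) 0 := (memE _ _ _).2 ⟨y, hy, hxy, by simp⟩
      rw [hEK 0 i hi] at h0
      obtain ⟨z, hz, -, hzy⟩ := (memE _ _ _).1 h0
      rw [pow_zero, one_smul] at hzy
      exact hzy ▸ hz
    | succ j ih =>
      intro y hy hxy
      have h0 : x ^ (j + 1) • y ∈ E (L K) (j + 1) := (memE _ _ _).2 ⟨y, hy, hxy, rfl⟩
      rw [hEK (j + 1) i hi] at h0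
      obtain ⟨z, hz, hz0, hzy⟩ := (memE _ _ _).1 h0
      have hyz : y - z ∈ L i :=
        ih (y - z) ((L K).sub_mem hy (L_anti hi hz)) (by rw [smul_sub, hzy, sub_self])
      have := (L i).add_mem hyz hz
      simpa using this
  have hle : L K ≤ L i := by
    intro y hy
    obtain ⟨n, hn⟩ := hx y
    exact key n y hy (by rw [pow_succ', mul_smul, hn, smul_zero])
  exact le_antisymm (f.monotone hi) hle

/-- Melkersson's lemma for a finitely generated ideal, by induction on a generating set. -/
theorem artinian_of_finset (s : Finset R) :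
    ∀ (M : Type v) [AddCommGroup M] [Module R M],
      (∀ m : M, ∃ n : ℕ, ∀ y ∈ (Ideal.span (s : Set R)) ^ n, y • m = 0) →
      IsArtinian R (Submodule.torsionBySet R M ((Ideal.span (s : Set R) : Ideal R) : Set R)) →
      IsArtinian R M := by
  classical
  induction s using Finset.induction_on with
  | empty =>
    intro M _ _ _ hA
    have htop : Submodule.torsionBySet R M ((Ideal.span ((∅ : Finset R) : Set R) : Ideal R) : Set R)
        = ⊤ := by
      rw [eq_top_iff]
      intro m _
      rw [Submodule.mem_torsionBySet_iff]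
      rintro ⟨a, ha⟩
      have : a = 0 := by simpa using ha
      simp [this]
    rw [htop] at hA
    exact isArtinian_of_linearEquiv (Submodule.topEquiv (R := R) (M := M))
  | insert x s hxs ih =>
    intro M _ _ hM hA
    set a' : Ideal R := Ideal.span ((insert x s : Finset R) : Set R) with ha'
    set b : Ideal R := Ideal.span (s : Set R) with hb
    have hba : b ≤ a' := Ideal.span_mono (by
      intro y hy
      exact Finset.mem_coe.2 (Finset.mem_insert_of_mem (Finset.mem_coe.1 hy)))
    have hxa : x ∈ a' := Ideal.subset_span (Finset.mem_coe.2 (Finset.mem_insert_self x s))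
    set N : Submodule R M := Submodule.torsionBy R M x with hN
    -- N is b-power torsion
    have hNtors : ∀ m : N, ∃ n : ℕ, ∀ y ∈ b ^ n, y • m = 0 := by
      intro m
      obtain ⟨n, hn⟩ := hM (m : M)
      refine ⟨n, fun y hy => Subtype.ext ?_⟩
      rw [Submodule.coe_smul, hn y (Ideal.pow_right_mono hba n hy), Submodule.coe_zero]
    -- N[b] is Artinian
    have hNb : IsArtinian R (Submodule.torsionBySet R N (b : Set R)) := by
      let φ : Submodule.torsionBySet R N (b : Set R) →ₗ[R] Submodule.torsionBySet R M (a' : Set R) :=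
        LinearMap.codRestrict _ (N.subtype.comp (Submodule.torsionBySet R N (b : Set R)).subtype)
          (by
            intro u
            rw [← Submodule.torsionBySet_eq_torsionBySet_span, Submodule.mem_torsionBySet_iff]
            rintro ⟨y, hy⟩
            have hy' : y = x ∨ y ∈ s := by simpa using hy
            rcases hy' with rfl | hys
            · have h1 : ((u : N) : M) ∈ Submodule.torsionBy R M y := (u : N).2
              rw [Submodule.mem_torsionBy_iff] at h1
              simpa using h1
            · have hu := u.2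
              rw [Submodule.mem_torsionBySet_iff] at hu
              have := hu ⟨y, Ideal.subset_span (Finset.mem_coe.2 hys)⟩
              have h2 := congrArg (Subtype.val : N → M) this
              simpa using h2)
      have hφ : Function.Injective φ := by
        intro u v huv
        have := congrArg (Subtype.val) huv
        simp only [φ, LinearMap.codRestrict_apply, LinearMap.comp_apply, Submodule.subtype_apply] at this
        exact Subtype.ext (Subtype.ext this)
      exact isArtinian_of_injective φ hφ
    have hNart : IsArtinian R N := ih N hNtors hNb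
    apply artinian_of_principal x _ hNart
    intro m
    obtain ⟨n, hn⟩ := hM m
    exact ⟨n, hn _ (Ideal.pow_mem_pow hxa n)⟩

end Groth.Agent.H9.Melk
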