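import Mathlib
import Groth.Prelude.Def_Wider
import Groth.Agent.Lib.helper9.H9_Melk

set_option autoImplicit false

universe u v

namespace Groth.Agent.H9.EssArt

variable {R : Type u} [CommRing R] [IsNoetherianRing R] (m : Ideal R) [hm : m.IsMaximal]
variable {K : Type v} {E : Type v} [AddCommGroup K] [Module R K] [AddCommGroup E] [Module R E]

/-- An essential extension of a module killed by a maximal ideal `m` (over a Noetherian ring)
is `m`-power torsion. -/
theorem powerTorsion (f : K →ₗ[R] E) (hf : InjHull.IsEssentialInj f)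
    (hK : ∀ a ∈ m, ∀ x : K, a • x = 0) (e : E) : ∃ n : ℕ, ∀ a ∈ m ^ n, a • e = 0 := by
  classical
  let N : Submodule R E := Submodule.span R {e}
  set I := Module.annihilator R N with hI
  have hmin : ∀ p ∈ I.minimalPrimes, m ≤ p := by
    intro p hp
    have hass := Module.associatedPrimes.minimalPrimes_annihilator_subset_associatedPrimes R N hp
    obtain ⟨hpp, y, hy⟩ := (isAssociatedPrime_iff).1 hass
    have hmem : ∀ r : R, r ∈ p ↔ r • (y : E) = 0 := by
      intro r
      rw [hy, Submodule.mem_colon_singleton, Submodule.mem_bot]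
      constructor
      · intro h; simpa using congrArg (Subtype.val : N → E) h
      · intro h; exact Subtype.ext (by simpa using h)
    have hy0 : (y : E) ≠ 0 := by
      intro h0
      apply hpp.ne_top
      rw [Ideal.eq_top_iff_one, hmem, h0, smul_zero]
    have hne : Submodule.span R {(y : E)} ≠ ⊥ := by
      rw [Ne, Submodule.span_singleton_eq_bot]; exact hy0
    have hess := hf.essential _ hne
    obtain ⟨z, hz, hz0⟩ := Submodule.exists_mem_ne_zero_of_ne_bot hess
    obtain ⟨hz1, hz2⟩ := Submodule.mem_inf.1 hz
    obtain ⟨s, rfl⟩ := Submodule.mem_span_singleton.1 hz1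
    obtain ⟨k, hk⟩ := hz2
    have hs : s ∉ p := fun h => hz0 ((hmem s).1 h)
    intro a ha
    have h1 : (a * s) • (y : E) = 0 := by
      rw [mul_smul, ← hk, ← map_smul, hK a ha k, map_zero]
    rcases hpp.mem_or_mem ((hmem _).2 h1) with h | h
    · exact h
    · exact absurd h hs
  have hrad : m ≤ I.radical := by
    rw [← Ideal.sInf_minimalPrimes]
    exact le_sInf hmin
  obtain ⟨n, hn⟩ := Ideal.exists_pow_le_of_le_radical_of_fg hrad
    ((isNoetherianRing_iff_ideal_fg R).1 inferInstance m)
  refine ⟨n, fun a ha => ?_⟩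
  have h1 := hn ha
  rw [hI, Module.mem_annihilator] at h1
  have := h1 ⟨e, Submodule.mem_span_singleton_self e⟩
  simpa using congrArg (Subtype.val : N → E) this

/-- The `m`-torsion of an essential extension of a module killed by `m` lies in the image. -/
theorem torsion_le_range (f : K →ₗ[R] E) (hf : InjHull.IsEssentialInj f) :
    Submodule.torsionBySet R E (m : Set R) ≤ LinearMap.range f := by
  intro y hy
  rw [Submodule.mem_torsionBySet_iff] at hy
  by_cases hy0 : y = 0
  · rw [hy0]; exact zero_mem _
  have hne : Submodule.span R {y} ≠ ⊥ := by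
    rw [Ne, Submodule.span_singleton_eq_bot]; exact hy0
  have hess := hf.essential _ hne
  obtain ⟨z, hz, hz0⟩ := Submodule.exists_mem_ne_zero_of_ne_bot hess
  obtain ⟨hz1, hz2⟩ := Submodule.mem_inf.1 hz
  obtain ⟨s, rfl⟩ := Submodule.mem_span_singleton.1 hz1
  obtain ⟨k, hk⟩ := hz2
  have hs : s ∉ m := fun h => hz0 (hy ⟨s, h⟩)
  obtain ⟨t, i, hi, hti⟩ := Ideal.IsMaximal.exists_inv hm hs
  -- t * s + i = 1
  have : y = f (t • k) := by
    have h1 : (1 : R) • y = (t * s + i) • y := by rw [hti]
    rw [one_smul, add_smul, hy ⟨i, hi⟩, add_zero, mul_smul, ← hk, ← map_smul] at h1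
    exact h1
  exact ⟨t • k, this.symm⟩

/-- An essential extension of an Artinian module killed by `m` is Artinian. -/
theorem isArtinian (f : K →ₗ[R] E) (hf : InjHull.IsEssentialInj f)
    (hK : ∀ a ∈ m, ∀ x : K, a • x = 0) [IsArtinian R K] : IsArtinian R E := by
  classical
  obtain ⟨s, hs⟩ := (isNoetherianRing_iff_ideal_fg R).1 inferInstance m
  have hA : IsArtinian R (Submodule.torsionBySet R E (m : Set R)) := by
    have : IsArtinian R (LinearMap.range f) :=
      isArtinian_of_surjective _ f.rangeRestrict (LinearMap.surjective_rangeRestrict f)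
    exact isArtinian_of_le (torsion_le_range m f hf)
  have hP := powerTorsion m f hf hK
  rw [← hs] at hA hP
  exact Groth.Agent.H9.Melk.artinian_of_finset s E hP hA

end Groth.Agent.H9.EssArt
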