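import Mathlib
import Groth.Prelude.Def_Wider
import Groth.Agent.Lib.helper9.H9_EssArt

set_option autoImplicit false

universe u

namespace Groth.Agent.H9.MatlisLen

variable {R : Type u} [CommRing R] [IsLocalRing R]
variable {E : Type u} [AddCommGroup E] [Module R E]

omit [IsLocalRing R] in
theorem smul_residue (r : R) [IsLocalRing R] (a : IsLocalRing.ResidueField R) :
    r • a = IsLocalRing.residue R r * a := by
  rw [Algebra.smul_def, IsLocalRing.ResidueField.algebraMap_eq]

/-- `f 1` is killed by the maximal ideal. -/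
theorem smul_f_one (f : IsLocalRing.ResidueField R →ₗ[R] E) (r : R)
    (hr : r ∈ IsLocalRing.maximalIdeal R) : r • f 1 = 0 := by
  rw [← map_smul, smul_residue, (IsLocalRing.residue_eq_zero_iff r).2 hr, zero_mul, map_zero]

/-- Separation: a nonzero element of `G` is detected by a map into the hull. -/
theorem sep (f : IsLocalRing.ResidueField R →ₗ[R] E) (hf : InjHull.IsInjectiveHull f)
    (G : Type u) [AddCommGroup G] [Module R G] (g : G) (hg : g ≠ 0) :
    ∃ φ : G →ₗ[R] E, φ g ≠ 0 := by
  classical
  haveI := hf.isInjective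
  set e₀ : E := f 1 with he₀
  have he₀ne : e₀ ≠ 0 := by
    intro h
    have := hf.injective (h.trans (map_zero f).symm)
    exact one_ne_zero this
  set I : Ideal R := LinearMap.ker (LinearMap.toSpanSingleton R G g) with hI
  have hIne : I ≠ ⊤ := by
    intro h
    have : (1 : R) ∈ I := by rw [h]; trivial
    rw [hI, LinearMap.mem_ker, LinearMap.toSpanSingleton_apply, one_smul] at this
    exact hg this
  have hIm : I ≤ IsLocalRing.maximalIdeal R := IsLocalRing.le_maximalIdeal hIne
  let ι : (R ⧸ I) →ₗ[R] G := Submodule.liftQ I (LinearMap.toSpanSingleton R G g) le_rfl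
  have hι : Function.Injective ι := by
    rw [← LinearMap.ker_eq_bot]
    exact Submodule.ker_liftQ_eq_bot' I _ rfl
  let ψ : (R ⧸ I) →ₗ[R] E := Submodule.liftQ I (LinearMap.toSpanSingleton R E e₀) (by
    intro r hr
    rw [LinearMap.mem_ker, LinearMap.toSpanSingleton_apply]
    exact smul_f_one f r (hIm hr))
  obtain ⟨φ, hφ⟩ := Module.Injective.extension_property R E (R ⧸ I) G ι hι ψ
  refine ⟨φ, ?_⟩
  have h1 : ι (Submodule.Quotient.mk 1) = g := by
    change Submodule.liftQ I _ _ (Submodule.Quotient.mk 1) = g
    rw [Submodule.liftQ_apply, LinearMap.toSpanSingleton_apply, one_smul]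
  have h2 : ψ (Submodule.Quotient.mk 1) = e₀ := by
    change Submodule.liftQ I _ _ (Submodule.Quotient.mk 1) = e₀
    rw [Submodule.liftQ_apply, LinearMap.toSpanSingleton_apply, one_smul]
  rw [← h1, ← LinearMap.comp_apply, hφ, h2]
  exact he₀ne

/-- The evaluation map into the double dual is injective. -/
theorem eval_injective (f : IsLocalRing.ResidueField R →ₗ[R] E) (hf : InjHull.IsInjectiveHull f)
    (G : Type u) [AddCommGroup G] [Module R G] :
    Function.Injective (LinearMap.applyₗ : G →ₗ[R] (G →ₗ[R] E) →ₗ[R] E) := by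
  rw [injective_iff_map_eq_zero]
  intro g hg
  by_contra hg0
  obtain ⟨φ, hφ⟩ := sep f hf G g hg0
  apply hφ
  have := LinearMap.congr_fun hg φ
  simpa using this

variable [IsNoetherianRing R]

/-- The dual of a simple module is simple. -/
theorem dual_simple (f : IsLocalRing.ResidueField R →ₗ[R] E) (hf : InjHull.IsInjectiveHull f)
    (S : Type u) [AddCommGroup S] [Module R S] [hS : IsSimpleModule R S] :
    IsSimpleModule R (S →ₗ[R] E) := by
  classical
  set m := IsLocalRing.maximalIdeal R with hm
  obtain ⟨I, hImax, ⟨e⟩⟩ := isSimpleModule_iff_quot_maximal.1 hS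
  have hIm : I = m := IsLocalRing.eq_maximalIdeal hImax
  subst hIm
  set s : S := e.symm (Ideal.Quotient.mk _ 1) with hs
  have hs0 : s ≠ 0 := by
    intro h
    have h1 : (Ideal.Quotient.mk (IsLocalRing.maximalIdeal R) (1 : R)) = 0 := by
      have := congrArg e h
      simpa [hs] using this
    rw [Ideal.Quotient.eq_zero_iff_mem] at h1
    exact (Ideal.ne_top_iff_one _).1 (IsLocalRing.maximalIdeal.isMaximal R).ne_top h1
  have hgen : ∀ x : S, ∃ r : R, x = r • s := by
    intro x
    obtain ⟨r, hr⟩ := Ideal.Quotient.mk_surjective (e x)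
    refine ⟨r, ?_⟩
    apply e.injective
    rw [map_smul, hs, LinearEquiv.apply_symm_apply, ← hr]
    change _ = Ideal.Quotient.mk _ (r * 1)
    rw [mul_one]
  have hms : ∀ r ∈ IsLocalRing.maximalIdeal R, r • s = 0 := by
    intro r hr
    apply e.injective
    rw [map_smul, hs, LinearEquiv.apply_symm_apply, map_zero]
    change Ideal.Quotient.mk _ (r * 1) = 0
    rw [mul_one, Ideal.Quotient.eq_zero_iff_mem]
    exact hr
  rw [isSimpleModule_iff_toSpanSingleton_surjective]
  constructor
  · obtain ⟨φ, hφ⟩ := sep f hf S s hs0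
    exact ⟨⟨φ, 0, fun h => hφ (by rw [h, LinearMap.zero_apply])⟩⟩
  · intro φ hφ ψ
    have hφs : φ s ≠ 0 := by
      intro h
      apply hφ
      ext x
      obtain ⟨r, rfl⟩ := hgen x
      rw [map_smul, h, smul_zero, LinearMap.zero_apply]
    have hsoc : ∀ χ : S →ₗ[R] E, χ s ∈ LinearMap.range f := by
      intro χ
      apply Groth.Agent.H9.EssArt.torsion_le_range (IsLocalRing.maximalIdeal R) f hf.toIsEssentialInj
      rw [Submodule.mem_torsionBySet_iff]
      rintro ⟨r, hr⟩
      change r • χ s = 0
      rw [← map_smul, hms r hr, map_zero]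
    obtain ⟨a, ha⟩ := hsoc φ
    obtain ⟨b, hb⟩ := hsoc ψ
    have ha0 : a ≠ 0 := by
      intro h
      apply hφs
      rw [← ha, h, map_zero]
    obtain ⟨c, hc⟩ := IsLocalRing.residue_surjective (b * a⁻¹)
    refine ⟨c, ?_⟩
    have key : c • φ s = ψ s := by
      rw [← ha, ← hb, ← map_smul, smul_residue, hc, inv_mul_cancel_right₀ ha0]
    rw [LinearMap.toSpanSingleton_apply]
    ext x
    obtain ⟨r, rfl⟩ := hgen x
    rw [LinearMap.smul_apply, map_smul, map_smul, smul_comm, key]

/-- Matlis duality preserves length for modules of finite length. -/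
theorem length_dual (f : IsLocalRing.ResidueField R →ₗ[R] E) (hf : InjHull.IsInjectiveHull f)
    (M : Type u) [AddCommGroup M] [Module R M] (hM : IsFiniteLength R M) :
    Module.length R (M →ₗ[R] E) = Module.length R M := by
  classical
  haveI := hf.isInjective
  induction hM with
  | of_subsingleton =>
    rw [Module.length_eq_zero, Module.length_eq_zero]
  | @of_simple_quotient M _ _ N _ hN ih =>
    let α : ((M ⧸ N) →ₗ[R] E) →ₗ[R] (M →ₗ[R] E) := LinearMap.lcomp R E N.mkQ
    let β : (M →ₗ[R] E) →ₗ[R] (N →ₗ[R] E) := LinearMap.lcomp R E N.subtype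
    have hα : Function.Injective α := by
      intro φ₁ φ₂ h
      ext x
      exact LinearMap.congr_fun h x
    have hβ : Function.Surjective β := by
      intro ψ
      obtain ⟨φ, hφ⟩ := Module.Injective.extension_property R E N M N.subtype
        N.injective_subtype ψ
      exact ⟨φ, hφ⟩
    have hex : Function.Exact α β := by
      intro φ
      constructor
      · intro h
        have hle : N ≤ LinearMap.ker φ := by
          intro x hx
          have := LinearMap.congr_fun h ⟨x, hx⟩
          simpa [β] using this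
        refine ⟨N.liftQ φ hle, ?_⟩
        ext x
        simp [α]
      · rintro ⟨χ, rfl⟩
        ext x
        change χ (N.mkQ (x : M)) = 0
        rw [Submodule.mkQ_apply, (Submodule.Quotient.mk_eq_zero N).2 x.2, map_zero]
    haveI : IsSimpleModule R ((M ⧸ N) →ₗ[R] E) := dual_simple f hf (M ⧸ N)
    rw [Module.length_eq_add_of_exact α β hα hβ hex, ih,
      Module.length_eq_one (R := R) (M := (M ⧸ N) →ₗ[R] E),
      Module.length_eq_add_of_exact N.subtype N.mkQ N.injective_subtype N.mkQ_surjective
        (LinearMap.exact_subtype_mkQ N), Module.length_eq_one (R := R) (M := M ⧸ N), add_comm]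

/-- For modules of finite length the evaluation map into the double dual is bijective. -/
theorem eval_bijective (f : IsLocalRing.ResidueField R →ₗ[R] E) (hf : InjHull.IsInjectiveHull f)
    (M : Type u) [AddCommGroup M] [Module R M] (hM : IsFiniteLength R M) :
    Function.Bijective (LinearMap.applyₗ : M →ₗ[R] (M →ₗ[R] E) →ₗ[R] E) := by
  classical
  have hinj := eval_injective f hf M
  refine ⟨hinj, ?_⟩
  have h1 : Module.length R (M →ₗ[R] E) = Module.length R M := length_dual f hf M hM
  have hfin : Module.length R M ≠ ⊤ := Module.length_ne_top_iff.2 hM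
  have hM' : IsFiniteLength R (M →ₗ[R] E) := Module.length_ne_top_iff.1 (by rw [h1]; exact hfin)
  have h2 : Module.length R ((M →ₗ[R] E) →ₗ[R] E) = Module.length R M := by
    rw [length_dual f hf _ hM', h1]
  set ev : M →ₗ[R] (M →ₗ[R] E) →ₗ[R] E := LinearMap.applyₗ with hev
  have h3 := Module.length_eq_add_of_exact ev (LinearMap.range ev).mkQ hinj
    (Submodule.mkQ_surjective _) (LinearMap.exact_map_mkQ_range ev)
  rw [h2] at h3
  have h4 : Module.length R (((M →ₗ[R] E) →ₗ[R] E) ⧸ LinearMap.range ev) = 0 := by
    have : Module.length R M + Module.length R (((M →ₗ[R] E) →ₗ[R] E) ⧸ LinearMap.range ev)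
        = Module.length R M + 0 := by rw [add_zero]; exact h3.symm
    exact (ENat.add_right_injective_of_ne_top hfin) this
  rw [Module.length_eq_zero_iff, Submodule.Quotient.subsingleton_iff] at h4
  exact LinearMap.range_eq_top.1 h4

end Groth.Agent.H9.MatlisLen
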