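import Mathlib
import Groth.Prelude.Def_Wider
import Groth.Agent.Lib.helper9.H9_MatlisLen
import Groth.Agent.S0315

set_option autoImplicit false

universe u

namespace Groth.Agent.H9.MatlisComplete

open Groth.Agent.H9.MatlisLen

variable {R : Type u} [CommRing R] [IsLocalRing R] [IsNoetherianRing R]
variable {E : Type u} [AddCommGroup E] [Module R E]

/-- `R ⧸ m ^ n` has finite length. -/
theorem isFiniteLength_quot_pow (n : ℕ) :
    IsFiniteLength R (R ⧸ (IsLocalRing.maximalIdeal R) ^ n) := by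
  classical
  set m := IsLocalRing.maximalIdeal R with hm
  rw [isFiniteLength_iff_isNoetherian_isArtinian]
  refine ⟨inferInstance, ?_⟩
  rw [Groth.Agent.S0315.result R (R ⧸ m ^ n)]
  refine ⟨?_, ?_⟩
  · intro x
    refine ⟨n, fun a ha => ?_⟩
    obtain ⟨r, rfl⟩ := Ideal.Quotient.mk_surjective x
    have : a • Ideal.Quotient.mk (m ^ n) r = Ideal.Quotient.mk (m ^ n) (a * r) := rfl
    rw [this, Ideal.Quotient.eq_zero_iff_mem]
    exact Ideal.mul_mem_right _ _ ha
  · haveI : Module.Finite R (LocCoh.torsionBy m (R ⧸ m ^ n)) := inferInstance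
    exact Module.Finite.of_restrictScalars_finite R (R ⧸ m) _

/-- A functional on `D(R)` is represented by an element on the forms killing `m ^ n`. -/
theorem exists_rep (f : IsLocalRing.ResidueField R →ₗ[R] E) (hf : InjHull.IsInjectiveHull f)
    (θ : (R →ₗ[R] E) →ₗ[R] E) (n : ℕ) :
    ∃ r : R, ∀ φ : R →ₗ[R] E, (∀ a ∈ (IsLocalRing.maximalIdeal R) ^ n, φ a = 0) → θ φ = φ r := by
  classical
  set m := IsLocalRing.maximalIdeal R with hm
  let q : R →ₗ[R] (R ⧸ m ^ n) := (m ^ n).mkQ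
  let θn : ((R ⧸ m ^ n) →ₗ[R] E) →ₗ[R] E := θ ∘ₗ (LinearMap.lcomp R E q)
  obtain ⟨x, hx⟩ := (eval_bijective f hf (R ⧸ m ^ n) (isFiniteLength_quot_pow n)).2 θn
  obtain ⟨r, rfl⟩ := (m ^ n).mkQ_surjective x
  refine ⟨r, fun φ hφ => ?_⟩
  have hle : m ^ n ≤ LinearMap.ker φ := fun a ha => hφ a ha
  have h1 := LinearMap.congr_fun hx ((m ^ n).liftQ φ hle)
  have h2 : (LinearMap.lcomp R E q) ((m ^ n).liftQ φ hle) = φ := by
    apply LinearMap.ext
    intro a
    exact Submodule.liftQ_apply (m ^ n) φ (h := hle) a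
  change ((m ^ n).liftQ φ hle) ((m ^ n).mkQ r) = θ ((LinearMap.lcomp R E q) ((m ^ n).liftQ φ hle)) at h1
  rw [h2] at h1
  rw [← h1]
  exact (Submodule.liftQ_apply (m ^ n) φ (h := hle) r).symm

/-- Over a complete Noetherian local ring, every functional on `D(R)` is evaluation at an
element of `R`. -/
theorem ev_self_surjective [IsAdicComplete (IsLocalRing.maximalIdeal R) R]
    (f : IsLocalRing.ResidueField R →ₗ[R] E) (hf : InjHull.IsInjectiveHull f)
    (θ : (R →ₗ[R] E) →ₗ[R] E) : ∃ r : R, ∀ φ : R →ₗ[R] E, θ φ = φ r := by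
  classical
  set m := IsLocalRing.maximalIdeal R with hm
  choose r hr using exists_rep f hf θ
  have hcompat : ∀ {a b : ℕ}, a ≤ b → r a ≡ r b [SMOD (m ^ a • ⊤ : Submodule R R)] := by
    intro a b hab
    rw [SModEq.sub_mem, smul_eq_mul, Ideal.mul_top]
    by_contra hnot
    have hne : (m ^ a).mkQ (r a - r b) ≠ 0 := by
      rw [Submodule.mkQ_apply, Ne, Submodule.Quotient.mk_eq_zero]
      exact hnot
    obtain ⟨ψ, hψ⟩ := sep f hf (R ⧸ m ^ a) _ hne
    set φ : R →ₗ[R] E := ψ ∘ₗ (m ^ a).mkQ with hφ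
    have hφa : ∀ c ∈ m ^ a, φ c = 0 := by
      intro c hc
      rw [hφ, LinearMap.comp_apply, Submodule.mkQ_apply, (Submodule.Quotient.mk_eq_zero _).2 hc,
        map_zero]
    have hφb : ∀ c ∈ m ^ b, φ c = 0 := fun c hc => hφa c (Ideal.pow_le_pow_right hab hc)
    have h1 := hr a φ hφa
    have h2 := hr b φ hφb
    apply hψ
    change φ (r a - r b) = 0
    rw [map_sub, ← h1, ← h2, sub_self]
  obtain ⟨L, hL⟩ := IsPrecomplete.prec' (I := m) r hcompat
  refine ⟨L, fun φ => ?_⟩
  obtain ⟨N, hN⟩ := Groth.Agent.H9.EssArt.powerTorsion m f hf.toIsEssentialInj (by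
    intro a ha x
    rw [smul_residue, (IsLocalRing.residue_eq_zero_iff a).2 ha, zero_mul]) (φ 1)
  have hφN : ∀ c ∈ m ^ N, φ c = 0 := by
    intro c hc
    have : φ c = c • φ 1 := by rw [← map_smul, smul_eq_mul, mul_one]
    rw [this, hN c hc]
  rw [hr N φ hφN]
  have h3 := hL N
  rw [SModEq.sub_mem, smul_eq_mul, Ideal.mul_top] at h3
  have := hφN _ h3
  rw [map_sub, sub_eq_zero] at this
  exact this

/-- Over a complete Noetherian local ring every endomorphism of the hull is a homothety. -/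
theorem end_eq_smul [IsAdicComplete (IsLocalRing.maximalIdeal R) R]
    (f : IsLocalRing.ResidueField R →ₗ[R] E) (hf : InjHull.IsInjectiveHull f)
    (χ : E →ₗ[R] E) : ∃ r : R, ∀ e : E, χ e = r • e := by
  let θ : (R →ₗ[R] E) →ₗ[R] E := χ ∘ₗ (LinearMap.applyₗ (1 : R))
  obtain ⟨r, hr⟩ := ev_self_surjective f hf θ
  refine ⟨r, fun e => ?_⟩
  have := hr (LinearMap.toSpanSingleton R E e)
  simpa [θ] using this

/-- Evaluation `R^n → DD(R^n)` is surjective over a complete Noetherian local ring. -/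
theorem ev_pi_surjective [IsAdicComplete (IsLocalRing.maximalIdeal R) R]
    (f : IsLocalRing.ResidueField R →ₗ[R] E) (hf : InjHull.IsInjectiveHull f) (n : ℕ)
    (θ : ((Fin n → R) →ₗ[R] E) →ₗ[R] E) :
    ∃ y : Fin n → R, ∀ χ : (Fin n → R) →ₗ[R] E, θ χ = χ y := by
  classical
  have h : ∀ i : Fin n, ∃ r : R, ∀ φ : R →ₗ[R] E, θ (φ ∘ₗ LinearMap.proj i) = φ r := by
    intro i
    exact ev_self_surjective f hf (θ ∘ₗ (LinearMap.lcomp R E (LinearMap.proj i)))
  choose y hy using h
  refine ⟨y, fun χ => ?_⟩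
  have hχ : χ = ∑ i, (χ ∘ₗ LinearMap.single R (fun _ => R) i) ∘ₗ LinearMap.proj i := by
    apply LinearMap.ext
    intro v
    rw [LinearMap.sum_apply]
    conv_lhs => rw [← Finset.univ_sum_single v, map_sum]
    exact Finset.sum_congr rfl (fun i _ => rfl)
  have hy' : y = ∑ i, Pi.single i (y i) := by
    ext j
    simp [Finset.sum_apply, Pi.single_apply]
  conv_lhs => rw [hχ]
  rw [map_sum]
  conv_rhs => rw [hy', map_sum]
  refine Finset.sum_congr rfl fun i _ => ?_
  rw [hy i]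
  rfl

/-- Evaluation `M → DD(M)` is surjective for finite `M` over a complete Noetherian local ring. -/
theorem ev_surjective_of_finite [IsAdicComplete (IsLocalRing.maximalIdeal R) R]
    (f : IsLocalRing.ResidueField R →ₗ[R] E) (hf : InjHull.IsInjectiveHull f)
    (M : Type u) [AddCommGroup M] [Module R M] [Module.Finite R M] :
    Function.Surjective (LinearMap.applyₗ : M →ₗ[R] (M →ₗ[R] E) →ₗ[R] E) := by
  classical
  have := hf.isInjective
  obtain ⟨n, π, hπ⟩ := Module.Finite.exists_fin' R M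
  intro θ
  have hDπ : Function.Injective (LinearMap.lcomp R E π) := by
    intro ψ₁ ψ₂ h
    ext x
    obtain ⟨y, rfl⟩ := hπ x
    exact LinearMap.congr_fun h y
  obtain ⟨θ', hθ'⟩ := Module.Injective.extension_property R E _ _ (LinearMap.lcomp R E π) hDπ θ
  obtain ⟨y, hy⟩ := ev_pi_surjective f hf n θ'
  refine ⟨π y, ?_⟩
  ext ψ
  have := LinearMap.congr_fun hθ' ψ
  rw [LinearMap.comp_apply, hy] at this
  rw [← this]
  rfl

end Groth.Agent.H9.MatlisComplete
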