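import Mathlib

/-! Jacobi's formula for polynomial matrices and the logarithmic derivative of `det (1 - T A)`. -/

namespace Groth.Agent.H9CRL

open Polynomial Matrix

variable {R : Type*} [CommRing R] {m : Type*} [Fintype m] [DecidableEq m]

/-- Jacobi's formula, column form. -/
theorem derivative_det (B : Matrix m m R[X]) :
    derivative B.det =
      ∑ j, (B.updateCol j (fun k => derivative (B k j))).det := by
  simp only [det_apply', map_sum]
  rw [Finset.sum_comm]
  refine Finset.sum_congr rfl fun σ _ => ?_
  rw [derivative_mul]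
  have h0 : derivative ((Equiv.Perm.sign σ : ℤ) : R[X]) = 0 := by
    rw [← map_intCast (C (R := R)), derivative_C]
  rw [h0, zero_mul, zero_add, derivative_prod_finset, Finset.mul_sum]
  refine Finset.sum_congr rfl fun j _ => ?_
  congr 1
  rw [← Finset.prod_erase_mul _ _ (Finset.mem_univ j)]
  congr 1
  · refine Finset.prod_congr rfl fun i hi => ?_
    rw [updateCol_apply, if_neg (Finset.ne_of_mem_erase hi)]
  · rw [updateCol_apply, if_pos rfl]

/-- Jacobi's formula, trace form. -/
theorem derivative_det_eq_trace (B : Matrix m m R[X]) :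
    derivative B.det = trace (B.adjugate * B.map derivative) := by
  rw [derivative_det, trace]
  refine Finset.sum_congr rfl fun j _ => ?_
  rw [← cramer_apply, cramer_eq_adjugate_mulVec, diag_apply, mul_apply, mulVec, dotProduct]
  rfl

theorem derivative_charpolyRev (A : Matrix m m R) :
    derivative A.charpolyRev =
      -trace ((1 - (X : R[X]) • A.map C).adjugate * A.map C) := by
  rw [charpolyRev, derivative_det_eq_trace, ← trace_neg, ← Matrix.mul_neg]
  congr 2
  ext i j : 2
  simp only [Matrix.map_apply, Matrix.sub_apply, Matrix.smul_apply, Matrix.neg_apply,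
    Matrix.one_apply, smul_eq_mul]
  rw [map_sub, derivative_mul, derivative_X, derivative_C]
  by_cases h : i = j
  · simp [h]
  · simp [h]

theorem map_C_pow (A : Matrix m m R) (n : ℕ) : (A.map C) ^ n = (A ^ n).map (C : R → R[X]) := by
  have := (RingHom.mapMatrix (C : R →+* R[X]) : Matrix m m R →+* Matrix m m R[X]).map_pow A n
  simpa using this.symm

omit [DecidableEq m] in
theorem trace_map_C (A : Matrix m m R) : trace (A.map (C : R → R[X])) = C (trace A) := by
  simp [trace, map_sum]

/-- the recursion `Q = P • 1 + X • (Ā * Q)` for `Q = adj (1 - X Ā)`. -/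
theorem adjugate_rec (A : Matrix m m R) :
    (1 - (X : R[X]) • A.map C).adjugate =
      A.charpolyRev • (1 : Matrix m m R[X]) +
        (X : R[X]) • (A.map C * (1 - (X : R[X]) • A.map C).adjugate) := by
  have h := mul_adjugate (1 - (X : R[X]) • A.map C)
  rw [sub_mul, one_mul, smul_mul_assoc] at h
  rw [charpolyRev, ← h]
  abel

/-- `t_N = P * tr(A^N) + X * t_{N+1}`. -/
theorem trace_rec (A : Matrix m m R) (N : ℕ) :
    trace ((A.map C) ^ N * (1 - (X : R[X]) • A.map C).adjugate) =
      A.charpolyRev * C (trace (A ^ N)) +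
        X * trace ((A.map C) ^ (N + 1) * (1 - (X : R[X]) • A.map C).adjugate) := by
  conv_lhs => rw [adjugate_rec, Matrix.mul_add, trace_add]
  congr 1
  · rw [Matrix.mul_smul, Matrix.mul_one, trace_smul, map_C_pow, trace_map_C, smul_eq_mul]
  · rw [Matrix.mul_smul, trace_smul, smul_eq_mul, ← Matrix.mul_assoc, ← pow_succ]

theorem X_mul_trace_eq (A : Matrix m m R) (N : ℕ) :
    X * trace ((A.map C) ^ 1 * (1 - (X : R[X]) • A.map C).adjugate) =
      A.charpolyRev * (∑ n ∈ Finset.range (N + 1),
        monomial n (if n = 0 then 0 else trace (A ^ n))) +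
      X ^ (N + 1) * trace ((A.map C) ^ (N + 1) * (1 - (X : R[X]) • A.map C).adjugate) := by
  induction N with
  | zero => simp
  | succ N ih =>
    rw [ih, Finset.sum_range_succ _ (N + 1), trace_rec A (N + 1), if_neg (Nat.succ_ne_zero N),
      ← C_mul_X_pow_eq_monomial]
    ring

/-- The main identity. -/
theorem main (A : Matrix m m R) :
    ((-(X * derivative A.charpolyRev) : R[X]) : PowerSeries R) =
      (A.charpolyRev : PowerSeries R) *
        PowerSeries.mk (fun n => if n = 0 then 0 else (A ^ n).trace) := by
  have h1 : -(X * derivative A.charpolyRev) =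
      X * trace ((A.map C) ^ 1 * (1 - (X : R[X]) • A.map C).adjugate) := by
    rw [derivative_charpolyRev, pow_one, trace_mul_comm]
    ring
  ext k
  rw [h1, X_mul_trace_eq A k, Polynomial.coeff_coe, Polynomial.coeff_add,
    Polynomial.coeff_X_pow_mul', if_neg (by omega), add_zero, PowerSeries.coeff_mul,
    Polynomial.coeff_mul]
  refine Finset.sum_congr rfl fun p hp => ?_
  have hp' : p.2 ≤ k := by
    have := Finset.HasAntidiagonal.mem_antidiagonal.mp hp
    omega
  rw [Polynomial.coeff_coe, PowerSeries.coeff_mk, Polynomial.finset_sum_coeff]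
  congr 1
  simp only [Polynomial.coeff_monomial]
  rw [Finset.sum_ite_eq' (Finset.range (k + 1)) p.2, if_pos (Finset.mem_range.mpr (by omega))]

end Groth.Agent.H9CRL
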