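import Mathlib
import Groth.Prelude.Def_Wider

/-!
# Existence of injective hulls (Eckmann–Schopf)
-/

namespace Groth.Agent.H9.InjHullEx

universe u

variable {R : Type u} [CommRing R]

/-- elementwise formulation of "A is essential in B" (for submodules of a common module). -/
def Ess {Q : Type u} [AddCommGroup Q] [Module R Q] (A B : Submodule R Q) : Prop :=
  ∀ x ∈ B, x ≠ 0 → ∃ r : R, r • x ≠ 0 ∧ r • x ∈ A

/-- enough injectives, in unbundled form. -/
lemma exists_inj (M : Type u) [AddCommGroup M] [Module R M] :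
    ∃ (Q : Type u) (_ : AddCommGroup Q) (_ : Module R Q) (i : M →ₗ[R] Q),
      Function.Injective i ∧ Module.Injective R Q := by
  obtain ⟨P⟩ := CategoryTheory.EnoughInjectives.presentation (ModuleCat.of R M)
  haveI := P.injective
  haveI := P.mono
  refine ⟨P.J, inferInstance, inferInstance, P.f.hom, (ModuleCat.mono_iff_injective _).mp P.mono, ?_⟩
  exact Module.injective_module_of_injective_object R P.J

/-- A maximal essential extension inside an injective module is a direct summand. -/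
lemma exists_compl {Q : Type u} [AddCommGroup Q] [Module R Q] (hQ : Module.Injective R Q)
    (A E : Submodule R Q) (hAE : A ≤ E) (hess : Ess A E)
    (hmax : ∀ E' : Submodule R Q, E ≤ E' → Ess A E' → E' ≤ E) :
    ∃ C : Submodule R Q, IsCompl E C := by
  classical
  -- Zorn: a maximal submodule disjoint from `E`
  obtain ⟨C, hCmax⟩ : ∃ C, Maximal (· ∈ {C : Submodule R Q | Disjoint C E}) C := by
    apply zorn_le₀
    intro c hc hchain
    rcases c.eq_empty_or_nonempty with rfl | hne
    · exact ⟨⊥, disjoint_bot_left, by simp⟩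
    · refine ⟨sSup c, ?_, fun z hz => le_sSup hz⟩
      have hdir : DirectedOn (· ≤ ·) c := hchain.directedOn
      show Disjoint (sSup c) E
      rw [hdir.disjoint_sSup_left]
      intro b hb
      exact hc hb
  have hCE : Disjoint C E := hCmax.prop
  -- the map `E → Q ⧸ C`
  let j : E →ₗ[R] Q ⧸ C := C.mkQ ∘ₗ E.subtype
  have hj : Function.Injective j := by
    rw [← LinearMap.ker_eq_bot, LinearMap.ker_eq_bot']
    intro e he
    have h1 : (e : Q) ∈ C := by
      simpa [j, Submodule.Quotient.mk_eq_zero] using he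
    have h2 : (e : Q) ∈ C ⊓ E := ⟨h1, e.2⟩
    rw [hCE.eq_bot] at h2
    exact Subtype.ext (by simpa using h2)
  obtain ⟨φ, hφ⟩ := hQ.out j hj E.subtype
  -- range of `j` is essential
  have hjess : ∀ y : Q ⧸ C, y ≠ 0 → ∃ (r : R) (e : E), r • y = j e ∧ e ≠ 0 := by
    intro y hy
    obtain ⟨q, rfl⟩ := Submodule.Quotient.mk_surjective C y
    have hq : q ∉ C := fun h => hy ((Submodule.Quotient.mk_eq_zero C).2 h)
    have hnd : ¬ Disjoint (C ⊔ Submodule.span R {q}) E := by
      intro hd
      have hle : C ⊔ Submodule.span R {q} ≤ C := hCmax.le_of_ge hd le_sup_left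
      exact hq (hle (Submodule.mem_sup_right (Submodule.mem_span_singleton_self q)))
    rw [Submodule.disjoint_def] at hnd
    push Not at hnd
    obtain ⟨x, hx1, hx2, hx0⟩ := hnd
    obtain ⟨c, hc, z, hz, rfl⟩ := Submodule.mem_sup.1 hx1
    obtain ⟨r, rfl⟩ := Submodule.mem_span_singleton.1 hz
    refine ⟨r, ⟨c + r • q, hx2⟩, ?_, fun h => hx0 (congrArg Subtype.val h)⟩
    show r • Submodule.Quotient.mk q = Submodule.Quotient.mk (c + r • q)
    rw [Submodule.Quotient.mk_add, (Submodule.Quotient.mk_eq_zero C).2 hc, zero_add,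
      Submodule.Quotient.mk_smul]
  -- `φ` is injective
  have hφinj : Function.Injective φ := by
    rw [← LinearMap.ker_eq_bot, LinearMap.ker_eq_bot']
    intro y hy
    by_contra hy0
    obtain ⟨r, e, hre, he0⟩ := hjess y hy0
    apply he0
    have : (e : Q) = 0 := by
      have h1 := hφ e
      rw [← hre, map_smul, hy, smul_zero] at h1
      exact h1.symm
    exact Subtype.ext this
  -- the range of `φ` is an essential extension of `A` containing `E`
  have hEle : E ≤ LinearMap.range φ := by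
    intro e he
    exact ⟨j ⟨e, he⟩, hφ ⟨e, he⟩⟩
  have hess' : Ess A (LinearMap.range φ) := by
    rintro x ⟨y, rfl⟩ hx0
    have hy0 : y ≠ 0 := fun h => hx0 (by rw [h, map_zero])
    obtain ⟨r, e, hre, he0⟩ := hjess y hy0
    have he0' : (e : Q) ≠ 0 := fun h => he0 (Subtype.ext h)
    obtain ⟨s, hs0, hsA⟩ := hess e e.2 he0'
    have hrx : r • φ y = (e : Q) := by
      rw [← map_smul, hre]; exact hφ e
    refine ⟨s * r, ?_, ?_⟩
    · rw [mul_smul, hrx]; exact hs0
    · rw [mul_smul, hrx]; exact hsA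
  have hrange : LinearMap.range φ ≤ E := hmax _ hEle hess'
  refine ⟨C, ⟨hCE.symm, ?_⟩⟩
  rw [codisjoint_iff, eq_top_iff]
  intro q _
  have hq : φ (C.mkQ q) ∈ E := hrange ⟨_, rfl⟩
  have h1 : φ (C.mkQ q) = φ (j ⟨_, hq⟩) := (hφ ⟨_, hq⟩).symm
  have h2 := hφinj h1
  have h3 : q - φ (C.mkQ q) ∈ C := by
    rw [← Submodule.Quotient.mk_eq_zero C, Submodule.Quotient.mk_sub, sub_eq_zero]
    exact h2
  have : q = φ (C.mkQ q) + (q - φ (C.mkQ q)) := by abel
  rw [this]
  exact Submodule.add_mem_sup hq h3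

/-- a direct summand of an injective module is injective. -/
lemma injective_of_isCompl {Q : Type u} [AddCommGroup Q] [Module R Q] (hQ : Module.Injective R Q)
    (E C : Submodule R Q) (h : IsCompl E C) : Module.Injective R E := by
  constructor
  intro X Y _ _ _ _ f hf g
  obtain ⟨k, hk⟩ := hQ.out f hf (E.subtype ∘ₗ g)
  refine ⟨E.projectionOnto C h ∘ₗ k, fun x => ?_⟩
  rw [LinearMap.comp_apply, hk x]
  exact Submodule.projectionOnto_apply_left h (g x)

/-- inside an injective module, every submodule `A` has a maximal essential extension `E`,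
which is a direct summand. -/
lemma exists_ess_summand {Q : Type u} [AddCommGroup Q] [Module R Q] (hQ : Module.Injective R Q)
    (A : Submodule R Q) :
    ∃ E C : Submodule R Q, A ≤ E ∧ Ess A E ∧ IsCompl E C := by
  classical
  let S : Set (Submodule R Q) := {N | A ≤ N ∧ Ess A N}
  have hAS : A ∈ S := ⟨le_rfl, fun x hx hx0 => ⟨1, by simpa using hx0, by simpa using hx⟩⟩
  obtain ⟨E, hAE, hEmax⟩ : ∃ E, A ≤ E ∧ Maximal (· ∈ S) E := by
    apply zorn_le_nonempty₀ S _ A hAS
    intro c hc hchain y hy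
    refine ⟨sSup c, ⟨?_, ?_⟩, fun z hz => le_sSup hz⟩
    · exact (hc hy).1.trans (le_sSup hy)
    · intro x hx hx0
      rw [Submodule.mem_sSup_of_directed ⟨y, hy⟩ hchain.directedOn] at hx
      obtain ⟨N, hN, hxN⟩ := hx
      exact (hc hN).2 x hxN hx0
  have hES : E ∈ S := hEmax.prop
  obtain ⟨C, hC⟩ := exists_compl hQ A E hAE hES.2
    (fun E' hE' hess => hEmax.le_of_ge ⟨hAE.trans hE', hess⟩ hE')
  exact ⟨E, C, hAE, hES.2, hC⟩

/-- `Ess A ⊤` gives the prelude's essentiality for a map with range `A`. -/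
lemma essential_of_ess {M E : Type u} [AddCommGroup M] [Module R M] [AddCommGroup E] [Module R E]
    (f : M →ₗ[R] E) (h : Ess (LinearMap.range f) ⊤) :
    ∀ N : Submodule R E, N ≠ ⊥ → N ⊓ LinearMap.range f ≠ ⊥ := by
  intro N hN hbot
  obtain ⟨x, hxN, hx0⟩ := (Submodule.ne_bot_iff N).1 hN
  obtain ⟨r, hr0, hrA⟩ := h x trivial hx0
  have hmem : r • x ∈ N ⊓ LinearMap.range f := ⟨N.smul_mem r hxN, hrA⟩
  rw [hbot] at hmem
  exact hr0 ((Submodule.mem_bot R).1 hmem)

/-- the prelude's essentiality gives `Ess (range f) ⊤`. -/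
lemma ess_of_essential {M E : Type u} [AddCommGroup M] [Module R M] [AddCommGroup E] [Module R E]
    (f : M →ₗ[R] E) (h : ∀ N : Submodule R E, N ≠ ⊥ → N ⊓ LinearMap.range f ≠ ⊥) :
    Ess (LinearMap.range f) ⊤ := by
  intro x _ hx0
  have hN : Submodule.span R {x} ≠ ⊥ := by
    rw [Ne, Submodule.span_singleton_eq_bot]; exact hx0
  obtain ⟨y, hy, hy0⟩ := (Submodule.ne_bot_iff _).1 (h _ hN)
  obtain ⟨r, rfl⟩ := Submodule.mem_span_singleton.1 hy.1
  exact ⟨r, hy0, hy.2⟩

/-- Eckmann–Schopf: every module has an injective hull. -/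
theorem exists_hull (M : Type u) [AddCommGroup M] [Module R M] :
    ∃ (E : Type u) (_ : AddCommGroup E) (_ : Module R E) (f : M →ₗ[R] E),
      InjHull.IsInjectiveHull f := by
  classical
  obtain ⟨Q, _, _, i, hi, hQ⟩ := exists_inj (R := R) M
  set A : Submodule R Q := LinearMap.range i with hA
  let S : Set (Submodule R Q) := {N | A ≤ N ∧ Ess A N}
  have hAS : A ∈ S := ⟨le_rfl, fun x hx hx0 => ⟨1, by simpa using hx0, by simpa using hx⟩⟩
  obtain ⟨E, hAE, hEmax⟩ : ∃ E, A ≤ E ∧ Maximal (· ∈ S) E := by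
    apply zorn_le_nonempty₀ S _ A hAS
    intro c hc hchain y hy
    refine ⟨sSup c, ⟨?_, ?_⟩, fun z hz => le_sSup hz⟩
    · exact (hc hy).1.trans (le_sSup hy)
    · intro x hx hx0
      rw [Submodule.mem_sSup_of_directed ⟨y, hy⟩ hchain.directedOn] at hx
      obtain ⟨N, hN, hxN⟩ := hx
      exact (hc hN).2 x hxN hx0
  have hES : E ∈ S := hEmax.prop
  obtain ⟨C, hC⟩ := exists_compl hQ A E hAE hES.2
    (fun E' hE' hess => hEmax.le_of_ge ⟨hAE.trans hE', hess⟩ hE')
  have hEinj : Module.Injective R E := injective_of_isCompl hQ E C hC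
  let f : M →ₗ[R] E := i.codRestrict E (fun m => hAE ⟨m, rfl⟩)
  refine ⟨E, inferInstance, inferInstance, f, ⟨⟨?_, ?_⟩, hEinj⟩⟩
  · intro a b hab
    apply hi
    exact congrArg Subtype.val hab
  · intro N hN hbot
    obtain ⟨x, hxN, hx0⟩ := (Submodule.ne_bot_iff N).1 hN
    have hx0' : (x : Q) ≠ 0 := fun h => hx0 (Subtype.ext h)
    obtain ⟨r, hr0, hrA⟩ := hES.2 x x.2 hx0'
    obtain ⟨m, hm⟩ := hrA
    have hmem : r • x ∈ N ⊓ LinearMap.range f := by
      refine ⟨N.smul_mem r hxN, m, ?_⟩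
      apply Subtype.ext
      simpa [f] using hm
    rw [hbot] at hmem
    apply hr0
    have := (Submodule.mem_bot R).1 hmem
    simpa using congrArg Subtype.val this

end Groth.Agent.H9.InjHullEx
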