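import Mathlib
import Groth.Prelude.Def_Wider
import Groth.Agent.Lib.helper9.H9_HullCrit
import Groth.Agent.Lib.helper9.H9_MatlisLen
import Groth.Agent.Lib.helper9.H9_MatlisEnd
import Groth.Agent.Lib.helper9.H9_MatlisComplete

namespace Groth.Agent.H9.CoextHull

universe u

open IsLocalRing

noncomputable section

variable (A B : Type u) [CommRing A] [CommRing B] [Algebra A B]
  (E : Type u) [AddCommGroup E] [Module A E]

/-- the coextension `Hom_A(B, E)` -/
abbrev C : ModuleCat.{u} B :=
  (ModuleCat.coextendScalars (algebraMap A B)).obj (ModuleCat.of A E)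

variable {A B E}

/-- apply an element of the coextension -/
def app (ψ : C A B E) (b : B) : E := (ModuleCat.CoextendScalars.equiv (algebraMap A B) _ ψ) b

theorem app_add (ψ : C A B E) (a b : B) : app ψ (a + b) = app ψ a + app ψ b :=
  map_add (ModuleCat.CoextendScalars.equiv (algebraMap A B) _ ψ) a b

theorem app_smul (ψ : C A B E) (c : A) (b : B) : app ψ (algebraMap A B c * b) = c • app ψ b :=
  (ModuleCat.CoextendScalars.equiv (algebraMap A B) _ ψ).map_smul c
    (b : ((ModuleCat.restrictScalars (algebraMap A B)).obj (ModuleCat.of B B)))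

theorem smul_app (ψ : C A B E) (s b : B) : app (s • ψ) b = app ψ (b * s) := rfl

theorem add_app (ψ ψ' : C A B E) (b : B) : app (ψ + ψ') b = app ψ b + app ψ' b := rfl

theorem zero_app (b : B) : app (0 : C A B E) b = 0 := rfl

theorem ext_app {ψ ψ' : C A B E} (h : ∀ b, app ψ b = app ψ' b) : ψ = ψ' := by
  apply ModuleCat.CoextendScalars.ext
  apply LinearMap.ext
  exact h

/-- construct an element of the coextension -/
def mkC (g : B → E) (hadd : ∀ a b, g (a + b) = g a + g b)
    (hsmul : ∀ (c : A) (b : B), g (algebraMap A B c * b) = c • g b) : C A B E :=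
  (ModuleCat.CoextendScalars.equiv (algebraMap A B) _).symm
    { toFun := g
      map_add' := hadd
      map_smul' := hsmul }

theorem mkC_app (g : B → E) (hadd hsmul) (b : B) : app (mkC (A := A) g hadd hsmul) b = g b := rfl

variable (J : Ideal B)

/-- the comparison map `Hom_B(B/J, C) → Hom_A(B/J, E)` -/
def theta (φ : (B ⧸ J) →ₗ[B] C A B E) : (B ⧸ J) →ₗ[A] E where
  toFun x := app (φ x) 1
  map_add' x y := by
    rw [map_add]
    rfl
  map_smul' c x := by
    rw [RingHom.id_apply, ← algebraMap_smul B c x, map_smul]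
    show app (algebraMap A B c • (φ x)) 1 = c • app (φ x) 1
    rw [smul_app, one_mul, ← mul_one (algebraMap A B c), app_smul]

theorem theta_apply (φ : (B ⧸ J) →ₗ[B] C A B E) (x : B ⧸ J) :
    theta J φ x = app (φ x) 1 := rfl

theorem theta_injective : Function.Injective (theta (A := A) (E := E) J) := by
  intro φ φ' h
  apply LinearMap.ext
  intro x
  apply ext_app
  intro a
  have h1 : ∀ (χ : (B ⧸ J) →ₗ[B] C A B E), app (χ x) a = theta J χ (a • x) := by
    intro χ
    rw [theta_apply, map_smul]
    show _ = app (a • (χ x)) 1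
    rw [smul_app, one_mul]
  rw [h1 φ, h1 φ', h]

/-- the inverse construction -/
def psi (lam : (B ⧸ J) →ₗ[A] E) (x : B ⧸ J) : C A B E :=
  mkC (fun b => lam (b • x))
    (fun a b => by rw [add_smul, map_add])
    (fun c b => by
      rw [mul_smul, algebraMap_smul, map_smul])

theorem psi_app (lam : (B ⧸ J) →ₗ[A] E) (x : B ⧸ J) (b : B) :
    app (psi J lam x) b = lam (b • x) := rfl

/-- the inverse map -/
def phi (lam : (B ⧸ J) →ₗ[A] E) : (B ⧸ J) →ₗ[B] C A B E where
  toFun x := psi J lam x
  map_add' x y := by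
    apply ext_app
    intro a
    rw [add_app, psi_app, psi_app, psi_app, smul_add, map_add]
  map_smul' a' x := by
    apply ext_app
    intro a
    show app (psi J lam (a' • x)) a = app (a' • psi J lam x) a
    rw [smul_app, psi_app, psi_app, mul_smul]

theorem theta_phi (lam : (B ⧸ J) →ₗ[A] E) : theta J (phi J lam) = lam := by
  apply LinearMap.ext
  intro x
  show app (psi J lam x) 1 = lam x
  rw [psi_app, one_smul]

/-- `A`-module structure on `Hom_B(B/J, C)` -/
local instance instModT : Module A ((B ⧸ J) →ₗ[B] C A B E) :=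
  Module.compHom _ (algebraMap A B)

local instance instTowerT : IsScalarTower A B ((B ⧸ J) →ₗ[B] C A B E) :=
  IsScalarTower.of_algebraMap_smul (fun _ _ => rfl)

/-- `theta` as an `A`-linear map -/
def thetaₗ : ((B ⧸ J) →ₗ[B] C A B E) →ₗ[A] ((B ⧸ J) →ₗ[A] E) where
  toFun := theta J
  map_add' φ φ' := by
    apply LinearMap.ext
    intro x
    rfl
  map_smul' c φ := by
    apply LinearMap.ext
    intro x
    show app (algebraMap A B c • (φ x)) 1 = c • app (φ x) 1
    rw [smul_app, one_mul, ← mul_one (algebraMap A B c), app_smul]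

/-- the comparison is an equivalence -/
def thetaEquiv : ((B ⧸ J) →ₗ[B] C A B E) ≃ₗ[A] ((B ⧸ J) →ₗ[A] E) :=
  LinearEquiv.ofBijective (thetaₗ J)
    ⟨theta_injective J, fun lam => ⟨phi J lam, theta_phi J lam⟩⟩

variable [IsLocalRing A] [IsLocalRing B] [Module.Finite A B]

theorem isLocalHom_algebraMap : IsLocalHom (algebraMap A B) := by
  haveI : Algebra.IsIntegral A B := Algebra.IsIntegral.of_finite A B
  have hmax := Ideal.isMaximal_comap_of_isIntegral_of_isMaximal (R := A) (maximalIdeal B)
  have heq : (maximalIdeal B).comap (algebraMap A B) = maximalIdeal A :=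
    IsLocalRing.eq_maximalIdeal hmax
  constructor
  intro a ha
  by_contra hna
  have h1 : a ∈ maximalIdeal A := (IsLocalRing.mem_maximalIdeal a).2 hna
  rw [← heq, Ideal.mem_comap] at h1
  exact (IsLocalRing.mem_maximalIdeal _).1 h1 ha

theorem exists_pow_le_map [IsNoetherianRing B] :
    ∃ M : ℕ, maximalIdeal B ^ M ≤ (maximalIdeal A).map (algebraMap A B) := by
  haveI : Algebra.IsIntegral A B := Algebra.IsIntegral.of_finite A B
  apply Ideal.exists_pow_le_of_le_radical_of_fg _ (IsNoetherian.noetherian _)
  rw [Ideal.radical_eq_sInf]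
  apply le_sInf
  rintro P ⟨hP, hPprime⟩
  haveI := hPprime
  have h1 : maximalIdeal A ≤ P.comap (algebraMap A B) := Ideal.map_le_iff_le_comap.1 hP
  have h2 : P.comap (algebraMap A B) = maximalIdeal A := by
    refine le_antisymm (IsLocalRing.le_maximalIdeal ?_) h1
    exact (Ideal.comap_isPrime _ _).ne_top
  have h3 : P.IsMaximal := by
    apply Ideal.isMaximal_of_isIntegral_of_isMaximal_comap (R := A)
    rw [h2]
    infer_instance
  rw [IsLocalRing.eq_maximalIdeal h3]

variable [IsNoetherianRing A] [IsNoetherianRing B]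

theorem powerTorsion (f : ResidueField A →ₗ[A] E) (hf : InjHull.IsInjectiveHull f) :
    LocCoh.IsPowerTorsion (maximalIdeal B) (C A B E) := by
  classical
  intro ψ
  -- a uniform power of `m_A` killing all values
  have h1 : ∃ N : ℕ, ∀ a ∈ maximalIdeal A ^ N, ∀ b : B, a • app ψ b = 0 := by
    obtain ⟨s, hs⟩ := (Module.Finite.fg_top : (⊤ : Submodule A B).FG)
    have hch : ∀ b : B, ∃ n : ℕ, ∀ a ∈ maximalIdeal A ^ n, a • app ψ b = 0 :=
      fun b => Groth.Agent.H9.MatlisEnd.hull_powerTorsion f hf (app ψ b)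
    choose nn hnn using hch
    refine ⟨s.sup nn, fun a ha b => ?_⟩
    have hb : b ∈ Submodule.span A (s : Set B) := by rw [hs]; trivial
    induction hb using Submodule.span_induction with
    | mem x hx =>
      exact hnn x a (Ideal.pow_le_pow_right (Finset.le_sup hx) ha)
    | zero =>
      have : app ψ 0 = 0 := by
        have := app_smul ψ (0 : A) (0 : B)
        rw [map_zero, zero_mul, zero_smul] at this
        exact this
      rw [this, smul_zero]
    | add x y _ _ hx hy => rw [app_add, smul_add, hx, hy, add_zero]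
    | smul c x _ hx =>
      rw [Algebra.smul_def, app_smul, smul_comm, hx, smul_zero]
  obtain ⟨N, hN⟩ := h1
  obtain ⟨M, hM⟩ := exists_pow_le_map (A := A) (B := B)
  refine ⟨M * N, fun b hb => ?_⟩
  have hb' : b ∈ (maximalIdeal A ^ N).map (algebraMap A B) := by
    rw [Ideal.map_pow]
    have : maximalIdeal B ^ (M * N) ≤ (maximalIdeal A).map (algebraMap A B) ^ N := by
      rw [pow_mul]
      exact Ideal.pow_right_mono hM N
    exact this hb
  -- elements of the extended ideal kill ψ
  have hkill : ∀ b ∈ (maximalIdeal A ^ N).map (algebraMap A B), b • ψ = 0 := by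
    intro b hb
    rw [Ideal.map, ] at hb
    induction hb using Submodule.span_induction with
    | mem x hx =>
      obtain ⟨a, ha, rfl⟩ := hx
      apply ext_app
      intro b'
      rw [smul_app, zero_app, mul_comm, app_smul]
      exact hN a ha b'
    | zero => rw [zero_smul]
    | add x y _ _ hx hy => rw [add_smul, hx, hy, add_zero]
    | smul c x _ hx => rw [smul_eq_mul, mul_smul, hx, smul_zero]
  exact hkill b hb'

theorem length_hom_eq (f : ResidueField A →ₗ[A] E) (hf : InjHull.IsInjectiveHull f)
    (n : ℕ) (hJ : maximalIdeal B ^ n ≤ J) :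
    Module.length B ((B ⧸ J) →ₗ[B] C A B E) = Module.length B (B ⧸ J) := by
  classical
  haveI := isLocalHom_algebraMap (A := A) (B := B)
  set d := Module.length (ResidueField A) (ResidueField B) with hd
  have hd0 : d ≠ 0 := by
    rw [hd, ← pos_iff_ne_zero]
    exact Module.length_pos
  have hdtop : d ≠ ⊤ := by
    rw [hd]
    exact Module.length_ne_top
  -- finiteness
  have hfl : IsFiniteLength B (B ⧸ J) := by
    have h1 := Groth.Agent.H9.MatlisComplete.isFiniteLength_quot_pow (R := B) n
    refine IsFiniteLength.of_surjective h1 (f := Submodule.liftQ _ J.mkQ ?_) ?_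
    · intro b hb
      rw [LinearMap.mem_ker, Submodule.mkQ_apply, Submodule.Quotient.mk_eq_zero]
      exact hJ hb
    · intro x
      obtain ⟨x', rfl⟩ := Submodule.Quotient.mk_surjective _ x
      exact ⟨Submodule.Quotient.mk x', rfl⟩
  have h2 := IsLocalRing.length_restrictScalars A B (B ⧸ J)
  have hfin : Module.length A (B ⧸ J) ≠ ⊤ := by
    rw [h2]
    exact WithTop.mul_ne_top (Module.length_ne_top_iff.2 hfl) hdtop
  have hflA : IsFiniteLength A (B ⧸ J) := Module.length_ne_top_iff.1 hfin
  have h1 := IsLocalRing.length_restrictScalars A B ((B ⧸ J) →ₗ[B] C A B E)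
  have h3 := (thetaEquiv (A := A) (E := E) J).length_eq
  have h4 := Groth.Agent.H9.MatlisLen.length_dual f hf (B ⧸ J) hflA
  rw [h3, h4, h2] at h1
  exact le_antisymm ((ENat.mul_le_mul_right_iff hd0 hdtop).1 h1.ge)
    ((ENat.mul_le_mul_right_iff hd0 hdtop).1 h1.le)

theorem hull (f : ResidueField A →ₗ[A] E) (hf : InjHull.IsInjectiveHull f) :
    ∃ g : ResidueField B →ₗ[B] C A B E, InjHull.IsInjectiveHull g := by
  classical
  have ha := powerTorsion (B := B) f hf
  have hb : Nonempty ((ResidueField B →ₗ[B] C A B E) ≃ₗ[B] ResidueField B) := by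
    have h1 := length_hom_eq (B := B) (maximalIdeal B) f hf 1 (by rw [pow_one])
    haveI : IsSimpleModule B (B ⧸ maximalIdeal B) :=
      (isSimpleModule_iff_isCoatom (R := B) (M := B) (m := maximalIdeal B)).2
        (Ideal.isMaximal_def.1 inferInstance)
    rw [Module.length_eq_one (R := B) (M := B ⧸ maximalIdeal B), Module.length_eq_one_iff] at h1
    obtain ⟨I, hI, ⟨e⟩⟩ := isSimpleModule_iff_quot_maximal.mp h1
    obtain rfl := IsLocalRing.eq_maximalIdeal hI
    exact ⟨e⟩
  exact Groth.Agent.H9.HullCrit.hull_of_length ha hb (fun n => maximalIdeal B ^ n)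
    (fun n => ⟨n, le_rfl⟩) (fun N => ⟨N, le_rfl⟩)
    (fun n => (length_hom_eq (B := B) (maximalIdeal B ^ n) f hf n le_rfl).symm)

end

end Groth.Agent.H9.CoextHull
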