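import Mathlib

set_option autoImplicit false
set_option linter.unusedSectionVars false
universe u v v' w w'
open scoped TensorProduct

/-!
Detecting elements of `M ⊗ Q` over a field by contracting with functionals on `Q`.
-/

namespace H9_TensorDual

variable {k : Type u} [Field k] {M : Type w} [AddCommGroup M] [Module k M]
  {Q : Type v} [AddCommGroup Q] [Module k Q]

/-- contraction of the second factor with a functional -/
noncomputable def contr (χ : Module.Dual k Q) : M ⊗[k] Q →ₗ[k] M :=
  (TensorProduct.rid k M).toLinearMap ∘ₗ χ.lTensor M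

theorem contr_apply (χ : Module.Dual k Q) (u : M ⊗[k] Q) :
    contr χ u = TensorProduct.rid k M (χ.lTensor M u) := rfl

theorem contr_tmul (χ : Module.Dual k Q) (m : M) (q : Q) : contr χ (m ⊗ₜ[k] q) = χ q • m := by
  simp [contr]

theorem eq_zero_of_forall_contr (u : M ⊗[k] Q)
    (h : ∀ χ : Module.Dual k Q, contr χ u = 0) : u = 0 := by
  classical
  let b := Module.Basis.ofVectorSpace k Q
  let e := TensorProduct.equivFinsuppOfBasisRight (M := M) b
  have key : ∀ (x : M ⊗[k] Q) j, e x j = contr (b.coord j) x := by
    intro x j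
    induction x using TensorProduct.induction_on with
    | zero => simp
    | tmul m q =>
      rw [contr_tmul]
      exact TensorProduct.equivFinsuppOfBasisRight_apply_tmul_apply _ m q j
    | add x y hx hy => rw [map_add, Finsupp.add_apply, hx, hy, map_add]
  apply e.injective
  rw [map_zero]
  ext j
  rw [key, h]
  rfl

variable {C : Type v'} [AddCommGroup C] [Module k C] {D : Type v} [AddCommGroup D] [Module k D]

theorem contr_lTensor (ψ : Module.Dual k D) (i : C →ₗ[k] D) (y : M ⊗[k] C) :
    contr ψ (i.lTensor M y) = contr (ψ ∘ₗ i) y := by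
  rw [contr_apply, contr_apply, ← LinearMap.lTensor_comp_apply]

theorem contr_rTensor {M' : Type w'} [AddCommGroup M'] [Module k M'] (ψ : Module.Dual k D)
    (g : M →ₗ[k] M') (x : M ⊗[k] D) :
    contr ψ (g.rTensor D x) = g (contr ψ x) := by
  induction x using TensorProduct.induction_on with
  | zero => simp
  | tmul m d => rw [LinearMap.rTensor_tmul, contr_tmul, contr_tmul, map_smul]
  | add x y hx hy => simp only [map_add, hx, hy]

/-- membership in the image of `M ⊗ C → M ⊗ D` is detected by functionals killing the image of `C` -/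
theorem mem_range_lTensor_iff (i : C →ₗ[k] D) (z : M ⊗[k] D) :
    z ∈ LinearMap.range (i.lTensor M) ↔
      ∀ ψ : Module.Dual k D, ψ ∘ₗ i = 0 → contr ψ z = 0 := by
  constructor
  · rintro ⟨y, rfl⟩ ψ hψ
    rw [contr_lTensor, hψ, contr_apply, LinearMap.lTensor_zero, LinearMap.zero_apply, map_zero]
  · intro h
    have hex : Function.Exact (i.lTensor M) ((LinearMap.range i).mkQ.lTensor M) :=
      lTensor_exact M (LinearMap.exact_map_mkQ_range i) (Submodule.mkQ_surjective _)
    apply (hex z).mp
    apply eq_zero_of_forall_contr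
    intro χ
    rw [contr_lTensor]
    apply h
    ext c
    have : (Submodule.Quotient.mk (i c) : D ⧸ LinearMap.range i) = 0 :=
      (Submodule.Quotient.mk_eq_zero _).mpr ⟨c, rfl⟩
    simp [this]

/-- the criterion for the class of `x` in `(V/K) ⊗ D` to come from `(V/K) ⊗ C` -/
theorem rTensor_mkQ_mem_range_lTensor_iff (i : C →ₗ[k] D) (K : Submodule k M) (x : M ⊗[k] D) :
    K.mkQ.rTensor D x ∈ LinearMap.range (i.lTensor (M ⧸ K)) ↔
      ∀ ψ : Module.Dual k D, ψ ∘ₗ i = 0 → contr ψ x ∈ K := by
  rw [mem_range_lTensor_iff]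
  refine forall₂_congr fun ψ _ => ?_
  rw [contr_rTensor, Submodule.mkQ_apply, Submodule.Quotient.mk_eq_zero]

end H9_TensorDual
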