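import Mathlib
import Groth.Prelude.Def_HopfRep
import Groth.Prelude.Def_Hoch
import Groth.Agent.Lib.helper9.H9_ComodMod
import Groth.Agent.Lib.helper9.H9_TensorDual

set_option autoImplicit false
set_option linter.unusedSectionVars false
universe u v v' w w'
open scoped TensorProduct

/-!
Fixed vectors and eigenvectors of comodules via the operators `T f`.
-/

namespace H9_ComodMod

variable {k : Type u} [Field k] {A : Type v} [Ring A] [Bialgebra k A]
  {V : Type w} [AddCommGroup V] [Module k V] [HopfRep.Comod k A V]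

theorem T_eq_contr (f : Module.Dual k A) (v : V) :
    T (C := A) V f v = H9_TensorDual.contr f (HopfRep.Comod.coact (k := k) (A := A) v) := rfl

theorem coact_eq_iff_T (v : V) (x : V ⊗[k] A) :
    HopfRep.Comod.coact (k := k) (A := A) v = x ↔
      ∀ f : Module.Dual k A, T (C := A) V f v = H9_TensorDual.contr f x := by
  constructor
  · intro h f
    rw [T_eq_contr, h]
  · intro h
    rw [← sub_eq_zero]
    apply H9_TensorDual.eq_zero_of_forall_contr
    intro f
    rw [map_sub, ← T_eq_contr, h, sub_self]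

theorem mem_eigenspace_iff_T (a : A) (v : V) :
    v ∈ HopfRep.eigenspace k A V a ↔ ∀ f : Module.Dual k A, T (C := A) V f v = f a • v := by
  show HopfRep.Comod.coact (k := k) (A := A) v = v ⊗ₜ[k] a ↔ _
  rw [coact_eq_iff_T]
  refine forall_congr' fun f => ?_
  rw [H9_TensorDual.contr_tmul]

theorem mem_fixedPts_iff_T (v : V) :
    v ∈ HopfRep.fixedPts k A V ↔ ∀ f : Module.Dual k A, T (C := A) V f v = f 1 • v := by
  show HopfRep.Comod.coact (k := k) (A := A) v = v ⊗ₜ[k] (1 : A) ↔ _
  rw [coact_eq_iff_T]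
  refine forall_congr' fun f => ?_
  rw [H9_TensorDual.contr_tmul]

/-- comodule maps preserve fixed vectors -/
theorem map_mem_fixedPts {W : Type w'} [AddCommGroup W] [Module k W] [HopfRep.Comod k A W]
    (g : V →ₗ[k] W) (hg : Hoch.IsComodHom A g) (v : V) (hv : v ∈ HopfRep.fixedPts k A V) :
    g v ∈ HopfRep.fixedPts k A W := by
  rw [mem_fixedPts_iff_T] at hv ⊢
  intro f
  rw [← T_comm_of_isComodHom g hg, hv, map_smul]

/-- comodule maps preserve eigenvectors -/
theorem map_mem_eigenspace {W : Type w'} [AddCommGroup W] [Module k W] [HopfRep.Comod k A W]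
    (g : V →ₗ[k] W) (hg : Hoch.IsComodHom A g) (a : A) (v : V)
    (hv : v ∈ HopfRep.eigenspace k A V a) :
    g v ∈ HopfRep.eigenspace k A W a := by
  rw [mem_eigenspace_iff_T] at hv ⊢
  intro f
  rw [← T_comm_of_isComodHom g hg, hv, map_smul]

/-- injective comodule maps reflect fixed vectors -/
theorem mem_fixedPts_of_map {W : Type w'} [AddCommGroup W] [Module k W] [HopfRep.Comod k A W]
    (g : V →ₗ[k] W) (hg : Hoch.IsComodHom A g) (hinj : Function.Injective g) (v : V)
    (hv : g v ∈ HopfRep.fixedPts k A W) :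
    v ∈ HopfRep.fixedPts k A V := by
  rw [mem_fixedPts_iff_T] at hv ⊢
  intro f
  apply hinj
  rw [T_comm_of_isComodHom g hg, hv, map_smul]

theorem isComodHom_comp {W : Type w'} [AddCommGroup W] [Module k W] [HopfRep.Comod k A W]
    {U : Type v'} [AddCommGroup U] [Module k U] [HopfRep.Comod k A U]
    (g : V →ₗ[k] W) (hg : Hoch.IsComodHom A g) (h : W →ₗ[k] U) (hh : Hoch.IsComodHom A h) :
    Hoch.IsComodHom A (h ∘ₗ g) := by
  rw [isComodHom_iff_T] at *
  intro f v
  rw [LinearMap.comp_apply, LinearMap.comp_apply, hg, hh]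

end H9_ComodMod
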