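import Mathlib
import Groth.Agent.Lib.helper9.H9_ComodMod

set_option autoImplicit false
set_option linter.unusedSectionVars false
universe u v w w'
open scoped TensorProduct

namespace H9_ComodMod

open Groth.Agent.H4

variable {k : Type u} [Field k] {C : Type v} [AddCommGroup C] [Module k C] [Coalgebra k C]
variable {V : Type w} [AddCommGroup V] [Module k V] [HopfRep.Comod k C V]

theorem toSub_le_toSub {W₁ W₂ : Submodule k V} (h₁ : HopfRep.IsSubcomod (k := k) (A := C) W₁)
    (h₂ : HopfRep.IsSubcomod (k := k) (A := C) W₂) :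
    (letI := modR (k := k) (C := C) V; toSub W₁ h₁ ≤ toSub W₂ h₂) ↔ W₁ ≤ W₂ := Iff.rfl

theorem ofSub_le_ofSub (N₁ N₂ : letI := modR (k := k) (C := C) V; Submodule (R k C) V) :
    ofSub N₁ ≤ ofSub N₂ ↔ (letI := modR (k := k) (C := C) V; N₁ ≤ N₂) := Iff.rfl

theorem ofSub_injective (N₁ N₂ : letI := modR (k := k) (C := C) V; Submodule (R k C) V)
    (h : ofSub N₁ = ofSub N₂) : N₁ = N₂ := by
  letI := modR (k := k) (C := C) V
  rw [← toSub_ofSub N₁, ← toSub_ofSub N₂]
  congr 1

theorem ofSub_bot : ofSub (letI := modR (k := k) (C := C) V; (⊥ : Submodule (R k C) V)) = ⊥ := by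
  ext v; rfl

theorem ofSub_top : ofSub (letI := modR (k := k) (C := C) V; (⊤ : Submodule (R k C) V)) = ⊤ := by
  ext v; rfl

theorem ofSub_eq_bot_iff (N : letI := modR (k := k) (C := C) V; Submodule (R k C) V) :
    ofSub N = ⊥ ↔ N = ⊥ := by
  constructor
  · intro h
    apply ofSub_injective
    rw [h, ofSub_bot]
  · rintro rfl
    exact ofSub_bot

theorem ofSub_eq_top_iff (N : letI := modR (k := k) (C := C) V; Submodule (R k C) V) :
    ofSub N = ⊤ ↔ N = ⊤ := by
  constructor
  · intro h
    apply ofSub_injective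
    rw [h, ofSub_top]
  · rintro rfl
    exact ofSub_top

theorem ofSub_inf (N₁ N₂ : letI := modR (k := k) (C := C) V; Submodule (R k C) V) :
    ofSub (letI := modR (k := k) (C := C) V; N₁ ⊓ N₂) = ofSub N₁ ⊓ ofSub N₂ := by
  ext v; rfl

theorem ofSub_sup (N₁ N₂ : letI := modR (k := k) (C := C) V; Submodule (R k C) V) :
    ofSub (letI := modR (k := k) (C := C) V; N₁ ⊔ N₂) = ofSub N₁ ⊔ ofSub N₂ := by
  letI := modR (k := k) (C := C) V
  apply le_antisymm
  · intro v hv
    rw [mem_ofSub, Submodule.mem_sup] at hv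
    obtain ⟨a, ha, b, hb, rfl⟩ := hv
    exact Submodule.add_mem_sup (show a ∈ ofSub N₁ from ha) (show b ∈ ofSub N₂ from hb)
  · apply sup_le
    · intro v hv
      exact (le_sup_left : N₁ ≤ N₁ ⊔ N₂) hv
    · intro v hv
      exact (le_sup_right : N₂ ≤ N₁ ⊔ N₂) hv

/-- semisimplicity transfers -/
theorem isSemisimpleModule_of_comod (hV : HopfRep.IsSemisimpleComod k C V) :
    letI := modR (k := k) (C := C) V; IsSemisimpleModule (R k C) V := by
  letI := modR (k := k) (C := C) V
  rw [isSemisimpleModule_iff]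
  refine ⟨fun N => ?_⟩
  obtain ⟨W', hW', hc⟩ := hV (ofSub N) (isSubcomod_ofSub N)
  refine ⟨toSub W' hW', ?_⟩
  rw [isCompl_iff, disjoint_iff, codisjoint_iff] at hc ⊢
  constructor
  · apply ofSub_injective
    rw [ofSub_inf, ofSub_toSub, hc.1, ofSub_bot]
  · apply ofSub_injective
    rw [ofSub_sup, ofSub_toSub, hc.2, ofSub_top]

theorem comod_of_isSemisimpleModule
    (h : letI := modR (k := k) (C := C) V; IsSemisimpleModule (R k C) V) :
    HopfRep.IsSemisimpleComod k C V := by
  letI := modR (k := k) (C := C) V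
  intro W hW
  obtain ⟨N', hc⟩ := exists_isCompl (toSub W hW)
  refine ⟨ofSub N', isSubcomod_ofSub N', ?_⟩
  rw [isCompl_iff, disjoint_iff, codisjoint_iff] at hc ⊢
  constructor
  · have := congrArg ofSub hc.1
    rwa [ofSub_inf, ofSub_toSub, ofSub_bot] at this
  · have := congrArg ofSub hc.2
    rwa [ofSub_sup, ofSub_toSub, ofSub_top] at this

/-- atoms -/
theorem isAtom_ofSub_iff (N : letI := modR (k := k) (C := C) V; Submodule (R k C) V) :
    (letI := modR (k := k) (C := C) V; IsAtom N) ↔
      (ofSub N ≠ ⊥ ∧ ∀ W' : Submodule k V, HopfRep.IsSubcomod (k := k) (A := C) W' →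
        W' ≤ ofSub N → W' = ⊥ ∨ W' = ofSub N) := by
  letI := modR (k := k) (C := C) V
  constructor
  · intro h
    refine ⟨fun hb => h.1 ((ofSub_eq_bot_iff N).mp hb), fun W' hW' hle => ?_⟩
    have hle' : toSub W' hW' ≤ N := hle
    rcases hle'.eq_or_lt with heq | hlt
    · right
      rw [← heq, ofSub_toSub]
    · left
      have := h.2 _ hlt
      rw [← ofSub_toSub W' hW', this, ofSub_bot]
  · rintro ⟨h1, h2⟩
    refine ⟨fun hb => h1 ((ofSub_eq_bot_iff N).mpr hb), fun N' hlt => ?_⟩
    rcases h2 (ofSub N') (isSubcomod_ofSub N') hlt.le with h | h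
    · exact (ofSub_eq_bot_iff N').mp h
    · exact absurd (ofSub_injective _ _ h) hlt.ne

theorem isSimpleModule_iff_comod :
    (letI := modR (k := k) (C := C) V; IsSimpleModule (R k C) V) ↔ HopfRep.IsSimpleComod k C V := by
  letI := modR (k := k) (C := C) V
  constructor
  · intro h
    refine ⟨IsSimpleModule.nontrivial (R k C) V, fun W hW => ?_⟩
    rcases eq_bot_or_eq_top (toSub W hW) with h1 | h1
    · left
      rw [← ofSub_toSub W hW, h1, ofSub_bot]
    · right
      rw [← ofSub_toSub W hW, h1, ofSub_top]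
  · rintro ⟨hn, h⟩
    haveI := hn
    rw [isSimpleModule_iff]
    haveI : Nontrivial (Submodule (R k C) V) := inferInstance
    exact { eq_bot_or_eq_top := fun N => by
              rcases h (ofSub N) (isSubcomod_ofSub N) with h1 | h1
              · left; exact (ofSub_eq_bot_iff N).mp h1
              · right; exact (ofSub_eq_top_iff N).mp h1 }

end H9_ComodMod

namespace H9_ComodMod

open Groth.Agent.H4

variable {k : Type u} [Field k] {C : Type v} [AddCommGroup C] [Module k C] [Coalgebra k C]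
variable {V : Type w} [AddCommGroup V] [Module k V] [HopfRep.Comod k C V]

theorem ofSub_iSup {ι : Sort*}
    (N : ι → (letI := modR (k := k) (C := C) V; Submodule (R k C) V)) :
    ofSub (letI := modR (k := k) (C := C) V; ⨆ i, N i) = ⨆ i, ofSub (N i) := by
  letI := modR (k := k) (C := C) V
  apply le_antisymm
  · intro v hv
    rw [mem_ofSub] at hv
    refine Submodule.iSup_induction _ (motive := fun v => v ∈ ⨆ i, ofSub (N i)) hv ?_ ?_ ?_
    · intro i x hx
      exact Submodule.mem_iSup_of_mem i (show x ∈ ofSub (N i) from hx)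
    · exact Submodule.zero_mem _
    · intro x y hx hy
      exact Submodule.add_mem _ hx hy
  · apply iSup_le
    intro i v hv
    exact (le_iSup N i : N i ≤ ⨆ i, N i) hv

theorem iSupIndep_ofSub {ι : Type*}
    (N : ι → (letI := modR (k := k) (C := C) V; Submodule (R k C) V))
    (h : letI := modR (k := k) (C := C) V; iSupIndep N) : iSupIndep fun i => ofSub (N i) := by
  letI := modR (k := k) (C := C) V
  intro i
  have hi := h i
  rw [disjoint_iff] at hi ⊢
  have e : (⨆ j, ⨆ (_ : j ≠ i), ofSub (N j)) = ofSub (⨆ j, ⨆ (_ : j ≠ i), N j) := by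
    rw [ofSub_iSup]
    congr 1
    funext j
    rw [ofSub_iSup]
  rw [e, ← ofSub_inf, hi, ofSub_bot]

theorem iSupIndep_toSub {ι : Type*} (W : ι → Submodule k V)
    (hW : ∀ i, HopfRep.IsSubcomod (k := k) (A := C) (W i)) (h : iSupIndep W) :
    letI := modR (k := k) (C := C) V; iSupIndep fun i => toSub (W i) (hW i) := by
  letI := modR (k := k) (C := C) V
  intro i
  have hi := h i
  rw [disjoint_iff] at hi ⊢
  apply ofSub_injective
  rw [ofSub_inf, ofSub_toSub, ofSub_iSup, ofSub_bot]
  have e : (⨆ j, ofSub (⨆ (_ : j ≠ i), toSub (W j) (hW j))) = ⨆ j, ⨆ (_ : j ≠ i), W j := by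
    congr 1
    funext j
    rw [ofSub_iSup]
    congr 1
  rw [e]
  exact hi

end H9_ComodMod
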