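import Mathlib
import Groth.Prelude.Def_HopfRep
import Groth.Prelude.Def_Hoch
import Groth.Prelude.Def_ComodSub
import Groth.Agent.Lib.helper9.H9_ComodSS
import Groth.Agent.Lib.helper9.H9_ComodFix
import Groth.Agent.S7952

set_option autoImplicit false
set_option linter.unusedSectionVars false
universe u v w w'
open scoped TensorProduct

/-!
Linearly reductive groups: every comodule (of any dimension, in the universe of the Hopf algebra)
is semisimple, and Reynolds operators exist.
-/

namespace H9_LinRed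

open H9_ComodMod

variable {k : Type u} [Field k] {A : Type v} [CommRing A] [Bialgebra k A]

/-- over a linearly reductive bialgebra every comodule is semisimple -/
theorem isSemisimpleComod (hG : HopfRep.IsLinearlyReductive k A)
    (V : Type v) [AddCommGroup V] [Module k V] [c : HopfRep.Comod k A V] :
    HopfRep.IsSemisimpleComod k A V := by
  classical
  letI mV := modR (k := k) (C := A) V
  apply comod_of_isSemisimpleModule
  -- for each vector a finite-dimensional subcomodule containing it
  have hex : ∀ v : V, ∃ N : Submodule (R k A) V, IsSemisimpleModule (R k A) N ∧ v ∈ N := by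
    intro v
    obtain ⟨F, hFfin, hvF, hF⟩ := Groth.Agent.S7952.result k A V v
    letI cF : HopfRep.Comod k A ↥F := ComodSub.Comod.restr c F hF
    letI mF := modR (k := k) (C := A) ↥F
    haveI := hFfin
    have hss : HopfRep.IsSemisimpleComod k A ↥F := hG ↥F inferInstance
    haveI : IsSemisimpleModule (R k A) ↥F := isSemisimpleModule_of_comod hss
    let ι : ↥F →ₗ[R k A] V := toLin F.subtype (ComodSub.isComodHom_subtype c F hF)
    exact ⟨LinearMap.range ι, IsSemisimpleModule.range ι, ⟨⟨v, hvF⟩, rfl⟩⟩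
  choose N hN hvN using hex
  haveI : ∀ v, IsSemisimpleModule (R k A) (N v) := hN
  refine isSemisimpleModule_of_isSemisimpleModule_submodule' (p := N) (fun v => hN v) ?_
  rw [eq_top_iff]
  intro v _
  exact (le_iSup N v) (hvN v)

variable {V : Type w} [AddCommGroup V] [Module k V] [HopfRep.Comod k A V]

/-- the fixed vectors form a subcomodule -/
theorem isSubcomod_fixedPts :
    HopfRep.IsSubcomod (k := k) (A := A) (HopfRep.fixedPts k A V) := by
  rw [isSubcomod_iff_T]
  intro f w hw
  rw [(mem_fixedPts_iff_T w).mp hw f]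
  exact Submodule.smul_mem _ _ hw

/-- a semisimple comodule has a Reynolds operator -/
theorem exists_reynolds (hV : HopfRep.IsSemisimpleComod k A V) :
    ∃ E : V →ₗ[k] V, Hoch.IsComodHom A E ∧ E ∘ₗ E = E ∧
      ∀ x : V, E x = x ↔ x ∈ HopfRep.fixedPts k A V := by
  classical
  obtain ⟨W', hW', hc⟩ := hV _ (isSubcomod_fixedPts (k := k) (A := A) (V := V))
  let P := Submodule.linearProjOfIsCompl (HopfRep.fixedPts k A V) W' hc
  let E : V →ₗ[k] V := (HopfRep.fixedPts k A V).subtype ∘ₗ P
  have hE_fix : ∀ x ∈ HopfRep.fixedPts k A V, E x = x := by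
    intro x hx
    show ((P x : HopfRep.fixedPts k A V) : V) = x
    have := Submodule.linearProjOfIsCompl_apply_left hc ⟨x, hx⟩
    rw [show P x = ⟨x, hx⟩ from this]
  have hE_ker : ∀ x ∈ W', E x = 0 := by
    intro x hx
    show ((P x : HopfRep.fixedPts k A V) : V) = 0
    have : P x = 0 := (Submodule.linearProjOfIsCompl_apply_eq_zero_iff hc).mpr hx
    rw [this]; rfl
  have hE_mem : ∀ x, E x ∈ HopfRep.fixedPts k A V := fun x => (P x).2
  refine ⟨E, ?_, ?_, ?_⟩
  · rw [isComodHom_iff_T]
    intro f v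
    have hdec : ∃ w ∈ HopfRep.fixedPts k A V, ∃ w' ∈ W', w + w' = v := by
      have : v ∈ HopfRep.fixedPts k A V ⊔ W' := by rw [hc.sup_eq_top]; exact Submodule.mem_top
      exact Submodule.mem_sup.mp this
    obtain ⟨w, hw, w', hw', rfl⟩ := hdec
    have h1 : T (C := A) V f w ∈ HopfRep.fixedPts k A V :=
      (isSubcomod_iff_T _).mp isSubcomod_fixedPts f w hw
    have h2 : T (C := A) V f w' ∈ W' := (isSubcomod_iff_T _).mp hW' f w' hw'
    rw [map_add, map_add, hE_fix _ h1, hE_ker _ h2, map_add, hE_fix _ hw, hE_ker _ hw', add_zero,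
      add_zero]
  · ext x
    exact hE_fix _ (hE_mem x)
  · intro x
    constructor
    · intro h
      rw [← h]
      exact hE_mem x
    · exact hE_fix x

end H9_LinRed

namespace H9_LinRed

open H9_ComodMod

variable {k : Type u} [Field k] {A : Type v} [CommRing A] [Bialgebra k A]
  {V : Type w} [AddCommGroup V] [Module k V] [HopfRep.Comod k A V]
  {W : Type w'} [AddCommGroup W] [Module k W] [HopfRep.Comod k A W]

/-- the kernel of a comodule map is a subcomodule -/
theorem isSubcomod_ker (φ : V →ₗ[k] W) (hφ : Hoch.IsComodHom A φ) :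
    HopfRep.IsSubcomod (k := k) (A := A) (LinearMap.ker φ) := by
  rw [isSubcomod_iff_T]
  intro f v hv
  rw [LinearMap.mem_ker] at hv ⊢
  rw [T_comm_of_isComodHom φ hφ, hv, map_zero]

/-- invariants lift along surjective comodule maps out of a semisimple comodule -/
theorem exists_fixed_lift (hV : HopfRep.IsSemisimpleComod k A V) (φ : V →ₗ[k] W)
    (hφ : Hoch.IsComodHom A φ) (hsurj : Function.Surjective φ) (w : W)
    (hw : w ∈ HopfRep.fixedPts k A W) : ∃ v ∈ HopfRep.fixedPts k A V, φ v = w := by
  obtain ⟨U, hU, hc⟩ := hV _ (isSubcomod_ker φ hφ)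
  obtain ⟨v₀, rfl⟩ := hsurj w
  obtain ⟨n, hn, u, hu, rfl⟩ : ∃ n ∈ LinearMap.ker φ, ∃ u ∈ U, n + u = v₀ :=
    Submodule.mem_sup.1 (by rw [hc.sup_eq_top]; trivial)
  have hφu : φ (n + u) = φ u := by
    rw [map_add, LinearMap.mem_ker.1 hn, zero_add]
  refine ⟨u, ?_, hφu.symm⟩
  rw [hφu] at hw
  rw [mem_fixedPts_iff_T] at hw ⊢
  intro f
  have h1 : T (C := A) V f u - f 1 • u ∈ U :=
    U.sub_mem (T_mem_of_isSubcomod U hU f u hu) (U.smul_mem _ hu)
  have h2 : T (C := A) V f u - f 1 • u ∈ LinearMap.ker φ := by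
    rw [LinearMap.mem_ker, map_sub, T_comm_of_isComodHom φ hφ, hw f, map_smul, sub_self]
  have h3 : T (C := A) V f u - f 1 • u ∈ LinearMap.ker φ ⊓ U := ⟨h2, h1⟩
  rw [hc.inf_eq_bot] at h3
  exact sub_eq_zero.1 ((Submodule.mem_bot k).1 h3)

end H9_LinRed
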