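import Mathlib
import Groth.Prelude.Def_HopfRep
import Groth.Prelude.Def_Hoch
import Groth.Agent.Lib.helper9.H9_Antipode
import Groth.Agent.Lib.helper9.H9_LinRed
import Groth.Agent.S12926

set_option autoImplicit false
set_option linter.unusedSectionVars false
universe u v
open scoped TensorProduct

/-!
Integrals on a linearly reductive commutative Hopf algebra.
-/

namespace H9_RInt

variable {k : Type u} [CommRing k] {A : Type v} [CommRing A] [HopfAlgebra k A]

/-- from `(α ⊗ id) ∘ Δ = α ⊗ 1` to `(id ⊗ α∘S) ∘ Δ = 1 ⊗ α∘S` -/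
theorem lTensor_comp_antipode (α : A →ₗ[k] k)
    (hα : ∀ a : A, α.rTensor A (CoalgebraStruct.comul (R := k) a) = α a ⊗ₜ[k] (1 : A)) (a : A) :
    (α ∘ₗ HopfAlgebraStruct.antipode (R := k) (A := A)).lTensor A (CoalgebraStruct.comul (R := k) a) =
      (1 : A) ⊗ₜ[k] α (HopfAlgebraStruct.antipode (R := k) a) := by
  set S : A →ₗ[k] A := HopfAlgebraStruct.antipode (R := k) (A := A) with hS
  let F : k ⊗[k] A →ₗ[k] A ⊗[k] k :=
    TensorProduct.map S LinearMap.id ∘ₗ (TensorProduct.comm k k A).toLinearMap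
  have h1 : ∀ y : A ⊗[k] A, F (α.rTensor A (TensorProduct.map S S (TensorProduct.comm k A A y))) =
      (α ∘ₗ S).lTensor A y := by
    intro y
    induction y using TensorProduct.induction_on with
    | zero => simp
    | tmul p q =>
      simp only [F, TensorProduct.comm_tmul, TensorProduct.map_tmul, LinearMap.rTensor_tmul,
        LinearMap.comp_apply, LinearEquiv.coe_coe, LinearMap.id_apply, LinearMap.lTensor_tmul]
      rw [hS, H9_Antipode.antipode_antipode]
    | add y z hy hz => simp only [map_add, hy, hz]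
  rw [← h1, ← H9_Antipode.comul_antipode (k := k) a, hα]
  simp only [F, LinearMap.comp_apply, LinearEquiv.coe_coe, TensorProduct.comm_tmul,
    TensorProduct.map_tmul, LinearMap.id_apply]
  rw [hS, HopfAlgebra.antipode_one]

end H9_RInt

namespace H9_RInt

variable {k : Type u} [Field k] {A : Type v} [CommRing A] [HopfAlgebra k A]

/-- a linearly reductive commutative Hopf algebra has a normalised left integral -/
theorem exists_integral (hG : HopfRep.IsLinearlyReductive k A) :
    ∃ α : A →ₗ[k] k, α 1 = 1 ∧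
      ∀ a : A, α.rTensor A (CoalgebraStruct.comul (R := k) a) = α a ⊗ₜ[k] (1 : A) := by
  have hss := H9_LinRed.isSemisimpleComod hG A
  have h1 : HopfRep.IsSubcomod (k := k) (A := A) (Submodule.span k {(1 : A)}) := by
    rw [H9_ComodMod.isSubcomod_iff_T]
    intro f w hw
    obtain ⟨c, rfl⟩ := Submodule.mem_span_singleton.1 hw
    have h1fix : (1 : A) ∈ HopfRep.fixedPts k A A := by
      show CoalgebraStruct.comul (R := k) (1 : A) = (1 : A) ⊗ₜ[k] (1 : A)
      rw [Bialgebra.comul_one, Algebra.TensorProduct.one_def]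
    rw [map_smul, (H9_ComodMod.mem_fixedPts_iff_T (1 : A)).1 h1fix f]
    exact Submodule.smul_mem _ _ (Submodule.smul_mem _ _ (Submodule.mem_span_singleton_self _))
  obtain ⟨H, hH, hc⟩ := hss _ h1
  obtain ⟨α, hα, hα1⟩ := Groth.Agent.S12926.result k A H hH hc
  refine ⟨α, hα1, fun a => ?_⟩
  have h2 := LinearMap.congr_fun hα a
  simp only [LinearMap.comp_apply] at h2
  exact h2.symm

/-- and a normalised right integral -/
theorem exists_rintegral (hG : HopfRep.IsLinearlyReductive k A) :
    ∃ β : A →ₗ[k] k, β 1 = 1 ∧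
      ∀ a : A, β.lTensor A (CoalgebraStruct.comul (R := k) a) = (1 : A) ⊗ₜ[k] β a := by
  obtain ⟨α, hα1, hα⟩ := exists_integral hG
  refine ⟨α ∘ₗ HopfAlgebraStruct.antipode (R := k) (A := A), ?_, fun a => ?_⟩
  · rw [LinearMap.comp_apply, HopfAlgebra.antipode_one, hα1]
  · exact lTensor_comp_antipode α hα a

end H9_RInt
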