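import Mathlib

namespace Groth.Agent.H9.ComplNoeth

universe u

open AdicCompletion

theorem factorPow_evalₐ {Q : Type*} [CommRing Q] (J : Ideal Q) {m k : ℕ} (hle : m ≤ k)
    (x : AdicCompletion J Q) :
    Ideal.Quotient.factorPow J hle (evalₐ J k x) = evalₐ J m x := by
  obtain ⟨c, rfl⟩ := AdicCompletion.mk_surjective J Q x
  rw [evalₐ_mk, evalₐ_mk]
  show Ideal.Quotient.mk (J ^ m) (c k) = Ideal.Quotient.mk (J ^ m) (c m)
  rw [Ideal.Quotient.mk_eq_mk_iff_sub_mem]
  have := c.2 hle
  rw [SModEq.sub_mem] at this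
  have h2 : c m - c k ∈ J ^ m := by simpa using this
  rw [← neg_sub]
  exact (J ^ m).neg_mem h2

theorem isNoetherianRing_adicCompletion (R : Type u) [CommRing R] [IsNoetherianRing R]
    (I : Ideal R) : IsNoetherianRing (AdicCompletion I R) := by
  classical
  obtain ⟨n, a, ha⟩ : ∃ (n : ℕ) (a : Fin n → R), Ideal.span (Set.range a) = I := by
    obtain ⟨s, hs⟩ := (IsNoetherian.noetherian I : I.FG)
    refine ⟨s.card, fun i => (s.equivFin.symm i : R), ?_⟩
    rw [← hs]
    congr 1
    ext x
    constructor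
    · rintro ⟨i, rfl⟩
      exact (s.equivFin.symm i).2
    · intro hx
      exact ⟨s.equivFin ⟨x, hx⟩, by simp⟩
  let Q := MvPolynomial (Fin n) R
  let J' : Ideal Q := MvPolynomial.idealOfVars (Fin n) R
  let φ : Q →+* R := (MvPolynomial.aeval a : Q →ₐ[R] R).toRingHom
  have hφX : ∀ i, φ (MvPolynomial.X i) = a i := fun i => MvPolynomial.aeval_X a i
  have hφC : ∀ r, φ (MvPolynomial.C r) = r := fun r => by
    show MvPolynomial.aeval a (MvPolynomial.C r) = r
    rw [MvPolynomial.aeval_C]
    rfl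
  have hφJ : J'.map φ = I := by
    show (Ideal.span (Set.range MvPolynomial.X)).map φ = I
    rw [Ideal.map_span, ← Set.range_comp, ← ha]
    congr 2
    ext i
    exact hφX i
  have hle : ∀ k, J' ^ k ≤ (I ^ k).comap φ := fun k => by
    rw [← Ideal.map_le_iff_le_comap, Ideal.map_pow, hφJ]
  let fk : ∀ k, AdicCompletion J' Q →+* R ⧸ I ^ k := fun k =>
    (Ideal.quotientMap (I ^ k) φ (hle k)).comp (evalₐ J' k).toRingHom
  have hf : ∀ {m k : ℕ} (hmk : m ≤ k), (Ideal.Quotient.factorPow I hmk).comp (fk k) = fk m := by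
    intro m k hmk
    ext x
    show Ideal.Quotient.factorPow I hmk (Ideal.quotientMap (I ^ k) φ (hle k) (evalₐ J' k x)) =
      Ideal.quotientMap (I ^ m) φ (hle m) (evalₐ J' m x)
    rw [← factorPow_evalₐ J' hmk x]
    obtain ⟨q, hq⟩ := Ideal.Quotient.mk_surjective (evalₐ J' k x)
    rw [← hq]
    rfl
  let Ψ : AdicCompletion J' Q →+* AdicCompletion I R := AdicCompletion.liftRingHom I fk hf
  have hΨof : ∀ q : Q, Ψ (algebraMap Q _ q) = algebraMap R _ (φ q) := by
    intro q
    apply AdicCompletion.ext_evalₐ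
    intro k
    rw [AdicCompletion.evalₐ_liftRingHom]
    show Ideal.quotientMap (I ^ k) φ (hle k) (evalₐ J' k (algebraMap Q _ q)) = _
    rw [AdicCompletion.algebraMap_apply, AdicCompletion.algebraMap_apply, evalₐ_of, evalₐ_of]
    rfl
  -- Noetherianity of the source
  haveI : IsNoetherianRing (AdicCompletion J' Q) :=
    isNoetherianRing_of_ringEquiv (MvPowerSeries (Fin n) R)
      (MvPowerSeries.toAdicCompletionAlgEquiv (Fin n) R).toRingEquiv
  -- completeness
  have hJfg : J'.FG := MvPolynomial.idealOfVars_fg (Fin n) R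
  have hIfg : I.FG := IsNoetherian.noetherian I
  haveI hc1 : IsAdicComplete (J'.map (algebraMap Q (AdicCompletion J' Q))) (AdicCompletion J' Q) := by
    rw [IsAdicComplete.map_algebraMap_iff]
    exact AdicCompletion.isAdicComplete hJfg
  have hc2 : IsAdicComplete (I.map (algebraMap R (AdicCompletion I R))) (AdicCompletion I R) := by
    rw [IsAdicComplete.map_algebraMap_iff]
    exact AdicCompletion.isAdicComplete hIfg
  have hmap : (J'.map (algebraMap Q (AdicCompletion J' Q))).map Ψ =
      I.map (algebraMap R (AdicCompletion I R)) := by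
    rw [Ideal.map_map]
    have : Ψ.comp (algebraMap Q (AdicCompletion J' Q)) =
        (algebraMap R (AdicCompletion I R)).comp φ := by
      apply RingHom.ext
      intro q
      exact hΨof q
    rw [this, ← Ideal.map_map, hφJ]
  haveI : IsHausdorff ((J'.map (algebraMap Q (AdicCompletion J' Q))).map Ψ) (AdicCompletion I R) := by
    rw [hmap]
    exact hc2.toIsHausdorff
  have hsurj : Function.Surjective Ψ := by
    apply surjective_of_mk_map_comp_surjective (I := J'.map (algebraMap Q (AdicCompletion J' Q))) Ψ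
    intro y
    obtain ⟨s, rfl⟩ := Ideal.Quotient.mk_surjective y
    obtain ⟨r, hr⟩ := Ideal.Quotient.mk_surjective (evalOneₐ I s)
    refine ⟨algebraMap Q _ (MvPolynomial.C r), ?_⟩
    rw [RingHom.comp_apply, hΨof, hφC, Ideal.Quotient.mk_eq_mk_iff_sub_mem, hmap,
      ← ker_evalOneₐ_eq_map I hIfg, RingHom.mem_ker, map_sub, sub_eq_zero,
      AdicCompletion.algebraMap_apply]
    show evalOneₐ I (of I R r) = evalOneₐ I s
    rw [evalOneₐ_of, hr]
  exact isNoetherianRing_of_surjective _ _ Ψ hsurj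

end Groth.Agent.H9.ComplNoeth
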