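import Mathlib
import Groth.Agent.Lib.helper9.H9_ComplNoeth

namespace Groth.Agent.H9.ComplFunct

universe u

open AdicCompletion

variable {P R : Type*} [CommRing P] [CommRing R] (φ : P →+* R) (J : Ideal P) (I : Ideal R)
  (h : J.map φ ≤ I)

include h in
theorem pow_le_comap (k : ℕ) : J ^ k ≤ (I ^ k).comap φ := by
  rw [← Ideal.map_le_iff_le_comap, Ideal.map_pow]
  exact Ideal.pow_right_mono h k

/-- the level maps -/
noncomputable def level (k : ℕ) : AdicCompletion J P →+* R ⧸ I ^ k :=
  (Ideal.quotientMap (I ^ k) φ (pow_le_comap φ J I h k)).comp (evalₐ J k).toRingHom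

theorem level_compat {m k : ℕ} (hmk : m ≤ k) :
    (Ideal.Quotient.factorPow I hmk).comp (level φ J I h k) = level φ J I h m := by
  ext x
  show Ideal.Quotient.factorPow I hmk (Ideal.quotientMap (I ^ k) φ (pow_le_comap φ J I h k)
    (evalₐ J k x)) = Ideal.quotientMap (I ^ m) φ (pow_le_comap φ J I h m) (evalₐ J m x)
  rw [← Groth.Agent.H9.ComplNoeth.factorPow_evalₐ J hmk x]
  obtain ⟨q, hq⟩ := Ideal.Quotient.mk_surjective (evalₐ J k x)
  rw [← hq]
  rfl

/-- the induced map of completions -/
noncomputable def complMap : AdicCompletion J P →+* AdicCompletion I R :=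
  AdicCompletion.liftRingHom I (level φ J I h) (fun hmk => level_compat φ J I h hmk)

theorem complMap_of (q : P) :
    complMap φ J I h (algebraMap P _ q) = algebraMap R _ (φ q) := by
  apply AdicCompletion.ext_evalₐ
  intro k
  rw [complMap, AdicCompletion.evalₐ_liftRingHom]
  show Ideal.quotientMap (I ^ k) φ (pow_le_comap φ J I h k) (evalₐ J k (algebraMap P _ q)) = _
  rw [AdicCompletion.algebraMap_apply, AdicCompletion.algebraMap_apply, evalₐ_of, evalₐ_of]
  rfl

theorem complMap_comp :
    (complMap φ J I h).comp (algebraMap P (AdicCompletion J P)) =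
      (algebraMap R (AdicCompletion I R)).comp φ := by
  apply RingHom.ext
  intro q
  exact complMap_of φ J I h q

end Groth.Agent.H9.ComplFunct
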