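import Mathlib
import Groth.Agent.Lib.helper9.H9_CanonUnique

namespace Groth.Agent.H9.ComplIso

universe u

open AdicCompletion

variable {A : Type u} [CommRing A] [IsNoetherianRing A] (I : Ideal A)

theorem exists_map_surjective (M N : Type u) [AddCommGroup M] [Module A M] [Module.Finite A M]
    [AddCommGroup N] [Module A N] [Module.Finite A N]
    (h : ∀ n : ℕ, Nonempty ((M ⧸ (I ^ n • ⊤ : Submodule A M)) ≃ₗ[A]
      (N ⧸ (I ^ n • ⊤ : Submodule A N)))) :
    ∃ φ : M →ₗ[A] N, Function.Surjective (AdicCompletion.map I φ) := by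
  obtain ⟨c, hc⟩ := Groth.Agent.H9.CanonUnique.exists_lift I M N
  obtain ⟨β⟩ := h (c + 1)
  obtain ⟨φ, hφ⟩ := hc (β.toLinearMap ∘ₗ Submodule.mkQ _)
  refine ⟨φ, AdicCompletion.map_surjective_of_mkQ_comp_surjective (I := I) ?_⟩
  intro z
  obtain ⟨y', rfl⟩ := Submodule.Quotient.mk_surjective _ z
  obtain ⟨x, hx⟩ : ∃ x, β (Submodule.Quotient.mk x) = Submodule.Quotient.mk y' := by
    obtain ⟨x, hx⟩ := Submodule.Quotient.mk_surjective _ (β.symm (Submodule.Quotient.mk y'))
    exact ⟨x, by rw [hx, LinearEquiv.apply_symm_apply]⟩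
  obtain ⟨y, hy, hxy⟩ := hφ x
  rw [LinearMap.comp_apply, Submodule.mkQ_apply, LinearEquiv.coe_coe, hx] at hxy
  have h1 : y' - (φ x + y) ∈ (I ^ (c + 1) • ⊤ : Submodule A N) :=
    (Submodule.Quotient.eq _).1 hxy
  have h2 : (I ^ (c + 1) • ⊤ : Submodule A N) ≤ I • ⊤ := by
    apply Submodule.smul_mono_left
    exact Ideal.pow_le_self (Nat.succ_ne_zero c)
  refine ⟨x, ?_⟩
  rw [LinearMap.comp_apply, Submodule.mkQ_apply]
  apply (Submodule.Quotient.eq _).2
  have h3 : φ x - y' = -((y' - (φ x + y)) + y) := by abel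
  rw [h3]
  exact Submodule.neg_mem _ (Submodule.add_mem _ (h2 h1) hy)

theorem nonempty_equiv (M N : Type u) [AddCommGroup M] [Module A M] [Module.Finite A M]
    [AddCommGroup N] [Module A N] [Module.Finite A N]
    (h : ∀ n : ℕ, Nonempty ((M ⧸ (I ^ n • ⊤ : Submodule A M)) ≃ₗ[A]
      (N ⧸ (I ^ n • ⊤ : Submodule A N)))) :
    Nonempty (AdicCompletion I M ≃ₗ[AdicCompletion I A] AdicCompletion I N) := by
  obtain ⟨φ, hφ⟩ := exists_map_surjective I M N h
  obtain ⟨ψ, hψ⟩ := exists_map_surjective I N M (fun n => ⟨(h n).some.symm⟩)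
  haveI : Module.Finite (AdicCompletion I A) (AdicCompletion I M) :=
    Module.Finite.of_surjective (ofTensorProduct I M) (ofTensorProduct_surjective_of_finite I M)
  have hinj : Function.Injective ((AdicCompletion.map I ψ) ∘ₗ (AdicCompletion.map I φ)) :=
    OrzechProperty.injective_of_surjective_endomorphism _ (hψ.comp hφ)
  have hφi : Function.Injective (AdicCompletion.map I φ) := by
    intro x y hxy
    apply hinj
    rw [LinearMap.comp_apply, LinearMap.comp_apply, hxy]
  exact ⟨LinearEquiv.ofBijective (AdicCompletion.map I φ) ⟨hφi, hφ⟩⟩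

end Groth.Agent.H9.ComplIso
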