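import Mathlib

namespace Groth.Agent.H9.ComplMap

universe u

open AdicCompletion

variable {A B : Type u} [CommRing A] [CommRing B] [Algebra A B]
  (I : Ideal A) (J : Ideal B)
  (ψ : AdicCompletion I A →+* AdicCompletion J B)
  (hψ : ψ.comp (algebraMap A (AdicCompletion I A)) =
      (algebraMap B (AdicCompletion J B)).comp (algebraMap A B))

include hψ in
theorem psi_of (a : A) : ψ (of I A a) = of J B (algebraMap A B a) :=
  RingHom.congr_fun hψ a

include hψ in
/-- elements vanishing at level `n` are sent to elements vanishing at level `n` -/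
theorem evalₐ_psi_eq_zero (hI : I.FG) (hIJ : I.map (algebraMap A B) ≤ J) (n : ℕ)
    (z : AdicCompletion I A) (hz : evalₐ I n z = 0) : evalₐ J n (ψ z) = 0 := by
  have hz' : z ∈ LinearMap.ker (AdicCompletion.eval I A n) := by
    have hle : I ^ n ≤ I ^ n • (⊤ : Ideal A) := by rw [smul_eq_mul, Ideal.mul_top]
    have h0 := AdicCompletion.factor_evalₐ_eq_eval (I := I) (n := n) z hle
    rw [LinearMap.mem_ker, ← h0, hz, _root_.map_zero]
  rw [← AdicCompletion.pow_smul_top_eq_ker_eval hI] at hz'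
  refine Submodule.smul_induction_on hz' ?_ ?_
  · intro r hr y _
    rw [Algebra.smul_def, map_mul, map_mul]
    have h1 : ψ (algebraMap A (AdicCompletion I A) r) = of J B (algebraMap A B r) :=
      psi_of I J ψ hψ r
    rw [h1, evalₐ_of]
    have h2 : algebraMap A B r ∈ J ^ n := by
      have : algebraMap A B r ∈ (I ^ n).map (algebraMap A B) := Ideal.mem_map_of_mem _ hr
      rw [Ideal.map_pow] at this
      exact Ideal.pow_right_mono hIJ n this
    rw [Ideal.Quotient.eq_zero_iff_mem.2 h2, zero_mul]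
  · intro x y hx hy
    rw [map_add, map_add, hx, hy, add_zero]

include hψ in
theorem evalₐ_psi_mk (hI : I.FG) (hIJ : I.map (algebraMap A B) ≤ J) (n : ℕ)
    (a : AdicCauchySequence I A) :
    evalₐ J n (ψ (AdicCompletion.mk I A a)) = Ideal.Quotient.mk (J ^ n) (algebraMap A B (a n)) := by
  have h1 : evalₐ I n (AdicCompletion.mk I A a - of I A (a n)) = 0 := by
    rw [map_sub, evalₐ_mk, evalₐ_of, sub_self]
  have h2 := evalₐ_psi_eq_zero I J ψ hψ hI hIJ n _ h1
  rw [map_sub, map_sub, sub_eq_zero, psi_of I J ψ hψ, evalₐ_of] at h2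
  exact h2

include hψ in
theorem injective_of (hI : I.FG) (hIJ : I.map (algebraMap A B) ≤ J)
    (hinj : ∀ n : ℕ, ∀ a : A, algebraMap A B a ∈ J ^ n → a ∈ I ^ n) :
    Function.Injective ψ := by
  rw [injective_iff_map_eq_zero]
  intro x hx
  obtain ⟨a, rfl⟩ := AdicCompletion.mk_surjective I A x
  apply AdicCompletion.ext_evalₐ
  intro n
  have h1 := evalₐ_psi_mk I J ψ hψ hI hIJ n a
  rw [hx, _root_.map_zero] at h1
  rw [evalₐ_mk, _root_.map_zero, Ideal.Quotient.eq_zero_iff_mem]
  exact hinj n _ (Ideal.Quotient.eq_zero_iff_mem.1 h1.symm)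

include hψ in
theorem surjective_of (hI : I.FG) (hIJ : I.map (algebraMap A B) ≤ J)
    (hinj : ∀ n : ℕ, ∀ a : A, algebraMap A B a ∈ J ^ n → a ∈ I ^ n)
    (hsurj : ∀ n : ℕ, ∀ b : B, ∃ a : A, b - algebraMap A B a ∈ J ^ n) :
    Function.Surjective ψ := by
  intro y
  obtain ⟨b, rfl⟩ := AdicCompletion.mk_surjective J B y
  choose a ha using fun n => hsurj n (b n)
  have hc : ∀ n, a n ≡ a (n + 1) [SMOD (I ^ n • ⊤ : Submodule A A)] := by
    intro n
    rw [SModEq.sub_mem, smul_eq_mul, Ideal.mul_top]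
    apply hinj
    have h1 : b n - b (n + 1) ∈ J ^ n := by
      have := b.2 (Nat.le_succ n)
      rw [SModEq.sub_mem, smul_eq_mul, Ideal.mul_top] at this
      exact this
    have h2 : algebraMap A B (a n - a (n + 1)) =
        -(b n - algebraMap A B (a n)) + (b n - b (n + 1)) + (b (n + 1) - algebraMap A B (a (n + 1))) := by
      rw [map_sub]
      ring
    rw [h2]
    exact (J ^ n).add_mem ((J ^ n).add_mem ((J ^ n).neg_mem (ha n)) h1)
      (Ideal.pow_le_pow_right (Nat.le_succ n) (ha (n + 1)))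
  refine ⟨AdicCompletion.mk I A (AdicCauchySequence.mk I A a hc), ?_⟩
  apply AdicCompletion.ext_evalₐ
  intro n
  rw [evalₐ_psi_mk I J ψ hψ hI hIJ n, evalₐ_mk]
  show Ideal.Quotient.mk (J ^ n) (algebraMap A B (a n)) = Ideal.Quotient.mk (J ^ n) (b n)
  rw [Ideal.Quotient.mk_eq_mk_iff_sub_mem, ← neg_sub]
  exact (J ^ n).neg_mem (ha n)

end Groth.Agent.H9.ComplMap
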