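import Mathlib
import Groth.Agent.Lib.helper9.H9_TensorDual

/-!
# Slices of tensors over a field: membership in `W ⊗ B ⊆ M ⊗ D`
-/

set_option autoImplicit false
universe u v w
open scoped TensorProduct

namespace H9_Slice

open H9_TensorDual

variable {k : Type u} [Field k] {M : Type w} [AddCommGroup M] [Module k M]
  {D : Type v} [AddCommGroup D] [Module k D]

/-- contraction of the first factor with a functional -/
noncomputable def lslice (g : Module.Dual k M) : M ⊗[k] D →ₗ[k] D :=
  (TensorProduct.lid k D).toLinearMap ∘ₗ g.rTensor D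

theorem lslice_apply (g : Module.Dual k M) (z : M ⊗[k] D) :
    lslice g z = TensorProduct.lid k D (g.rTensor D z) := rfl

@[simp] theorem lslice_tmul (g : Module.Dual k M) (m : M) (d : D) :
    lslice g (m ⊗ₜ[k] d) = g m • d := by
  simp [lslice]

theorem apply_contr (g : Module.Dual k M) (ψ : Module.Dual k D) (z : M ⊗[k] D) :
    g (contr ψ z) = ψ (lslice g z) := by
  induction z using TensorProduct.induction_on with
  | zero => simp
  | tmul m d => simp [contr_tmul, mul_comm]
  | add x y hx hy => simp only [map_add, hx, hy]

theorem lslice_lTensor {D' : Type*} [AddCommGroup D'] [Module k D'] (g : Module.Dual k M)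
    (i : D' →ₗ[k] D) (y : M ⊗[k] D') : lslice g (i.lTensor M y) = i (lslice g y) := by
  induction y using TensorProduct.induction_on with
  | zero => simp
  | tmul m d => simp
  | add x y hx hy => simp only [map_add, hx, hy]

theorem lslice_rTensor {M' : Type*} [AddCommGroup M'] [Module k M'] (g : Module.Dual k M)
    (j : M' →ₗ[k] M) (y : M' ⊗[k] D) : lslice g (j.rTensor D y) = lslice (g ∘ₗ j) y := by
  induction y using TensorProduct.induction_on with
  | zero => simp
  | tmul m d => simp
  | add x y hx hy => simp only [map_add, hx, hy]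

/-- `z ∈ M ⊗ B` iff all its left slices lie in `B` -/
theorem mem_range_lTensor_subtype_iff (B : Submodule k D) (z : M ⊗[k] D) :
    z ∈ LinearMap.range (B.subtype.lTensor M) ↔ ∀ g : Module.Dual k M, lslice g z ∈ B := by
  constructor
  · rintro ⟨y, rfl⟩ g
    rw [lslice_lTensor]
    exact (lslice g y).2
  · intro h
    rw [mem_range_lTensor_iff]
    intro ψ hψ
    rw [← Module.forall_dual_apply_eq_zero_iff k]
    intro g
    rw [apply_contr]
    have := LinearMap.congr_fun hψ ⟨lslice g z, h g⟩
    simpa using this

theorem contr_comm (ψ : Module.Dual k D) (z : M ⊗[k] D) :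
    lslice ψ (TensorProduct.comm k M D z) = contr ψ z := by
  induction z using TensorProduct.induction_on with
  | zero => simp
  | tmul m d => simp [contr_tmul]
  | add x y hx hy => simp only [map_add, hx, hy]

theorem eq_zero_of_forall_lslice (z : M ⊗[k] D) (h : ∀ g : Module.Dual k M, lslice g z = 0) :
    z = 0 := by
  apply (TensorProduct.comm k M D).injective
  rw [map_zero]
  apply eq_zero_of_forall_contr
  intro g
  rw [← contr_comm, ← h g]
  congr 1
  exact (TensorProduct.comm k M D).symm_apply_apply z

/-- `z ∈ W ⊗ D` iff all its right slices lie in `W` -/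
theorem mem_range_rTensor_subtype_iff (W : Submodule k M) (z : M ⊗[k] D) :
    z ∈ LinearMap.range (W.subtype.rTensor D) ↔ ∀ ψ : Module.Dual k D, contr ψ z ∈ W := by
  have h1 : z ∈ LinearMap.range (W.subtype.rTensor D) ↔
      TensorProduct.comm k M D z ∈ LinearMap.range (W.subtype.lTensor D) := by
    constructor
    · rintro ⟨y, rfl⟩
      refine ⟨TensorProduct.comm k W D y, ?_⟩
      induction y using TensorProduct.induction_on with
      | zero => simp
      | tmul m d => simp
      | add x y hx hy => simp only [map_add, hx, hy]
    · rintro ⟨y, hy⟩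
      refine ⟨(TensorProduct.comm k W D).symm y, ?_⟩
      apply (TensorProduct.comm k M D).injective
      rw [← hy]
      clear hy
      induction y using TensorProduct.induction_on with
      | zero => simp
      | tmul d m => simp
      | add x y hx hy => simp only [map_add, hx, hy]
  rw [h1, mem_range_lTensor_subtype_iff]
  refine forall_congr' fun ψ => ?_
  rw [contr_comm]

/-- `z ∈ W ⊗ B` iff `z ∈ W ⊗ D` and `z ∈ M ⊗ B` -/
theorem mem_range_map_subtype_iff (W : Submodule k M) (B : Submodule k D) (z : M ⊗[k] D) :
    z ∈ LinearMap.range (TensorProduct.map W.subtype B.subtype) ↔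
      z ∈ LinearMap.range (W.subtype.rTensor D) ∧ z ∈ LinearMap.range (B.subtype.lTensor M) := by
  constructor
  · rintro ⟨y, rfl⟩
    constructor
    · refine ⟨B.subtype.lTensor W y, ?_⟩
      rw [← LinearMap.comp_apply, LinearMap.rTensor_comp_lTensor]
    · refine ⟨W.subtype.rTensor B y, ?_⟩
      rw [← LinearMap.comp_apply, LinearMap.lTensor_comp_rTensor]
  · rintro ⟨⟨z', rfl⟩, h2⟩
    have h3 : z' ∈ LinearMap.range (B.subtype.lTensor W) := by
      rw [mem_range_lTensor_subtype_iff]
      intro g
      obtain ⟨g', hg'⟩ := LinearMap.exists_extend g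
      have := (mem_range_lTensor_subtype_iff B _).1 h2 g'
      rw [lslice_rTensor, hg'] at this
      exact this
    obtain ⟨y, rfl⟩ := h3
    refine ⟨y, ?_⟩
    rw [← LinearMap.comp_apply, LinearMap.rTensor_comp_lTensor]

end H9_Slice
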