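import Mathlib

namespace Groth.Agent.H9.DVRCompl

universe u

open IsLocalRing

/-- A Noetherian local ring whose maximal ideal is generated by a non-nilpotent element is a
domain. -/
theorem isDomain_of_principal (B : Type u) [CommRing B] [IsLocalRing B] [IsNoetherianRing B]
    (ϖ : B) (hϖ : maximalIdeal B = Ideal.span {ϖ}) (hnil : ∀ n : ℕ, ϖ ^ n ≠ 0) : IsDomain B := by
  classical
  have hdecomp : ∀ x : B, x ≠ 0 → ∃ (n : ℕ) (u : B), IsUnit u ∧ x = u * ϖ ^ n := by
    intro x hx
    have hinf := Ideal.iInf_pow_eq_bot_of_isLocalRing (maximalIdeal B) Ideal.IsPrime.ne_top'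
    have hex : ∃ n : ℕ, x ∉ maximalIdeal B ^ n := by
      by_contra hcon
      apply hx
      have : x ∈ (⨅ n : ℕ, maximalIdeal B ^ n) := by
        rw [Ideal.mem_iInf]
        intro n
        by_contra hn
        exact hcon ⟨n, hn⟩
      rw [hinf] at this
      exact this
    let n := Nat.find hex
    have hn : x ∉ maximalIdeal B ^ n := Nat.find_spec hex
    have hn0 : n ≠ 0 := by
      intro h0
      rw [h0, pow_zero, Ideal.one_eq_top] at hn
      exact hn trivial
    obtain ⟨k, hk⟩ := Nat.exists_eq_succ_of_ne_zero hn0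
    have hk' : x ∈ maximalIdeal B ^ k := by
      by_contra hcon
      have := Nat.find_min' hex hcon
      omega
    rw [hϖ, Ideal.span_singleton_pow, Ideal.mem_span_singleton'] at hk'
    obtain ⟨u, hu⟩ := hk'
    refine ⟨k, u, ?_, hu.symm⟩
    by_contra hnu
    have hum : u ∈ maximalIdeal B := (mem_maximalIdeal u).2 hnu
    rw [hϖ, Ideal.mem_span_singleton'] at hum
    obtain ⟨w, hw⟩ := hum
    apply hn
    rw [hk, hϖ, Ideal.span_singleton_pow, Ideal.mem_span_singleton']
    exact ⟨w, by rw [← hu, ← hw, pow_succ]; ring⟩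
  haveI : NoZeroDivisors B := by
    constructor
    intro x y hxy
    by_contra hcon
    rw [not_or] at hcon
    obtain ⟨n, u, hu, rfl⟩ := hdecomp x hcon.1
    obtain ⟨k, v, hv, rfl⟩ := hdecomp y hcon.2
    have h1 : (u * v) * ϖ ^ (n + k) = 0 := by
      rw [← hxy, pow_add]
      ring
    have h2 : ϖ ^ (n + k) = 0 := (hu.mul hv).mul_right_eq_zero.1 h1
    exact hnil _ h2
  exact NoZeroDivisors.to_isDomain B

/-- For a Noetherian local domain: DVR iff regular of dimension one. -/
theorem dvr_iff_regular_dim_one (R : Type u) [CommRing R] [IsLocalRing R] [IsNoetherianRing R]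
    [IsDomain R] : IsDiscreteValuationRing R ↔ IsRegularLocalRing R ∧ ringKrullDim R = 1 := by
  constructor
  · intro h
    exact ⟨inferInstance,
      IsPrincipalIdealRing.ringKrullDim_eq_one R (IsDiscreteValuationRing.not_isField R)⟩
  · rintro ⟨h1, h2⟩
    rw [IsRegularLocalRing.iff_finrank_cotangentSpace, h2] at h1
    rw [← IsLocalRing.finrank_CotangentSpace_eq_one_iff]
    exact_mod_cast h1

end Groth.Agent.H9.DVRCompl
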