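import Mathlib
import Groth.Prelude.Def_CAlg
import Groth.Agent.S2089

/-! `depth ≤ dim` for local rings and `idealDepth I M ≤ depth M_p` for `p ∈ Supp M ∩ V(I)`. -/

namespace Groth.Agent.H9DepthLoc

open CategoryTheory
open scoped Pointwise

universe u

theorem depth_le_supportDim (R : Type u) [CommRing R] [IsNoetherianRing R] [IsLocalRing R]
    (M : Type u) [AddCommGroup M] [Module R M] [Module.Finite R M] [Nontrivial M] :
    ((LocCoh.depth R M : ℕ∞) : WithBot ℕ∞) ≤ Module.supportDim R M := by
  obtain ⟨p, hp⟩ := associatedPrimes.nonempty R M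
  have h1 := Groth.Agent.S2089.result p hp
  haveI := hp.isPrime
  have hpM : (⟨p, hp.isPrime⟩ : PrimeSpectrum R) ∈ Module.support R M :=
    Module.mem_support_iff_of_finite.mpr (by
      rw [← Submodule.annihilator_top]
      exact hp.annihilator_le)
  have hann := Module.mem_support_iff_of_finite.mp hpM
  have h2 : ringKrullDim (R ⧸ p) ≤ Module.supportDim R M := by
    rw [Module.supportDim_eq_ringKrullDim_quotient_annihilator]
    exact ringKrullDim_le_of_surjective (Ideal.Quotient.factor hann)
      (Ideal.Quotient.factor_surjective hann)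
  exact h1.trans h2

theorem idealDepth_le_depth_localization (A : Type u) [CommRing A] [IsNoetherianRing A]
    (M : Type u) [AddCommGroup M] [Module A M] [Module.Finite A M] (I : Ideal A)
    (p : PrimeSpectrum A) (hIp : I ≤ p.asIdeal) (hp : p ∈ Module.support A M) :
    LocCoh.idealDepth I M ≤
      LocCoh.depth (Localization.AtPrime p.asIdeal) (LocalizedModule p.asIdeal.primeCompl M) := by
  classical
  unfold LocCoh.idealDepth
  split_ifs with htop
  · exfalso
    obtain ⟨r, hr1, hr2⟩ := Submodule.exists_sub_one_mem_and_smul_eq_zero_of_fg_of_le_smul I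
      (⊤ : Submodule A M) Module.Finite.fg_top (by rw [htop])
    have hann : r ∈ Module.annihilator A M := by
      rw [Module.mem_annihilator]
      exact fun m => hr2 m Submodule.mem_top
    have hrp : r ∈ p.asIdeal := Module.mem_support_iff_of_finite.mp hp hann
    have h1 : (1 : A) ∈ p.asIdeal := by
      have h2 : r - (r - 1) ∈ p.asIdeal := p.asIdeal.sub_mem hrp (hIp hr1)
      simpa using h2
    exact p.2.ne_top ((Ideal.eq_top_iff_one _).mpr h1)
  · refine iSup₂_le (fun rs hrs => ?_)
    unfold LocCoh.depth LocCoh.idealDepth
    split_ifs with htop'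
    · exact le_top
    · refine le_iSup₂_of_le (rs.map (algebraMap A (Localization.AtPrime p.asIdeal))) ⟨?_, ?_⟩
        (by simp)
      · exact RingTheory.Sequence.IsWeaklyRegular.of_isLocalizedModule
          (Localization.AtPrime p.asIdeal) p.asIdeal.primeCompl
          (LocalizedModule.mkLinearMap p.asIdeal.primeCompl M) hrs.1
      · intro r hr
        obtain ⟨a, ha, rfl⟩ := List.mem_map.mp hr
        exact (IsLocalization.AtPrime.to_map_mem_maximal_iff (Localization.AtPrime p.asIdeal)
          p.asIdeal a).mpr (hIp (hrs.2 a ha))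

theorem idealDepth_le_supportDim_localization (A : Type u) [CommRing A] [IsNoetherianRing A]
    (M : Type u) [AddCommGroup M] [Module A M] [Module.Finite A M] (I : Ideal A)
    (p : PrimeSpectrum A) (hIp : I ≤ p.asIdeal) (hp : p ∈ Module.support A M) :
    ((LocCoh.idealDepth I M : ℕ∞) : WithBot ℕ∞) ≤
      Module.supportDim (Localization.AtPrime p.asIdeal)
        (LocalizedModule p.asIdeal.primeCompl M) := by
  haveI : Nontrivial (LocalizedModule p.asIdeal.primeCompl M) := Module.mem_support_iff.mp hp
  refine le_trans (WithBot.coe_le_coe.mpr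
    (idealDepth_le_depth_localization A M I p hIp hp)) ?_
  exact depth_le_supportDim (Localization.AtPrime p.asIdeal)
    (LocalizedModule p.asIdeal.primeCompl M)

end Groth.Agent.H9DepthLoc
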