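import Mathlib

/-!
# `M^* ⊗ N → Hom(M, N)` for `M` finite / finitely presented and `N` flat
-/

set_option autoImplicit false
universe u v w

open scoped TensorProduct

namespace H9_DualFlat

variable (k : Type u) [CommRing k] (M : Type v) [AddCommGroup M] [Module k M]
  (N : Type w) [AddCommGroup N] [Module k N]

/-- `M` finite, `N` flat: `M^* ⊗ N → Hom(M, N)` is injective. -/
theorem dualTensorHom_injective [Module.Finite k M] [Module.Flat k N] :
    Function.Injective (dualTensorHom k M N) := by
  obtain ⟨n, π, hπ⟩ := Module.Finite.exists_fin' k M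
  have h1 := dualTensorHom_comp_rTensor_dualMap (R := k) (P := N) π
  have h2 : Function.Injective (dualTensorHom k (Fin n → k) N ∘ₗ π.dualMap.rTensor N) := by
    rw [LinearMap.coe_comp]
    refine (dualTensorHom_bijective (R := k) (M := Fin n → k) (N := N)).1.comp ?_
    exact Module.Flat.rTensor_preserves_injective_linearMap _
      (LinearMap.dualMap_injective_of_surjective hπ)
  rw [h1, LinearMap.coe_comp] at h2
  exact Function.Injective.of_comp h2

/-- `M` finitely presented, `N` flat: `M^* ⊗ N → Hom(M, N)` is surjective. -/
theorem dualTensorHom_surjective [Module.FinitePresentation k M] [Module.Flat k N] :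
    Function.Surjective (dualTensorHom k M N) := by
  intro h
  obtain ⟨r, h₂, h₃, rfl⟩ := Module.Flat.exists_factorization_of_finitePresentation h
  obtain ⟨y, hy⟩ := (dualTensorHom_bijective (R := k) (M := Fin r →₀ k) (N := N)).2 h₃
  refine ⟨h₂.dualMap.rTensor N y, ?_⟩
  have h1 := dualTensorHom_comp_rTensor_dualMap (R := k) (P := N) h₂
  have := LinearMap.congr_fun h1 y
  simp only [LinearMap.comp_apply] at this
  rw [this, hy]
  rfl

theorem dualTensorHom_bijective' [Module.FinitePresentation k M] [Module.Flat k N] :
    Function.Bijective (dualTensorHom k M N) :=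
  ⟨dualTensorHom_injective k M N, dualTensorHom_surjective k M N⟩

end H9_DualFlat
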