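import Mathlib
import Groth.Prelude.Def_Wider
import Groth.Agent.Lib.helper9.H9_HullCrit

namespace Groth.Agent.H9.DualHull

universe u

open IsLocalRing

noncomputable section

variable (k₀ : Type u) [Field k₀] (A : Type u) [CommRing A] [Algebra k₀ A]

/-- the coextension `Hom_{k₀}(A, k₀)` -/
abbrev C : ModuleCat.{u} A :=
  (ModuleCat.coextendScalars (algebraMap k₀ A)).obj (ModuleCat.of k₀ k₀)

variable {k₀ A}

/-- apply an element of the coextension -/
def app (ψ : C k₀ A) (a : A) : k₀ := (ModuleCat.CoextendScalars.equiv (algebraMap k₀ A) _ ψ) a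

theorem app_add (ψ : C k₀ A) (a b : A) : app ψ (a + b) = app ψ a + app ψ b :=
  map_add (ModuleCat.CoextendScalars.equiv (algebraMap k₀ A) _ ψ) a b

theorem app_smul (ψ : C k₀ A) (c : k₀) (a : A) : app ψ (algebraMap k₀ A c * a) = c * app ψ a :=
  (ModuleCat.CoextendScalars.equiv (algebraMap k₀ A) _ ψ).map_smul c
    (a : ((ModuleCat.restrictScalars (algebraMap k₀ A)).obj (ModuleCat.of A A)))

theorem smul_app (ψ : C k₀ A) (s a : A) : app (s • ψ) a = app ψ (a * s) := rfl

theorem add_app (ψ ψ' : C k₀ A) (a : A) : app (ψ + ψ') a = app ψ a + app ψ' a := rfl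

theorem zero_app (a : A) : app (0 : C k₀ A) a = 0 := rfl

theorem ext_app {ψ ψ' : C k₀ A} (h : ∀ a, app ψ a = app ψ' a) : ψ = ψ' := by
  apply ModuleCat.CoextendScalars.ext
  apply LinearMap.ext
  exact h

/-- construct an element of the coextension -/
def mkC (g : A → k₀) (hadd : ∀ a b, g (a + b) = g a + g b)
    (hsmul : ∀ (c : k₀) (a : A), g (algebraMap k₀ A c * a) = c * g a) : C k₀ A :=
  (ModuleCat.CoextendScalars.equiv (algebraMap k₀ A) _).symm
    { toFun := g
      map_add' := hadd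
      map_smul' := hsmul }

theorem mkC_app (g : A → k₀) (hadd hsmul) (a : A) : app (mkC g hadd hsmul) a = g a := rfl

variable [IsLocalRing A]

variable (k₀ A) in
/-- the `m`-power torsion part of the coextension -/
abbrev W : Submodule A (C k₀ A) :=
  ⨆ n : ℕ, Submodule.torsionBySet A (C k₀ A) ((maximalIdeal A ^ n : Ideal A) : Set A)

theorem mem_W_of_kill (ψ : C k₀ A) (n : ℕ) (h : ∀ b ∈ maximalIdeal A ^ n, b • ψ = 0) :
    ψ ∈ W k₀ A := by
  refine (le_iSup (fun n : ℕ => Submodule.torsionBySet A (C k₀ A)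
    ((maximalIdeal A ^ n : Ideal A) : Set A)) n) ?_
  rw [Submodule.mem_torsionBySet_iff]
  rintro ⟨b, hb⟩
  exact h b hb

theorem exists_kill_of_mem_W (ψ : C k₀ A) (h : ψ ∈ W k₀ A) :
    ∃ n : ℕ, ∀ b ∈ maximalIdeal A ^ n, b • ψ = 0 := by
  have hdir : Directed (· ≤ ·) (fun n : ℕ => Submodule.torsionBySet A (C k₀ A)
      ((maximalIdeal A ^ n : Ideal A) : Set A)) := by
    apply Monotone.directed_le
    intro a b hab x hx
    rw [Submodule.mem_torsionBySet_iff] at hx ⊢
    rintro ⟨c, hc⟩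
    exact hx ⟨c, Ideal.pow_le_pow_right hab hc⟩
  rw [Submodule.mem_iSup_of_directed _ hdir] at h
  obtain ⟨n, hn⟩ := h
  rw [Submodule.mem_torsionBySet_iff] at hn
  exact ⟨n, fun b hb => hn ⟨b, hb⟩⟩

variable (J : Ideal A)

/-- the comparison map `Hom_A(A/J, W) → Hom_{k₀}(A/J, k₀)` -/
def theta (φ : (A ⧸ J) →ₗ[A] W k₀ A) : Module.Dual k₀ (A ⧸ J) where
  toFun x := app (φ x : C k₀ A) 1
  map_add' x y := by
    rw [map_add]
    rfl
  map_smul' c x := by
    rw [RingHom.id_apply, ← algebraMap_smul A c x, map_smul]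
    show app (algebraMap k₀ A c • (φ x : C k₀ A)) 1 = c • app (φ x : C k₀ A) 1
    rw [smul_app, one_mul, ← mul_one (algebraMap k₀ A c), app_smul, smul_eq_mul]

theorem theta_apply (φ : (A ⧸ J) →ₗ[A] W k₀ A) (x : A ⧸ J) :
    theta J φ x = app (φ x : C k₀ A) 1 := rfl

theorem theta_injective : Function.Injective (theta (k₀ := k₀) J) := by
  intro φ φ' h
  apply LinearMap.ext
  intro x
  apply Subtype.ext
  apply ext_app
  intro a
  have h1 : ∀ (χ : (A ⧸ J) →ₗ[A] W k₀ A), app (χ x : C k₀ A) a = theta J χ (a • x) := by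
    intro χ
    rw [theta_apply, map_smul]
    show _ = app (a • (χ x : C k₀ A)) 1
    rw [smul_app, one_mul]
  rw [h1 φ, h1 φ', h]

/-- the inverse construction -/
def psi (lam : Module.Dual k₀ (A ⧸ J)) (x : A ⧸ J) : C k₀ A :=
  mkC (fun a => lam (a • x))
    (fun a b => by rw [add_smul, map_add])
    (fun c a => by
      rw [mul_smul, algebraMap_smul, map_smul, smul_eq_mul])

theorem psi_app (lam : Module.Dual k₀ (A ⧸ J)) (x : A ⧸ J) (a : A) :
    app (psi J lam x) a = lam (a • x) := rfl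

theorem psi_mem (n : ℕ) (hJ : maximalIdeal A ^ n ≤ J) (lam : Module.Dual k₀ (A ⧸ J))
    (x : A ⧸ J) : psi J lam x ∈ W k₀ A := by
  apply mem_W_of_kill _ n
  intro b hb
  apply ext_app
  intro a
  rw [smul_app, psi_app, zero_app, mul_smul]
  have hbx : b • x = 0 := by
    obtain ⟨x', rfl⟩ := Ideal.Quotient.mk_surjective x
    show Ideal.Quotient.mk J (b * x') = 0
    rw [Ideal.Quotient.eq_zero_iff_mem]
    exact J.mul_mem_right _ (hJ hb)
  rw [hbx, smul_zero, map_zero]

/-- the inverse map -/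
def phi (n : ℕ) (hJ : maximalIdeal A ^ n ≤ J) (lam : Module.Dual k₀ (A ⧸ J)) :
    (A ⧸ J) →ₗ[A] W k₀ A where
  toFun x := ⟨psi J lam x, psi_mem J n hJ lam x⟩
  map_add' x y := by
    apply Subtype.ext
    apply ext_app
    intro a
    show app (psi J lam (x + y)) a = app (psi J lam x + psi J lam y) a
    rw [add_app, psi_app, psi_app, psi_app, smul_add, map_add]
  map_smul' a' x := by
    apply Subtype.ext
    apply ext_app
    intro a
    show app (psi J lam (a' • x)) a = app (a' • psi J lam x) a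
    rw [smul_app, psi_app, psi_app, mul_smul]

theorem theta_phi (n : ℕ) (hJ : maximalIdeal A ^ n ≤ J) (lam : Module.Dual k₀ (A ⧸ J)) :
    theta J (phi J n hJ lam) = lam := by
  apply LinearMap.ext
  intro x
  show app (psi J lam x) 1 = lam x
  rw [psi_app, one_smul]

/-- `k₀`-module structure on `Hom_A(A/J, W)` -/
local instance instModT : Module k₀ ((A ⧸ J) →ₗ[A] W k₀ A) :=
  Module.compHom _ (algebraMap k₀ A)

local instance instTowerT : IsScalarTower k₀ A ((A ⧸ J) →ₗ[A] W k₀ A) :=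
  IsScalarTower.of_algebraMap_smul (fun _ _ => rfl)

/-- `theta` as a `k₀`-linear map -/
def thetaₗ : ((A ⧸ J) →ₗ[A] W k₀ A) →ₗ[k₀] Module.Dual k₀ (A ⧸ J) where
  toFun := theta J
  map_add' φ φ' := by
    apply LinearMap.ext
    intro x
    rfl
  map_smul' c φ := by
    apply LinearMap.ext
    intro x
    show app (algebraMap k₀ A c • (φ x : C k₀ A)) 1 = c • app (φ x : C k₀ A) 1
    rw [smul_app, one_mul, ← mul_one (algebraMap k₀ A c), app_smul, smul_eq_mul]

/-- the comparison is an equivalence -/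
def thetaEquiv (n : ℕ) (hJ : maximalIdeal A ^ n ≤ J) :
    ((A ⧸ J) →ₗ[A] W k₀ A) ≃ₗ[k₀] Module.Dual k₀ (A ⧸ J) :=
  LinearEquiv.ofBijective (thetaₗ J)
    ⟨theta_injective J, fun lam => ⟨phi J n hJ lam, theta_phi J n hJ lam⟩⟩

theorem isLocalHom_algebraMap : IsLocalHom (algebraMap k₀ A) := by
  constructor
  intro a ha
  rcases eq_or_ne a 0 with rfl | h
  · rw [map_zero] at ha
    exact absurd ha not_isUnit_zero
  · exact h.isUnit

variable [IsNoetherianRing A] [Module.Finite k₀ (A ⧸ maximalIdeal A)]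

theorem length_hom_eq (n : ℕ) (hJ : maximalIdeal A ^ n ≤ J) :
    Module.length A ((A ⧸ J) →ₗ[A] W k₀ A) = Module.length A (A ⧸ J) := by
  classical
  haveI := isLocalHom_algebraMap (k₀ := k₀) (A := A)
  set d := Module.length (ResidueField k₀) (ResidueField A) with hd
  have hd0 : d ≠ 0 := by
    rw [hd, ← pos_iff_ne_zero]
    exact Module.length_pos
  have hdtop : d ≠ ⊤ := by
    have h1 := IsLocalRing.length_restrictScalars k₀ A (A ⧸ maximalIdeal A)
    haveI : IsSimpleModule A (A ⧸ maximalIdeal A) :=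
      (isSimpleModule_iff_isCoatom (R := A) (M := A) (m := maximalIdeal A)).2
        (Ideal.isMaximal_def.1 inferInstance)
    rw [Module.length_eq_one (R := A) (M := A ⧸ maximalIdeal A), one_mul] at h1
    rw [hd, ← h1]
    exact Module.length_ne_top
  -- finiteness
  have hfl : IsFiniteLength A (A ⧸ J) := by
    have h1 := Groth.Agent.H9.MatlisComplete.isFiniteLength_quot_pow (R := A) n
    refine IsFiniteLength.of_surjective h1 (f := Submodule.liftQ _ J.mkQ ?_) ?_
    · intro b hb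
      rw [LinearMap.mem_ker, Submodule.mkQ_apply, Submodule.Quotient.mk_eq_zero]
      exact hJ hb
    · intro x
      obtain ⟨x', rfl⟩ := Submodule.Quotient.mk_surjective _ x
      exact ⟨Submodule.Quotient.mk x', rfl⟩
  have h2 := IsLocalRing.length_restrictScalars k₀ A (A ⧸ J)
  have hfin : Module.length k₀ (A ⧸ J) ≠ ⊤ := by
    rw [h2]
    exact WithTop.mul_ne_top (Module.length_ne_top_iff.2 hfl) hdtop
  haveI : Module.Finite k₀ (A ⧸ J) := by
    have := Module.length_ne_top_iff.1 hfin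
    rw [isFiniteLength_iff_isNoetherian_isArtinian] at this
    haveI := this.1
    infer_instance
  have h1 := IsLocalRing.length_restrictScalars k₀ A ((A ⧸ J) →ₗ[A] W k₀ A)
  have h3 := (thetaEquiv (k₀ := k₀) J n hJ).length_eq
  have h4 : Module.length k₀ (Module.Dual k₀ (A ⧸ J)) = Module.length k₀ (A ⧸ J) := by
    rw [Module.length_eq_finrank, Module.length_eq_finrank, Subspace.dual_finrank_eq]
  rw [h3, h4, h2] at h1
  exact le_antisymm ((ENat.mul_le_mul_right_iff hd0 hdtop).1 h1.ge)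
    ((ENat.mul_le_mul_right_iff hd0 hdtop).1 h1.le)

theorem hull : ∃ f : ResidueField A →ₗ[A] ↥(W k₀ A), InjHull.IsInjectiveHull f := by
  classical
  have ha : LocCoh.IsPowerTorsion (maximalIdeal A) ↥(W k₀ A) := by
    rintro ⟨w, hw⟩
    obtain ⟨n, hn⟩ := exists_kill_of_mem_W w hw
    exact ⟨n, fun a ha => Subtype.ext (hn a ha)⟩
  have hb : Nonempty ((ResidueField A →ₗ[A] ↥(W k₀ A)) ≃ₗ[A] ResidueField A) := by
    have h1 := length_hom_eq (k₀ := k₀) (maximalIdeal A) 1 (by rw [pow_one])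
    haveI : IsSimpleModule A (A ⧸ maximalIdeal A) :=
      (isSimpleModule_iff_isCoatom (R := A) (M := A) (m := maximalIdeal A)).2
        (Ideal.isMaximal_def.1 inferInstance)
    rw [Module.length_eq_one (R := A) (M := A ⧸ maximalIdeal A), Module.length_eq_one_iff] at h1
    obtain ⟨I, hI, ⟨e⟩⟩ := isSimpleModule_iff_quot_maximal.mp h1
    obtain rfl := IsLocalRing.eq_maximalIdeal hI
    exact ⟨e⟩
  exact Groth.Agent.H9.HullCrit.hull_of_length ha hb (fun n => maximalIdeal A ^ n)
    (fun n => ⟨n, le_rfl⟩) (fun N => ⟨N, le_rfl⟩)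
    (fun n => (length_hom_eq (k₀ := k₀) (maximalIdeal A ^ n) n le_rfl).symm)

end

end Groth.Agent.H9.DualHull
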