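import Mathlib

/-! Étaleness of `A[X]/(f)`: formally unramified ⇒ `f'` is a unit in `A[X]/(f)`;
for monic `f`, `f'` a unit ⇒ étale (standard étale). -/

namespace H9_EtaleRoot

open Polynomial

universe u

variable {A : Type u} [CommRing A]

/-- If `A[X]/(f)` is formally unramified over `A` then `f'` is a unit of `A[X]/(f)`. -/
theorem isUnit_of_formallyUnramified (f : A[X]) [Algebra.FormallyUnramified A (AdjoinRoot f)] :
    IsUnit (AdjoinRoot.mk f (derivative f)) := by
  classical
  set B := AdjoinRoot f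
  set J : Ideal B := Ideal.span {AdjoinRoot.mk f (derivative f)} with hJ
  by_contra hunit
  have hJne : J ≠ ⊤ := by
    intro h
    apply hunit
    rwa [hJ, Ideal.span_singleton_eq_top] at h
  set Q := B ⧸ J
  haveI : Nontrivial Q := Ideal.Quotient.nontrivial_iff.mpr hJne
  let x : Q := Ideal.Quotient.mk J (AdjoinRoot.root f)
  have hfx : aeval x f = 0 := by
    have : aeval x f = Ideal.Quotient.mkₐ A J (aeval (AdjoinRoot.root f) f) := by
      rw [← Polynomial.aeval_algHom_apply]; rfl
    rw [this, AdjoinRoot.aeval_eq, AdjoinRoot.mk_self, map_zero]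
  have hf'x : aeval x (derivative f) = 0 := by
    have : aeval x (derivative f) =
        Ideal.Quotient.mkₐ A J (aeval (AdjoinRoot.root f) (derivative f)) := by
      rw [← Polynomial.aeval_algHom_apply]; rfl
    rw [this, AdjoinRoot.aeval_eq, Ideal.Quotient.mkₐ_eq_mk, Ideal.Quotient.eq_zero_iff_mem]
    exact Ideal.subset_span rfl
  let C := DualNumber Q
  let ι : Q →ₐ[A] C := (TrivSqZeroExt.inlAlgHom A Q Q)
  let ε : C := DualNumber.eps
  have hε : ε ^ 2 = 0 := by rw [pow_two]; exact DualNumber.eps_mul_eps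
  have h1 : aeval (ι x) f = 0 := by
    rw [Polynomial.aeval_algHom_apply, hfx, map_zero]
  have h2 : aeval (ι x + ε) f = 0 := by
    rw [Polynomial.aeval_add_of_sq_eq_zero _ _ _ hε, h1, Polynomial.aeval_algHom_apply, hf'x,
      map_zero, zero_mul, add_zero]
  let φ₁ : B →ₐ[A] C := AdjoinRoot.liftAlgHom f (Algebra.ofId A C) (ι x) (by
    have := h1; rw [Polynomial.aeval_def] at this; exact this)
  let φ₂ : B →ₐ[A] C := AdjoinRoot.liftAlgHom f (Algebra.ofId A C) (ι x + ε) (by
    have := h2; rw [Polynomial.aeval_def] at this; exact this)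
  let I : Ideal C := Ideal.span {ε}
  have hI : I ^ 2 = ⊥ := by
    rw [Ideal.span_singleton_pow, hε, Ideal.span_singleton_eq_bot]
  have hφ₁ : φ₁ (AdjoinRoot.root f) = ι x := AdjoinRoot.liftAlgHom_root _ _ _ _
  have hφ₂ : φ₂ (AdjoinRoot.root f) = ι x + ε := AdjoinRoot.liftAlgHom_root _ _ _ _
  have hcomp : (Ideal.Quotient.mkₐ A I).comp φ₁ = (Ideal.Quotient.mkₐ A I).comp φ₂ := by
    apply AdjoinRoot.algHom_ext
    rw [AlgHom.comp_apply, AlgHom.comp_apply, hφ₁, hφ₂]
    change Ideal.Quotient.mk I (ι x) = Ideal.Quotient.mk I (ι x + ε)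
    rw [Ideal.Quotient.eq, sub_add_cancel_left]
    exact I.neg_mem (Ideal.subset_span rfl)
  have heq := Algebra.FormallyUnramified.comp_injective I hI hcomp
  have h3 : φ₁ (AdjoinRoot.root f) = φ₂ (AdjoinRoot.root f) := by rw [heq]
  rw [hφ₁, hφ₂] at h3
  have h4 : ε = 0 := by
    have := congrArg (fun z => z - ι x) h3
    simpa using this.symm
  have h5 := congrArg TrivSqZeroExt.snd h4
  simp [ε] at h5

/-- For monic `f` with `f'` a unit of `A[X]/(f)`, the algebra `A[X]/(f)` is étale over `A`. -/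
theorem etale_of_isUnit (f : A[X]) (hf : f.Monic)
    (h : IsUnit (AdjoinRoot.mk f (derivative f))) : Algebra.Etale A (AdjoinRoot f) := by
  classical
  obtain ⟨b, hb⟩ := h.exists_right_inv
  obtain ⟨p₁, rfl⟩ := AdjoinRoot.mk_surjective b
  rw [← map_mul, ← map_one (AdjoinRoot.mk f), AdjoinRoot.mk_eq_mk] at hb
  obtain ⟨q, hq⟩ := hb
  let P : StandardEtalePair A :=
    { f := f, monic_f := hf, g := 1, cond := ⟨p₁, -q, 1, by rw [pow_one]; linear_combination hq⟩ }
  let B := AdjoinRoot f
  have hle : Submonoid.powers (AdjoinRoot.mk f (1 : A[X])) ≤ IsUnit.submonoid B := by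
    rintro _ ⟨n, rfl⟩
    simp [IsUnit.mem_submonoid_iff]
  let e1 : B ≃ₐ[B] Localization.Away (AdjoinRoot.mk f (1 : A[X])) :=
    IsLocalization.atUnits B (Submonoid.powers (AdjoinRoot.mk f (1 : A[X]))) hle
  let e2 : B ≃ₐ[A] Localization.Away (AdjoinRoot.mk f (1 : A[X])) := e1.restrictScalars A
  exact Algebra.Etale.of_equiv (P.equivAwayAdjoinRoot.trans e2.symm)

theorem etale_iff (f : A[X]) (hf : f.Monic) :
    Algebra.Etale A (AdjoinRoot f) ↔ IsUnit (AdjoinRoot.mk f (derivative f)) :=
  ⟨fun _ => isUnit_of_formallyUnramified f, etale_of_isUnit f hf⟩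

end H9_EtaleRoot

namespace H9_EtaleRoot

open Polynomial

universe u

variable {A : Type u} [CommRing A]

/-- Units descend along `A → A[X]/(f)` for monic `f` of positive degree. -/
theorem isUnit_of_isUnit_algebraMap (f : A[X]) (hf : f.Monic) (hd : f.natDegree ≠ 0) (x : A)
    (h : IsUnit (algebraMap A (AdjoinRoot f) x)) : IsUnit x := by
  have h1 := h.map (Algebra.norm A)
  rw [Algebra.norm_algebraMap_of_basis (AdjoinRoot.powerBasis' hf).basis, Fintype.card_fin,
    AdjoinRoot.powerBasis'_dim] at h1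
  exact (isUnit_pow_iff hd).mp h1

/-- `A[T]/(T^n - a)` is étale over `A` iff `n = 1` or `n·a` is a unit. -/
theorem etale_X_pow_sub_C_iff (a : A) (n : ℕ) (hn : 1 ≤ n) :
    Algebra.Etale A (AdjoinRoot ((X : A[X]) ^ n - C a)) ↔ n = 1 ∨ IsUnit ((n : A) * a) := by
  have hn0 : n ≠ 0 := by omega
  have hmonic : ((X : A[X]) ^ n - C a).Monic := monic_X_pow_sub_C a hn0
  rw [etale_iff _ hmonic]
  set f := (X : A[X]) ^ n - C a with hf
  set r := AdjoinRoot.root f with hr
  have hder : AdjoinRoot.mk f (derivative f) = (n : AdjoinRoot f) * r ^ (n - 1) := by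
    have hd : derivative f = C (n : A) * X ^ (n - 1) := by
      rw [hf, derivative_sub, derivative_X_pow, derivative_C, sub_zero, map_natCast]
    rw [hd, map_mul, map_pow, AdjoinRoot.mk_X, AdjoinRoot.mk_C, map_natCast]
  have hrn : r ^ n = algebraMap A (AdjoinRoot f) a := by
    have := AdjoinRoot.eval₂_root f
    rw [hf, eval₂_sub, eval₂_pow, eval₂_X, eval₂_C, sub_eq_zero, ← hf] at this
    exact this
  have hmul : (n : AdjoinRoot f) * r ^ (n - 1) * r = algebraMap A (AdjoinRoot f) ((n : A) * a) := by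
    rw [mul_assoc, ← pow_succ, Nat.sub_add_cancel hn, hrn, map_mul, map_natCast]
  rw [hder]
  constructor
  · intro hu
    by_cases h1 : n = 1
    · exact Or.inl h1
    · right
      have hn2 : 2 ≤ n := by omega
      have hr_unit : IsUnit r := by
        apply isUnit_of_dvd_unit _ hu
        refine Dvd.dvd.mul_left ?_ _
        exact dvd_pow_self r (by omega)
      have : IsUnit (algebraMap A (AdjoinRoot f) ((n : A) * a)) := by
        rw [← hmul]; exact hu.mul hr_unit
      rcases subsingleton_or_nontrivial A with hA | hA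
      · exact isUnit_of_subsingleton _
      refine isUnit_of_isUnit_algebraMap f hmonic ?_ _ this
      rw [hf, natDegree_X_pow_sub_C]; exact hn0
  · rintro (h1 | h2)
    · subst h1; simp
    · have : IsUnit ((n : AdjoinRoot f) * r ^ (n - 1) * r) := by
        rw [hmul]; exact h2.map _
      exact isUnit_of_mul_isUnit_left this

end H9_EtaleRoot
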