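import Mathlib
import Groth.Prelude.Def_W4c5stcicurvesp3Euclid

set_option autoImplicit false

namespace H9_Euclid

open W4c5stcicurvesp3

theorem irem_shift (a b : ℕ) (h : a % b ≠ 0) : ∀ n, irem a b (n + 1) = irem b (a % b) n ∧
    irem a b (n + 2) = irem b (a % b) (n + 1) := by
  intro n
  induction n with
  | zero =>
    refine ⟨by simp [irem], ?_⟩
    simp [irem, h]
  | succ n ih =>
    refine ⟨ih.2, ?_⟩
    have e1 : irem a b (n + 1 + 2) =
        if irem a b (n + 2) = 0 then 0 else irem a b (n + 1) % irem a b (n + 2) := by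
      rw [irem]
    have e2 : irem b (a % b) (n + 2) =
        if irem b (a % b) (n + 1) = 0 then 0 else irem b (a % b) n % irem b (a % b) (n + 1) := by
      rw [irem]
    rw [e1, e2, ih.1, ih.2]

theorem irem_shift' (a b : ℕ) (h : a % b ≠ 0) (n : ℕ) : irem a b (n + 1) = irem b (a % b) n :=
  (irem_shift a b h n).1

theorem idiv_shift (a b : ℕ) (h : a % b ≠ 0) (n : ℕ) :
    idiv a b (n + 2) = idiv b (a % b) (n + 1) := by
  cases n with
  | zero => simp [idiv, irem, h]
  | succ n =>
    have e1 : idiv a b (n + 1 + 2) =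
        if irem a b (n + 2) = 0 then 0 else irem a b (n + 1) / irem a b (n + 2) := by
      rw [idiv]
    have e2 : idiv b (a % b) (n + 2) =
        if irem b (a % b) (n + 1) = 0 then 0 else irem b (a % b) n / irem b (a % b) (n + 1) := by
      rw [idiv]
    rw [e1, e2, irem_shift' a b h (n + 1), irem_shift' a b h n]

theorem sum_idiv_mul_gcd_le : ∀ (k N t : ℕ), 0 < k → k ≤ N → 0 < t → irem N k t = 0 →
    (∀ i, 0 < i → i < t → irem N k i ≠ 0) →
    (∑ i ∈ Finset.Icc 1 t, idiv N k i) * Nat.gcd k N ≤ N := by
  intro k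
  induction k using Nat.strong_induction_on with
  | _ k ih =>
  intro N t hk hkN ht hzero hmin
  rcases Nat.lt_or_ge t 2 with ht2 | ht2
  · have ht1 : t = 1 := by omega
    subst ht1
    have hdvd : k ∣ N := by
      have : N % k = 0 := by simpa [irem] using hzero
      exact Nat.dvd_of_mod_eq_zero this
    have hg : Nat.gcd k N = k := Nat.gcd_eq_left hdvd
    have : ∑ i ∈ Finset.Icc 1 1, idiv N k i = N / k := by simp [idiv]
    rw [this, hg, Nat.div_mul_cancel hdvd]
  · have hr1 : N % k ≠ 0 := by
      have := hmin 1 (by omega) (by omega)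
      simpa [irem] using this
    have hr1lt : N % k < k := Nat.mod_lt N hk
    obtain ⟨t', rfl⟩ : ∃ t', t = t' + 1 := ⟨t - 1, by omega⟩
    have hzero' : irem k (N % k) t' = 0 := by
      rw [← irem_shift' N k hr1]; exact hzero
    have hmin' : ∀ i, 0 < i → i < t' → irem k (N % k) i ≠ 0 := by
      intro i hi hit
      rw [← irem_shift' N k hr1]
      exact hmin (i + 1) (by omega) (by omega)
    have hrec := ih (N % k) hr1lt k t' (Nat.pos_of_ne_zero hr1) hr1lt.le (by omega) hzero' hmin'
    have hgcd : Nat.gcd (N % k) k = Nat.gcd k N := (Nat.gcd_rec k N).symm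
    rw [hgcd] at hrec
    have hsum : ∑ i ∈ Finset.Icc 1 (t' + 1), idiv N k i =
        N / k + ∑ i ∈ Finset.Icc 1 t', idiv k (N % k) i := by
      have hA : idiv N k 1 = N / k := by simp [idiv]
      have hB : ∑ i ∈ Finset.Ioc 1 (t' + 1), idiv N k i =
          ∑ i ∈ Finset.Icc 1 t', idiv k (N % k) i := by
        have : Finset.Ioc 1 (t' + 1) =
            (Finset.Icc 1 t').map ⟨fun i => i + 1, add_left_injective 1⟩ := by
          ext x
          simp only [Finset.mem_Ioc, Finset.mem_map, Finset.mem_Icc, Function.Embedding.coeFn_mk]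
          constructor
          · intro hx
            exact ⟨x - 1, by omega, by omega⟩
          · rintro ⟨y, hy, rfl⟩
            omega
        rw [this, Finset.sum_map]
        apply Finset.sum_congr rfl
        intro i hi
        have hi1 := (Finset.mem_Icc.mp hi).1
        obtain ⟨j, rfl⟩ : ∃ j, i = j + 1 := ⟨i - 1, by omega⟩
        exact idiv_shift N k hr1 j
      rw [← Finset.sum_Ioc_add_eq_sum_Icc (by omega : 1 ≤ t' + 1), hA, hB, add_comm]
    rw [hsum]
    set g := Nat.gcd k N with hg
    set S' := ∑ i ∈ Finset.Icc 1 t', idiv k (N % k) i with hS'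
    have hgk : g ∣ k := Nat.gcd_dvd_left k N
    have hgN : g ∣ N := Nat.gcd_dvd_right k N
    have hgr : g ∣ N % k := (Nat.dvd_mod_iff hgk).mpr hgN
    obtain ⟨k', hk'⟩ := hgk
    obtain ⟨r', hr'⟩ := hgr
    have hq : 1 ≤ N / k := Nat.div_pos hkN hk
    have hN : N = k * (N / k) + N % k := (Nat.div_add_mod N k).symm
    have hgpos : 0 < g := Nat.gcd_pos_of_pos_left N hk
    have hr'pos : 1 ≤ r' := by
      rcases Nat.eq_zero_or_pos r' with h | h
      · rw [h, mul_zero] at hr'; exact absurd hr' hr1
      · exact h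
    have hk'r' : r' + 1 ≤ k' := by
      have : g * r' < g * k' := by rw [← hr', ← hk']; exact hr1lt
      have := Nat.lt_of_mul_lt_mul_left this
      omega
    set q := N / k with hqdef
    rw [hk'] at hrec
    have hS'le : S' ≤ k' := by
      have : S' * g ≤ k' * g := by rw [mul_comm k' g]; exact hrec
      exact Nat.le_of_mul_le_mul_right this hgpos
    calc (q + S') * g ≤ (q + k') * g := Nat.mul_le_mul_right g (Nat.add_le_add_left hS'le q)
      _ ≤ (q * k' + r') * g := by
        apply Nat.mul_le_mul_right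
        nlinarith
      _ = N := by
        have h1 : N = g * k' * q + g * r' := by
          rw [← hk', ← hr']; exact hN
        rw [h1]
        ring

end H9_Euclid
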