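import Groth.Prelude.Def_Exal2
import Mathlib

/-! helper9: the `B`-extension of `B ⧸ J` by `M` attached to a linear map `w : J/J² → M`. -/

namespace Groth.Agent.H9_ExalOfMap

attribute [local instance] Exal.opModule Exal.isCentralScalar_opModule

universe u

variable {B : Type u} [CommRing B] (J : Ideal B)
  {M : Type u} [AddCommGroup M] [Module (B ⧸ J) M] [Module B M] [IsScalarTower B (B ⧸ J) M]

lemma smul_eq_zero_of_mem {j : B} (hj : j ∈ J) (m : M) : j • m = 0 := by
  rw [← algebraMap_smul (B ⧸ J) j m, Ideal.Quotient.algebraMap_eq,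
    Ideal.Quotient.eq_zero_iff_mem.mpr hj, zero_smul]

/-- The ideal `{(j, -w j)}` of `B ⊕ M`. -/
def K (w : J.Cotangent →ₗ[B] M) : Ideal (TrivSqZeroExt B M) where
  carrier := {t | ∃ z : J, t.fst = (z : B) ∧ t.snd = - w (J.toCotangent z)}
  zero_mem' := by
    refine ⟨0, ?_, ?_⟩
    · rw [TrivSqZeroExt.fst_zero]; rfl
    · rw [TrivSqZeroExt.snd_zero, map_zero, map_zero, neg_zero]
  add_mem' := by
    rintro t t' ⟨z, hb, hs⟩ ⟨z', hb', hs'⟩
    refine ⟨z + z', ?_, ?_⟩
    · rw [TrivSqZeroExt.fst_add, hb, hb']; rfl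
    · rw [TrivSqZeroExt.snd_add, hs, hs', map_add, map_add, neg_add]
  smul_mem' := by
    rintro c t ⟨z, hb, hs⟩
    refine ⟨c.fst • z, ?_, ?_⟩
    · show (c * t).fst = _
      rw [TrivSqZeroExt.fst_mul, hb]; rfl
    · show (c * t).snd = _
      rw [TrivSqZeroExt.snd_mul, hs]
      have h1 : (MulOpposite.op t.fst) • c.snd = t.fst • c.snd := rfl
      rw [h1, hb, smul_eq_zero_of_mem J z.2, add_zero, smul_neg, map_smul, map_smul]

lemma mem_K_iff (w : J.Cotangent →ₗ[B] M) (t : TrivSqZeroExt B M) :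
    t ∈ K J w ↔ ∃ z : J, t.fst = (z : B) ∧ t.snd = - w (J.toCotangent z) := Iff.rfl

/-- The middle ring. -/
abbrev E (w : J.Cotangent →ₗ[B] M) : Type u := TrivSqZeroExt B M ⧸ K J w

noncomputable instance (w : J.Cotangent →ₗ[B] M) : Algebra B (E J w) :=
  ((Ideal.Quotient.mk (K J w)).comp (TrivSqZeroExt.inlHom B M)).toAlgebra

lemma algebraMap_E (w : J.Cotangent →ₗ[B] M) (b : B) :
    algebraMap B (E J w) b = Ideal.Quotient.mk (K J w) (TrivSqZeroExt.inl b) := rfl

/-- the projection as a ring hom -/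
noncomputable def projRing (w : J.Cotangent →ₗ[B] M) : E J w →+* B ⧸ J :=
  Ideal.Quotient.lift (K J w) ((Ideal.Quotient.mk J).comp (TrivSqZeroExt.fstHom B B M).toRingHom) (by
    rintro t ⟨z, hb, -⟩
    show Ideal.Quotient.mk J t.fst = 0
    rw [hb]
    exact Ideal.Quotient.eq_zero_iff_mem.mpr z.2)

lemma projRing_mk (w : J.Cotangent →ₗ[B] M) (t : TrivSqZeroExt B M) :
    projRing J w (Ideal.Quotient.mk (K J w) t) = Ideal.Quotient.mk J t.fst := rfl

/-- The extension attached to `w`. -/
noncomputable def ext (w : J.Cotangent →ₗ[B] M) : Exal.Ext B (B ⧸ J) M where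
  E := E J w
  proj :=
    { toRingHom := projRing J w
      commutes' := fun b => by
        show projRing J w (Ideal.Quotient.mk (K J w) (TrivSqZeroExt.inl b)) = _
        rw [projRing_mk, TrivSqZeroExt.fst_inl]
        rfl }
  incl := (Ideal.Quotient.mk (K J w)).toAddMonoidHom.comp (TrivSqZeroExt.inrHom B M).toAddMonoidHom
  isExtension :=
    { proj_surjective := fun c => by
        obtain ⟨b, rfl⟩ := Ideal.Quotient.mk_surjective c
        refine ⟨Ideal.Quotient.mk (K J w) (TrivSqZeroExt.inl b), ?_⟩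
        show projRing J w _ = _
        rw [projRing_mk, TrivSqZeroExt.fst_inl]
      incl_injective := by
        rw [injective_iff_map_eq_zero]
        intro m hm
        have hm' : Ideal.Quotient.mk (K J w) (TrivSqZeroExt.inr m) = 0 := hm
        rw [Ideal.Quotient.eq_zero_iff_mem, mem_K_iff] at hm'
        obtain ⟨z, hb, hs⟩ := hm'
        rw [TrivSqZeroExt.snd_inr] at hs
        rw [TrivSqZeroExt.fst_inr] at hb
        have : z = 0 := Subtype.ext hb.symm
        rw [hs, this, map_zero, map_zero, neg_zero]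
      exact := fun x => by
        obtain ⟨t, rfl⟩ := Ideal.Quotient.mk_surjective x
        show projRing J w _ = 0 ↔ _
        rw [projRing_mk, Ideal.Quotient.eq_zero_iff_mem]
        constructor
        · intro hb
          refine ⟨t.snd + w (J.toCotangent ⟨t.fst, hb⟩), ?_⟩
          show Ideal.Quotient.mk (K J w) (TrivSqZeroExt.inr _) = Ideal.Quotient.mk (K J w) t
          rw [Ideal.Quotient.eq, mem_K_iff]
          refine ⟨- ⟨t.fst, hb⟩, ?_, ?_⟩
          · rw [TrivSqZeroExt.fst_sub, TrivSqZeroExt.fst_inr, zero_sub]; rfl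
          · rw [TrivSqZeroExt.snd_sub, TrivSqZeroExt.snd_inr, map_neg, map_neg, neg_neg]
            abel
        · rintro ⟨m, hm⟩
          have hm' : Ideal.Quotient.mk (K J w) (TrivSqZeroExt.inr m) =
              Ideal.Quotient.mk (K J w) t := hm
          rw [Ideal.Quotient.eq, mem_K_iff] at hm'
          obtain ⟨z, hb, -⟩ := hm'
          rw [TrivSqZeroExt.fst_sub, TrivSqZeroExt.fst_inr, zero_sub] at hb
          have : t.fst = - (z : B) := by rw [← hb, neg_neg]
          rw [this]
          exact J.neg_mem z.2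
      mul_incl := fun x z => by
        obtain ⟨t, rfl⟩ := Ideal.Quotient.mk_surjective x
        show Ideal.Quotient.mk (K J w) t * Ideal.Quotient.mk (K J w) (TrivSqZeroExt.inr z) =
          Ideal.Quotient.mk (K J w) (TrivSqZeroExt.inr (projRing J w (Ideal.Quotient.mk (K J w) t) • z))
        rw [projRing_mk, ← map_mul]
        congr 1
        apply TrivSqZeroExt.ext
        · rw [TrivSqZeroExt.fst_mul, TrivSqZeroExt.fst_inr, TrivSqZeroExt.fst_inr, mul_zero]
        · rw [TrivSqZeroExt.snd_mul, TrivSqZeroExt.snd_inr, TrivSqZeroExt.fst_inr,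
            TrivSqZeroExt.snd_inr, MulOpposite.op_zero, zero_smul, add_zero,
            ← Ideal.Quotient.algebraMap_eq, algebraMap_smul] }

lemma conormalMap_ext (w : J.Cotangent →ₗ[B] M) : (ext J w).conormalMap J = w := by
  apply LinearMap.ext
  intro c
  obtain ⟨z, rfl⟩ := Ideal.toCotangent_surjective J c
  show (ext J w).idealToKer J z = w (J.toCotangent z)
  apply (ext J w).isExtension.incl_injective
  have h1 : (ext J w).incl ((ext J w).idealToKer J z) = algebraMap B (ext J w).E z :=
    (ext J w).incl_kerLift _ ((ext J w).proj_algebraMap_eq_zero J z)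
  rw [h1]
  show Ideal.Quotient.mk (K J w) (TrivSqZeroExt.inl (z : B)) =
    Ideal.Quotient.mk (K J w) (TrivSqZeroExt.inr (w (J.toCotangent z)))
  rw [Ideal.Quotient.eq, mem_K_iff]
  refine ⟨z, ?_, ?_⟩
  · rw [TrivSqZeroExt.fst_sub, TrivSqZeroExt.fst_inl, TrivSqZeroExt.fst_inr, sub_zero]
  · rw [TrivSqZeroExt.snd_sub, TrivSqZeroExt.snd_inl, TrivSqZeroExt.snd_inr, zero_sub]

end Groth.Agent.H9_ExalOfMap
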