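import Groth.Prelude.Def_Exal2
import Mathlib

/-! helper9: for a `B`-extension `X` of `B ⧸ J` by `M`, the surjective ring map
`B ⊕ M → X.E`, `(b, m) ↦ b·1 + i m`, and its kernel. -/

namespace Groth.Agent.H9_ExalPi

attribute [local instance] Exal.opModule Exal.isCentralScalar_opModule

universe u

variable {B : Type u} [CommRing B] (J : Ideal B)
  {M : Type u} [AddCommGroup M] [Module (B ⧸ J) M] [Module B M] [IsScalarTower B (B ⧸ J) M]

omit [Module B M] [IsScalarTower B (B ⧸ J) M] in
lemma incl_mul_incl (X : Exal.Ext B (B ⧸ J) M) (m m' : M) : X.incl m * X.incl m' = 0 := by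
  rw [X.isExtension.mul_incl, (X.isExtension.exact _).mpr ⟨m, rfl⟩, zero_smul, map_zero]

lemma algebraMap_mul_incl (X : Exal.Ext B (B ⧸ J) M) (b : B) (m : M) :
    algebraMap B X.E b * X.incl m = X.incl (b • m) := by
  rw [X.isExtension.mul_incl, AlgHom.commutes, Ideal.Quotient.algebraMap_eq,
    ← Ideal.Quotient.algebraMap_eq, algebraMap_smul]

/-- The ring map `B ⊕ M → X.E`. -/
noncomputable def piHom (X : Exal.Ext B (B ⧸ J) M) : TrivSqZeroExt B M →+* X.E where
  toFun t := algebraMap B X.E t.fst + X.incl t.snd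
  map_one' := by
    rw [TrivSqZeroExt.fst_one, TrivSqZeroExt.snd_one, map_one, map_zero, add_zero]
  map_zero' := by
    rw [TrivSqZeroExt.fst_zero, TrivSqZeroExt.snd_zero, map_zero, map_zero, add_zero]
  map_add' t t' := by
    rw [TrivSqZeroExt.fst_add, TrivSqZeroExt.snd_add, map_add, map_add]
    abel
  map_mul' t t' := by
    rw [TrivSqZeroExt.fst_mul, TrivSqZeroExt.snd_mul, map_mul, map_add]
    have h1 : (MulOpposite.op t'.fst) • t.snd = t'.fst • t.snd := rfl
    rw [h1, ← algebraMap_mul_incl, ← algebraMap_mul_incl]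
    have h2 := incl_mul_incl J X t.snd t'.snd
    calc algebraMap B X.E t.fst * algebraMap B X.E t'.fst +
          (algebraMap B X.E t.fst * X.incl t'.snd + algebraMap B X.E t'.fst * X.incl t.snd)
        = algebraMap B X.E t.fst * algebraMap B X.E t'.fst +
          (algebraMap B X.E t.fst * X.incl t'.snd + algebraMap B X.E t'.fst * X.incl t.snd)
          + X.incl t.snd * X.incl t'.snd := by rw [h2, add_zero]
      _ = _ := by ring

lemma piHom_apply (X : Exal.Ext B (B ⧸ J) M) (t : TrivSqZeroExt B M) :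
    piHom J X t = algebraMap B X.E t.fst + X.incl t.snd := rfl

lemma piHom_inl (X : Exal.Ext B (B ⧸ J) M) (b : B) :
    piHom J X (TrivSqZeroExt.inl b) = algebraMap B X.E b := by
  rw [piHom_apply, TrivSqZeroExt.fst_inl, TrivSqZeroExt.snd_inl, map_zero, add_zero]

lemma piHom_inr (X : Exal.Ext B (B ⧸ J) M) (m : M) :
    piHom J X (TrivSqZeroExt.inr m) = X.incl m := by
  rw [piHom_apply, TrivSqZeroExt.fst_inr, TrivSqZeroExt.snd_inr, map_zero, zero_add]

omit [Module B M] [IsScalarTower B (B ⧸ J) M] in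
lemma proj_incl (X : Exal.Ext B (B ⧸ J) M) (m : M) : X.proj (X.incl m) = 0 :=
  (X.isExtension.exact _).mpr ⟨m, rfl⟩

lemma proj_piHom (X : Exal.Ext B (B ⧸ J) M) (t : TrivSqZeroExt B M) :
    X.proj (piHom J X t) = Ideal.Quotient.mk J t.fst := by
  rw [piHom_apply, map_add, proj_incl, add_zero, AlgHom.commutes, Ideal.Quotient.algebraMap_eq]

lemma piHom_surjective (X : Exal.Ext B (B ⧸ J) M) : Function.Surjective (piHom J X) := by
  intro x
  obtain ⟨b, hb⟩ := Ideal.Quotient.mk_surjective (X.proj x)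
  have h0 : X.proj (x - algebraMap B X.E b) = 0 := by
    rw [map_sub, AlgHom.commutes, Ideal.Quotient.algebraMap_eq, hb, sub_self]
  obtain ⟨m, hm⟩ := (X.isExtension.exact _).mp h0
  refine ⟨TrivSqZeroExt.inl b + TrivSqZeroExt.inr m, ?_⟩
  rw [map_add, piHom_inl, piHom_inr, hm]
  abel

lemma incl_idealToKer (X : Exal.Ext B (B ⧸ J) M) (z : J) :
    X.incl (X.idealToKer J z) = algebraMap B X.E z :=
  X.incl_kerLift _ (X.proj_algebraMap_eq_zero J z)

lemma conormalMap_toCotangent (X : Exal.Ext B (B ⧸ J) M) (z : J) :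
    X.conormalMap J (J.toCotangent z) = X.idealToKer J z := rfl

lemma mem_ker_piHom_iff (X : Exal.Ext B (B ⧸ J) M) (t : TrivSqZeroExt B M) :
    piHom J X t = 0 ↔ ∃ hb : t.fst ∈ J, t.snd = - X.conormalMap J (J.toCotangent ⟨t.fst, hb⟩) := by
  constructor
  · intro h
    have hb : t.fst ∈ J := by
      have := proj_piHom J X t
      rw [h, map_zero, eq_comm, Ideal.Quotient.eq_zero_iff_mem] at this
      exact this
    refine ⟨hb, ?_⟩
    apply X.isExtension.incl_injective
    rw [map_neg, conormalMap_toCotangent, incl_idealToKer]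
    rw [piHom_apply] at h
    exact eq_neg_of_add_eq_zero_right h
  · rintro ⟨hb, hs⟩
    rw [piHom_apply, hs, map_neg, conormalMap_toCotangent, incl_idealToKer]
    exact add_neg_cancel _

end Groth.Agent.H9_ExalPi
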