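import Groth.Prelude.Def_Exal2
import Mathlib

/-! helper9: an extension with a ring-theoretic section of its projection is `B ⊕ L` as a ring. -/

namespace Groth.Agent.H9_ExalSplit

attribute [local instance] Exal.opModule Exal.isCentralScalar_opModule

universe u v

section Split

variable {A : Type u} {B L : Type v} [CommRing A] [CommRing B] [Algebra A B] [AddCommGroup L]
  [Module B L] (X : Exal.Ext A B L) (s : B →+* X.E) (hs : ∀ b, X.proj (s b) = b)

lemma proj_incl (z : L) : X.proj (X.incl z) = 0 := (X.isExtension.exact _).mpr ⟨z, rfl⟩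

lemma incl_mul_incl (z z' : L) : X.incl z * X.incl z' = 0 := by
  rw [X.isExtension.mul_incl, proj_incl, zero_smul, map_zero]

include hs in
lemma s_mul_incl (b : B) (z : L) : s b * X.incl z = X.incl (b • z) := by
  rw [X.isExtension.mul_incl, hs]

/-- `(b, z) ↦ s b + i z`. -/
noncomputable def psi : TrivSqZeroExt B L →+* X.E where
  toFun t := s t.fst + X.incl t.snd
  map_one' := by
    rw [TrivSqZeroExt.fst_one, TrivSqZeroExt.snd_one, map_one, map_zero, add_zero]
  map_zero' := by
    rw [TrivSqZeroExt.fst_zero, TrivSqZeroExt.snd_zero, map_zero, map_zero, add_zero]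
  map_add' t t' := by
    rw [TrivSqZeroExt.fst_add, TrivSqZeroExt.snd_add, map_add, map_add]
    abel
  map_mul' t t' := by
    rw [TrivSqZeroExt.fst_mul, TrivSqZeroExt.snd_mul, map_mul, map_add]
    have h1 : (MulOpposite.op t'.fst) • t.snd = t'.fst • t.snd := rfl
    rw [h1, ← s_mul_incl X s hs, ← s_mul_incl X s hs]
    have h2 := incl_mul_incl X t.snd t'.snd
    calc s t.fst * s t'.fst + (s t.fst * X.incl t'.snd + s t'.fst * X.incl t.snd)
        = s t.fst * s t'.fst + (s t.fst * X.incl t'.snd + s t'.fst * X.incl t.snd)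
          + X.incl t.snd * X.incl t'.snd := by rw [h2, add_zero]
      _ = _ := by ring

lemma psi_apply (t : TrivSqZeroExt B L) : psi X s hs t = s t.fst + X.incl t.snd := rfl

lemma proj_psi (t : TrivSqZeroExt B L) : X.proj (psi X s hs t) = t.fst := by
  rw [psi_apply, map_add, hs, proj_incl, add_zero]

lemma psi_injective : Function.Injective (psi X s hs) := by
  rw [injective_iff_map_eq_zero]
  intro t ht
  have h1 : t.fst = 0 := by rw [← proj_psi X s hs t, ht, map_zero]
  have h2 : X.incl t.snd = 0 := by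
    rw [psi_apply, h1, map_zero, zero_add] at ht
    exact ht
  have h3 : t.snd = 0 := by
    apply X.isExtension.incl_injective
    rw [h2, map_zero]
  exact TrivSqZeroExt.ext h1 h3

lemma psi_surjective : Function.Surjective (psi X s hs) := by
  intro x
  have h0 : X.proj (x - s (X.proj x)) = 0 := by
    rw [map_sub, hs, sub_self]
  obtain ⟨z, hz⟩ := (X.isExtension.exact _).mp h0
  refine ⟨TrivSqZeroExt.inl (X.proj x) + TrivSqZeroExt.inr z, ?_⟩
  rw [psi_apply, TrivSqZeroExt.fst_add, TrivSqZeroExt.snd_add, TrivSqZeroExt.fst_inl,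
    TrivSqZeroExt.fst_inr, TrivSqZeroExt.snd_inl, TrivSqZeroExt.snd_inr, add_zero, zero_add, hz]
  abel

/-- the ring isomorphism `B ⊕ L ≃ X.E`. -/
noncomputable def equiv : TrivSqZeroExt B L ≃+* X.E :=
  RingEquiv.ofBijective (psi X s hs) ⟨psi_injective X s hs, psi_surjective X s hs⟩

lemma equiv_apply (t : TrivSqZeroExt B L) : equiv X s hs t = s t.fst + X.incl t.snd := rfl

lemma fst_equiv_symm (x : X.E) : ((equiv X s hs).symm x).fst = X.proj x := by
  have := proj_psi X s hs ((equiv X s hs).symm x)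
  rw [← this]
  show X.proj ((equiv X s hs) ((equiv X s hs).symm x)) = X.proj x
  rw [RingEquiv.apply_symm_apply]

lemma equiv_symm_s (b : B) : (equiv X s hs).symm (s b) = TrivSqZeroExt.inl b := by
  rw [RingEquiv.symm_apply_eq, equiv_apply, TrivSqZeroExt.fst_inl, TrivSqZeroExt.snd_inl,
    map_zero, add_zero]

lemma equiv_symm_incl (z : L) : (equiv X s hs).symm (X.incl z) = TrivSqZeroExt.inr z := by
  rw [RingEquiv.symm_apply_eq, equiv_apply, TrivSqZeroExt.fst_inr, TrivSqZeroExt.snd_inr,
    map_zero, zero_add]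

end Split

section Mu

variable {B C L : Type v} [CommRing B] [CommRing C] [Algebra B C] [AddCommGroup L]
  [Module B L] [Module C L] [IsScalarTower B C L]

/-- `B ⊕ L → C ⊕ L`. -/
noncomputable def mu : TrivSqZeroExt B L →+* TrivSqZeroExt C L where
  toFun t := TrivSqZeroExt.inl (algebraMap B C t.fst) + TrivSqZeroExt.inr t.snd
  map_one' := by
    rw [TrivSqZeroExt.fst_one, TrivSqZeroExt.snd_one, map_one, TrivSqZeroExt.inr_zero, add_zero,
      TrivSqZeroExt.inl_one]
  map_zero' := by
    rw [TrivSqZeroExt.fst_zero, TrivSqZeroExt.snd_zero, map_zero, TrivSqZeroExt.inr_zero, add_zero,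
      TrivSqZeroExt.inl_zero]
  map_add' t t' := by
    rw [TrivSqZeroExt.fst_add, TrivSqZeroExt.snd_add, map_add, TrivSqZeroExt.inl_add,
      TrivSqZeroExt.inr_add]
    abel
  map_mul' t t' := by
    apply TrivSqZeroExt.ext
    · simp
    · simp only [TrivSqZeroExt.snd_add, TrivSqZeroExt.snd_inl, TrivSqZeroExt.snd_inr, zero_add,
        TrivSqZeroExt.snd_mul, TrivSqZeroExt.fst_add, TrivSqZeroExt.fst_inl, TrivSqZeroExt.fst_inr,
        add_zero]
      have h1 : (MulOpposite.op t'.fst) • t.snd = t'.fst • t.snd := rfl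
      have h2 : (MulOpposite.op (algebraMap B C t'.fst)) • t.snd = (algebraMap B C t'.fst) • t.snd :=
        rfl
      rw [h1, h2, algebraMap_smul, algebraMap_smul]

lemma mu_apply (t : TrivSqZeroExt B L) :
    (mu t : TrivSqZeroExt C L) = TrivSqZeroExt.inl (algebraMap B C t.fst) + TrivSqZeroExt.inr t.snd :=
  rfl

lemma fst_mu (t : TrivSqZeroExt B L) : (mu t : TrivSqZeroExt C L).fst = algebraMap B C t.fst := by
  rw [mu_apply]; simp

lemma snd_mu (t : TrivSqZeroExt B L) : (mu t : TrivSqZeroExt C L).snd = t.snd := by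
  rw [mu_apply]; simp

end Mu

end Groth.Agent.H9_ExalSplit
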