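import Mathlib
import Groth.Agent.Lib.helper9.H9_TorShift

/-! Projective dimension of a finite module over a Noetherian ring is detected by
`Ext` against cyclic modules. -/

namespace Groth.Agent.H9ExtFg

open CategoryTheory CategoryTheory.Limits Abelian

universe u w

variable (A : Type u) [CommRing A] [IsNoetherianRing A] [HasExt.{w} (ModuleCat.{u} A)]

/-- `Ext^k(M, -)` vanishes on all finite modules as soon as it vanishes on `A ⧸ p`. -/
theorem ext_subsingleton_fg (M : ModuleCat.{u} A) (k : ℕ)
    (h : ∀ I : Ideal A, Subsingleton (Ext M (ModuleCat.of A (A ⧸ I)) k))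
    (N : Type u) [AddCommGroup N] [Module A N] [hN : Module.Finite A N] :
    Subsingleton (Ext M (ModuleCat.of A N) k) := by
  induction hN using IsNoetherianRing.induction_on_isQuotientEquivQuotientPrime A with
  | subsingleton N =>
    refine ⟨fun a b => ?_⟩
    have hz : 𝟙 (ModuleCat.of A N) = 0 := by
      ext x
      exact Subsingleton.elim _ _
    have key : ∀ x : Ext M (ModuleCat.of A N) k, x = 0 := by
      intro x
      rw [← Ext.comp_mk₀_id x, hz, Ext.mk₀_zero, Ext.comp_zero]
    rw [key a, key b]
  | quotient N p f =>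
    refine ⟨fun a b => ?_⟩
    haveI := h p.asIdeal
    have key : ∀ x : Ext M (ModuleCat.of A N) k, x = 0 := by
      intro x
      have h1 : 𝟙 (ModuleCat.of A N) = f.toModuleIso.hom ≫ f.toModuleIso.inv :=
        (Iso.hom_inv_id _).symm
      rw [← Ext.comp_mk₀_id x, h1, ← Ext.mk₀_comp_mk₀, ← Ext.comp_assoc_of_third_deg_zero,
        Subsingleton.elim (x.comp (Ext.mk₀ f.toModuleIso.hom) (add_zero k)) 0, Ext.zero_comp]
    rw [key a, key b]
  | exact N₁ N₂ N₃ f g hf hg hfg h₁ h₃ =>
    obtain ⟨w, hmono, hepi, hex⟩ := H9TorShift.ses_of_exact A f g hf hg hfg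
    have hS : (ShortComplex.mk (ModuleCat.ofHom f) (ModuleCat.ofHom g) w).ShortExact :=
      { exact := hex, mono_f := hmono, epi_g := hepi }
    refine ⟨fun a b => ?_⟩
    have key : ∀ x : Ext M (ModuleCat.of A N₂) k, x = 0 := by
      intro x
      obtain ⟨x₁, rfl⟩ := Ext.covariant_sequence_exact₂ M hS x (Subsingleton.elim _ _)
      rw [Subsingleton.elim x₁ 0, Ext.zero_comp]
    rw [key a, key b]

/-- A finite module over a Noetherian ring whose `Ext^{n+1}` against all finite modules
vanishes has projective dimension `≤ n`. -/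
theorem pd_of_ext_fg : ∀ (n : ℕ) (M : Type u) [AddCommGroup M] [Module A M] [Module.Finite A M],
    (∀ (N : Type u) [AddCommGroup N] [Module A N] [Module.Finite A N],
      Subsingleton (Ext (ModuleCat.of A M) (ModuleCat.of A N) (n + 1))) →
    HasProjectiveDimensionLT (ModuleCat.of A M) (n + 1) := by
  intro n
  induction n with
  | zero =>
    intro M _ _ _ h
    obtain ⟨m, π, hπ⟩ := Module.Finite.exists_fin' A M
    obtain ⟨w, hmono, hepi, hex⟩ := H9TorShift.ses_of_surjective A π hπ
    have hS : (ShortComplex.mk (ModuleCat.ofHom (LinearMap.ker π).subtype) (ModuleCat.ofHom π)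
        w).ShortExact := { exact := hex, mono_f := hmono, epi_g := hepi }
    haveI := h (LinearMap.ker π)
    obtain ⟨x₂, hx₂⟩ := Ext.contravariant_sequence_exact₁ hS (ModuleCat.of A (LinearMap.ker π))
      (Ext.mk₀ (𝟙 (ModuleCat.of A (LinearMap.ker π)))) (n₁ := 1) (by omega)
      (Subsingleton.elim _ _)
    obtain ⟨r, rfl⟩ := (Ext.mk₀_bijective _ _).2 x₂
    rw [Ext.mk₀_comp_mk₀] at hx₂
    have hr : ModuleCat.ofHom (LinearMap.ker π).subtype ≫ r = 𝟙 _ := (Ext.mk₀_bijective _ _).1 hx₂
    let sp := ShortComplex.Splitting.ofExactOfRetraction _ hex r hr hepi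
    have hsg : sp.s ≫ ModuleCat.ofHom π = 𝟙 (ModuleCat.of A M) := sp.s_g
    haveI : Module.Projective A M := by
      refine Module.Projective.of_split (M := Fin m → A) sp.s.hom π ?_
      ext x
      exact congrArg (fun φ => φ.hom x) hsg
    haveI : Projective (ModuleCat.of A M) :=
      (IsProjective.iff_projective (R := A) (P := M)).mp inferInstance
    infer_instance
  | succ n ih =>
    intro M _ _ _ h
    obtain ⟨m, π, hπ⟩ := Module.Finite.exists_fin' A M
    obtain ⟨w, hmono, hepi, hex⟩ := H9TorShift.ses_of_surjective A π hπ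
    have hS : (ShortComplex.mk (ModuleCat.ofHom (LinearMap.ker π).subtype) (ModuleCat.ofHom π)
        w).ShortExact := { exact := hex, mono_f := hmono, epi_g := hepi }
    haveI : Projective (ModuleCat.of A (Fin m → A)) :=
      (IsProjective.iff_projective (R := A) (P := Fin m → A)).mp inferInstance
    have hK : HasProjectiveDimensionLT (ModuleCat.of A (LinearMap.ker π)) (n + 1) := by
      apply ih (LinearMap.ker π)
      intro N _ _ _
      haveI := h N
      refine ⟨fun a b => ?_⟩
      have key : ∀ x : Ext (ModuleCat.of A (LinearMap.ker π)) (ModuleCat.of A N) (n + 1),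
          x = 0 := by
        intro x
        obtain ⟨x₂, rfl⟩ := Ext.contravariant_sequence_exact₁ hS (ModuleCat.of A N) x
          (n₁ := n + 1 + 1) (by omega) (Subsingleton.elim _ _)
        rw [Ext.eq_zero_of_projective x₂, Ext.comp_zero]
      rw [key a, key b]
    have hF : HasProjectiveDimensionLT (ModuleCat.of A (Fin m → A)) (n + 1 + 1) :=
      hasProjectiveDimensionLT_of_ge _ 1 _ (by omega)
    exact hS.hasProjectiveDimensionLT_X₃ (n + 1) hK hF

theorem pd_iff_ext_cyclic (M : Type u) [AddCommGroup M] [Module A M] [Module.Finite A M] (n : ℕ) :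
    HasProjectiveDimensionLT (ModuleCat.of A M) (n + 1) ↔
      ∀ I : Ideal A, Subsingleton (Ext (ModuleCat.of A M) (ModuleCat.of A (A ⧸ I)) (n + 1)) := by
  constructor
  · intro h I
    exact HasProjectiveDimensionLT.subsingleton (ModuleCat.of A M) (n + 1) (n + 1) le_rfl _
  · intro h
    apply pd_of_ext_fg A n M
    intro N _ _ _
    exact ext_subsingleton_fg A (ModuleCat.of A M) (n + 1) h N

end Groth.Agent.H9ExtFg
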