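import Mathlib

set_option autoImplicit false
universe u

namespace H9_FGResFin

/-- A finitely generated abelian group is residually finite. -/
theorem exists_finiteIndex_not_mem {G : Type*} [AddCommGroup G] [hfg : AddGroup.FG G] (g : G)
    (hg : g ≠ 0) : ∃ H : AddSubgroup G, H.FiniteIndex ∧ g ∉ H := by
  classical
  haveI : Module.Finite ℤ G := Module.Finite.iff_addGroup_fg.mpr hfg
  haveI : IsNoetherian ℤ G := inferInstance
  obtain ⟨N, hN, hmax⟩ := WellFounded.has_min
    (wellFounded_gt (α := Submodule ℤ G)) {N : Submodule ℤ G | g ∉ N} ⟨⊥, by simpa using hg⟩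
  have hN' : g ∉ N := hN
  have key : ∀ M' : Submodule ℤ (G ⧸ N), M' ≠ ⊥ → N.mkQ g ∈ M' := by
    intro M' hM'
    by_contra hgM
    have h1 : g ∉ M'.comap N.mkQ := hgM
    have h2 : N < M'.comap N.mkQ := by
      refine lt_of_le_of_ne ?_ ?_
      · intro x hx
        show N.mkQ x ∈ M'
        rw [(Submodule.Quotient.mk_eq_zero N).mpr hx |> fun h => (show N.mkQ x = 0 from h)]
        exact M'.zero_mem
      · intro heq
        apply hM'
        rw [Submodule.eq_bot_iff]
        intro q hq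
        obtain ⟨x, rfl⟩ := N.mkQ_surjective q
        have : x ∈ M'.comap N.mkQ := hq
        rw [← heq] at this
        exact (Submodule.Quotient.mk_eq_zero N).mpr this
    exact hmax _ h1 h2
  have hgbar : N.mkQ g ≠ 0 := fun h => hN' ((Submodule.Quotient.mk_eq_zero N).mp h)
  -- gbar is torsion
  have htg : ∃ n : ℤ, n ≠ 0 ∧ n • N.mkQ g = 0 := by
    by_cases h2 : (2 : ℤ) • N.mkQ g = 0
    · exact ⟨2, by norm_num, h2⟩
    · have hne : Submodule.span ℤ {(2 : ℤ) • N.mkQ g} ≠ ⊥ := by
        rw [Ne, Submodule.span_singleton_eq_bot]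
        exact h2
      obtain ⟨k, hk⟩ := Submodule.mem_span_singleton.mp (key _ hne)
      refine ⟨2 * k - 1, by omega, ?_⟩
      rw [sub_smul, one_smul, mul_comm, mul_smul, hk, sub_self]
  obtain ⟨n₀, hn₀, hn₀g⟩ := htg
  have htors : Module.IsTorsion ℤ (G ⧸ N) := by
    intro q
    by_cases hq : q = 0
    · exact ⟨⟨1, one_mem _⟩, by rw [hq]; simp⟩
    · have hne : Submodule.span ℤ {q} ≠ ⊥ := by
        rw [Ne, Submodule.span_singleton_eq_bot]
        exact hq
      obtain ⟨k, hk⟩ := Submodule.mem_span_singleton.mp (key _ hne)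
      have hk0 : k ≠ 0 := by
        rintro rfl
        rw [zero_smul] at hk
        exact hgbar hk.symm
      refine ⟨⟨n₀ * k, mem_nonZeroDivisors_of_ne_zero (mul_ne_zero hn₀ hk0)⟩, ?_⟩
      show (n₀ * k) • q = 0
      rw [mul_smul, hk, hn₀g]
  haveI : Finite (G ⧸ N) := Module.finite_of_fg_torsion (G ⧸ N) htors
  refine ⟨N.toAddSubgroup, ?_, hN'⟩
  haveI : Finite (G ⧸ N.toAddSubgroup) := (inferInstance : Finite (G ⧸ N))
  exact AddSubgroup.finiteIndex_of_finite_quotient
end H9_FGResFin
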