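import Mathlib

set_option autoImplicit false
universe u v

namespace H9_InvSys

open CategoryTheory

/-- An inverse system of nonempty finite types over a directed preorder has a compatible family. -/
theorem exists_compatible {J : Type u} [Preorder J] [IsDirectedOrder J]
    (X : J → Type v) [∀ j, Finite (X j)] [∀ j, Nonempty (X j)]
    (f : ∀ i j : J, i ≤ j → X j → X i)
    (hid : ∀ i (x : X i), f i i le_rfl x = x)
    (hcomp : ∀ i j k (h1 : i ≤ j) (h2 : j ≤ k) (x : X k),
      f i j h1 (f j k h2 x) = f i k (h1.trans h2) x) :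
    ∃ s : ∀ j, X j, ∀ i j (h : i ≤ j), f i j h (s j) = s i := by
  let F : Jᵒᵖ ⥤ Type v :=
    { obj := fun j => X j.unop
      map := fun {a b} g => ↾(f b.unop a.unop (leOfHom g.unop))
      map_id := by
        intro a
        ext x
        exact hid _ x
      map_comp := by
        intro a b c g h
        ext x
        exact (hcomp _ _ _ _ _ x).symm }
  haveI : ∀ j : Jᵒᵖ, Finite (F.obj j) := fun j => inferInstanceAs (Finite (X j.unop))
  haveI : ∀ j : Jᵒᵖ, Nonempty (F.obj j) := fun j => inferInstanceAs (Nonempty (X j.unop))
  obtain ⟨s, hs⟩ := nonempty_sections_of_finite_inverse_system F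
  refine ⟨fun j => s (Opposite.op j), ?_⟩
  intro i j h
  exact hs (homOfLE h).op

end H9_InvSys
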