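import Mathlib
import Groth.Prelude.Def_W4c61motalbdualityCompl
import Groth.Agent.Lib.helper9.H9_InvSys

set_option autoImplicit false
universe u v

namespace H9_FICompl

open W4c61motalbduality

variable {B : Type v} [AddCommGroup B] [TopologicalSpace B]

/-- intersection of two open finite-index subgroups -/
def inf (U V : OpenFI B) : OpenFI B where
  toAddSubgroup := U.toAddSubgroup ⊓ V.toAddSubgroup
  isOpen' := by
    rw [AddSubgroup.coe_inf]
    exact U.isOpen'.inter V.isOpen'
  finiteIndex' := by
    haveI := U.finiteIndex'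
    haveI := V.finiteIndex'
    infer_instance

instance (V : OpenFI B) : Finite (B ⧸ V.toAddSubgroup) := by
  haveI := V.finiteIndex'
  exact AddSubgroup.finite_quotient_of_finiteIndex

/-- The reverse-inclusion preorder on open finite-index subgroups. -/
@[reducible] def preorder : Preorder (OpenFI B) where
  le U V := V.toAddSubgroup ≤ U.toAddSubgroup
  le_refl U := le_refl U.toAddSubgroup
  le_trans U V W h1 h2 := le_trans h2 h1

theorem exists_family
    (S : ∀ V : OpenFI B, Set (B ⧸ V.toAddSubgroup))
    (hne : ∀ V, (S V).Nonempty)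
    (hmap : ∀ (U V : OpenFI B) (h : U.toAddSubgroup ≤ V.toAddSubgroup), ∀ x ∈ S U,
      QuotientAddGroup.map U.toAddSubgroup V.toAddSubgroup (AddMonoidHom.id B) h x ∈ S V) :
    ∃ y : FICompl B, ∀ V, y.1 V ∈ S V := by
  letI : Preorder (OpenFI B) := preorder
  haveI : IsDirectedOrder (OpenFI B) := ⟨fun U V => ⟨inf U V,
    (inf_le_left : U.toAddSubgroup ⊓ V.toAddSubgroup ≤ U.toAddSubgroup),
    (inf_le_right : U.toAddSubgroup ⊓ V.toAddSubgroup ≤ V.toAddSubgroup)⟩⟩
  haveI : ∀ j : OpenFI B, Nonempty (S j) := fun j => (hne j).to_subtype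
  obtain ⟨s, hs⟩ := H9_InvSys.exists_compatible (J := OpenFI B) (fun j => S j)
    (fun i j h x => ⟨_, hmap j i h x.1 x.2⟩)
    (by
      intro i x
      apply Subtype.ext
      obtain ⟨x, hx⟩ := x
      induction x using QuotientAddGroup.induction_on
      rfl)
    (by
      intro i j k h1 h2 x
      apply Subtype.ext
      obtain ⟨x, hx⟩ := x
      induction x using QuotientAddGroup.induction_on
      rfl)
  refine ⟨⟨fun V => (s V).1, ?_⟩, fun V => (s V).2⟩
  intro U V h
  exact congrArg Subtype.val (hs V U h)

end H9_FICompl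

namespace H9_FICompl

open W4c61motalbduality

variable {A : Type u} [AddCommGroup A]
variable {B : Type v} [AddCommGroup B] [TopologicalSpace B]

/-- the whole group as an open finite-index subgroup -/
def top : OpenFI B where
  toAddSubgroup := ⊤
  isOpen' := by
    rw [AddSubgroup.coe_top]
    exact isOpen_univ
  finiteIndex' := inferInstance

theorem exists_lower_bound {ι : Type*} [Finite ι] (V : ι → OpenFI B) (U : AddSubgroup A)
    (i : A →+ B) (h : ∀ k, U ≤ (V k).toAddSubgroup.comap i) :
    ∃ V' : OpenFI B, U ≤ V'.toAddSubgroup.comap i ∧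
      ∀ k, V'.toAddSubgroup ≤ (V k).toAddSubgroup := by
  classical
  haveI := Fintype.ofFinite ι
  have key : ∀ s : Finset ι, ∃ V' : OpenFI B, U ≤ V'.toAddSubgroup.comap i ∧
      ∀ k ∈ s, V'.toAddSubgroup ≤ (V k).toAddSubgroup := by
    intro s
    induction s using Finset.induction_on with
    | empty =>
      refine ⟨top, ?_, ?_⟩
      · intro a _
        trivial
      · intro k hk
        exact absurd hk (Finset.notMem_empty k)
    | insert k s hk ih =>
      obtain ⟨V', h1, h2⟩ := ih
      refine ⟨inf V' (V k), ?_, ?_⟩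
      · intro a ha
        exact ⟨h1 ha, h k ha⟩
      · intro k' hk'
        rcases Finset.mem_insert.1 hk' with rfl | hk'
        · exact (inf_le_right : V'.toAddSubgroup ⊓ (V k').toAddSubgroup ≤ _)
        · exact le_trans (inf_le_left : V'.toAddSubgroup ⊓ (V k).toAddSubgroup ≤ _) (h2 k' hk')
  obtain ⟨V', h1, h2⟩ := key Finset.univ
  exact ⟨V', h1, fun k => h2 k (Finset.mem_univ k)⟩

end H9_FICompl
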