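import Mathlib

/-! A finite module over a Noetherian ring has a resolution by finite free modules. -/

namespace Groth.Agent.H9FinFreeRes

open CategoryTheory CategoryTheory.Limits

universe u

variable (R : Type u) [CommRing R] [IsNoetherianRing R]

/-- state: rank of the current free module and the current kernel. -/
structure St where
  m : ℕ
  N : Submodule R (Fin m → R)

theorem exists_cover (s : St R) : ∃ (m' : ℕ) (f : (Fin m' → R) →ₗ[R] (Fin s.m → R)),
    LinearMap.range f = s.N := by
  haveI : Module.Finite R s.N := inferInstance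
  obtain ⟨m', π, hπ⟩ := Module.Finite.exists_fin' R s.N
  refine ⟨m', s.N.subtype ∘ₗ π, ?_⟩
  rw [LinearMap.range_comp, LinearMap.range_eq_top.mpr hπ, Submodule.map_top,
    Submodule.range_subtype]

noncomputable def cm (s : St R) : ℕ := (exists_cover R s).choose

noncomputable def cf (s : St R) : (Fin (cm R s) → R) →ₗ[R] (Fin s.m → R) :=
  (exists_cover R s).choose_spec.choose

theorem cf_range (s : St R) : LinearMap.range (cf R s) = s.N :=
  (exists_cover R s).choose_spec.choose_spec

noncomputable def next (s : St R) : St R := ⟨cm R s, LinearMap.ker (cf R s)⟩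

noncomputable def seq (s₀ : St R) : ℕ → St R
  | 0 => s₀
  | n + 1 => next R (seq s₀ n)

noncomputable def X (s₀ : St R) (n : ℕ) : ModuleCat.{u} R :=
  ModuleCat.of R (Fin (seq R s₀ n).m → R)

noncomputable def d (s₀ : St R) (n : ℕ) : X R s₀ (n + 1) ⟶ X R s₀ n :=
  ModuleCat.ofHom (cf R (seq R s₀ n))

theorem range_d (s₀ : St R) (n : ℕ) :
    LinearMap.range (d R s₀ (n + 1)).hom = LinearMap.ker (d R s₀ n).hom := by
  change LinearMap.range (cf R (seq R s₀ (n + 1))) = LinearMap.ker (cf R (seq R s₀ n))
  rw [cf_range]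
  rfl

theorem sq (s₀ : St R) (n : ℕ) : d R s₀ (n + 1) ≫ d R s₀ n = 0 := by
  ext x
  have h1 : (d R s₀ (n + 1)).hom x ∈ LinearMap.range (d R s₀ (n + 1)).hom := ⟨x, rfl⟩
  rw [range_d] at h1
  exact h1

noncomputable def cx (s₀ : St R) : ChainComplex (ModuleCat.{u} R) ℕ :=
  ChainComplex.of (X R s₀) (d R s₀) (sq R s₀)

theorem exists_finite_free_resolution (M : Type u) [AddCommGroup M] [Module R M]
    [Module.Finite R M] :
    ∃ F : ProjectiveResolution (ModuleCat.of R M),
      ∀ n : ℕ, Module.Finite R (F.complex.X n) ∧ Module.Free R (F.complex.X n) := by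
  obtain ⟨m₀, π₀, hπ₀⟩ := Module.Finite.exists_fin' R M
  let s₀ : St R := ⟨m₀, LinearMap.ker π₀⟩
  have hd0 : (cx R s₀).d 1 0 = d R s₀ 0 := by
    unfold cx
    exact ChainComplex.of_d (X R s₀) (d R s₀) 0
  have hr0 : LinearMap.range (d R s₀ 0).hom = LinearMap.ker π₀ := cf_range R s₀
  have hw0 : d R s₀ 0 ≫ ModuleCat.ofHom π₀ = 0 := by
    ext x
    have h1 : (d R s₀ 0).hom x ∈ LinearMap.range (d R s₀ 0).hom := ⟨x, rfl⟩
    rw [hr0] at h1
    exact h1
  let π : cx R s₀ ⟶ (ChainComplex.single₀ (ModuleCat.{u} R)).obj (ModuleCat.of R M) :=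
    (ChainComplex.toSingle₀Equiv _ _).symm ⟨ModuleCat.ofHom π₀, by
      rw [hd0]
      exact hw0⟩
  have hproj : ∀ n, Projective ((cx R s₀).X n) := by
    intro n
    change Projective (ModuleCat.of R (Fin (seq R s₀ n).m → R))
    exact (IsProjective.iff_projective (R := R) (P := Fin (seq R s₀ n).m → R)).mp inferInstance
  have hq : QuasiIso π := by
    refine ⟨fun n => ?_⟩
    cases n with
    | zero =>
      rw [ChainComplex.quasiIsoAt₀_iff, ShortComplex.quasiIso_iff_of_zeros' _ rfl rfl rfl]
      have hex2 : (ShortComplex.mk (d R s₀ 0) (ModuleCat.ofHom π₀) hw0).Exact := by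
        rw [ShortComplex.moduleCat_exact_iff_range_eq_ker]
        exact hr0
      have hepi : Epi (ModuleCat.ofHom π₀) := (ModuleCat.epi_iff_surjective _).mpr hπ₀
      refine (ShortComplex.exact_and_epi_g_iff_of_iso ?_).2 ⟨hex2, hepi⟩
      exact ShortComplex.isoMk (Iso.refl _) (Iso.refl _) (Iso.refl _)
        (by
          simp [cx]
          exact (Category.id_comp _).trans (Category.comp_id _).symm)
        (by
          simp [π, ChainComplex.toSingle₀Equiv]
          exact (Category.id_comp _).trans (Category.comp_id _).symm)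
    | succ n =>
      rw [quasiIsoAt_iff_exactAt' (hL := ChainComplex.exactAt_succ_single_obj ..),
        HomologicalComplex.exactAt_iff' _ (n + 2) (n + 1) n (by simp) (by simp)]
      have h1 : (cx R s₀).d (n + 2) (n + 1) = d R s₀ (n + 1) := by
        unfold cx
        exact ChainComplex.of_d (X R s₀) (d R s₀) (n + 1)
      have h2 : (cx R s₀).d (n + 1) n = d R s₀ n := by
        unfold cx
        exact ChainComplex.of_d (X R s₀) (d R s₀) n
      rw [ShortComplex.moduleCat_exact_iff_range_eq_ker]
      change LinearMap.range ((cx R s₀).d (n + 2) (n + 1)).hom =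
        LinearMap.ker ((cx R s₀).d (n + 1) n).hom
      rw [h1, h2]
      exact range_d R s₀ n
  refine ⟨{ complex := cx R s₀, projective := hproj, π := π, quasiIso := hq }, fun n => ?_⟩
  change Module.Finite R (Fin (seq R s₀ n).m → R) ∧ Module.Free R (Fin (seq R s₀ n).m → R)
  exact ⟨inferInstance, inferInstance⟩

end Groth.Agent.H9FinFreeRes
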