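import Mathlib

namespace Groth.Agent.H9.FlatDescent

universe u

open TensorProduct

/-- if `C` is faithfully flat over `B` and flat over `A`, then `B` is flat over `A`. -/
theorem flat_of_flat_of_faithfullyFlat (A B C : Type u) [CommRing A] [CommRing B] [CommRing C]
    [Algebra A B] [Algebra B C] [Algebra A C] [IsScalarTower A B C] [Module.Flat A C]
    [Module.FaithfullyFlat B C] : Module.Flat A B := by
  rw [Module.Flat.iff_lTensor_preserves_injective_linearMap]
  intro N P _ _ _ _ f hf
  let g : B ⊗[A] N →ₗ[B] B ⊗[A] P := TensorProduct.AlgebraTensorModule.lTensor B B f
  show Function.Injective g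
  rw [← Module.FaithfullyFlat.lTensor_injective_iff_injective B C]
  have key : ∀ x, (TensorProduct.AlgebraTensorModule.cancelBaseChange A B B C P) (g.lTensor C x) =
      f.lTensor C (TensorProduct.AlgebraTensorModule.cancelBaseChange A B B C N x) := by
    intro x
    induction x using TensorProduct.induction_on with
    | zero => simp
    | tmul c y =>
      induction y using TensorProduct.induction_on with
      | zero => simp
      | tmul b n => simp [g]
      | add y1 y2 h1 h2 => simp only [TensorProduct.tmul_add, map_add, h1, h2]
    | add x1 x2 h1 h2 => simp only [map_add, h1, h2]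
  intro x y hxy
  have := congrArg (TensorProduct.AlgebraTensorModule.cancelBaseChange A B B C P) hxy
  rw [key, key] at this
  exact (TensorProduct.AlgebraTensorModule.cancelBaseChange A B B C N).injective
    (Module.Flat.lTensor_preserves_injective_linearMap f hf this)

end Groth.Agent.H9.FlatDescent
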