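import Mathlib

/-!
# Restriction of scalars along a flat map preserves injective modules
-/

namespace Groth.Agent.H9.FlatInj

universe u

open TensorProduct

theorem injective_restrict_of_flat (R S : Type u) [CommRing R] [CommRing S] [Algebra R S]
    [Module.Flat R S] (E : Type u) [AddCommGroup E] [Module S E] [Module R E]
    [IsScalarTower R S E] (hE : Module.Injective S E) : Module.Injective R E := by
  apply Module.Baer.injective
  intro J h
  let ι : S ⊗[R] J →ₗ[S] S := LinearMap.liftBaseChange S ((Algebra.linearMap R S).comp J.subtype)
  have hι : Function.Injective ι := by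
    have h1 : Function.Injective (LinearMap.lTensor S J.subtype) :=
      Module.Flat.lTensor_preserves_injective_linearMap _ Subtype.val_injective
    have h2 : ∀ t, ι t = (TensorProduct.rid R S) (LinearMap.lTensor S J.subtype t) := by
      intro t
      induction t using TensorProduct.induction_on with
      | zero => simp
      | tmul s j =>
        simp only [ι, LinearMap.liftBaseChange_tmul, LinearMap.lTensor_tmul, TensorProduct.rid_tmul,
          LinearMap.comp_apply, Submodule.subtype_apply, Algebra.linearMap_apply]
        rw [Algebra.smul_def (j : R) s, smul_eq_mul, mul_comm]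
      | add x y hx hy => rw [map_add, map_add, map_add, hx, hy]
    intro a b hab
    rw [h2, h2] at hab
    exact h1 ((TensorProduct.rid R S).injective hab)
  let h' : S ⊗[R] J →ₗ[S] E := LinearMap.liftBaseChange S h
  obtain ⟨ψ, hψ⟩ := hE.out ι hι h'
  refine ⟨LinearMap.toSpanSingleton R E (ψ 1), ?_⟩
  intro x hx
  rw [LinearMap.toSpanSingleton_apply]
  have h3 := hψ ((1 : S) ⊗ₜ[R] (⟨x, hx⟩ : J))
  simp only [ι, h', LinearMap.liftBaseChange_tmul, one_smul, LinearMap.comp_apply,
    Submodule.subtype_apply, Algebra.linearMap_apply] at h3
  rw [← h3, ← algebraMap_smul S x (ψ 1), ← map_smul, smul_eq_mul, mul_one]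

end Groth.Agent.H9.FlatInj
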