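import Mathlib

/-! helper9: a module `M` with a flat presentation `0 → K → F → M → 0` such that `K → F` is
universally injective is flat. -/

namespace Groth.Agent.H9_FlatOfUI

open scoped TensorProduct

universe u

theorem flat_of_universallyInjective_ker {R : Type u} [CommRing R] {M F : Type u}
    [AddCommGroup M] [Module R M] [AddCommGroup F] [Module R F] [Module.Flat R F]
    (π : F →ₗ[R] M) (hπ : Function.Surjective π)
    (hui : ∀ (Q : Type u) [AddCommGroup Q] [Module R Q],
      Function.Injective ((LinearMap.ker π).subtype.rTensor Q)) :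
    Module.Flat R M := by
  classical
  rw [Module.Flat.iff_lTensor_injective']
  intro I
  let K : Submodule R F := LinearMap.ker π
  let ι : K →ₗ[R] F := K.subtype
  have hιπ : Function.Exact ι π := LinearMap.exact_subtype_ker_map π
  let j : I →ₗ[R] R := I.subtype
  let p : R →ₗ[R] R ⧸ I := I.mkQ
  have hjp : Function.Exact j p := LinearMap.exact_subtype_mkQ I
  have hp : Function.Surjective p := I.mkQ_surjective
  rw [injective_iff_map_eq_zero]
  intro x hx
  obtain ⟨y, rfl⟩ := LinearMap.rTensor_surjective I hπ x
  have h2 : (π.rTensor R) ((j.lTensor F) y) = 0 := by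
    rw [← LinearMap.comp_apply, LinearMap.rTensor_comp_lTensor, ← LinearMap.lTensor_comp_rTensor,
      LinearMap.comp_apply]
    exact hx
  have hex1 : Function.Exact (ι.rTensor R) (π.rTensor R) := rTensor_exact R hιπ hπ
  obtain ⟨k, hk⟩ := (hex1 _).mp h2
  have h3 : (ι.rTensor (R ⧸ I)) ((p.lTensor K) k) = 0 := by
    rw [← LinearMap.comp_apply, LinearMap.rTensor_comp_lTensor, ← LinearMap.lTensor_comp_rTensor,
      LinearMap.comp_apply, hk, ← LinearMap.comp_apply, ← LinearMap.lTensor_comp]
    have : p ∘ₗ j = 0 := by
      ext a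
      exact (hjp _).mpr ⟨a, rfl⟩
    rw [this, LinearMap.lTensor_zero, LinearMap.zero_apply]
  have h3' : (p.lTensor K) k = 0 := by
    apply hui (R ⧸ I)
    rw [map_zero]
    exact h3
  have hex2 : Function.Exact (j.lTensor K) (p.lTensor K) := lTensor_exact K hjp hp
  obtain ⟨k', hk'⟩ := (hex2 _).mp h3'
  have h4 : (j.lTensor F) ((ι.rTensor I) k') = (j.lTensor F) y := by
    rw [← LinearMap.comp_apply, LinearMap.lTensor_comp_rTensor, ← LinearMap.rTensor_comp_lTensor,
      LinearMap.comp_apply, hk', hk]
  have hFinj : Function.Injective (j.lTensor F) :=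
    Module.Flat.lTensor_preserves_injective_linearMap j I.injective_subtype
  have h4' : (ι.rTensor I) k' = y := hFinj h4
  rw [← h4', ← LinearMap.comp_apply, ← LinearMap.rTensor_comp]
  have : π ∘ₗ ι = 0 := by
    ext a
    exact (hιπ _).mpr ⟨a, rfl⟩
  rw [this, LinearMap.rTensor_zero, LinearMap.zero_apply]

end Groth.Agent.H9_FlatOfUI

namespace Groth.Agent.H9_FlatOfUI

universe u

/-- an opaque copy of the free module on `M`. -/
def Fr (R : Type u) (M : Type u) [CommRing R] : Type u := M →₀ R

variable (R : Type u) [CommRing R] (M : Type u) [AddCommGroup M] [Module R M]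

noncomputable instance : AddCommGroup (Fr R M) := inferInstanceAs (AddCommGroup (M →₀ R))

noncomputable instance : Module R (Fr R M) := inferInstanceAs (Module R (M →₀ R))

instance : Module.Free R (Fr R M) := inferInstanceAs (Module.Free R (M →₀ R))

/-- the canonical surjection -/
noncomputable def pr : Fr R M →ₗ[R] M :=
  (Finsupp.linearCombination R (fun m : M => m) : (M →₀ R) →ₗ[R] M)

lemma pr_surjective : Function.Surjective (pr R M) :=
  Finsupp.linearCombination_surjective R Function.surjective_id

theorem flat_of_forall_ses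
    (h : ∀ (M₁ M₂ : Type u) [AddCommGroup M₁] [Module R M₁] [AddCommGroup M₂] [Module R M₂]
      (f : M₁ →ₗ[R] M₂) (g : M₂ →ₗ[R] M), Function.Injective f → Function.Exact f g →
      Function.Surjective g →
      ∀ (Q : Type u) [AddCommGroup Q] [Module R Q], Function.Injective (f.rTensor Q)) :
    Module.Flat R M := by
  refine flat_of_universallyInjective_ker (pr R M) (pr_surjective R M) ?_
  exact h (LinearMap.ker (pr R M)) (Fr R M) (LinearMap.ker (pr R M)).subtype (pr R M)
    (LinearMap.ker (pr R M)).injective_subtype (LinearMap.exact_subtype_ker_map (pr R M))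
    (pr_surjective R M)

end Groth.Agent.H9_FlatOfUI
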