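import Mathlib
import Groth.Prelude.Def_W4c6eohyperellchar2Gc

/-! Basic computations in the explicit module `GcMod`. -/

namespace Groth.Agent.H9GcMod

open W4c6eohyperellchar2

universe u

variable (c : ℕ) (k : Type u) [Field k] [CharP k 2] [PerfectRing k 2]

theorem coefX_X (n m : ℕ) : coefX (X c k n) m = if 1 ≤ m ∧ m ≤ c ∧ m = n then 1 else 0 := by
  unfold coefX X
  by_cases h : 1 ≤ m ∧ m ≤ c
  · rw [dif_pos h]
    simp only
    by_cases h2 : m = n
    · rw [if_pos (by omega), if_pos ⟨h.1, h.2, h2⟩]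
    · rw [if_neg (by omega), if_neg (by tauto)]
  · rw [dif_neg h, if_neg (by tauto)]

theorem coefX_Y (n m : ℕ) : coefX (Y c k n) m = 0 := by
  unfold coefX Y
  split_ifs <;> rfl

theorem coefY_Y (n m : ℕ) : coefY (Y c k n) m = if 1 ≤ m ∧ m ≤ c ∧ m = n then 1 else 0 := by
  unfold coefY Y
  by_cases h : 1 ≤ m ∧ m ≤ c
  · rw [dif_pos h]
    simp only
    by_cases h2 : m = n
    · rw [if_pos (by omega), if_pos ⟨h.1, h.2, h2⟩]
    · rw [if_neg (by omega), if_neg (by tauto)]
  · rw [dif_neg h, if_neg (by tauto)]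

theorem coefY_X (n m : ℕ) : coefY (X c k n) m = 0 := by
  unfold coefY X
  split_ifs <;> rfl

/-- `F X_{2 j0} = X_{j0}` when `2 j0 ≤ c`. -/
theorem F_X_even (j0 : ℕ) (h : 2 * j0 ≤ c) : F c k (X c k (2 * j0)) = X c k j0 := by
  unfold F
  refine Prod.ext ?_ ?_
  · funext i
    simp only [coefX_X]
    show _ = (X c k j0).1 i
    unfold X
    simp only
    have hi := i.2
    by_cases h2 : i.val + 1 = j0
    · rw [if_pos (by omega), if_pos h2]; simp
    · rw [if_neg (by omega), if_neg h2]; simp
  · funext i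
    simp only [coefX_X]
    show _ = (X c k j0).2 i
    unfold X
    simp only
    rw [if_neg (by omega)]
    simp

/-- `F X_l = Y_{c - (l-1)/2}` for `l` odd, `l ≤ c`. -/
theorem F_X_odd (l : ℕ) (hl : Odd l) (h : l ≤ c) : F c k (X c k l) = Y c k (c - (l - 1) / 2) := by
  obtain ⟨t, rfl⟩ := hl
  unfold F
  refine Prod.ext ?_ ?_
  · funext i
    simp only [coefX_X]
    show _ = (Y c k _).1 i
    unfold Y
    simp only
    rw [if_neg (by omega)]
    simp
  · funext i
    simp only [coefX_X]
    show _ = (Y c k _).2 i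
    unfold Y
    simp only
    have hi := i.2
    by_cases h2 : i.val + 1 = c - (2 * t + 1 - 1) / 2
    · rw [if_pos (by omega), if_pos h2]; simp
    · rw [if_neg (by omega), if_neg h2]; simp

/-- `V X_j = Y_{2c - 2j + 1}` for `c < 2j`, `j ≤ c`. -/
theorem V_X (j : ℕ) (h1 : c < 2 * j) (h2 : j ≤ c) : V c k (X c k j) = Y c k (2 * c - 2 * j + 1) := by
  unfold V
  refine Prod.ext ?_ ?_
  · rfl
  · funext i
    simp only [coefX_X, coefY_X]
    show _ = (Y c k _).2 i
    unfold Y
    simp only
    have hi := i.2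
    by_cases h3 : i.val + 1 = 2 * c - 2 * j + 1
    · rw [if_neg (by omega), if_pos (by omega), if_pos h3]; simp
    · rw [if_neg h3]
      split_ifs with h4 h5
      · simp
      · omega
      · simp

/-- `V Y_m = Y_{2m}` for `2m ≤ c`. -/
theorem V_Y (m : ℕ) (h : 2 * m ≤ c) : V c k (Y c k m) = Y c k (2 * m) := by
  unfold V
  refine Prod.ext ?_ ?_
  · rfl
  · funext i
    simp only [coefX_Y, coefY_Y]
    show _ = (Y c k _).2 i
    unfold Y
    simp only
    have hi := i.2
    by_cases h3 : i.val + 1 = 2 * m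
    · rw [if_pos (by omega), if_pos (by omega), if_pos h3]; simp
    · rw [if_neg h3]
      split_ifs with h4 h5
      · omega
      · simp
      · simp

theorem iterate_F_X (e l : ℕ) (h : 2 ^ e * l ≤ c) : (F c k)^[e] (X c k (2 ^ e * l)) = X c k l := by
  induction e with
  | zero => simp
  | succ e ih =>
    rw [Function.iterate_succ_apply]
    have h1 : 2 ^ (e + 1) * l = 2 * (2 ^ e * l) := by ring
    rw [h1, F_X_even c k _ (by omega)]
    exact ih (by omega)

theorem iterate_V_Y (n m : ℕ) (h : 2 ^ n * m ≤ c) : (V c k)^[n] (Y c k m) = Y c k (2 ^ n * m) := by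
  induction n with
  | zero => simp
  | succ n ih =>
    rw [Function.iterate_succ_apply']
    have h1 : 2 ^ (n + 1) * m = 2 * (2 ^ n * m) := by ring
    rw [ih (by omega), V_Y c k _ (by omega), h1]

theorem Y_add_Y (m : ℕ) : Y c k m + Y c k m = 0 := by
  refine Prod.ext ?_ ?_
  · simp [Y]
  · funext i
    show (Y c k m).2 i + (Y c k m).2 i = 0
    exact CharTwo.add_self_eq_zero _

end Groth.Agent.H9GcMod

namespace Groth.Agent.H9GcMod

open W4c6eohyperellchar2

universe u

variable (c : ℕ) (k : Type u) [Field k] [CharP k 2] [PerfectRing k 2]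

theorem X_eq_inl (i : Fin c) :
    X c k (i.val + 1) = LinearMap.inl k (Fin c → k) (Fin c → k) (Pi.single i 1) := by
  refine Prod.ext ?_ rfl
  funext i'
  show (if i'.val + 1 = i.val + 1 then (1 : k) else 0) = (Pi.single i (1 : k) : Fin c → k) i'
  by_cases h : i' = i
  · subst h; simp
  · rw [if_neg (by intro h2; exact h (Fin.ext (by omega))), Pi.single_eq_of_ne h]

theorem Y_eq_inr (i : Fin c) :
    Y c k (i.val + 1) = LinearMap.inr k (Fin c → k) (Fin c → k) (Pi.single i 1) := by
  refine Prod.ext rfl ?_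
  funext i'
  show (if i'.val + 1 = i.val + 1 then (1 : k) else 0) = (Pi.single i (1 : k) : Fin c → k) i'
  by_cases h : i' = i
  · subst h; simp
  · rw [if_neg (by intro h2; exact h (Fin.ext (by omega))), Pi.single_eq_of_ne h]

/-- A submodule containing all `X_j`, `Y_j` (`1 ≤ j ≤ c`) is everything. -/
theorem eq_top_of_XY_mem (N : Submodule k (GcMod c k))
    (hX : ∀ j, 1 ≤ j → j ≤ c → X c k j ∈ N) (hY : ∀ j, 1 ≤ j → j ≤ c → Y c k j ∈ N) : N = ⊤ := by
  rw [eq_top_iff]
  rintro ⟨a, b⟩ -
  have h1 : ((a, b) : GcMod c k) = LinearMap.inl k (Fin c → k) (Fin c → k) a +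
      LinearMap.inr k (Fin c → k) (Fin c → k) b := by
    simp
  rw [h1]
  apply N.add_mem
  · have : a = ∑ i, a i • (Pi.single i (1 : k) : Fin c → k) := by
      funext j
      simp [Finset.sum_apply, Pi.single_apply]
    rw [this, map_sum]
    apply N.sum_mem
    intro i _
    rw [map_smul, ← X_eq_inl]
    exact N.smul_mem _ (hX _ (by omega) (by have := i.2; omega))
  · have : b = ∑ i, b i • (Pi.single i (1 : k) : Fin c → k) := by
      funext j
      simp [Finset.sum_apply, Pi.single_apply]
    rw [this, map_sum]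
    apply N.sum_mem
    intro i _
    rw [map_smul, ← Y_eq_inr]
    exact N.smul_mem _ (hY _ (by omega) (by have := i.2; omega))

/-- S19042 -/
theorem generated (N : Submodule k (GcMod c k))
    (hF : ∀ v ∈ N, F c k v ∈ N) (hV : ∀ v ∈ N, V c k v ∈ N)
    (hX : ∀ j : ℕ, c < 2 * j → j ≤ c → X c k j ∈ N) : N = ⊤ := by
  have hXall : ∀ d j, c - j = d → 1 ≤ j → j ≤ c → X c k j ∈ N := by
    intro d
    induction d using Nat.strong_induction_on with
    | _ d ih =>
      intro j hd h1 h2
      by_cases h3 : c < 2 * j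
      · exact hX j h3 h2
      · have h4 : 2 * j ≤ c := by omega
        rw [← F_X_even c k j h4]
        exact hF _ (ih (c - 2 * j) (by omega) (2 * j) rfl (by omega) h4)
  have hYall : ∀ m, 1 ≤ m → m ≤ c → Y c k m ∈ N := by
    intro m
    induction m using Nat.strong_induction_on with
    | _ m ih =>
      intro h1 h2
      rcases Nat.even_or_odd m with he | ho
      · obtain ⟨m0, rfl⟩ := he
        have : m0 + m0 = 2 * m0 := by ring
        rw [this, ← V_Y c k m0 (by omega)]
        exact hV _ (ih m0 (by omega) (by omega) (by omega))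
      · obtain ⟨t, rfl⟩ := ho
        have h5 : 2 * t + 1 = 2 * c - 2 * (c - t) + 1 := by omega
        rw [h5, ← V_X c k (c - t) (by omega) (by omega)]
        exact hV _ (hXall _ _ rfl (by omega) (by omega))
  exact eq_top_of_XY_mem c k N (fun j h1 h2 => hXall _ j rfl h1 h2) hYall

end Groth.Agent.H9GcMod

namespace Groth.Agent.H9GcMod

open W4c6eohyperellchar2

universe u

variable (c : ℕ) (k : Type u) [Field k] [CharP k 2] [PerfectRing k 2]

/-- The span of the images of `F` and `V`. -/
noncomputable abbrev FV : Submodule k (GcMod c k) :=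
  Submodule.span k (Set.range (F c k) ∪ Set.range (V c k))

/-- vectors with vanishing `X_j`-coordinates for `2j > c` -/
def lowX : Submodule k (GcMod c k) where
  carrier := {w | ∀ i : Fin c, c < 2 * (i.val + 1) → w.1 i = 0}
  add_mem' := by
    intro a b ha hb i hi
    show a.1 i + b.1 i = 0
    rw [ha i hi, hb i hi, add_zero]
  zero_mem' := by intro i _; rfl
  smul_mem' := by
    intro r a ha i hi
    show r * a.1 i = 0
    rw [ha i hi, mul_zero]

theorem FV_le_lowX : FV c k ≤ lowX c k := by
  rw [Submodule.span_le]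
  rintro w (⟨v, rfl⟩ | ⟨v, rfl⟩)
  · intro i hi
    show coefX v (2 * (i.val + 1)) ^ 2 = 0
    unfold coefX
    rw [dif_neg (by omega)]
    simp
  · intro i _
    rfl

theorem X_mem_FV (j : ℕ) (h1 : 1 ≤ j) (h2 : 2 * j ≤ c) : X c k j ∈ FV c k := by
  rw [← F_X_even c k j h2]
  exact Submodule.subset_span (Or.inl ⟨_, rfl⟩)

theorem Y_mem_FV (m : ℕ) (h1 : 1 ≤ m) (h2 : m ≤ c) : Y c k m ∈ FV c k := by
  rcases Nat.even_or_odd m with he | ho
  · obtain ⟨m0, rfl⟩ := he
    have : m0 + m0 = 2 * m0 := by ring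
    rw [this, ← V_Y c k m0 (by omega)]
    exact Submodule.subset_span (Or.inr ⟨_, rfl⟩)
  · obtain ⟨t, rfl⟩ := ho
    have h5 : 2 * t + 1 = 2 * c - 2 * (c - t) + 1 := by omega
    rw [h5, ← V_X c k (c - t) (by omega) (by omega)]
    exact Submodule.subset_span (Or.inr ⟨_, rfl⟩)

/-- S19043 -/
theorem quotient_basis :
    LinearIndependent k (fun j : {j : ℕ // c < 2 * j ∧ j ≤ c} =>
        Submodule.mkQ (FV c k) (X c k j.1)) ∧
      Submodule.span k (Set.range (fun j : {j : ℕ // c < 2 * j ∧ j ≤ c} =>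
        Submodule.mkQ (FV c k) (X c k j.1))) = ⊤ := by
  constructor
  · rw [linearIndependent_iff']
    intro s g hg j0 hj0
    simp only [← map_smul, ← map_sum] at hg
    rw [Submodule.mkQ_apply, Submodule.Quotient.mk_eq_zero] at hg
    have h1 := FV_le_lowX c k hg ⟨j0.1 - 1, by have := j0.2; omega⟩ (by
      have := j0.2; show c < 2 * (j0.1 - 1 + 1); omega)
    have h2 : (∑ j ∈ s, g j • X c k j.1).1 ⟨j0.1 - 1, by have := j0.2; omega⟩ = g j0 := by
      rw [Prod.fst_sum, Finset.sum_apply]
      rw [Finset.sum_eq_single j0]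
      · show g j0 * (if j0.1 - 1 + 1 = j0.1 then (1 : k) else 0) = g j0
        rw [if_pos (by have := j0.2; omega), mul_one]
      · intro j _ hne
        show g j * (if j0.1 - 1 + 1 = j.1 then (1 : k) else 0) = 0
        rw [if_neg (by
          intro h
          apply hne
          apply Subtype.ext
          have := j0.2; omega), mul_zero]
      · intro h; exact absurd hj0 h
    rw [← h2]
    exact h1
  · have htop : FV c k ⊔ Submodule.span k (Set.range (fun j : {j : ℕ // c < 2 * j ∧ j ≤ c} =>
        X c k j.1)) = ⊤ := by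
      apply eq_top_of_XY_mem
      · intro j h1 h2
        by_cases h3 : c < 2 * j
        · exact Submodule.mem_sup_right (Submodule.subset_span ⟨⟨j, h3, h2⟩, rfl⟩)
        · exact Submodule.mem_sup_left (X_mem_FV c k j h1 (by omega))
      · intro m h1 h2
        exact Submodule.mem_sup_left (Y_mem_FV c k m h1 h2)
    have h4 : Submodule.map (FV c k).mkQ (FV c k) = ⊥ := Submodule.mkQ_map_self _
    have h3 := congrArg (Submodule.map (FV c k).mkQ) htop
    rw [Submodule.map_sup, h4, bot_sup_eq, Submodule.map_top, Submodule.range_mkQ,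
      Submodule.map_span, ← Set.range_comp] at h3
    exact h3

end Groth.Agent.H9GcMod
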