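import Mathlib
import Groth.Prelude.Def_W4c6eohyperellchar2Gc
import Groth.Agent.Lib.helper9.H9_GcMod

/-! The nilpotent block: filtration computations. -/

namespace Groth.Agent.H9GcNil

open W4c6eohyperellchar2 Groth.Agent.H9GcMod

universe u

variable (c : ℕ) (k : Type u) [Field k] [CharP k 2] [PerfectRing k 2]

theorem decomp (v : GcMod c k) :
    v = ∑ j : Fin c, v.1 j • X c k (j.val + 1) + ∑ j : Fin c, v.2 j • Y c k (j.val + 1) := by
  refine Prod.ext ?_ ?_
  · funext i
    simp only [Prod.fst_add, Prod.fst_sum, Prod.smul_fst, Pi.add_apply, Finset.sum_apply,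
      Pi.smul_apply, X, Y, smul_eq_mul, Pi.zero_apply, mul_zero, Finset.sum_const_zero, add_zero]
    rw [Finset.sum_eq_single i]
    · simp
    · intro j _ hne
      rw [if_neg (fun h => hne (Fin.ext (by omega))), mul_zero]
    · intro h; exact absurd (Finset.mem_univ i) h
  · funext i
    simp only [Prod.snd_add, Prod.snd_sum, Prod.smul_snd, Pi.add_apply, Finset.sum_apply,
      Pi.smul_apply, X, Y, smul_eq_mul, Pi.zero_apply, mul_zero, Finset.sum_const_zero, zero_add]
    rw [Finset.sum_eq_single i]
    · simp
    · intro j _ hne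
      rw [if_neg (fun h => hne (Fin.ext (by omega))), mul_zero]
    · intro h; exact absurd (Finset.mem_univ i) h

theorem mem_Nfil_iff (i : ℕ) (v : GcMod c k) :
    v ∈ Nfil c k i ↔ (∀ j : Fin c, j.val + 1 ≤ 2 * c - i → v.1 j = 0) ∧
      (∀ j : Fin c, i < j.val + 1 → v.2 j = 0) := by
  constructor
  · intro hv
    unfold Nfil at hv
    induction hv using Submodule.span_induction with
    | mem x hx =>
      rcases hx with ⟨n, hn, rfl⟩ | ⟨n, hn, rfl⟩
      · refine ⟨fun j _ => rfl, fun j hj => ?_⟩
        show (if j.val + 1 = n then (1 : k) else 0) = 0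
        rw [if_neg]
        have := hn.2
        have := j.2
        omega
      · refine ⟨fun j hj => ?_, fun j _ => rfl⟩
        show (if j.val + 1 = n then (1 : k) else 0) = 0
        rw [if_neg]
        have := hn.1
        omega
    | zero => exact ⟨fun _ _ => rfl, fun _ _ => rfl⟩
    | add x y _ _ hx hy =>
      refine ⟨fun j hj => ?_, fun j hj => ?_⟩
      · show x.1 j + y.1 j = 0
        rw [hx.1 j hj, hy.1 j hj, add_zero]
      · show x.2 j + y.2 j = 0
        rw [hx.2 j hj, hy.2 j hj, add_zero]
    | smul r x _ hx =>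
      refine ⟨fun j hj => ?_, fun j hj => ?_⟩
      · show r * x.1 j = 0
        rw [hx.1 j hj, mul_zero]
      · show r * x.2 j = 0
        rw [hx.2 j hj, mul_zero]
  · rintro ⟨h1, h2⟩
    rw [decomp c k v]
    apply Submodule.add_mem
    · apply Submodule.sum_mem
      intro j _
      by_cases hj : j.val + 1 ≤ 2 * c - i
      · rw [h1 j hj, zero_smul]; exact Submodule.zero_mem _
      · apply Submodule.smul_mem
        apply Submodule.subset_span
        right
        exact ⟨j.val + 1, ⟨by omega, by have := j.2; omega⟩, rfl⟩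
    · apply Submodule.sum_mem
      intro j _
      by_cases hj : i < j.val + 1
      · rw [h2 j hj, zero_smul]; exact Submodule.zero_mem _
      · apply Submodule.smul_mem
        apply Submodule.subset_span
        left
        exact ⟨j.val + 1, ⟨by omega, by have := j.2; simp only [le_min_iff]; omega⟩, rfl⟩

theorem coefX_eq (v : GcMod c k) (j : Fin c) : coefX v (j.val + 1) = v.1 j := by
  unfold coefX
  rw [dif_pos ⟨by omega, by have := j.2; omega⟩]
  rfl

theorem coefX_eq' (v : GcMod c k) (n : ℕ) (h1 : 1 ≤ n) (h2 : n ≤ c) :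
    coefX v n = v.1 ⟨n - 1, by omega⟩ := by
  unfold coefX
  rw [dif_pos ⟨h1, h2⟩]

theorem coefY_eq' (v : GcMod c k) (n : ℕ) (h1 : 1 ≤ n) (h2 : n ≤ c) :
    coefY v n = v.2 ⟨n - 1, by omega⟩ := by
  unfold coefY
  rw [dif_pos ⟨h1, h2⟩]

/-- Claim 3: `NF⁻¹ (N_i) = N_{c + ⌈i/2⌉}`. -/
theorem NF_preimage (a : ℕ → k) (ha : a c ≠ 0) (i : ℕ) (hi : i ≤ 2 * c) (v : GcMod c k) :
    NF c k a v ∈ Nfil c k i ↔ v ∈ Nfil c k (c + (i + 1) / 2) := by
  rw [mem_Nfil_iff, mem_Nfil_iff]
  constructor
  · rintro ⟨h1, h2⟩
    refine ⟨?_, fun j hj => by have := j.2; omega⟩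
    -- strong induction on j
    have key : ∀ n (j : Fin c), j.val = n → j.val + 1 ≤ 2 * c - (c + (i + 1) / 2) → v.1 j = 0 := by
      intro n
      induction n using Nat.strong_induction_on with
      | _ n ih =>
        intro j hjn hj
        have hjc := j.2
        by_cases hcase : 2 * (j.val + 1) ≤ c
        · -- use h1 at m' = 2(j+1) - 1
          have h3 := h1 ⟨2 * (j.val + 1) - 1, by omega⟩ (by show 2 * (j.val + 1) - 1 + 1 ≤ _; omega)
          have h4 : (NF c k a v).1 ⟨2 * (j.val + 1) - 1, by omega⟩ = v.1 j ^ 2 := by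
            show (if (2 * (j.val + 1) - 1 + 1) % 2 = 0 then
              coefX v ((2 * (j.val + 1) - 1 + 1) / 2) ^ 2 else 0) = _
            rw [if_pos (by omega)]
            have : (2 * (j.val + 1) - 1 + 1) / 2 = j.val + 1 := by omega
            rw [this, coefX_eq]
          rw [h4] at h3
          exact pow_eq_zero_iff (two_ne_zero) |>.mp h3
        · -- 2(j+1) > c
          have hm : 2 * (c - (j.val + 1)) < c := by omega
          have h3 := h2 ⟨2 * (c - (j.val + 1)), hm⟩ (by show i < 2 * (c - (j.val + 1)) + 1; omega)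
          have h4 : (NF c k a v).2 ⟨2 * (c - (j.val + 1)), hm⟩ = v.1 j ^ 2 * a c := by
            show (if (2 * (c - (j.val + 1)) + 1) % 2 = 1 then
              Finset.univ.sum (fun j' : Fin c =>
                if c < 2 * (j'.val + 1) ∧ (j'.val + 1) + (2 * (c - (j.val + 1))) / 2 ≤ c then
                  v.1 j' ^ 2 * a ((j'.val + 1) + (2 * (c - (j.val + 1))) / 2) else 0)
              else 0) = _
            rw [if_pos (by omega)]
            rw [Finset.sum_eq_single j]
            · rw [if_pos ⟨by omega, by omega⟩]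
              have : j.val + 1 + 2 * (c - (j.val + 1)) / 2 = c := by omega
              rw [this]
            · intro j' _ hne
              by_cases hcond : c < 2 * (j'.val + 1) ∧ (j'.val + 1) + (2 * (c - (j.val + 1))) / 2 ≤ c
              · rw [if_pos hcond]
                have hlt : j'.val < j.val := by
                  have : j'.val ≠ j.val := fun h => hne (Fin.ext h)
                  omega
                rw [ih j'.val (by omega) j' rfl (by omega)]
                ring
              · rw [if_neg hcond]
            · intro h; exact absurd (Finset.mem_univ j) h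
          rw [h4] at h3
          have h5 : v.1 j ^ 2 = 0 := by
            rcases mul_eq_zero.mp h3 with h | h
            · exact h
            · exact absurd h ha
          exact pow_eq_zero_iff (two_ne_zero) |>.mp h5
    exact fun j hj => key j.val j rfl hj
  · rintro ⟨h1, -⟩
    refine ⟨fun m hm => ?_, fun m hm => ?_⟩
    · show (if (m.val + 1) % 2 = 0 then coefX v ((m.val + 1) / 2) ^ 2 else 0) = 0
      split_ifs with h
      · have hmc := m.2
        rw [coefX_eq' c k v _ (by omega) (by omega)]
        rw [h1 ⟨(m.val + 1) / 2 - 1, by omega⟩ (by show (m.val + 1) / 2 - 1 + 1 ≤ _; omega)]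
        ring
      · rfl
    · show (if (m.val + 1) % 2 = 1 then
              Finset.univ.sum (fun j' : Fin c =>
                if c < 2 * (j'.val + 1) ∧ (j'.val + 1) + m.val / 2 ≤ c then
                  v.1 j' ^ 2 * a ((j'.val + 1) + m.val / 2) else 0)
              else 0) = 0
      split_ifs with h
      · apply Finset.sum_eq_zero
        intro j' _
        split_ifs with hcond
        · rw [h1 j' (by omega)]
          ring
        · rfl
      · rfl

theorem coefY_add (u v : GcMod c k) (n : ℕ) : coefY (u + v) n = coefY u n + coefY v n := by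
  unfold coefY
  split_ifs
  · rfl
  · simp

theorem coefY_smul (r : k) (v : GcMod c k) (n : ℕ) : coefY (r • v) n = r * coefY v n := by
  unfold coefY
  split_ifs
  · rfl
  · simp

theorem NV_snd (a : ℕ → k) (v : GcMod c k) (m : Fin c) :
    (NV c k a v).2 m = (frobeniusEquiv k 2).symm (coefY v (2 * (m.val + 1))) +
      Finset.univ.sum (fun j : Fin c =>
        if (j.val + 1) % 2 = 1 ∧ (m.val + 1) + j.val / 2 ≤ c then
          (frobeniusEquiv k 2).symm (v.1 j * a ((m.val + 1) + j.val / 2)) else 0) := rfl

theorem NV_fst (a : ℕ → k) (v : GcMod c k) : (NV c k a v).1 = 0 := rfl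

theorem NV_add (a : ℕ → k) (u v : GcMod c k) :
    NV c k a (u + v) = NV c k a u + NV c k a v := by
  refine Prod.ext ?_ ?_
  · show (0 : Fin c → k) = 0 + 0
    simp
  · funext m
    simp only [Prod.snd_add, Pi.add_apply, NV_snd, coefY_add, map_add, Prod.fst_add, add_mul,
      ite_add_zero, Finset.sum_add_distrib]
    ring

theorem NV_smul (a : ℕ → k) (r : k) (v : GcMod c k) :
    NV c k a (r • v) = (frobeniusEquiv k 2).symm r • NV c k a v := by
  refine Prod.ext ?_ ?_
  · show (0 : Fin c → k) = _ • 0
    simp
  · funext m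
    simp only [Prod.smul_snd, Pi.smul_apply, NV_snd, coefY_smul, map_mul, Prod.smul_fst,
      smul_eq_mul, mul_add, Finset.mul_sum, mul_ite, mul_zero, mul_assoc]

/-- `NV λ_{2m} = λ_m`. -/
theorem NV_Y (a : ℕ → k) (m : ℕ) (h2 : 2 * m ≤ c) :
    NV c k a (Y c k (2 * m)) = Y c k m := by
  refine Prod.ext rfl ?_
  funext i
  rw [NV_snd, coefY_Y]
  have hz : ∀ j : Fin c, (Y c k (2 * m)).1 j = 0 := fun _ => rfl
  simp only [hz, zero_mul, map_zero, ite_self, Finset.sum_const_zero, add_zero]
  show _ = (if i.val + 1 = m then (1 : k) else 0)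
  have hi := i.2
  by_cases h : i.val + 1 = m
  · rw [if_pos ⟨by omega, by omega, by omega⟩, if_pos h, map_one]
  · rw [if_neg (by omega), if_neg h, map_zero]

/-- coordinates of `NV σ_{2t+1}`. -/
theorem NV_X_snd (a : ℕ → k) (t : ℕ) (ht : 2 * t + 1 ≤ c) (i : Fin c) :
    (NV c k a (X c k (2 * t + 1))).2 i =
      if (i.val + 1) + t ≤ c then (frobeniusEquiv k 2).symm (a ((i.val + 1) + t)) else 0 := by
  rw [NV_snd, coefY_X, map_zero, zero_add]
  rw [Finset.sum_eq_single (⟨2 * t, by omega⟩ : Fin c)]
  · show (if (2 * t + 1) % 2 = 1 ∧ (i.val + 1) + (2 * t) / 2 ≤ c then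
        (frobeniusEquiv k 2).symm ((if 2 * t + 1 = 2 * t + 1 then (1 : k) else 0) *
          a ((i.val + 1) + (2 * t) / 2)) else 0) = _
    have h2 : 2 * t / 2 = t := by omega
    rw [h2, if_pos rfl, one_mul]
    by_cases h : i.val + 1 + t ≤ c
    · rw [if_pos ⟨by omega, h⟩, if_pos h]
    · rw [if_neg (fun hh => h hh.2), if_neg h]
  · intro j _ hne
    have hj : (X c k (2 * t + 1)).1 j = 0 := by
      show (if j.val + 1 = 2 * t + 1 then (1 : k) else 0) = 0
      rw [if_neg]
      intro h
      apply hne
      apply Fin.ext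
      show j.val = 2 * t
      omega
    rw [hj, zero_mul, map_zero, ite_self]
  · intro h; exact absurd (Finset.mem_univ _) h

theorem NV_mem (a : ℕ → k) (i : ℕ) (v : GcMod c k) (hv : v ∈ Nfil c k i) :
    NV c k a v ∈ Nfil c k (i / 2) := by
  rw [mem_Nfil_iff] at hv ⊢
  obtain ⟨h1, h2⟩ := hv
  refine ⟨fun _ _ => rfl, fun m hm => ?_⟩
  rw [NV_snd]
  have hmc := m.2
  have e1 : coefY v (2 * (m.val + 1)) = 0 := by
    unfold coefY
    split_ifs with h
    · exact h2 _ (by show i < 2 * (m.val + 1) - 1 + 1; omega)
    · rfl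
  rw [e1, map_zero, zero_add]
  apply Finset.sum_eq_zero
  intro j _
  split_ifs with hcond
  · rw [h1 j (by omega), zero_mul, map_zero]
  · rfl

/-- the image of `N_i` under `NV`, as a submodule. -/
noncomputable def imS (a : ℕ → k) (i : ℕ) : Submodule k (GcMod c k) where
  carrier := NV c k a '' (Nfil c k i : Set (GcMod c k))
  add_mem' := by
    rintro _ _ ⟨u, hu, rfl⟩ ⟨v, hv, rfl⟩
    exact ⟨u + v, (Nfil c k i).add_mem hu hv, NV_add c k a u v⟩
  zero_mem' := by
    refine ⟨0, (Nfil c k i).zero_mem, ?_⟩
    have := NV_smul c k a 0 0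
    rw [map_zero, zero_smul, zero_smul] at this
    exact this
  smul_mem' := by
    rintro r _ ⟨v, hv, rfl⟩
    refine ⟨r ^ 2 • v, (Nfil c k i).smul_mem _ hv, ?_⟩
    rw [NV_smul, frobeniusEquiv_symm_pow]

theorem Y_mem_imS (a : ℕ → k) (ha : a c ≠ 0) (i : ℕ) (hi : i ≤ 2 * c) :
    ∀ m, 1 ≤ m → m ≤ i / 2 → Y c k m ∈ imS c k a i := by
  intro m
  induction m using Nat.strong_induction_on with
  | _ m ih =>
    intro h1 h2
    by_cases hcase : 2 * m ≤ c
    · refine ⟨Y c k (2 * m), ?_, NV_Y c k a m hcase⟩
      apply Submodule.subset_span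
      left
      exact ⟨2 * m, ⟨by omega, by simp only [le_min_iff]; omega⟩, rfl⟩
    · -- 2m > c
      have hmc : m ≤ c := by omega
      have ht : 2 * (c - m) + 1 ≤ c := by omega
      have hX : NV c k a (X c k (2 * (c - m) + 1)) ∈ imS c k a i := by
        refine ⟨_, ?_, rfl⟩
        apply Submodule.subset_span
        right
        exact ⟨2 * (c - m) + 1, ⟨by omega, ht⟩, rfl⟩
      have hdec := decomp c k (NV c k a (X c k (2 * (c - m) + 1)))
      have hz : ∑ j : Fin c, (NV c k a (X c k (2 * (c - m) + 1))).1 j • X c k (j.val + 1) = 0 := by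
        apply Finset.sum_eq_zero
        intro j _
        rw [NV_fst]
        simp
      rw [hz, zero_add] at hdec
      rw [← Finset.add_sum_erase _ _ (Finset.mem_univ (⟨m - 1, by omega⟩ : Fin c))] at hdec
      have hrest : ∑ j ∈ Finset.univ.erase (⟨m - 1, by omega⟩ : Fin c),
          (NV c k a (X c k (2 * (c - m) + 1))).2 j • Y c k (j.val + 1) ∈ imS c k a i := by
        apply Submodule.sum_mem
        intro j hj
        have hjne : j.val ≠ m - 1 := by
          intro h
          exact (Finset.ne_of_mem_erase hj) (Fin.ext h)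
        rw [NV_X_snd c k a _ ht]
        by_cases hjm : j.val + 1 < m
        · apply Submodule.smul_mem
          exact ih (j.val + 1) hjm (by omega) (by omega)
        · rw [if_neg (by omega), zero_smul]
          exact Submodule.zero_mem _
      have htop : (NV c k a (X c k (2 * (c - m) + 1))).2 (⟨m - 1, by omega⟩ : Fin c) =
          (frobeniusEquiv k 2).symm (a c) := by
        rw [NV_X_snd c k a _ ht]
        have e : (m - 1 + 1) + (c - m) = c := by omega
        show (if (m - 1 + 1) + (c - m) ≤ c then
          (frobeniusEquiv k 2).symm (a ((m - 1 + 1) + (c - m))) else 0) = _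
        rw [e, if_pos le_rfl]
      rw [htop] at hdec
      have hne : (frobeniusEquiv k 2).symm (a c) ≠ 0 := by
        intro h
        apply ha
        have := congrArg (frobeniusEquiv k 2) h
        rwa [RingEquiv.apply_symm_apply, map_zero] at this
      have hm1 : (m - 1 + 1) = m := by omega
      have hmem : (frobeniusEquiv k 2).symm (a c) • Y c k m ∈ imS c k a i := by
        have : (frobeniusEquiv k 2).symm (a c) • Y c k m =
            NV c k a (X c k (2 * (c - m) + 1)) -
            ∑ j ∈ Finset.univ.erase (⟨m - 1, by omega⟩ : Fin c),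
              (NV c k a (X c k (2 * (c - m) + 1))).2 j • Y c k (j.val + 1) := by
          rw [eq_sub_iff_add_eq]
          conv_rhs => rw [hdec]
          show _ = (frobeniusEquiv k 2).symm (a c) • Y c k (m - 1 + 1) + _
          rw [hm1]
        rw [this]
        exact Submodule.sub_mem _ hX hrest
      have := Submodule.smul_mem (imS c k a i) ((frobeniusEquiv k 2).symm (a c))⁻¹ hmem
      rwa [smul_smul, inv_mul_cancel₀ hne, one_smul] at this

/-- Claim 2: `NV (N_i) = N_{⌊i/2⌋}`. -/
theorem NV_image (a : ℕ → k) (ha : a c ≠ 0) (i : ℕ) (hi : i ≤ 2 * c) :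
    NV c k a '' (Nfil c k i : Set (GcMod c k)) = (Nfil c k (i / 2) : Set (GcMod c k)) := by
  apply Set.Subset.antisymm
  · rintro _ ⟨v, hv, rfl⟩
    exact NV_mem c k a i v hv
  · intro w hw
    have hw' := (mem_Nfil_iff c k _ w).mp hw
    show w ∈ imS c k a i
    rw [decomp c k w]
    apply Submodule.add_mem
    · apply Submodule.sum_mem
      intro j _
      have hj := j.2
      rw [hw'.1 j (by omega), zero_smul]
      exact Submodule.zero_mem _
    · apply Submodule.sum_mem
      intro j _
      by_cases hj : i / 2 < j.val + 1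
      · rw [hw'.2 j hj, zero_smul]
        exact Submodule.zero_mem _
      · apply Submodule.smul_mem
        exact Y_mem_imS c k a ha i hi _ (by omega) (by omega)

/-- the standard basis vectors spanning `N_i`. -/
noncomputable def bfam (i : ℕ) (t : Fin i) : GcMod c k :=
  if t.val < c then Y c k (t.val + 1) else X c k (2 * c - i + (t.val - c) + 1)

theorem bfam_li (i : ℕ) (hi : i ≤ 2 * c) : LinearIndependent k (bfam c k i) := by
  rw [linearIndependent_iff']
  intro s g hg t0 ht0
  have ht0i := t0.2
  by_cases h : t0.val < c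
  · have h2 : (∑ t ∈ s, g t • bfam c k i t).2 ⟨t0.val, h⟩ = g t0 := by
      rw [Prod.snd_sum, Finset.sum_apply, Finset.sum_eq_single t0]
      · show g t0 * (bfam c k i t0).2 ⟨t0.val, h⟩ = g t0
        unfold bfam
        rw [if_pos h]
        show g t0 * (if t0.val + 1 = t0.val + 1 then 1 else 0) = g t0
        rw [if_pos rfl, mul_one]
      · intro t _ hne
        show g t * (bfam c k i t).2 ⟨t0.val, h⟩ = 0
        unfold bfam
        by_cases ht : t.val < c
        · rw [if_pos ht]
          show g t * (if t0.val + 1 = t.val + 1 then 1 else 0) = 0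
          rw [if_neg (by intro h'; apply hne; apply Fin.ext; omega), mul_zero]
        · rw [if_neg ht]
          show g t * 0 = 0
          rw [mul_zero]
      · intro h'; exact absurd ht0 h'
    rw [← h2, hg]; rfl
  · have hlt : 2 * c - i + (t0.val - c) < c := by omega
    have h2 : (∑ t ∈ s, g t • bfam c k i t).1 ⟨2 * c - i + (t0.val - c), hlt⟩ = g t0 := by
      rw [Prod.fst_sum, Finset.sum_apply, Finset.sum_eq_single t0]
      · show g t0 * (bfam c k i t0).1 ⟨2 * c - i + (t0.val - c), hlt⟩ = g t0
        unfold bfam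
        rw [if_neg h]
        show g t0 * (if 2 * c - i + (t0.val - c) + 1 = 2 * c - i + (t0.val - c) + 1
          then 1 else 0) = g t0
        rw [if_pos rfl, mul_one]
      · intro t _ hne
        show g t * (bfam c k i t).1 ⟨2 * c - i + (t0.val - c), hlt⟩ = 0
        unfold bfam
        by_cases ht : t.val < c
        · rw [if_pos ht]
          show g t * 0 = 0
          rw [mul_zero]
        · rw [if_neg ht]
          show g t * (if 2 * c - i + (t0.val - c) + 1 = 2 * c - i + (t.val - c) + 1
            then 1 else 0) = 0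
          rw [if_neg (by intro h'; apply hne; apply Fin.ext; omega), mul_zero]
      · intro h'; exact absurd ht0 h'
    rw [← h2, hg]; rfl

theorem Nfil_eq_span (i : ℕ) (hi : i ≤ 2 * c) :
    Nfil c k i = Submodule.span k (Set.range (bfam c k i)) := by
  apply le_antisymm
  · unfold Nfil
    rw [Submodule.span_le]
    rintro _ (⟨n, hn, rfl⟩ | ⟨n, hn, rfl⟩)
    · have h1 := hn.1
      have h2 := hn.2
      simp only [le_min_iff] at h2
      apply Submodule.subset_span
      refine ⟨⟨n - 1, by omega⟩, ?_⟩
      unfold bfam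
      rw [if_pos (by show n - 1 < c; omega)]
      show Y c k (n - 1 + 1) = Y c k n
      rw [Nat.sub_add_cancel h1]
    · have h1 := hn.1
      have h2 := hn.2
      apply Submodule.subset_span
      refine ⟨⟨c + (n - (2 * c - i) - 1), by omega⟩, ?_⟩
      unfold bfam
      rw [if_neg (by show ¬ (c + (n - (2 * c - i) - 1) < c); omega)]
      show X c k (2 * c - i + (c + (n - (2 * c - i) - 1) - c) + 1) = X c k n
      congr 1
      omega
  · rw [Submodule.span_le]
    rintro _ ⟨t, rfl⟩
    have ht := t.2
    unfold bfam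
    split_ifs with h
    · apply Submodule.subset_span
      left
      exact ⟨t.val + 1, ⟨by omega, by simp only [le_min_iff]; omega⟩, rfl⟩
    · apply Submodule.subset_span
      right
      exact ⟨_, ⟨by omega, by omega⟩, rfl⟩

/-- Claim 1: `dim N_i = i`. -/
theorem finrank_Nfil (i : ℕ) (hi : i ≤ 2 * c) : Module.finrank k (Nfil c k i) = i := by
  rw [Nfil_eq_span c k i hi, finrank_span_eq_card (bfam_li c k i hi)]
  simp

end Groth.Agent.H9GcNil
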