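import Mathlib
import Groth.Agent.Lib.helper9.H9_Ischebeck

/-! Dévissage for half-exact linear functors killing the residue field. -/

namespace Groth.Agent.H9HalfExact

open CategoryTheory CategoryTheory.Limits
open scoped Pointwise

universe u

theorem main {B A : Type u} [CommRing B] [CommRing A]
    [IsNoetherianRing B] [IsLocalRing B] [IsNoetherianRing A] [IsLocalRing A] [Algebra B A]
    [IsLocalHom (algebraMap B A)] (T : ModuleCat.{u} B ⥤ ModuleCat.{u} A) [T.Additive]
    (hlin : ∀ (N : ModuleCat.{u} B) (b : B),
      T.map (ModuleCat.ofHom (b • (LinearMap.id : N →ₗ[B] N))) =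
        ModuleCat.ofHom (algebraMap B A b • (LinearMap.id : T.obj N →ₗ[A] T.obj N)))
    (hfin : ∀ N : ModuleCat.{u} B, Module.Finite B N → Module.Finite A (T.obj N))
    (hex : ∀ S : ShortComplex (ModuleCat.{u} B), S.ShortExact → Module.Finite B S.X₁ →
      Module.Finite B S.X₂ → Module.Finite B S.X₃ → (S.map T).Exact)
    (h0 : IsZero (T.obj (ModuleCat.of B (B ⧸ IsLocalRing.maximalIdeal B))))
    (N : ModuleCat.{u} B) [Module.Finite B N] : IsZero (T.obj N) := by
  have hzero : ∀ (X : Type u) [AddCommGroup X] [Module B X] [Subsingleton X],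
      IsZero (T.obj (ModuleCat.of B X)) := by
    intro X _ _ _
    rw [IsZero.iff_id_eq_zero, ← T.map_id]
    have h1 : 𝟙 (ModuleCat.of B X) = 0 := by
      refine ModuleCat.hom_ext (LinearMap.ext fun y => ?_)
      exact Subsingleton.elim _ _
    rw [h1, T.map_zero]
  have main : ∀ (r : ℕ) (X : Type u) [AddCommGroup X] [Module B X] [Module.Finite B X],
      Module.supportDim B X < (r : WithBot ℕ∞) → IsZero (T.obj (ModuleCat.of B X)) := by
    intro r
    induction r with
    | zero =>
      intro X _ _ _ hlt
      have hbot : Module.supportDim B X = ⊥ := by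
        have h0 : ((0 : ℕ) : WithBot ℕ∞) = ((⊥ : ℕ∞) : WithBot ℕ∞) := by simp
        rw [h0] at hlt
        exact WithBot.lt_coe_bot.mp hlt
      haveI := (Module.supportDim_eq_bot_iff_subsingleton B X).mp hbot
      exact hzero X
    | succ r ih =>
      intro X _ _ hX
      induction hX using IsNoetherianRing.induction_on_isQuotientEquivQuotientPrime B with
      | subsingleton X =>
        intro _
        exact hzero X
      | quotient X p f =>
        intro hlt
        refine IsZero.of_iso ?_ (T.mapIso f.toModuleIso)
        rw [Module.supportDim_eq_of_equiv f] at hlt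
        by_cases hp : p.asIdeal = IsLocalRing.maximalIdeal B
        · rw [hp]
          exact h0
        · have hle : p.asIdeal ≤ IsLocalRing.maximalIdeal B :=
            IsLocalRing.le_maximalIdeal p.2.ne_top
          obtain ⟨x, hxm, hxp⟩ : ∃ x ∈ IsLocalRing.maximalIdeal B, x ∉ p.asIdeal := by
            by_contra hcon
            push Not at hcon
            exact hp (le_antisymm hle hcon)
          have hreg : IsSMulRegular (B ⧸ p.asIdeal) x := by
            intro y y' h
            have h' : (Ideal.Quotient.mk p.asIdeal x) * y =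
                (Ideal.Quotient.mk p.asIdeal x) * y' := by
              simpa [Algebra.smul_def] using h
            refine mul_left_cancel₀ ?_ h'
            intro h0
            exact hxp (Ideal.Quotient.eq_zero_iff_mem.mp h0)
          have hdim := Module.supportDim_quotSMulTop_succ_eq_supportDim hreg hxm
          have hlt' : Module.supportDim B (QuotSMulTop x (B ⧸ p.asIdeal)) <
              (r : WithBot ℕ∞) := by
            refine lt_of_not_ge (fun h => ?_)
            have h2 := add_le_add h (le_refl (1 : WithBot ℕ∞))
            rw [hdim] at h2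
            have h3 : ((r + 1 : ℕ) : WithBot ℕ∞) = (r : WithBot ℕ∞) + 1 := by push_cast; rfl
            rw [h3] at hlt
            exact absurd h2 (not_le.mpr hlt)
          have hQ := ih (QuotSMulTop x (B ⧸ p.asIdeal)) hlt'
          obtain ⟨w, hmono, hepi, hex'⟩ := H9TorShift.ses_of_exact B
            (LinearMap.lsmul B (B ⧸ p.asIdeal) x)
            (x • (⊤ : Submodule B (B ⧸ p.asIdeal))).mkQ hreg (Submodule.mkQ_surjective _)
            (H9ExtReg.exact_lsmul_mkQ B _ x)
          have hS : (ShortComplex.mk (ModuleCat.ofHom (LinearMap.lsmul B (B ⧸ p.asIdeal) x))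
              (ModuleCat.ofHom (x • (⊤ : Submodule B (B ⧸ p.asIdeal))).mkQ) w).ShortExact :=
            { exact := hex', mono_f := hmono, epi_g := hepi }
          have hE := hex _ hS (inferInstanceAs (Module.Finite B (B ⧸ p.asIdeal)))
            (inferInstanceAs (Module.Finite B (B ⧸ p.asIdeal)))
            (inferInstanceAs (Module.Finite B (QuotSMulTop x (B ⧸ p.asIdeal))))
          have hg0 : T.map (ModuleCat.ofHom (x • (⊤ : Submodule B (B ⧸ p.asIdeal))).mkQ) = 0 :=
            hQ.eq_of_tgt _ _
          have hepi' : Epi (T.map (ModuleCat.ofHom (LinearMap.lsmul B (B ⧸ p.asIdeal) x))) :=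
            hE.epi_f hg0
          have hf' : T.map (ModuleCat.ofHom (LinearMap.lsmul B (B ⧸ p.asIdeal) x)) =
              ModuleCat.ofHom (algebraMap B A x • (LinearMap.id :
                T.obj (ModuleCat.of B (B ⧸ p.asIdeal)) →ₗ[A] T.obj (ModuleCat.of B (B ⧸ p.asIdeal)))) :=
            hlin (ModuleCat.of B (B ⧸ p.asIdeal)) x
          rw [hf'] at hepi'
          have hsurj := (ModuleCat.epi_iff_surjective _).mp hepi'
          have hxA : algebraMap B A x ∈ IsLocalRing.maximalIdeal A := by
            rw [IsLocalRing.mem_maximalIdeal, mem_nonunits_iff]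
            intro hu
            exact (IsLocalRing.mem_maximalIdeal x).mp hxm (IsUnit.of_map (algebraMap B A) x hu)
          haveI : Module.Finite A (T.obj (ModuleCat.of B (B ⧸ p.asIdeal))) :=
            hfin (ModuleCat.of B (B ⧸ p.asIdeal))
              (inferInstanceAs (Module.Finite B (B ⧸ p.asIdeal)))
          have htop : (⊤ : Submodule A (T.obj (ModuleCat.of B (B ⧸ p.asIdeal)))) = ⊥ := by
            apply Submodule.eq_bot_of_le_smul_of_le_jacobson_bot (IsLocalRing.maximalIdeal A) ⊤
              Module.Finite.fg_top
            · intro y _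
              obtain ⟨z, rfl⟩ := hsurj y
              exact Submodule.smul_mem_smul hxA Submodule.mem_top
            · exact IsLocalRing.maximalIdeal_le_jacobson ⊥
          haveI : Subsingleton (T.obj (ModuleCat.of B (B ⧸ p.asIdeal))) := by
            refine ⟨fun a b => ?_⟩
            have key : ∀ y : T.obj (ModuleCat.of B (B ⧸ p.asIdeal)), y = 0 := by
              intro y
              have hy : y ∈ (⊤ : Submodule A (T.obj (ModuleCat.of B (B ⧸ p.asIdeal)))) :=
                Submodule.mem_top
              rw [htop] at hy
              exact (Submodule.mem_bot A).mp hy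
            rw [key a, key b]
          exact ModuleCat.isZero_of_subsingleton _
      | exact X₁ X₂ X₃ f g hf hg hfg h₁ h₃ =>
        intro hlt
        have z₁ := h₁ (lt_of_le_of_lt (Module.supportDim_le_of_injective f hf) hlt)
        have z₃ := h₃ (lt_of_le_of_lt (Module.supportDim_le_of_surjective g hg) hlt)
        obtain ⟨w, hmono, hepi, hex'⟩ := H9TorShift.ses_of_exact B f g hf hg hfg
        have hS : (ShortComplex.mk (ModuleCat.ofHom f) (ModuleCat.ofHom g) w).ShortExact :=
          { exact := hex', mono_f := hmono, epi_g := hepi }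
        have hE := hex _ hS (inferInstanceAs (Module.Finite B X₁))
          (inferInstanceAs (Module.Finite B X₂)) (inferInstanceAs (Module.Finite B X₃))
        exact hE.isZero_X₂ (z₁.eq_of_src _ _) (z₃.eq_of_tgt _ _)
  obtain ⟨r, hr⟩ := H9Ischebeck.exists_nat_supportDim_lt B N
  exact main r N hr

end Groth.Agent.H9HalfExact
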