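import Mathlib
import Groth.Prelude.Def_HopfRep
import Groth.Prelude.Def_Hoch
import Groth.Agent.Lib.helper9.H9_ComodConv
import Groth.Agent.Lib.helper9.H9_ComodFix
import Groth.Agent.Lib.helper9.H9_TensorDual

set_option autoImplicit false
set_option linter.unusedSectionVars false
universe u v w
open scoped TensorProduct

/-!
Integrals on commutative Hopf algebras and complete reducibility (Maschke's theorem for comodules).
-/

namespace H9_Integral

open H9_ComodMod H9_TensorDual

variable {k : Type u} [Field k] {A : Type v} [CommRing A] [HopfAlgebra k A]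

/-- the pairing `β (b ⊗ a) = α (S b * a)` -/
noncomputable def pair (α : A →ₗ[k] k) : A ⊗[k] A →ₗ[k] k :=
  α ∘ₗ LinearMap.mul' k A ∘ₗ (HopfAlgebra.antipode k (A := A)).rTensor A

theorem pair_tmul (α : A →ₗ[k] k) (b a : A) :
    pair α (b ⊗ₜ[k] a) = α (HopfAlgebra.antipode k b * a) := by
  simp [pair]

theorem pair_mul_right (α : A →ₗ[k] k) (y : A ⊗[k] A) (a : A) :
    pair α (y * ((1 : A) ⊗ₜ[k] a)) =
      α (LinearMap.mul' k A ((HopfAlgebra.antipode k (A := A)).rTensor A y) * a) := by
  induction y using TensorProduct.induction_on with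
  | zero => simp
  | tmul p q =>
    rw [Algebra.TensorProduct.tmul_mul_tmul, mul_one, pair_tmul, LinearMap.rTensor_tmul,
      LinearMap.mul'_apply, mul_assoc]
  | add x y hx hy => rw [add_mul, map_add, hx, hy, map_add, map_add, add_mul, map_add]

theorem pair_comul_mul (α : A →ₗ[k] k) (b a : A) :
    pair α (Coalgebra.comul (R := k) b * ((1 : A) ⊗ₜ[k] a)) =
      Coalgebra.counit (R := k) b * α a := by
  rw [pair_mul_right, HopfAlgebra.mul_antipode_rTensor_comul_apply, Algebra.algebraMap_eq_smul_one,
    smul_mul_assoc, one_mul, map_smul, smul_eq_mul]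

/-- the map `b ⊗ a ↦ Δ b * (1 ⊗ a)` -/
noncomputable def Om : A ⊗[k] A →ₗ[k] A ⊗[k] A :=
  LinearMap.mul' k (A ⊗[k] A) ∘ₗ
    TensorProduct.map (Coalgebra.comul (R := k) (A := A)) (TensorProduct.mk k A A 1)

theorem Om_tmul (b a : A) :
    Om (k := k) (b ⊗ₜ[k] a) = Coalgebra.comul (R := k) b * ((1 : A) ⊗ₜ[k] a) := by
  simp [Om]

theorem Om_aux (t' : A ⊗[k] A) (w q : A) :
    (LinearMap.mulRight k q ∘ₗ LinearMap.mul' k A ∘ₗ
        (HopfAlgebra.antipode k (A := A)).lTensor A).lTensor A
      (TensorProduct.assoc k A A A (t' ⊗ₜ[k] w)) =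
    t' * ((1 : A) ⊗ₜ[k] (HopfAlgebra.antipode k w * q)) := by
  induction t' using TensorProduct.induction_on with
  | zero => simp
  | tmul u1 u2 =>
    rw [TensorProduct.assoc_tmul, LinearMap.lTensor_tmul, Algebra.TensorProduct.tmul_mul_tmul,
      mul_one]
    simp only [LinearMap.comp_apply, LinearMap.lTensor_tmul, LinearMap.mul'_apply,
      LinearMap.mulRight_apply, mul_assoc]
  | add x y hx hy =>
    rw [TensorProduct.add_tmul, map_add, map_add, hx, hy, add_mul]

theorem Om_aux2 (t : A ⊗[k] A) (q : A) :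
    Om (k := k) ((LinearMap.mulRight k q ∘ₗ HopfAlgebra.antipode k (A := A)).lTensor A t) =
    (LinearMap.mulRight k q ∘ₗ LinearMap.mul' k A ∘ₗ
        (HopfAlgebra.antipode k (A := A)).lTensor A).lTensor A
      (TensorProduct.assoc k A A A ((Coalgebra.comul (R := k) (A := A)).rTensor A t)) := by
  induction t using TensorProduct.induction_on with
  | zero => simp
  | tmul u w =>
    rw [LinearMap.lTensor_tmul, Om_tmul, LinearMap.rTensor_tmul, Om_aux]
    rfl
  | add x y hx hy => simp only [map_add, hx, hy]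

theorem Om_surjective : Function.Surjective (Om (k := k) (A := A)) := by
  intro x
  induction x using TensorProduct.induction_on with
  | zero => exact ⟨0, map_zero _⟩
  | tmul p q =>
    refine ⟨(LinearMap.mulRight k q ∘ₗ HopfAlgebra.antipode k (A := A)).lTensor A
      (Coalgebra.comul (R := k) p), ?_⟩
    rw [Om_aux2, Coalgebra.coassoc_apply, ← LinearMap.lTensor_comp_apply]
    have h : (LinearMap.mulRight k q ∘ₗ LinearMap.mul' k A ∘ₗ
        (HopfAlgebra.antipode k (A := A)).lTensor A) ∘ₗ Coalgebra.comul (R := k) (A := A) =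
        (LinearMap.mulRight k q ∘ₗ Algebra.linearMap k A) ∘ₗ Coalgebra.counit (R := k) (A := A) := by
      rw [LinearMap.comp_assoc, LinearMap.comp_assoc, HopfAlgebra.mul_antipode_lTensor_comul,
        LinearMap.comp_assoc]
    rw [h, LinearMap.lTensor_comp_apply, Coalgebra.lTensor_counit_comul, LinearMap.lTensor_tmul]
    simp
  | add x y hx hy =>
    obtain ⟨x', rfl⟩ := hx
    obtain ⟨y', rfl⟩ := hy
    exact ⟨x' + y', map_add _ _ _⟩

/-- two functionals on `A ⊗ A` agreeing on all `Δ b * (1 ⊗ a)` are equal -/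
theorem ext_comul_mul {N : Type*} [AddCommGroup N] [Module k N] (L R : A ⊗[k] A →ₗ[k] N)
    (h : ∀ b a : A, L (Coalgebra.comul (R := k) b * ((1 : A) ⊗ₜ[k] a)) =
      R (Coalgebra.comul (R := k) b * ((1 : A) ⊗ₜ[k] a))) : L = R := by
  apply LinearMap.ext
  intro x
  obtain ⟨y, rfl⟩ := Om_surjective (k := k) (A := A) x
  induction y using TensorProduct.induction_on with
  | zero => simp
  | tmul b a => rw [Om_tmul]; exact h b a
  | add x y hx hy => rw [map_add, map_add, map_add, hx, hy]


/-! ### The two bilinear forms -/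

/-- `Λ (b ⊗ a) = Σ f(b₁) β(b₂ ⊗ a)` -/
noncomputable def Lam (f : Module.Dual k A) (α : A →ₗ[k] k) : A ⊗[k] A →ₗ[k] k :=
  (TensorProduct.lid k k).toLinearMap ∘ₗ TensorProduct.map f (pair α) ∘ₗ
    (TensorProduct.assoc k A A A).toLinearMap ∘ₗ (Coalgebra.comul (R := k) (A := A)).rTensor A

theorem Lam_tmul (f : Module.Dual k A) (α : A →ₗ[k] k) (b a : A) :
    Lam f α (b ⊗ₜ[k] a) = TensorProduct.lid k k (TensorProduct.map f (pair α)
      (TensorProduct.assoc k A A A (Coalgebra.comul (R := k) b ⊗ₜ[k] a))) := rfl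

/-- `Ρ (b ⊗ a) = β (b ⊗ T_f a)` -/
noncomputable def Rho (f : Module.Dual k A) (α : A →ₗ[k] k) : A ⊗[k] A →ₗ[k] k :=
  pair α ∘ₗ (T (C := A) A f).lTensor A

theorem Rho_tmul (f : Module.Dual k A) (α : A →ₗ[k] k) (b a : A) :
    Rho f α (b ⊗ₜ[k] a) = pair α (b ⊗ₜ[k] T (C := A) A f a) := rfl

theorem lid_map_counit_comul (f : Module.Dual k A) (c : k) (b : A) :
    TensorProduct.lid k k (TensorProduct.map f (c • Coalgebra.counit (R := k) (A := A))
      (Coalgebra.comul (R := k) b)) = c * f b := by
  have h1 : TensorProduct.map f (c • Coalgebra.counit (R := k) (A := A)) =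
      TensorProduct.map f (c • LinearMap.id) ∘ₗ (Coalgebra.counit (R := k) (A := A)).lTensor A := by
    apply TensorProduct.ext'
    intro x y
    simp
  rw [h1, LinearMap.comp_apply, Coalgebra.lTensor_counit_comul]
  simp [mul_comm]

theorem lid_map_counit_comul' (f : Module.Dual k A) (b : A) :
    TensorProduct.lid k k (TensorProduct.map (Coalgebra.counit (R := k) (A := A)) f
      (Coalgebra.comul (R := k) b)) = f b := by
  have h1 : TensorProduct.map (Coalgebra.counit (R := k) (A := A)) f =
      TensorProduct.map LinearMap.id f ∘ₗ (Coalgebra.counit (R := k) (A := A)).rTensor A := by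
    apply TensorProduct.ext'
    intro x y
    simp
  rw [h1, LinearMap.comp_apply, Coalgebra.rTensor_counit_comul]
  simp

theorem Lam_aux (f : Module.Dual k A) (α : A →ₗ[k] k) (t : A ⊗[k] A) (q a : A) :
    TensorProduct.lid k k (TensorProduct.map f (pair α)
      (TensorProduct.assoc k A A A (t ⊗ₜ[k] (q * a)))) =
    TensorProduct.lid k k (TensorProduct.map f (pair α ∘ₗ LinearMap.mulRight k ((1 : A) ⊗ₜ[k] a))
      (TensorProduct.assoc k A A A (t ⊗ₜ[k] q))) := by
  induction t using TensorProduct.induction_on with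
  | zero => simp
  | tmul u w =>
    simp only [TensorProduct.assoc_tmul, TensorProduct.map_tmul, LinearMap.comp_apply,
      LinearMap.mulRight_apply, Algebra.TensorProduct.tmul_mul_tmul, mul_one]
  | add x y hx hy =>
    rw [TensorProduct.add_tmul, map_add, map_add, map_add, hx, hy, TensorProduct.add_tmul, map_add,
      map_add, map_add]

theorem Lam_mul_right (f : Module.Dual k A) (α : A →ₗ[k] k) (y : A ⊗[k] A) (a : A) :
    Lam f α (y * ((1 : A) ⊗ₜ[k] a)) =
      TensorProduct.lid k k (TensorProduct.map f (pair α ∘ₗ LinearMap.mulRight k ((1 : A) ⊗ₜ[k] a))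
        (TensorProduct.assoc k A A A ((Coalgebra.comul (R := k) (A := A)).rTensor A y))) := by
  induction y using TensorProduct.induction_on with
  | zero => simp
  | tmul p q =>
    rw [Algebra.TensorProduct.tmul_mul_tmul, mul_one, Lam_tmul, Lam_aux, LinearMap.rTensor_tmul]
  | add x y hx hy => rw [add_mul, map_add, hx, hy, map_add, map_add, map_add, map_add]

theorem Lam_comul_mul (f : Module.Dual k A) (α : A →ₗ[k] k) (b a : A) :
    Lam f α (Coalgebra.comul (R := k) b * ((1 : A) ⊗ₜ[k] a)) = f b * α a := by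
  rw [Lam_mul_right, Coalgebra.coassoc_apply]
  have h : TensorProduct.map f (pair α ∘ₗ LinearMap.mulRight k ((1 : A) ⊗ₜ[k] a)) ∘ₗ
      (Coalgebra.comul (R := k) (A := A)).lTensor A =
      TensorProduct.map f (α a • Coalgebra.counit (R := k) (A := A)) := by
    apply TensorProduct.ext'
    intro x w
    simp only [LinearMap.comp_apply, LinearMap.lTensor_tmul, TensorProduct.map_tmul,
      LinearMap.mulRight_apply, LinearMap.smul_apply, smul_eq_mul]
    rw [pair_comul_mul, mul_comm]
  rw [← LinearMap.comp_apply, h, lid_map_counit_comul, mul_comm]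


theorem T_regular_mul (f : Module.Dual k A) (w a : A) :
    T (C := A) A f (w * a) =
      contr f (Coalgebra.comul (R := k) a * Coalgebra.comul (R := k) w) := by
  rw [T_eq_contr]
  show contr f (Coalgebra.comul (R := k) (w * a)) = _
  rw [Bialgebra.comul_mul, mul_comm]

theorem Rho_mul_right (f : Module.Dual k A) (y : A ⊗[k] A) (a : A) :
    (T (C := A) A f).lTensor A (y * ((1 : A) ⊗ₜ[k] a)) =
      (contr f ∘ₗ LinearMap.mul k (A ⊗[k] A) (Coalgebra.comul (R := k) a)).lTensor A
        ((Coalgebra.comul (R := k) (A := A)).lTensor A y) := by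
  induction y using TensorProduct.induction_on with
  | zero => simp
  | tmul p w =>
    rw [Algebra.TensorProduct.tmul_mul_tmul, mul_one, LinearMap.lTensor_tmul, T_regular_mul,
      LinearMap.lTensor_tmul, LinearMap.lTensor_tmul]
    rfl
  | add x y hx hy => rw [add_mul, map_add, hx, hy, map_add, map_add]

theorem pair_aux (f : Module.Dual k A) (α : A →ₗ[k] k) (t' : A ⊗[k] A) (z p q : A) :
    pair α ((contr f ∘ₗ LinearMap.mul k (A ⊗[k] A) (p ⊗ₜ[k] q)).lTensor A
      (TensorProduct.assoc k A A A (t' ⊗ₜ[k] z))) =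
    f (q * z) * pair α (t' * ((1 : A) ⊗ₜ[k] p)) := by
  induction t' using TensorProduct.induction_on with
  | zero => simp
  | tmul u1 u2 =>
    rw [TensorProduct.assoc_tmul, LinearMap.lTensor_tmul, LinearMap.comp_apply,
      LinearMap.mul_apply', Algebra.TensorProduct.tmul_mul_tmul, contr_tmul,
      Algebra.TensorProduct.tmul_mul_tmul, mul_one, pair_tmul, pair_tmul, mul_smul_comm, map_smul,
      smul_eq_mul, mul_comm p u2]
  | add x y hx hy =>
    rw [TensorProduct.add_tmul, map_add, map_add, map_add, hx, hy, add_mul, map_add, mul_add]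

theorem alpha_contr (α : A →ₗ[k] k) (g : Module.Dual k A) (s : A ⊗[k] A) :
    α (contr g s) = TensorProduct.lid k k (TensorProduct.map α g s) := by
  induction s using TensorProduct.induction_on with
  | zero => simp
  | tmul p q => simp [contr_tmul, mul_comm]
  | add x y hx hy => simp only [map_add, hx, hy]

theorem pair_aux2 (f : Module.Dual k A) (α : A →ₗ[k] k) (s : A ⊗[k] A) (u z : A) :
    pair α ((contr f ∘ₗ LinearMap.mul k (A ⊗[k] A) s).lTensor A
      (TensorProduct.assoc k A A A (Coalgebra.comul (R := k) u ⊗ₜ[k] z))) =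
    Coalgebra.counit (R := k) u *
      TensorProduct.lid k k (TensorProduct.map α (f ∘ₗ LinearMap.mulRight k z) s) := by
  induction s using TensorProduct.induction_on with
  | zero => simp
  | tmul p q =>
    rw [pair_aux, pair_comul_mul, TensorProduct.map_tmul, TensorProduct.lid_tmul,
      LinearMap.comp_apply, LinearMap.mulRight_apply, smul_eq_mul]
    ring
  | add x y hx hy =>
    rw [map_add, LinearMap.comp_add, LinearMap.lTensor_add, LinearMap.add_apply, map_add, hx, hy,
      map_add, map_add, mul_add]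

theorem pair_aux3 (f : Module.Dual k A) (α : A →ₗ[k] k)
    (hinv : ∀ (g : Module.Dual k A) (a : A), α (T (C := A) A g a) = g 1 * α a) (a u z : A) :
    pair α ((contr f ∘ₗ LinearMap.mul k (A ⊗[k] A) (Coalgebra.comul (R := k) a)).lTensor A
      (TensorProduct.assoc k A A A (Coalgebra.comul (R := k) u ⊗ₜ[k] z))) =
    Coalgebra.counit (R := k) u * (α a * f z) := by
  rw [pair_aux2, ← alpha_contr]
  have : contr (f ∘ₗ LinearMap.mulRight k z) (Coalgebra.comul (R := k) a) =
      T (C := A) A (f ∘ₗ LinearMap.mulRight k z) a := rfl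
  rw [this, hinv, LinearMap.comp_apply, LinearMap.mulRight_apply, one_mul, mul_comm (f z)]

theorem pair_aux4 (f : Module.Dual k A) (α : A →ₗ[k] k)
    (hinv : ∀ (g : Module.Dual k A) (a : A), α (T (C := A) A g a) = g 1 * α a) (a : A)
    (t : A ⊗[k] A) :
    pair α ((contr f ∘ₗ LinearMap.mul k (A ⊗[k] A) (Coalgebra.comul (R := k) a)).lTensor A
      (TensorProduct.assoc k A A A ((Coalgebra.comul (R := k) (A := A)).rTensor A t))) =
    TensorProduct.lid k k (TensorProduct.map (Coalgebra.counit (R := k) (A := A)) (α a • f) t) := by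
  induction t using TensorProduct.induction_on with
  | zero => simp
  | tmul u z =>
    rw [LinearMap.rTensor_tmul, pair_aux3 f α hinv, TensorProduct.map_tmul, TensorProduct.lid_tmul,
      LinearMap.smul_apply, smul_eq_mul, smul_eq_mul]
  | add x y hx hy => simp only [map_add, hx, hy]

theorem Rho_comul_mul (f : Module.Dual k A) (α : A →ₗ[k] k)
    (hinv : ∀ (g : Module.Dual k A) (a : A), α (T (C := A) A g a) = g 1 * α a) (b a : A) :
    Rho f α (Coalgebra.comul (R := k) b * ((1 : A) ⊗ₜ[k] a)) = f b * α a := by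
  show pair α ((T (C := A) A f).lTensor A (Coalgebra.comul (R := k) b * ((1 : A) ⊗ₜ[k] a))) = _
  rw [Rho_mul_right, ← Coalgebra.coassoc_apply, pair_aux4 f α hinv, lid_map_counit_comul',
    LinearMap.smul_apply, smul_eq_mul, mul_comm]

/-- the adjunction identity for the pairing -/
theorem Lam_eq_Rho (f : Module.Dual k A) (α : A →ₗ[k] k)
    (hinv : ∀ (g : Module.Dual k A) (a : A), α (T (C := A) A g a) = g 1 * α a) :
    Lam f α = Rho f α := by
  apply ext_comul_mul
  intro b a
  rw [Lam_comul_mul, Rho_comul_mul f α hinv]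


/-! ### The retraction of the coaction -/

/-- `phi a = (b ↦ β (b ⊗ a))` -/
noncomputable def phi (α : A →ₗ[k] k) : A →ₗ[k] Module.Dual k A :=
  LinearMap.compr₂ (TensorProduct.mk k A A).flip (pair α)

theorem phi_apply (α : A →ₗ[k] k) (a b : A) : phi α a b = pair α (b ⊗ₜ[k] a) := rfl

theorem conv_phi_aux (f : Module.Dual k A) (α : A →ₗ[k] k) (a : A) (t : A ⊗[k] A) :
    TensorProduct.lid k k (TensorProduct.map f (phi α a) t) =
      TensorProduct.lid k k (TensorProduct.map f (pair α)
        (TensorProduct.assoc k A A A (t ⊗ₜ[k] a))) := by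
  induction t using TensorProduct.induction_on with
  | zero => simp
  | tmul u w => simp [phi_apply]
  | add x y hx hy => rw [map_add, map_add, hx, hy, TensorProduct.add_tmul, map_add, map_add, map_add]

theorem conv_phi (f : Module.Dual k A) (α : A →ₗ[k] k)
    (hinv : ∀ (g : Module.Dual k A) (a : A), α (T (C := A) A g a) = g 1 * α a) (a : A) :
    conv f (phi α a) = phi α (T (C := A) A f a) := by
  ext b
  rw [conv_apply, conv_phi_aux, ← Lam_tmul, Lam_eq_Rho f α hinv, Rho_tmul, phi_apply]

theorem conv_eq_comp_T (g f : Module.Dual k A) : conv g f = g ∘ₗ T (C := A) A f := by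
  ext a
  rw [conv_apply, LinearMap.comp_apply, T_eq_contr, alpha_contr]
  rfl

variable {V : Type w} [AddCommGroup V] [Module k V] [HopfRep.Comod k A V]

/-- the coaction intertwines `T f` on `V` with `id ⊗ T f` -/
theorem coact_T (f : Module.Dual k A) (v : V) :
    HopfRep.Comod.coact (k := k) (A := A) (T (C := A) V f v) =
      (T (C := A) A f).lTensor V (HopfRep.Comod.coact (k := k) (A := A) v) := by
  rw [coact_eq_iff_T]
  intro g
  rw [T_T, contr_lTensor, ← T_eq_contr, conv_eq_comp_T]

variable (V) in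
/-- the retraction `r (v ⊗ a) = Σ v₀ α(S(v₁) a)` -/
noncomputable def retr (α : A →ₗ[k] k) : V ⊗[k] A →ₗ[k] V :=
  contr (pair α) ∘ₗ (TensorProduct.assoc k V A A).toLinearMap ∘ₗ
    (HopfRep.Comod.coact (k := k) (A := A) (V := V)).rTensor A

theorem retr_aux (α : A →ₗ[k] k) (y : V ⊗[k] A) (a : A) :
    contr (pair α) (TensorProduct.assoc k V A A (y ⊗ₜ[k] a)) = contr (phi α a) y := by
  induction y using TensorProduct.induction_on with
  | zero => simp
  | tmul v b => simp [contr_tmul, phi_apply]
  | add x y hx hy => rw [TensorProduct.add_tmul, map_add, map_add, hx, hy, map_add]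

theorem retr_tmul (α : A →ₗ[k] k) (v : V) (a : A) :
    retr V α (v ⊗ₜ[k] a) = T (C := A) V (phi α a) v := by
  show contr (pair α) (TensorProduct.assoc k V A A
    (HopfRep.Comod.coact (k := k) (A := A) v ⊗ₜ[k] a)) = _
  rw [retr_aux, T_eq_contr]

theorem pair_comp_comul (α : A →ₗ[k] k) (h1 : α 1 = 1) :
    pair α ∘ₗ Coalgebra.comul (R := k) (A := A) = Coalgebra.counit (R := k) (A := A) := by
  ext b
  have := pair_comul_mul α b 1
  rw [show ((1 : A) ⊗ₜ[k] (1 : A)) = 1 from rfl, mul_one, h1, mul_one] at this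
  exact this

theorem retr_coact (α : A →ₗ[k] k) (h1 : α 1 = 1) (v : V) :
    retr V α (HopfRep.Comod.coact (k := k) (A := A) v) = v := by
  show contr (pair α) (TensorProduct.assoc k V A A
    ((HopfRep.Comod.coact (k := k) (A := A) (V := V)).rTensor A
      (HopfRep.Comod.coact (k := k) (A := A) v))) = v
  have h2 := LinearMap.congr_fun (HopfRep.Comod.coassoc (k := k) (A := A) (V := V)) v
  simp only [LinearMap.comp_apply, LinearEquiv.coe_coe] at h2
  rw [h2, contr_lTensor, pair_comp_comul α h1, ← T_eq_contr, T_counit]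

theorem T_retr (f : Module.Dual k A) (α : A →ₗ[k] k)
    (hinv : ∀ (g : Module.Dual k A) (a : A), α (T (C := A) A g a) = g 1 * α a) (x : V ⊗[k] A) :
    T (C := A) V f (retr V α x) = retr V α ((T (C := A) A f).lTensor V x) := by
  induction x using TensorProduct.induction_on with
  | zero => simp
  | tmul v a => rw [retr_tmul, T_T, conv_phi f α hinv, LinearMap.lTensor_tmul, retr_tmul]
  | add x y hx hy => simp only [map_add, hx, hy]

/-- Maschke's theorem for comodules over a commutative Hopf algebra with a normalized integral -/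
theorem exists_compl (α : A →ₗ[k] k)
    (hinv : ∀ (g : Module.Dual k A) (a : A), α (T (C := A) A g a) = g 1 * α a) (h1 : α 1 = 1)
    (W : Submodule k V) (hW : HopfRep.IsSubcomod (k := k) (A := A) W) :
    ∃ W' : Submodule k V, HopfRep.IsSubcomod (k := k) (A := A) W' ∧ IsCompl W W' := by
  classical
  obtain ⟨C, hC⟩ := Submodule.exists_isCompl W
  let q : V →ₗ[k] V := W.subtype ∘ₗ Submodule.linearProjOfIsCompl W C hC
  have hq_mem : ∀ v, q v ∈ W := fun v => (Submodule.linearProjOfIsCompl W C hC v).2
  have hq_id : ∀ w ∈ W, q w = w := by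
    intro w hw
    show ((Submodule.linearProjOfIsCompl W C hC w : W) : V) = w
    have := Submodule.linearProjOfIsCompl_apply_left hC ⟨w, hw⟩
    rw [show Submodule.linearProjOfIsCompl W C hC w = ⟨w, hw⟩ from this]
  let P : V →ₗ[k] V := retr V α ∘ₗ q.rTensor A ∘ₗ HopfRep.Comod.coact (k := k) (A := A)
  have hWT := (isSubcomod_iff_T W).mp hW
  have hP_mem : ∀ v, P v ∈ W := by
    intro v
    have : ∀ x : V ⊗[k] A, retr V α (q.rTensor A x) ∈ W := by
      intro x
      induction x using TensorProduct.induction_on with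
      | zero => simp
      | tmul v' a =>
        rw [LinearMap.rTensor_tmul, retr_tmul]
        exact hWT _ _ (hq_mem v')
      | add x y hx hy =>
        rw [map_add, map_add]
        exact W.add_mem hx hy
    exact this _
  have hP_id : ∀ w ∈ W, P w = w := by
    intro w hw
    obtain ⟨y, hy⟩ := hW w hw
    show retr V α (q.rTensor A (HopfRep.Comod.coact (k := k) (A := A) w)) = w
    have e : q.rTensor A (HopfRep.Comod.coact (k := k) (A := A) w) =
        HopfRep.Comod.coact (k := k) (A := A) w := by
      rw [← hy, ← LinearMap.comp_apply, ← LinearMap.rTensor_comp]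
      congr 2
      ext w'
      exact hq_id _ w'.2
    rw [e, retr_coact α h1]
  have hP_hom : Hoch.IsComodHom A P := by
    rw [isComodHom_iff_T]
    intro f v
    show retr V α (q.rTensor A (HopfRep.Comod.coact (k := k) (A := A) (T (C := A) V f v))) =
      T (C := A) V f (retr V α (q.rTensor A (HopfRep.Comod.coact (k := k) (A := A) v)))
    have hcomm : ∀ x : V ⊗[k] A, q.rTensor A ((T (C := A) A f).lTensor V x) =
        (T (C := A) A f).lTensor V (q.rTensor A x) := fun x => by
      rw [← LinearMap.comp_apply, ← LinearMap.comp_apply, LinearMap.rTensor_comp_lTensor,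
        LinearMap.lTensor_comp_rTensor]
    rw [T_retr f α hinv, coact_T, hcomm]
  refine ⟨LinearMap.ker P, Groth.Agent.H4.H4_isSubcomod_ker P hP_hom, ?_⟩
  rw [isCompl_iff, disjoint_iff, codisjoint_iff]
  constructor
  · rw [eq_bot_iff]
    rintro x ⟨hx1, hx2⟩
    rw [Submodule.mem_bot, ← hP_id x hx1]
    exact hx2
  · rw [eq_top_iff]
    intro v _
    have : v = P v + (v - P v) := by abel
    rw [this]
    apply Submodule.add_mem_sup (hP_mem v)
    rw [LinearMap.mem_ker, map_sub, hP_id _ (hP_mem v), sub_self]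

end H9_Integral
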