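import Mathlib

set_option autoImplicit false
universe u v

/-!
Rational points of a reduced finitely generated algebra over an algebraically closed field
separate elements.
-/

namespace H9_Points

theorem eq_zero_of_forall_algHom {k : Type u} [Field k] [IsAlgClosed k] {A : Type v} [CommRing A]
    [Algebra k A] [Algebra.FiniteType k A] [IsReduced A] (a : A)
    (h : ∀ g : A →ₐ[k] k, g a = 0) : a = 0 := by
  haveI : IsJacobsonRing A := isJacobsonRing_of_finiteType (A := k) (B := A)
  have hJ : (⊥ : Ideal A).jacobson = ⊥ := by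
    rw [← Ideal.radical_eq_jacobson]
    exact nilradical_eq_zero A
  have ha : a ∈ (⊥ : Ideal A).jacobson := by
    rw [Ideal.jacobson, Ideal.mem_sInf]
    rintro m ⟨_, hm⟩
    haveI := hm
    letI := Ideal.Quotient.field m
    haveI : Algebra.FiniteType k (A ⧸ m) :=
      Algebra.FiniteType.of_surjective (Ideal.Quotient.mkₐ k m) (Ideal.Quotient.mkₐ_surjective k m)
    haveI := finite_of_finite_type_of_isJacobsonRing k (A ⧸ m)
    have hbij : Function.Bijective (algebraMap k (A ⧸ m)) :=
      IsAlgClosed.algebraMap_bijective_of_isIntegral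
    let e : k ≃ₐ[k] (A ⧸ m) := AlgEquiv.ofBijective (Algebra.ofId k _) hbij
    let g : A →ₐ[k] k := (e.symm : (A ⧸ m) →ₐ[k] k).comp (Ideal.Quotient.mkₐ k m)
    have h1 : e.symm (Ideal.Quotient.mk m a) = 0 := h g
    have h2 : Ideal.Quotient.mk m a = 0 := by
      have := congrArg e h1
      rwa [AlgEquiv.apply_symm_apply, map_zero] at this
    exact Ideal.Quotient.eq_zero_iff_mem.1 h2
  rw [hJ] at ha
  exact ha

end H9_Points
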