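import Mathlib
import Groth.Prelude.Def_HopfRep
import Groth.Prelude.Def_Hoch
import Groth.Prelude.Def_GLin
import Groth.Agent.Lib.helper9.H9_LinRed
import Groth.Agent.S19398

set_option autoImplicit false
set_option linter.unusedSectionVars false
universe u
open scoped TensorProduct

/-!
Reynolds operators for a linearly reductive group acting on a ring.
-/

namespace H9_Reynolds

variable {k : Type u} [Field k] {A : Type u} [CommRing A] [HopfAlgebra k A]
  {R : Type u} [CommRing R] [Algebra k R] [HopfRep.Comod k A R] [GLin.IsCoactAlg k A R]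

/-- multiplication by an invariant element is a comodule map -/
theorem isComodHom_mulLeft (a : R) (ha : a ∈ GLin.invariants k A R) :
    Hoch.IsComodHom A (LinearMap.mulLeft k a) := by
  unfold Hoch.IsComodHom
  ext r
  simp only [LinearMap.comp_apply, LinearMap.mulLeft_apply]
  rw [GLin.IsCoactAlg.coact_mul, (GLin.mem_invariants_iff k A R a).mp ha]
  generalize HopfRep.Comod.coact (k := k) (A := A) r = y
  induction y using TensorProduct.induction_on with
  | zero => simp
  | tmul x b => simp [Algebra.TensorProduct.tmul_mul_tmul]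
  | add x y hx hy => rw [mul_add, hx, hy, map_add]

/-- a Reynolds operator is linear over the invariants -/
theorem reynolds_mul (hG : HopfRep.IsLinearlyReductive k A)
    (E : R →ₗ[k] R) (h₁ : Hoch.IsComodHom A E) (h₂ : E ∘ₗ E = E)
    (h₃ : ∀ x : R, E x = x ↔ x ∈ GLin.invariants k A R)
    (a : R) (ha : a ∈ GLin.invariants k A R) (r : R) : E (a * r) = a * E r := by
  have := Groth.Agent.S19398.result k A hG R R E h₁ h₂ h₃ E h₁ h₂ h₃
    (LinearMap.mulLeft k a) (isComodHom_mulLeft a ha)
  have h2 := LinearMap.congr_fun this r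
  simpa only [LinearMap.comp_apply, LinearMap.mulLeft_apply] using h2

/-- a Reynolds operator preserves every subcomodule -/
theorem reynolds_mem (hG : HopfRep.IsLinearlyReductive k A)
    {V : Type u} [AddCommGroup V] [Module k V] [c : HopfRep.Comod k A V]
    (E : V →ₗ[k] V) (h₁ : Hoch.IsComodHom A E) (h₂ : E ∘ₗ E = E)
    (h₃ : ∀ x : V, E x = x ↔ x ∈ HopfRep.fixedPts k A V)
    (W : Submodule k V) (hW : HopfRep.IsSubcomod (k := k) (A := A) W) (w : V) (hw : w ∈ W) :
    E w ∈ W := by
  letI cW : HopfRep.Comod k A ↥W := ComodSub.Comod.restr c W hW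
  have hsub : Hoch.IsComodHom A W.subtype := ComodSub.isComodHom_subtype c W hW
  have hss : HopfRep.IsSemisimpleComod k A ↥W := H9_LinRed.isSemisimpleComod hG ↥W
  obtain ⟨EW, hEW₁, hEW₂, hEW₃⟩ := H9_LinRed.exists_reynolds (k := k) (A := A) (V := ↥W) hss
  have := Groth.Agent.S19398.result k A hG ↥W V EW hEW₁ hEW₂ hEW₃ E h₁ h₂ h₃ W.subtype hsub
  have h2 := LinearMap.congr_fun this ⟨w, hw⟩
  simp only [LinearMap.comp_apply, Submodule.subtype_apply] at h2
  rw [h2]
  exact (EW ⟨w, hw⟩).2

end H9_Reynolds
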