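import Mathlib
import Groth.Agent.Lib.helper9.H9_CotDer

/-!
# A finite locally free commutative Hopf algebra is étale iff its augmentation ideal is idempotent
-/

set_option autoImplicit false
universe u v w
open TensorProduct H9_Shear H9_CotDer

namespace H9_HopfEtale

variable (R : Type u) (A : Type v) [CommRing R] [CommRing A] [HopfAlgebra R A]

/-- the canonical projection `A → I/I²` -/
noncomputable def cπ : A →ₗ[R] (aug R A).Cotangent where
  toFun a := (aug R A).toCotangent (red (R := R) a)
  map_add' a b := by
    rw [← map_add]
    congr 1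
    apply Subtype.ext
    simp only [red_coe, map_add, Submodule.coe_add]
    ring
  map_smul' c a := by
    rw [RingHom.id_apply, ← LinearMap.map_smul_of_tower]
    congr 1
    apply Subtype.ext
    simp only [red_coe, map_smul, Submodule.coe_smul_of_tower, smul_sub]
    rw [Algebra.smul_def c (algebraMap R A (Coalgebra.counit (R := R) a)), ← map_mul,
      smul_eq_mul]

theorem cπ_I (x : aug R A) : cπ R A (x : A) = (aug R A).toCotangent x := by
  show (aug R A).toCotangent (red (R := R) (x : A)) = _
  congr 1
  apply Subtype.ext
  have hx : Coalgebra.counit (R := R) (x : A) = 0 := by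
    have := x.2
    rwa [RingHom.mem_ker, Bialgebra.counitAlgHom_apply] at this
  rw [red_coe, hx, map_zero, sub_zero]

theorem cπ_one : cπ R A 1 = 0 := by
  show (aug R A).toCotangent (red (R := R) (1 : A)) = 0
  have : red (R := R) (1 : A) = 0 := by
    apply Subtype.ext
    rw [red_coe, Bialgebra.counit_one, map_one, sub_self]
    rfl
  rw [this, map_zero]

theorem kaehler_subsingleton_of_cot [Subsingleton (aug R A).Cotangent] :
    Subsingleton Ω[A⁄R] := by
  obtain ⟨l, hl, -⟩ := existsUnique_l (cπ R A) (cπ_I R A) (cπ_one R A) (KaehlerDifferential.D R A)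
  have hl0 : l = 0 := LinearMap.ext fun y => by rw [Subsingleton.elim y 0, map_zero, map_zero]
  have hD : ∀ a : A, KaehlerDifferential.D R A a = 0 := by
    intro a
    have h1 := LinearMap.congr_fun hl a
    rw [hl0, LinearMap.zero_comp, utw_apply, LinearMap.lTensor_zero, LinearMap.zero_apply,
      map_zero] at h1
    exact h1.symm
  have htop : (⊤ : Submodule A Ω[A⁄R]) = ⊥ := by
    rw [← KaehlerDifferential.span_range_derivation, Submodule.span_eq_bot]
    rintro _ ⟨a, rfl⟩
    exact hD a
  exact (Submodule.subsingleton_iff A).mp (subsingleton_of_bot_eq_top htop.symm)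

theorem cot_subsingleton_of_kaehler [Subsingleton Ω[A⁄R]] :
    Subsingleton (aug R A).Cotangent := by
  let d' : Derivation R A (A ⊗[R] (aug R A).Cotangent) :=
    Derivation.mk' ((cπ R A).lTensor A ∘ₗ Coalgebra.comul (R := R) (A := A))
      (d_mul (cπ R A) (cπ_I R A) (cπ_one R A))
  have hd : ∀ a : A, (cπ R A).lTensor A (Coalgebra.comul (R := R) a) = 0 := by
    intro a
    have h1 : d'.liftKaehlerDifferential (KaehlerDifferential.D R A a) = d' a :=
      d'.liftKaehlerDifferential_comp_D a
    rw [Subsingleton.elim (KaehlerDifferential.D R A a) 0, map_zero] at h1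
    exact h1.symm
  have hπ : ∀ a : A, cπ R A a = 0 := by
    intro a
    have key : ∀ t : A ⊗[R] A, TensorProduct.lid R _
        ((Coalgebra.counit (R := R) (A := A)).rTensor _ ((cπ R A).lTensor A t)) =
        cπ R A (TensorProduct.lid R A ((Coalgebra.counit (R := R) (A := A)).rTensor A t)) := by
      intro t
      induction t using TensorProduct.induction_on with
      | zero => simp
      | add t t' h h' => simp only [map_add, h, h']
      | tmul x y => simp
    have h2 := key (Coalgebra.comul (R := R) a)
    rw [hd a, map_zero, map_zero, Coalgebra.rTensor_counit_comul, TensorProduct.lid_tmul,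
      one_smul] at h2
    exact h2.symm
  refine ⟨fun y y' => ?_⟩
  obtain ⟨a, rfl⟩ := π_surjective (cπ R A) (cπ_I R A) (cπ_one R A) y
  obtain ⟨a', rfl⟩ := π_surjective (cπ R A) (cπ_I R A) (cπ_one R A) y'
  rw [hπ a, hπ a']

theorem etale_iff [Module.Finite R A] [Module.Projective R A] :
    Algebra.Etale R A ↔ aug R A ^ 2 = aug R A := by
  constructor
  · intro h
    haveI : Subsingleton Ω[A⁄R] := inferInstance
    haveI := cot_subsingleton_of_kaehler R A
    have := (Ideal.cotangent_subsingleton_iff (aug R A)).mp inferInstance
    rw [pow_two]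
    exact this
  · intro h
    have hid : IsIdempotentElem (aug R A) := by
      rw [IsIdempotentElem, ← pow_two]; exact h
    haveI : Subsingleton (aug R A).Cotangent := (Ideal.cotangent_subsingleton_iff _).mpr hid
    haveI : Subsingleton Ω[A⁄R] := kaehler_subsingleton_of_cot R A
    haveI : Algebra.FormallyUnramified R A := ⟨inferInstance⟩
    haveI : Module.FinitePresentation R A := Module.finitePresentation_of_projective R A
    exact Algebra.Etale.of_formallyUnramified_of_flat

end H9_HopfEtale
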