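import Mathlib

set_option autoImplicit false

namespace H9_InvHom

open Polynomial

theorem pointwise {A : Type*} [CommRing A] {G : Type*} [Group G] [Fintype G]
    [MulSemiringAction G A] {K : Type*} [Field K] (f₁ f₂ : A →+* K)
    (h : ∀ a : A, (∀ g : G, g • a = a) → f₁ a = f₂ a) (a : A) :
    ∃ γ : G, f₂ a = f₁ (γ • a) := by
  classical
  set P : A[X] := ∏ g : G, (X - C (g • a)) with hP
  have hinv : ∀ g : G, P.map (MulSemiringAction.toRingHom G A g) = P := by
    intro g
    rw [hP, Polynomial.map_prod]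
    simp only [Polynomial.map_sub, Polynomial.map_X, Polynomial.map_C,
      MulSemiringAction.toRingHom_apply, smul_smul]
    exact Fintype.prod_equiv (Equiv.mulLeft g) _ _ (fun x => rfl)
  have hcoeff : ∀ n (g : G), g • P.coeff n = P.coeff n := by
    intro n g
    have := congrArg (fun Q => Polynomial.coeff Q n) (hinv g)
    simpa [Polynomial.coeff_map] using this
  have hmapeq : P.map f₁ = P.map f₂ := by
    ext n
    rw [Polynomial.coeff_map, Polynomial.coeff_map]
    exact h _ (hcoeff n)
  have hform : ∀ f : A →+* K, P.map f = ∏ g : G, (X - C (f (g • a))) := by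
    intro f
    rw [hP, Polynomial.map_prod]
    simp only [Polynomial.map_sub, Polynomial.map_X, Polynomial.map_C]
  have h2 : (P.map f₂).eval (f₂ a) = 0 := by
    rw [hform, Polynomial.eval_prod]
    apply Finset.prod_eq_zero (Finset.mem_univ (1 : G))
    simp
  rw [← hmapeq, hform, Polynomial.eval_prod, Finset.prod_eq_zero_iff] at h2
  obtain ⟨γ, _, hγ⟩ := h2
  refine ⟨γ, ?_⟩
  simpa [sub_eq_zero] using hγ

theorem uniform {A : Type*} [CommRing A] {G : Type*} [Group G] [Finite G]
    [MulSemiringAction G A] {K : Type*} [Field K] (f₁ f₂ : A →+* K)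
    (h : ∀ a : A, (∀ g : G, g • a = a) → f₁ a = f₂ a) :
    ∃ γ : G, ∀ a : A, f₂ a = f₁ (γ • a) := by
  classical
  haveI : Fintype G := Fintype.ofFinite G
  by_contra hcon
  push_neg at hcon
  choose a ha using hcon
  let e : G ≃ Fin (Fintype.card G) := Fintype.equivFin G
  let F : (A →+* K) → (A[X] →+* RatFunc K) := fun f =>
    (algebraMap K[X] (RatFunc K)).comp (Polynomial.mapRingHom f)
  have hF : ∀ Q : A[X], (∀ g : G, g • Q = Q) → F f₁ Q = F f₂ Q := by
    intro Q hQ
    simp only [F, RingHom.comp_apply, Polynomial.coe_mapRingHom]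
    congr 1
    ext n
    rw [Polynomial.coeff_map, Polynomial.coeff_map]
    apply h
    intro g
    have := congrArg (fun R => Polynomial.coeff R n) (hQ g)
    simpa [Polynomial.smul_eq_map, Polynomial.coeff_map] using this
  set Q : A[X] := ∑ γ : G, C (a γ) * X ^ (e γ : ℕ) with hQ
  obtain ⟨γ₀, hγ₀⟩ := pointwise (G := G) (F f₁) (F f₂) hF Q
  simp only [F, RingHom.comp_apply, Polynomial.coe_mapRingHom] at hγ₀
  have hγ₁ := (RatFunc.algebraMap_injective K) hγ₀
  have hc := congrArg (fun R => Polynomial.coeff R (e γ₀ : ℕ)) hγ₁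
  simp only [Polynomial.coeff_map, Polynomial.smul_eq_map] at hc
  have hQc : Q.coeff (e γ₀ : ℕ) = a γ₀ := by
    rw [hQ, Polynomial.finset_sum_coeff]
    rw [Finset.sum_eq_single γ₀]
    · simp
    · intro b _ hb
      rw [Polynomial.coeff_C_mul_X_pow, if_neg]
      intro hcontra
      exact hb (e.injective (Fin.ext hcontra)).symm
    · intro hcontra
      exact absurd (Finset.mem_univ γ₀) hcontra
  rw [hQc] at hc
  exact ha γ₀ (by simpa using hc)

end H9_InvHom
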