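import Mathlib
import Groth.Prelude.Def_KZero

/-! `K'₀` (Grothendieck group of finite modules): basic relations, and the rank homomorphism over a
domain. -/

namespace Groth.Agent.H9K0Fin

open CategoryTheory KZero

universe u

variable {R : Type u} [CommRing R]

/-- the object property "finite" -/
abbrev PF (R : Type u) [CommRing R] : ObjectProperty (ModuleCat.{u} R) :=
  fun M => Module.Finite R M

theorem clSub_of (M : ModuleCat.{u} R) (h : PF R M) :
    clSub (PF R) M = QuotientAddGroup.mk (FreeAbelianGroup.of ⟨M, h⟩) := by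
  rw [clSub, dif_pos h]

/-- The defining relation, in linear-map form. -/
theorem rel_of_exact {X₁ X₂ X₃ : Type u} [AddCommGroup X₁] [AddCommGroup X₂] [AddCommGroup X₃]
    [Module R X₁] [Module R X₂] [Module R X₃]
    (f : X₁ →ₗ[R] X₂) (g : X₂ →ₗ[R] X₃)
    (h₁ : PF R (ModuleCat.of R X₁)) (h₂ : PF R (ModuleCat.of R X₂)) (h₃ : PF R (ModuleCat.of R X₃))
    (hf : Function.Injective f) (hg : Function.Surjective g)
    (hex : LinearMap.range f = LinearMap.ker g) :
    clSub (PF R) (ModuleCat.of R X₂) =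
      clSub (PF R) (ModuleCat.of R X₁) + clSub (PF R) (ModuleCat.of R X₃) := by
  rw [clSub_of _ h₁, clSub_of _ h₂, clSub_of _ h₃]
  let S : ShortComplex (ModuleCat.{u} R) :=
    ShortComplex.moduleCatMkOfKerLERange (ModuleCat.ofHom f) (ModuleCat.ofHom g) (by
      rw [ModuleCat.hom_ofHom, ModuleCat.hom_ofHom, hex])
  have hS : S.ShortExact := by
    refine ShortComplex.ShortExact.mk' ?_ ?_ ?_
    · exact ShortComplex.Exact.moduleCat_of_range_eq_ker _ _ (by
        rw [ModuleCat.hom_ofHom, ModuleCat.hom_ofHom, hex])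
    · exact (ModuleCat.mono_iff_injective _).mpr hf
    · exact (ModuleCat.epi_iff_surjective _).mpr hg
  have hmem : FreeAbelianGroup.of (⟨ModuleCat.of R X₂, h₂⟩ : Subtype (PF R)) -
      FreeAbelianGroup.of ⟨ModuleCat.of R X₁, h₁⟩ - FreeAbelianGroup.of ⟨ModuleCat.of R X₃, h₃⟩ ∈
      relSub (PF R) := AddSubgroup.subset_closure ⟨S, h₁, h₂, h₃, hS, rfl⟩
  have := (QuotientAddGroup.eq_zero_iff _).mpr hmem
  rw [QuotientAddGroup.mk_sub, QuotientAddGroup.mk_sub, sub_sub, sub_eq_zero] at this
  exact this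

theorem pf_of (X : Type u) [AddCommGroup X] [Module R X] [Module.Finite R X] :
    PF R (ModuleCat.of R X) :=
  inferInstanceAs (Module.Finite R X)

theorem cl_zero (X : Type u) [AddCommGroup X] [Module R X] [Subsingleton X] :
    clSub (PF R) (ModuleCat.of R X) = 0 := by
  have h : PF R (ModuleCat.of R X) := inferInstanceAs (Module.Finite R X)
  have := rel_of_exact (R := R) (0 : X →ₗ[R] X) (0 : X →ₗ[R] X) h h h
    (fun a b _ => Subsingleton.elim a b) (fun a => ⟨a, Subsingleton.elim _ _⟩)
    (by ext x; simp [Subsingleton.elim x 0])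
  exact (add_eq_left.mp this.symm)

theorem cl_iso {X Y : Type u} [AddCommGroup X] [AddCommGroup Y] [Module R X] [Module R Y]
    (e : X ≃ₗ[R] Y) (hX : PF R (ModuleCat.of R X)) (hY : PF R (ModuleCat.of R Y)) :
    clSub (PF R) (ModuleCat.of R X) = clSub (PF R) (ModuleCat.of R Y) := by
  have h0 : PF R (ModuleCat.of R PUnit.{u+1}) := inferInstanceAs (Module.Finite R PUnit.{u+1})
  have := rel_of_exact (R := R) (0 : PUnit.{u+1} →ₗ[R] X) (e : X →ₗ[R] Y) h0 hX hY
    (fun a b _ => Subsingleton.elim a b) e.surjective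
    (by
      ext x
      simp only [LinearMap.mem_range, LinearMap.zero_apply, exists_const, LinearMap.mem_ker,
        LinearEquiv.coe_coe, LinearEquiv.map_eq_zero_iff]
      exact eq_comm)
  rw [this, cl_zero, zero_add]

theorem cl_prod {X Y : Type u} [AddCommGroup X] [AddCommGroup Y] [Module R X] [Module R Y]
    (hX : PF R (ModuleCat.of R X)) (hY : PF R (ModuleCat.of R Y))
    (hXY : PF R (ModuleCat.of R (X × Y))) :
    clSub (PF R) (ModuleCat.of R (X × Y)) =
      clSub (PF R) (ModuleCat.of R X) + clSub (PF R) (ModuleCat.of R Y) :=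
  rel_of_exact (LinearMap.inl R X Y) (LinearMap.snd R X Y) hX hXY hY
    LinearMap.inl_injective LinearMap.snd_surjective (LinearMap.ker_snd R X Y).symm

theorem pf_pi (n : ℕ) : PF R (ModuleCat.of R (Fin n → R)) :=
  inferInstanceAs (Module.Finite R (Fin n → R))

theorem pf_self : PF R (ModuleCat.of R R) :=
  inferInstanceAs (Module.Finite R R)

theorem cl_pi (n : ℕ) :
    clSub (PF R) (ModuleCat.of R (Fin n → R)) = n • clSub (PF R) (ModuleCat.of R R) := by
  induction n with
  | zero =>
    rw [zero_smul]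
    exact cl_zero (Fin 0 → R)
  | succ n ih =>
    have hprod : PF R (ModuleCat.of R (R × (Fin n → R))) :=
      inferInstanceAs (Module.Finite R (R × (Fin n → R)))
    have e : (R × (Fin n → R)) ≃ₗ[R] (Fin (n + 1) → R) :=
      Fin.consLinearEquiv R (fun _ : Fin (n + 1) => R)
    rw [← cl_iso e hprod (pf_pi (n + 1)), cl_prod pf_self (pf_pi n) hprod, ih, succ_nsmul, add_comm]

/-- Additivity of `finrank` over a domain for exact sequences of finite modules. -/
theorem finrank_of_exact [IsDomain R] {X₁ X₂ X₃ : Type u} [AddCommGroup X₁] [AddCommGroup X₂]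
    [AddCommGroup X₃] [Module R X₁] [Module R X₂] [Module R X₃]
    [Module.Finite R X₁] [Module.Finite R X₂] [Module.Finite R X₃]
    (f : X₁ →ₗ[R] X₂) (g : X₂ →ₗ[R] X₃)
    (hf : Function.Injective f) (hg : Function.Surjective g)
    (hex : LinearMap.range f = LinearMap.ker g) :
    Module.finrank R X₂ = Module.finrank R X₁ + Module.finrank R X₃ := by
  have h1 := rank_quotient_add_rank_of_isDomain (LinearMap.ker g)
  have e1 : (X₂ ⧸ LinearMap.ker g) ≃ₗ[R] X₃ := LinearMap.quotKerEquivOfSurjective g hg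
  have e2 : X₁ ≃ₗ[R] LinearMap.ker g :=
    (LinearEquiv.ofInjective f hf).trans (LinearEquiv.ofEq _ _ hex)
  rw [e1.rank_eq, ← e2.rank_eq] at h1
  rw [← Module.finrank_eq_rank R X₁, ← Module.finrank_eq_rank R X₂,
    ← Module.finrank_eq_rank R X₃] at h1
  have h2 : ((Module.finrank R X₃ + Module.finrank R X₁ : ℕ) : Cardinal) =
      (Module.finrank R X₂ : ℕ) := by
    push_cast
    exact h1
  have h3 := Nat.cast_injective h2
  omega

/-- The rank homomorphism `K'₀(R) → ℤ` over a domain. -/
theorem exists_rank [IsDomain R] : ∃ ρ : K0sub (PF R) →+ ℤ,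
    ∀ (X : Type u) [AddCommGroup X] [Module R X] [Module.Finite R X],
      ρ (clSub (PF R) (ModuleCat.of R X)) = (Module.finrank R X : ℤ) := by
  classical
  let ℓ : Subtype (PF R) → ℤ := fun M => (Module.finrank R M.1 : ℤ)
  let ψ : FreeAbelianGroup (Subtype (PF R)) →+ ℤ := FreeAbelianGroup.lift ℓ
  have hker : relSub (PF R) ≤ ψ.ker := by
    rw [relSub, AddSubgroup.closure_le]
    rintro x ⟨S, h₁, h₂, h₃, hS, rfl⟩
    rw [SetLike.mem_coe, AddMonoidHom.mem_ker, map_sub, map_sub]
    simp only [ψ, FreeAbelianGroup.lift_apply_of, ℓ]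
    haveI : Module.Finite R S.X₁ := h₁
    haveI : Module.Finite R S.X₂ := h₂
    haveI : Module.Finite R S.X₃ := h₃
    have hadd : Module.finrank R S.X₂ = Module.finrank R S.X₁ + Module.finrank R S.X₃ :=
      finrank_of_exact S.f.hom S.g.hom hS.moduleCat_injective_f hS.moduleCat_surjective_g
        (by
          have := (CategoryTheory.ShortComplex.ShortExact.moduleCat_exact_iff_function_exact S).mp
            hS.exact
          exact (LinearMap.exact_iff.mp this).symm)
    rw [hadd]
    push_cast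
    ring
  refine ⟨QuotientAddGroup.lift (relSub (PF R)) ψ hker, ?_⟩
  intro X _ _ _
  have hX : PF R (ModuleCat.of R X) := inferInstanceAs (Module.Finite R X)
  rw [clSub_of _ hX]
  show (QuotientAddGroup.lift (relSub (PF R)) ψ hker) (QuotientAddGroup.mk _) = _
  rw [QuotientAddGroup.lift_mk]
  simp only [ψ, FreeAbelianGroup.lift_apply_of, ℓ]

/-- Over a PID, the class of a finite module is an integer multiple of `[R]`. -/
theorem cl_eq_zsmul_of_pid [IsDomain R] [IsPrincipalIdealRing R]
    (M : ModuleCat.{u} R) (hM : PF R M) :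
    ∃ k : ℤ, clSub (PF R) M = k • clSub (PF R) (ModuleCat.of R R) := by
  haveI : Module.Finite R M := hM
  obtain ⟨n, π, hπ⟩ := Module.Finite.exists_fin' R M
  obtain ⟨m, ⟨b⟩⟩ := Submodule.nonempty_basis_of_pid (Pi.basisFun R (Fin n)) (LinearMap.ker π)
  have e : (LinearMap.ker π) ≃ₗ[R] (Fin m → R) := b.equivFun
  haveI : Module.Finite R (LinearMap.ker π) := Module.Finite.equiv e.symm
  have hK : PF R (ModuleCat.of R (LinearMap.ker π)) :=
    inferInstanceAs (Module.Finite R (LinearMap.ker π))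
  have hM' : PF R (ModuleCat.of R M) := hM
  have h1 := rel_of_exact (R := R) (LinearMap.ker π).subtype π hK (pf_pi n) hM'
    (Submodule.injective_subtype _) hπ (Submodule.range_subtype _)
  rw [cl_pi, cl_iso e hK (pf_pi m), cl_pi] at h1
  refine ⟨(n : ℤ) - (m : ℤ), ?_⟩
  have h2 : clSub (PF R) M = clSub (PF R) (ModuleCat.of R M) := rfl
  rw [h2, sub_smul, natCast_zsmul, natCast_zsmul, h1]
  abel

theorem k0_eq_zsmul_of_pid [IsDomain R] [IsPrincipalIdealRing R] (x : K0sub (PF R)) :
    ∃ k : ℤ, x = k • clSub (PF R) (ModuleCat.of R R) := by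
  obtain ⟨y, rfl⟩ := QuotientAddGroup.mk_surjective x
  induction y using FreeAbelianGroup.induction_on with
  | zero => exact ⟨0, by simp⟩
  | of M =>
    obtain ⟨k, hk⟩ := cl_eq_zsmul_of_pid M.1 M.2
    exact ⟨k, by rw [← hk, clSub_of _ M.2]⟩
  | neg M ih =>
    obtain ⟨k, hk⟩ := ih
    exact ⟨-k, by rw [QuotientAddGroup.mk_neg, hk, neg_smul]⟩
  | add x y hx hy =>
    obtain ⟨k, hk⟩ := hx
    obtain ⟨l, hl⟩ := hy
    exact ⟨k + l, by rw [QuotientAddGroup.mk_add, hk, hl, add_smul]⟩

end Groth.Agent.H9K0Fin
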