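import Mathlib
import Groth.Prelude.Def_KZero

/-! `K₀` of finite projective modules over a local ring is `ℤ`. -/

namespace Groth.Agent.H9K0

open CategoryTheory KZero

universe u

variable {R : Type u} [CommRing R]

/-- the object property "finite projective" -/
abbrev PP (R : Type u) [CommRing R] : ObjectProperty (ModuleCat.{u} R) :=
  fun M => Module.Finite R M ∧ Module.Projective R M

theorem clSub_of (M : ModuleCat.{u} R) (h : PP R M) :
    clSub (PP R) M = QuotientAddGroup.mk (FreeAbelianGroup.of ⟨M, h⟩) := by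
  rw [clSub, dif_pos h]

/-- The defining relation, in linear-map form. -/
theorem rel_of_exact {X₁ X₂ X₃ : Type u} [AddCommGroup X₁] [AddCommGroup X₂] [AddCommGroup X₃]
    [Module R X₁] [Module R X₂] [Module R X₃]
    (f : X₁ →ₗ[R] X₂) (g : X₂ →ₗ[R] X₃)
    (h₁ : PP R (ModuleCat.of R X₁)) (h₂ : PP R (ModuleCat.of R X₂)) (h₃ : PP R (ModuleCat.of R X₃))
    (hf : Function.Injective f) (hg : Function.Surjective g)
    (hex : LinearMap.range f = LinearMap.ker g) :
    clSub (PP R) (ModuleCat.of R X₂) =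
      clSub (PP R) (ModuleCat.of R X₁) + clSub (PP R) (ModuleCat.of R X₃) := by
  rw [clSub_of _ h₁, clSub_of _ h₂, clSub_of _ h₃]
  let S : ShortComplex (ModuleCat.{u} R) :=
    ShortComplex.moduleCatMkOfKerLERange (ModuleCat.ofHom f) (ModuleCat.ofHom g) (by
      rw [ModuleCat.hom_ofHom, ModuleCat.hom_ofHom, hex])
  have hS : S.ShortExact := by
    refine ShortComplex.ShortExact.mk' ?_ ?_ ?_
    · exact ShortComplex.Exact.moduleCat_of_range_eq_ker _ _ (by
        rw [ModuleCat.hom_ofHom, ModuleCat.hom_ofHom, hex])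
    · exact (ModuleCat.mono_iff_injective _).mpr hf
    · exact (ModuleCat.epi_iff_surjective _).mpr hg
  have hmem : FreeAbelianGroup.of (⟨ModuleCat.of R X₂, h₂⟩ : Subtype (PP R)) -
      FreeAbelianGroup.of ⟨ModuleCat.of R X₁, h₁⟩ - FreeAbelianGroup.of ⟨ModuleCat.of R X₃, h₃⟩ ∈
      relSub (PP R) := AddSubgroup.subset_closure ⟨S, h₁, h₂, h₃, hS, rfl⟩
  have := (QuotientAddGroup.eq_zero_iff _).mpr hmem
  rw [QuotientAddGroup.mk_sub, QuotientAddGroup.mk_sub, sub_sub, sub_eq_zero] at this
  exact this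

theorem pp_of [IsLocalRing R] (X : Type u) [AddCommGroup X] [Module R X] [Module.Finite R X]
    [Module.Projective R X] : PP R (ModuleCat.of R X) :=
  ⟨inferInstanceAs (Module.Finite R X), inferInstanceAs (Module.Projective R X)⟩

theorem cl_zero (X : Type u) [AddCommGroup X] [Module R X] [Subsingleton X] :
    clSub (PP R) (ModuleCat.of R X) = 0 := by
  have h : PP R (ModuleCat.of R X) :=
    ⟨inferInstanceAs (Module.Finite R X), inferInstanceAs (Module.Projective R X)⟩
  have := rel_of_exact (R := R) (0 : X →ₗ[R] X) (0 : X →ₗ[R] X) h h h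
    (fun a b _ => Subsingleton.elim a b) (fun a => ⟨a, Subsingleton.elim _ _⟩)
    (by ext x; simp [Subsingleton.elim x 0])
  exact (add_eq_left.mp this.symm)

theorem cl_iso {X Y : Type u} [AddCommGroup X] [AddCommGroup Y] [Module R X] [Module R Y]
    (e : X ≃ₗ[R] Y) (hX : PP R (ModuleCat.of R X)) (hY : PP R (ModuleCat.of R Y)) :
    clSub (PP R) (ModuleCat.of R X) = clSub (PP R) (ModuleCat.of R Y) := by
  have h0 : PP R (ModuleCat.of R PUnit.{u+1}) :=
    ⟨inferInstanceAs (Module.Finite R PUnit.{u+1}), inferInstanceAs (Module.Projective R PUnit.{u+1})⟩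
  have := rel_of_exact (R := R) (0 : PUnit.{u+1} →ₗ[R] X) (e : X →ₗ[R] Y) h0 hX hY
    (fun a b _ => Subsingleton.elim a b) e.surjective
    (by
      ext x
      simp only [LinearMap.mem_range, LinearMap.zero_apply, exists_const, LinearMap.mem_ker,
        LinearEquiv.coe_coe, LinearEquiv.map_eq_zero_iff]
      exact eq_comm)
  rw [this, cl_zero, zero_add]

theorem cl_prod {X Y : Type u} [AddCommGroup X] [AddCommGroup Y] [Module R X] [Module R Y]
    (hX : PP R (ModuleCat.of R X)) (hY : PP R (ModuleCat.of R Y))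
    (hXY : PP R (ModuleCat.of R (X × Y))) :
    clSub (PP R) (ModuleCat.of R (X × Y)) =
      clSub (PP R) (ModuleCat.of R X) + clSub (PP R) (ModuleCat.of R Y) :=
  rel_of_exact (LinearMap.inl R X Y) (LinearMap.snd R X Y) hX hXY hY
    LinearMap.inl_injective LinearMap.snd_surjective (LinearMap.ker_snd R X Y).symm

theorem pp_pi (n : ℕ) : PP R (ModuleCat.of R (Fin n → R)) :=
  ⟨inferInstanceAs (Module.Finite R (Fin n → R)), inferInstanceAs (Module.Projective R (Fin n → R))⟩

theorem pp_self : PP R (ModuleCat.of R R) :=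
  ⟨inferInstanceAs (Module.Finite R R), inferInstanceAs (Module.Projective R R)⟩

theorem cl_pi (n : ℕ) :
    clSub (PP R) (ModuleCat.of R (Fin n → R)) = n • clSub (PP R) (ModuleCat.of R R) := by
  induction n with
  | zero =>
    rw [zero_smul]
    exact cl_zero (Fin 0 → R)
  | succ n ih =>
    have hprod : PP R (ModuleCat.of R (R × (Fin n → R))) :=
      ⟨inferInstanceAs (Module.Finite R (R × (Fin n → R))),
        inferInstanceAs (Module.Projective R (R × (Fin n → R)))⟩
    have e : (R × (Fin n → R)) ≃ₗ[R] (Fin (n + 1) → R) :=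
      Fin.consLinearEquiv R (fun _ : Fin (n + 1) => R)
    rw [← cl_iso e hprod (pp_pi (n + 1)), cl_prod pp_self (pp_pi n) hprod, ih, succ_nsmul, add_comm]

end Groth.Agent.H9K0
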