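import Mathlib
import Groth.Agent.Lib.helper9.H9_Shear

/-!
# The module of differentials of a commutative Hopf algebra over a field is free
-/

set_option autoImplicit false
universe u v
open TensorProduct H9_Shear

namespace H9_KaehlerHopf

variable (K : Type u) [Field K] (B : Type v) [CommRing B] [HopfAlgebra K B]

/-- the universal derivation as a linear map -/
noncomputable def d : B →ₗ[K] Ω[B⁄K] := (KaehlerDifferential.D K B).toLinearMap

theorem d_apply (b : B) : d K B b = KaehlerDifferential.D K B b := rfl

theorem d_mul (a b : B) : d K B (a * b) = a • d K B b + b • d K B a :=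
  (KaehlerDifferential.D K B).leibniz a b

/-- the left-invariant differential attached to a function -/
noncomputable def θ : B →ₗ[K] Ω[B⁄K] := tw (d K B)

theorem θ_mul (x y : B) : θ K B (x * y) =
    Coalgebra.counit (R := K) x • θ K B y + Coalgebra.counit (R := K) y • θ K B x :=
  tw_mul _ (d_mul K B) x y

/-- `y ↦ 1 ⊗ θ y` -/
noncomputable def h : B →ₗ[K] B ⊗[K] Ω[B⁄K] := (TensorProduct.mk K B Ω[B⁄K] 1) ∘ₗ θ K B

theorem h_apply (y : B) : h K B y = (1 : B) ⊗ₜ[K] θ K B y := rfl

theorem h_mul (x y : B) : h K B (x * y) =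
    Coalgebra.counit (R := K) x • h K B y + Coalgebra.counit (R := K) y • h K B x := by
  rw [h_apply, h_apply, h_apply, θ_mul, TensorProduct.tmul_add, TensorProduct.tmul_smul,
    TensorProduct.tmul_smul]

/-- the derivation `b ↦ Σ b₁ ⊗ θ b₂` -/
noncomputable def D' : Derivation K B (B ⊗[K] Ω[B⁄K]) :=
  Derivation.mk' (utw (h K B)) (utw_mul _ (h_mul K B))

theorem D'_apply (b : B) : D' K B b = utw (h K B) b := rfl

/-- the induced map on differentials -/
noncomputable def φ : Ω[B⁄K] →ₗ[B] B ⊗[K] Ω[B⁄K] := (D' K B).liftKaehlerDifferential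

theorem φ_d (b : B) : φ K B (d K B b) = utw (h K B) b :=
  (D' K B).liftKaehlerDifferential_comp_D b

theorem φ_θ (x : B) : φ K B (θ K B x) = (1 : B) ⊗ₜ[K] θ K B x := by
  have e : ((φ K B).restrictScalars K) ∘ₗ d K B = utw (h K B) := LinearMap.ext fun b => φ_d K B b
  show φ K B (tw (d K B) x) = _
  rw [map_tw, e, tw_utw, h_apply]

/-- the space of left-invariant differentials -/
noncomputable abbrev ω : Submodule K Ω[B⁄K] := LinearMap.range (θ K B)

/-- the comparison map -/
noncomputable def e : B ⊗[K] ω K B →ₗ[B] Ω[B⁄K] := (ω K B).subtype.liftBaseChange B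

theorem e_tmul (b : B) (w : ω K B) : e K B (b ⊗ₜ[K] w) = b • (w : Ω[B⁄K]) := by
  simp [e]

theorem φ_e (t : B ⊗[K] ω K B) : φ K B (e K B t) = (ω K B).subtype.lTensor B t := by
  induction t using TensorProduct.induction_on with
  | zero => simp
  | add t t' h h' => simp only [map_add, h, h']
  | tmul b w =>
    obtain ⟨w, x, rfl⟩ := w
    rw [e_tmul, map_smul, LinearMap.lTensor_tmul]
    show b • φ K B (θ K B x) = _
    rw [φ_θ, TensorProduct.smul_tmul', smul_eq_mul, mul_one]
    rfl

theorem e_injective : Function.Injective (e K B) := by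
  intro t t' htt'
  have h1 : (ω K B).subtype.lTensor B t = (ω K B).subtype.lTensor B t' := by
    rw [← φ_e, ← φ_e, htt']
  exact Module.Flat.lTensor_preserves_injective_linearMap _ (Submodule.injective_subtype _) h1

theorem act_eq_e (t : B ⊗[K] B) :
    act K B Ω[B⁄K] ((θ K B).lTensor B t) = e K B ((θ K B).rangeRestrict.lTensor B t) := by
  induction t using TensorProduct.induction_on with
  | zero => simp
  | add t t' h h' => simp only [map_add, h, h']
  | tmul a b =>
    rw [LinearMap.lTensor_tmul, LinearMap.lTensor_tmul, act_tmul, e_tmul]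
    rfl

theorem e_surjective : Function.Surjective (e K B) := by
  rw [← LinearMap.range_eq_top, eq_top_iff, ← KaehlerDifferential.span_range_derivation,
    Submodule.span_le]
  rintro _ ⟨b, rfl⟩
  have h1 : KaehlerDifferential.D K B b = utw (tw (d K B)) b := (utw_tw (d K B) b).symm
  rw [h1, utw_apply]
  exact ⟨_, (act_eq_e K B _).symm⟩

theorem free : Module.Free B (Ω[B⁄K]) :=
  Module.Free.of_equiv (LinearEquiv.ofBijective (e K B) ⟨e_injective K B, e_surjective K B⟩)

end H9_KaehlerHopf
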