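import Mathlib
import Groth.Prelude.Def_ComodSub
import Groth.Agent.Lib.helper9.H9_DualFlat

/-!
# The left dual comodule of a finitely presented comodule over a flat coalgebra
-/

set_option autoImplicit false
set_option linter.unusedSectionVars false
universe u v w

open scoped TensorProduct

namespace H9_LDual

variable {k : Type u} [CommRing k] {A : Type v} [AddCommGroup A] [Module k A] [Coalgebra k A]
  [Module.Flat k A] {M : Type w} [AddCommGroup M] [Module k M] [Module.FinitePresentation k M]

/-- `g ↦ ldualFun c g` as a linear map -/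
noncomputable def G (c : HopfRep.Comod k A M) : Module.Dual k M →ₗ[k] (M →ₗ[k] A) where
  toFun := ComodSub.ldualFun c
  map_add' := by
    intro g g'
    apply LinearMap.ext
    intro m
    simp only [ComodSub.ldualFun_apply, LinearMap.rTensor_add, LinearMap.add_apply, map_add]
  map_smul' := by
    intro r g
    apply LinearMap.ext
    intro m
    simp only [ComodSub.ldualFun_apply, LinearMap.rTensor_smul, LinearMap.smul_apply, map_smul,
      RingHom.id_apply]

variable (k A M) in
/-- `M^* ⊗ A ≃ Hom(M, A)` -/
noncomputable def E : Module.Dual k M ⊗[k] A ≃ₗ[k] (M →ₗ[k] A) :=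
  LinearEquiv.ofBijective (dualTensorHom k M A) (H9_DualFlat.dualTensorHom_bijective' k M A)

/-- the left dual coaction -/
noncomputable def L (c : HopfRep.Comod k A M) : Module.Dual k M →ₗ[k] A ⊗[k] Module.Dual k M :=
  (TensorProduct.comm k A (Module.Dual k M)).symm.toLinearMap ∘ₗ (E k A M).symm.toLinearMap ∘ₗ G c

/-- reading of `A ⊗ M^*` as maps `M → A` -/
noncomputable def rd (x : A ⊗[k] Module.Dual k M) : M →ₗ[k] A :=
  dualTensorHom k M A (TensorProduct.comm k A (Module.Dual k M) x)

theorem rd_tmul (a : A) (φ : Module.Dual k M) (m : M) : rd (a ⊗ₜ[k] φ) m = φ m • a := by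
  simp [rd]

theorem rd_add (x y : A ⊗[k] Module.Dual k M) : rd (x + y) = rd x + rd y := by
  simp [rd]

theorem rd_zero : rd (0 : A ⊗[k] Module.Dual k M) = 0 := by
  simp [rd]

theorem rd_L (c : HopfRep.Comod k A M) (g : Module.Dual k M) : rd (L c g) = ComodSub.ldualFun c g := by
  unfold rd L
  simp only [LinearMap.comp_apply, LinearEquiv.coe_coe, LinearEquiv.apply_symm_apply]
  exact (E k A M).apply_symm_apply (G c g)

/-- reading of `A ⊗ (A ⊗ M^*)` as maps `M → A ⊗ A` -/
noncomputable def R₂ : A ⊗[k] (A ⊗[k] Module.Dual k M) →ₗ[k] (M →ₗ[k] A ⊗[k] A) :=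
  dualTensorHom k M (A ⊗[k] A) ∘ₗ (TensorProduct.comm k (A ⊗[k] A) (Module.Dual k M)).toLinearMap ∘ₗ
    (TensorProduct.assoc k A A (Module.Dual k M)).symm.toLinearMap

theorem R₂_injective : Function.Injective (R₂ (k := k) (A := A) (M := M)) := by
  unfold R₂
  rw [LinearMap.coe_comp, LinearMap.coe_comp]
  refine (H9_DualFlat.dualTensorHom_injective k M (A ⊗[k] A)).comp ?_
  exact (TensorProduct.comm k (A ⊗[k] A) (Module.Dual k M)).injective.comp
    (TensorProduct.assoc k A A (Module.Dual k M)).symm.injective

theorem R₂_tmul (a : A) (y : A ⊗[k] Module.Dual k M) (m : M) :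
    R₂ (a ⊗ₜ[k] y) m = a ⊗ₜ[k] rd y m := by
  induction y using TensorProduct.induction_on with
  | zero => simp [rd_zero]
  | tmul b ψ =>
    simp only [R₂, LinearMap.comp_apply, LinearEquiv.coe_coe, TensorProduct.assoc_symm_tmul,
      TensorProduct.comm_tmul, dualTensorHom_apply, rd_tmul, TensorProduct.tmul_smul]
  | add y z hy hz =>
    simp only [TensorProduct.tmul_add, map_add, LinearMap.add_apply, hy, hz, rd_add]

theorem R₂_assoc (u : (A ⊗[k] A) ⊗[k] Module.Dual k M) :
    R₂ (TensorProduct.assoc k A A (Module.Dual k M) u) =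
      dualTensorHom k M (A ⊗[k] A) (TensorProduct.comm k (A ⊗[k] A) (Module.Dual k M) u) := by
  simp [R₂]

theorem coassoc_L (c : HopfRep.Comod k A M) :
    (L c).lTensor A ∘ₗ L c =
      (TensorProduct.assoc k A A (Module.Dual k M)).toLinearMap ∘ₗ
        (CoalgebraStruct.comul (R := k) (A := A)).rTensor (Module.Dual k M) ∘ₗ L c := by
  apply LinearMap.ext
  intro g
  apply R₂_injective
  apply LinearMap.ext
  intro m
  simp only [LinearMap.comp_apply, LinearEquiv.coe_coe]
  have F1 : ∀ x : A ⊗[k] Module.Dual k M,
      R₂ ((L c).lTensor A x) m = (rd x).rTensor A (c.coact m) := by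
    intro x
    induction x using TensorProduct.induction_on with
    | zero => simp [rd_zero]
    | tmul a φ =>
      rw [LinearMap.lTensor_tmul, R₂_tmul, rd_L, ComodSub.ldualFun_apply]
      generalize c.coact m = z
      induction z using TensorProduct.induction_on with
      | zero => simp
      | tmul m' b =>
        rw [LinearMap.rTensor_tmul, TensorProduct.lid_tmul, LinearMap.rTensor_tmul, rd_tmul,
          TensorProduct.smul_tmul]
      | add z z' hz hz' => simp only [map_add, TensorProduct.tmul_add, hz, hz']
    | add x y hx hy =>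
      simp only [map_add, LinearMap.add_apply, hx, hy, rd_add, LinearMap.rTensor_add]
  have F2 : ∀ x : A ⊗[k] Module.Dual k M,
      R₂ (TensorProduct.assoc k A A (Module.Dual k M)
        ((CoalgebraStruct.comul (R := k) (A := A)).rTensor (Module.Dual k M) x)) m =
      CoalgebraStruct.comul (R := k) (rd x m) := by
    intro x
    induction x using TensorProduct.induction_on with
    | zero => simp [rd_zero]
    | tmul a φ =>
      rw [LinearMap.rTensor_tmul, R₂_assoc, TensorProduct.comm_tmul, dualTensorHom_apply, rd_tmul,
        map_smul]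
    | add x y hx hy =>
      simp only [map_add, LinearMap.add_apply, hx, hy, rd_add]
  rw [F1, F2, rd_L, ComodSub.ldualFun_apply]
  have h3 : (ComodSub.ldualFun c g).rTensor A (c.coact m) =
      ((TensorProduct.lid k A).toLinearMap ∘ₗ g.rTensor A).rTensor A
        (c.coact.rTensor A (c.coact m)) := by
    have : ComodSub.ldualFun c g =
        ((TensorProduct.lid k A).toLinearMap ∘ₗ g.rTensor A) ∘ₗ c.coact := rfl
    rw [this, LinearMap.rTensor_comp, LinearMap.comp_apply]
  have hco := LinearMap.congr_fun c.coassoc m
  simp only [LinearMap.comp_apply, LinearEquiv.coe_coe] at hco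
  have hco' : c.coact.rTensor A (c.coact m) = (TensorProduct.assoc k M A A).symm
      ((CoalgebraStruct.comul (R := k) (A := A)).lTensor M (c.coact m)) := by
    rw [← hco, LinearEquiv.symm_apply_apply]
  rw [h3, hco']
  generalize c.coact m = z
  induction z using TensorProduct.induction_on with
  | zero => simp
  | tmul m' b =>
    rw [LinearMap.lTensor_tmul, LinearMap.rTensor_tmul, TensorProduct.lid_tmul, map_smul]
    generalize CoalgebraStruct.comul (R := k) b = w
    induction w using TensorProduct.induction_on with
    | zero => simp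
    | tmul b1 b2 =>
      simp only [TensorProduct.assoc_symm_tmul, LinearMap.rTensor_tmul, LinearMap.comp_apply,
        LinearEquiv.coe_coe, TensorProduct.lid_tmul, TensorProduct.smul_tmul']
    | add w w' hw hw' => simp only [TensorProduct.tmul_add, map_add, smul_add, hw, hw']
  | add z z' hz hz' => simp only [map_add, hz, hz']

theorem counit_L (c : HopfRep.Comod k A M) :
    (CoalgebraStruct.counit (R := k) (A := A)).rTensor (Module.Dual k M) ∘ₗ L c =
      TensorProduct.mk k k (Module.Dual k M) 1 := by
  apply LinearMap.ext
  intro g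
  apply (TensorProduct.lid k (Module.Dual k M)).injective
  apply LinearMap.ext
  intro m
  simp only [LinearMap.comp_apply, TensorProduct.mk_apply, TensorProduct.lid_tmul, one_smul]
  have F : ∀ x : A ⊗[k] Module.Dual k M,
      TensorProduct.lid k (Module.Dual k M)
        ((CoalgebraStruct.counit (R := k) (A := A)).rTensor (Module.Dual k M) x) m =
      CoalgebraStruct.counit (R := k) (rd x m) := by
    intro x
    induction x using TensorProduct.induction_on with
    | zero => simp [rd_zero]
    | tmul a φ =>
      rw [LinearMap.rTensor_tmul, TensorProduct.lid_tmul, LinearMap.smul_apply, rd_tmul, map_smul,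
        smul_eq_mul, smul_eq_mul, mul_comm]
    | add x y hx hy => simp only [map_add, LinearMap.add_apply, hx, hy, rd_add]
  rw [F, rd_L, ComodSub.ldualFun_apply]
  have hcu := LinearMap.congr_fun c.counit_comp m
  simp only [LinearMap.comp_apply, LinearMap.flip_apply, TensorProduct.mk_apply] at hcu
  have h2 : ∀ z : M ⊗[k] A, CoalgebraStruct.counit (R := k)
      (TensorProduct.lid k A (g.rTensor A z)) =
      g (TensorProduct.rid k M ((CoalgebraStruct.counit (R := k) (A := A)).lTensor M z)) := by
    intro z
    induction z using TensorProduct.induction_on with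
    | zero => simp
    | tmul m' b => simp [mul_comm]
    | add z z' hz hz' => simp only [map_add, hz, hz']
  rw [h2, hcu]
  simp

/-- the left dual comodule -/
@[reducible] noncomputable def ldual (c : HopfRep.Comod k A M) :
    ComodSub.LComod k A (Module.Dual k M) where
  coact := L c
  coassoc := coassoc_L c
  counit_comp := counit_L c

theorem isLDual_ldual (c : HopfRep.Comod k A M) : ComodSub.LComod.IsLDual c (ldual c) :=
  fun g => rd_L c g

end H9_LDual
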