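import Mathlib

/-! helper9: lifting a left inverse modulo `𝔏` to a left inverse modulo `J₁`, where
`𝔏 ^ n ≤ J₁ ≤ 𝔏` and `N / J₁ N` is projective over `A / J₁`. -/

namespace Groth.Agent.H9_LeftInvLift

open Submodule

variable {A : Type*} [CommRing A] {M N : Type*} [AddCommGroup M] [Module A M]
  [AddCommGroup N] [Module A N]

/-- `J` kills `M ⧸ J • ⊤`. -/
lemma smul_mk_eq_zero (J : Ideal A) {a : A} (ha : a ∈ J) (q : M ⧸ (J • ⊤ : Submodule A M)) :
    a • q = 0 := by
  obtain ⟨m, rfl⟩ := Submodule.Quotient.mk_surjective _ q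
  rw [← Submodule.Quotient.mk_smul, Submodule.Quotient.mk_eq_zero]
  exact Submodule.smul_mem_smul ha mem_top

lemma smul_top_quot_eq_bot (J : Ideal A) :
    (J • ⊤ : Submodule A (M ⧸ (J • ⊤ : Submodule A M))) = ⊥ := by
  rw [eq_bot_iff]
  intro x hx
  refine Submodule.smul_induction_on hx ?_ ?_
  · intro a ha q _
    rw [smul_mk_eq_zero J ha q]; exact zero_mem _
  · intro a b ha hb
    exact add_mem ha hb

theorem exists_lift (J₁ 𝔏 : Ideal A) (hle : J₁ ≤ 𝔏) (n : ℕ) (hn : 𝔏 ^ n ≤ J₁)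
    (u : M →ₗ[A] N)
    (hproj : Module.Projective (A ⧸ J₁) (N ⧸ (J₁ • (⊤ : Submodule A N))))
    (w₀ : N →ₗ[A] M ⧸ (𝔏 • ⊤ : Submodule A M))
    (hw₀ : ∀ x : M, w₀ (u x) = Submodule.Quotient.mk x) :
    ∃ w : N →ₗ[A] M ⧸ (J₁ • ⊤ : Submodule A M), ∀ x : M, w (u x) = Submodule.Quotient.mk x := by
  classical
  have hsurjA : Function.Surjective (algebraMap A (A ⧸ J₁)) := Ideal.Quotient.mk_surjective
  -- the projection π : M/J₁M → M/𝔏M
  have hJL : (J₁ • ⊤ : Submodule A M) ≤ (𝔏 • ⊤ : Submodule A M) := Submodule.smul_mono_left hle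
  let π : (M ⧸ (J₁ • ⊤ : Submodule A M)) →ₗ[A] (M ⧸ (𝔏 • ⊤ : Submodule A M)) :=
    Submodule.mapQ _ _ LinearMap.id (by simpa using hJL)
  have hπmk : ∀ m : M, π (Submodule.Quotient.mk m) = Submodule.Quotient.mk m := fun m => rfl
  have hπsurj : Function.Surjective π := by
    intro q
    obtain ⟨m, rfl⟩ := Submodule.Quotient.mk_surjective _ q
    exact ⟨Submodule.Quotient.mk m, rfl⟩
  -- M/𝔏M is killed by J₁
  have hT : Module.IsTorsionBySet A (M ⧸ (𝔏 • ⊤ : Submodule A M)) (J₁ : Set A) := by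
    rw [Module.isTorsionBySet_quotient_iff]
    intro x a ha
    exact Submodule.smul_mem_smul (hle ha) mem_top
  letI : Module (A ⧸ J₁) (M ⧸ (𝔏 • ⊤ : Submodule A M)) := hT.module
  haveI : IsScalarTower A (A ⧸ J₁) (M ⧸ (𝔏 • ⊤ : Submodule A M)) := hT.isScalarTower
  haveI : IsScalarTower A (A ⧸ J₁) (M ⧸ (J₁ • ⊤ : Submodule A M)) :=
    (Module.isTorsionBySet_quotient_ideal_smul M J₁).isScalarTower
  haveI : IsScalarTower A (A ⧸ J₁) (N ⧸ (J₁ • ⊤ : Submodule A N)) :=
    (Module.isTorsionBySet_quotient_ideal_smul N J₁).isScalarTower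
  -- w₀ factors through N/J₁N
  have hker : (J₁ • ⊤ : Submodule A N) ≤ LinearMap.ker w₀ := by
    intro y hy
    refine Submodule.smul_induction_on hy ?_ ?_
    · intro a ha x _
      rw [LinearMap.mem_ker, map_smul]
      exact @hT (w₀ x) ⟨a, ha⟩
    · intro a b ha hb
      exact add_mem ha hb
  let w₀' : (N ⧸ (J₁ • ⊤ : Submodule A N)) →ₗ[A] (M ⧸ (𝔏 • ⊤ : Submodule A M)) :=
    (J₁ • ⊤ : Submodule A N).liftQ w₀ hker
  obtain ⟨h, hh⟩ := Module.projective_lifting_property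
    (π.extendScalarsOfSurjective hsurjA) (w₀'.extendScalarsOfSurjective hsurjA) hπsurj
  let w₁ : N →ₗ[A] (M ⧸ (J₁ • ⊤ : Submodule A M)) :=
    (h.restrictScalars A).comp (J₁ • ⊤ : Submodule A N).mkQ
  have hw₁ : ∀ y : N, π (w₁ y) = w₀ y := by
    intro y
    have := LinearMap.congr_fun hh (Submodule.Quotient.mk y)
    exact this
  -- the endomorphism e of Q = M/J₁M induced by w₁ ∘ u
  have hker2 : (J₁ • ⊤ : Submodule A M) ≤ LinearMap.ker (w₁.comp u) := by
    intro y hy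
    refine Submodule.smul_induction_on hy ?_ ?_
    · intro a ha x _
      rw [LinearMap.mem_ker, map_smul]
      exact smul_mk_eq_zero J₁ ha _
    · intro a b ha hb
      exact add_mem ha hb
  let e : Module.End A (M ⧸ (J₁ • ⊤ : Submodule A M)) :=
    (J₁ • ⊤ : Submodule A M).liftQ (w₁.comp u) hker2
  have he : ∀ m : M, e (Submodule.Quotient.mk m) = w₁ (u m) := fun m => rfl
  -- ε = e - 1 maps into 𝔏 • ⊤
  have hε : ∀ q, (e - 1) q ∈ (𝔏 • ⊤ : Submodule A (M ⧸ (J₁ • ⊤ : Submodule A M))) := by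
    intro q
    obtain ⟨m, rfl⟩ := Submodule.Quotient.mk_surjective _ q
    have h0 : π ((e - 1) (Submodule.Quotient.mk m)) = 0 := by
      rw [LinearMap.sub_apply, map_sub, he, hw₁, hw₀, Module.End.one_apply, hπmk, sub_self]
    obtain ⟨m', hm'⟩ := Submodule.Quotient.mk_surjective _ ((e - 1) (Submodule.Quotient.mk m))
    rw [← hm', hπmk, Submodule.Quotient.mk_eq_zero] at h0
    rw [← hm']
    have : (𝔏 • ⊤ : Submodule A (M ⧸ (J₁ • ⊤ : Submodule A M))) =
        Submodule.map (J₁ • ⊤ : Submodule A M).mkQ (𝔏 • ⊤ : Submodule A M) := by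
      rw [Submodule.map_smul'', Submodule.map_top, Submodule.range_mkQ]
    rw [this]
    exact ⟨m', h0, rfl⟩
  have hpow : ∀ (k : ℕ) (q), ((e - 1) ^ k) q ∈
      (𝔏 ^ k • ⊤ : Submodule A (M ⧸ (J₁ • ⊤ : Submodule A M))) := by
    intro k
    induction k with
    | zero => intro q; simp
    | succ k ih =>
      intro q
      have hstep : ((e - 1) ^ (k + 1)) q = (e - 1) (((e - 1) ^ k) q) := by
        rw [pow_succ', Module.End.mul_apply]
      rw [hstep]
      have hq := ih q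
      have hI : 𝔏 ^ (k + 1) = 𝔏 ^ k * 𝔏 := pow_succ _ _
      rw [hI, mul_smul]
      -- (e-1) maps 𝔏^k • ⊤ into 𝔏^(k+1) • ⊤
      refine Submodule.smul_induction_on hq ?_ ?_
      · intro a ha x _
        rw [map_smul]
        exact Submodule.smul_mem_smul ha (hε x)
      · intro a b ha hb
        rw [map_add]
        exact add_mem ha hb
  have hnil : IsNilpotent (e - 1) := by
    refine ⟨n, ?_⟩
    refine LinearMap.ext fun q => ?_
    have := hpow n q
    have hle' : (𝔏 ^ n • ⊤ : Submodule A (M ⧸ (J₁ • ⊤ : Submodule A M))) ≤ ⊥ := by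
      rw [← smul_top_quot_eq_bot (M := M) J₁]
      exact Submodule.smul_mono_left hn
    have := hle' this
    simpa using this
  have hunit : IsUnit e := by
    have : e = 1 + (e - 1) := by abel
    rw [this]
    exact hnil.isUnit_one_add
  obtain ⟨v, hv⟩ := hunit
  refine ⟨(v⁻¹).val.comp w₁, ?_⟩
  intro x
  rw [LinearMap.comp_apply, ← he, ← hv]
  have : (v⁻¹).val * v.val = 1 := by
    rw [← Units.val_mul, inv_mul_cancel, Units.val_one]
  exact LinearMap.congr_fun this _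

end Groth.Agent.H9_LeftInvLift
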