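import Mathlib

namespace Groth.Agent.H9.LenRestrict

universe u v

open IsLocalRing LinearMap Module Submodule

variable {Λ : Type u} {k : Type u} [CommRing Λ] [Field k] [Algebra Λ k]
  {A : Type u} [CommRing A] [Algebra Λ A] [IsLocalRing A] [Algebra A k] [IsScalarTower Λ A k]
  (hres : Function.Surjective (algebraMap A k))
  {M : Type v} [AddCommGroup M] [Module A M] [Module Λ M] [IsScalarTower Λ A M]

include hres in
theorem ker_eq : RingHom.ker (algebraMap A k) = maximalIdeal A :=
  IsLocalRing.eq_maximalIdeal (RingHom.ker_isMaximal_of_surjective _ hres)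

/-- the residue field is `k` -/
noncomputable def resEquiv : (A ⧸ maximalIdeal A) ≃ₗ[A] k :=
  (Submodule.quotEquivOfEq (maximalIdeal A) (LinearMap.ker (Algebra.linearMap A k))
    (by
      rw [← ker_eq hres]
      rfl)) ≪≫ₗ (Algebra.linearMap A k).quotKerEquivOfSurjective hres

include hres in
theorem covBy_length {p q : Submodule A M} (h : p ⋖ q) :
    Module.length Λ q = Module.length Λ p + Module.length Λ k := by
  let f : p →ₗ[A] q := inclusion h.le
  have key : IsSimpleModule A (q ⧸ LinearMap.range f) := by
    rwa [range_inclusion, ← covBy_iff_quot_is_simple h.le]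
  obtain ⟨m, hm, ⟨e⟩⟩ := isSimpleModule_iff_quot_maximal.mp key
  rw [eq_maximalIdeal hm] at e
  let g : q →ₗ[A] k := ((e.trans (resEquiv hres)).toLinearMap).comp (LinearMap.range f).mkQ
  have h1 : Function.Injective f := inclusion_injective _
  have h2 : Function.Surjective g :=
    (e.trans (resEquiv hres)).surjective.comp (LinearMap.range f).mkQ_surjective
  have h3 : Function.Exact f g :=
    LinearMap.exact_iff.mpr (((e.trans (resEquiv hres)).ker_comp
      (LinearMap.range f).mkQ).trans (LinearMap.range f).ker_mkQ)
  exact Module.length_eq_add_of_exact (f.restrictScalars Λ) (g.restrictScalars Λ)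
    (by simpa using h1) (by simpa using h2) (by simpa using h3)

include hres in
theorem length_restrict [Module.Finite Λ k] :
    Module.length Λ k * Module.length A M = Module.length Λ M := by
  by_cases h : IsFiniteLength A M
  · obtain ⟨s, hs_bot, hs_top⟩ := isFiniteLength_iff_exists_compositionSeries.mp h
    rw [← Module.length_compositionSeries s hs_bot hs_top]
    suffices ∀ i, Module.length Λ (s i) = Module.length Λ k * i by
      rw [← Fin.val_last s.length, ← this, ← RelSeries.last, hs_top]
      exact Module.length_top
    intro i
    induction i using Fin.induction with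
    | zero =>
      rw [← RelSeries.head, hs_bot]
      simp
    | succ i hi =>
      rw [covBy_length (Λ := Λ) hres (s.step i), hi]
      simp [mul_add]
  · have h' : ¬ IsFiniteLength Λ M := by
      contrapose! h
      rw [isFiniteLength_iff_isNoetherian_isArtinian] at h ⊢
      exact h.imp (isNoetherian_of_tower Λ) (isArtinian_of_tower Λ)
    rw [← Module.length_ne_top_iff, not_ne_iff] at h h'
    have ne : Module.length Λ k ≠ 0 := by
      rw [← pos_iff_ne_zero]
      exact Module.length_pos
    rw [h, h', ENat.mul_top ne]

end Groth.Agent.H9.LenRestrict
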