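import Mathlib
import Groth.Prelude.Def_Formal2

/-! The six-term `lim`/`lim¹` exact sequence of a short exact sequence of towers. -/

namespace Groth.Agent.H9Snake

universe u

open Formal2

variable (G' G G'' : ℕ → Type u)
    [∀ n, AddCommGroup (G' n)] [∀ n, AddCommGroup (G n)] [∀ n, AddCommGroup (G'' n)]
    (t' : ∀ n, G' (n + 1) →+ G' n) (t : ∀ n, G (n + 1) →+ G n) (t'' : ∀ n, G'' (n + 1) →+ G'' n)
    (u : ∀ n, G' n →+ G n) (v : ∀ n, G n →+ G'' n)

/-- componentwise map -/
def piMap {H K : ℕ → Type u} [∀ n, AddCommGroup (H n)] [∀ n, AddCommGroup (K n)]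
    (f : ∀ n, H n →+ K n) : (∀ n, H n) →+ (∀ n, K n) where
  toFun x := fun n => f n (x n)
  map_zero' := by ext n; simp
  map_add' x y := by ext n; simp

theorem piMap_apply {H K : ℕ → Type u} [∀ n, AddCommGroup (H n)] [∀ n, AddCommGroup (K n)]
    (f : ∀ n, H n →+ K n) (x : ∀ n, H n) (n : ℕ) : piMap f x n = f n (x n) := rfl

theorem comm {H K : ℕ → Type u} [∀ n, AddCommGroup (H n)] [∀ n, AddCommGroup (K n)]
    (s : ∀ n, H (n + 1) →+ H n) (r : ∀ n, K (n + 1) →+ K n)
    (f : ∀ n, H n →+ K n) (hf : ∀ n x, r n (f (n + 1) x) = f n (s n x)) (x : ∀ n, H n) :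
    towerDiff K r (piMap f x) = piMap f (towerDiff H s x) := by
  ext n
  show f n (x n) - r n (f (n + 1) (x (n + 1))) = f n (x n - s n (x (n + 1)))
  rw [hf, map_sub]

theorem six_term
    (hu : ∀ n x, t n (u (n + 1) x) = u n (t' n x)) (hv : ∀ n x, t'' n (v (n + 1) x) = v n (t n x))
    (hinj : ∀ n, Function.Injective (u n)) (hsurj : ∀ n, Function.Surjective (v n))
    (hex : ∀ n, (v n).ker = (u n).range) :
    ∃ (α : Formal2.limZero G' t' →+ Formal2.limZero G t) (β : Formal2.limZero G t →+ Formal2.limZero G'' t'')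
      (δ : Formal2.limZero G'' t'' →+ Formal2.limOne G' t')
      (ε : Formal2.limOne G' t' →+ Formal2.limOne G t) (ζ : Formal2.limOne G t →+ Formal2.limOne G'' t''),
      (∀ (x : Formal2.limZero G' t') (n : ℕ), (α x : ∀ n, G n) n = u n ((x : ∀ n, G' n) n)) ∧
      (∀ (x : Formal2.limZero G t) (n : ℕ), (β x : ∀ n, G'' n) n = v n ((x : ∀ n, G n) n)) ∧
      (∀ (z : Formal2.limZero G'' t'') (y : ∀ n, G n) (w : ∀ n, G' n),
          (∀ n, v n (y n) = (z : ∀ n, G'' n) n) → (∀ n, u n (w n) = Formal2.towerDiff G t y n) →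
            δ z = (QuotientAddGroup.mk w : Formal2.limOne G' t')) ∧
      (∀ y : ∀ n, G' n, ε (QuotientAddGroup.mk y : Formal2.limOne G' t') =
          (QuotientAddGroup.mk (fun n => u n (y n)) : Formal2.limOne G t)) ∧
      (∀ y : ∀ n, G n, ζ (QuotientAddGroup.mk y : Formal2.limOne G t) =
          (QuotientAddGroup.mk (fun n => v n (y n)) : Formal2.limOne G'' t'')) ∧
      Function.Injective α ∧ α.range = β.ker ∧ β.range = δ.ker ∧ δ.range = ε.ker ∧ ε.range = ζ.ker ∧
      Function.Surjective ζ := by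
  classical
  set U := piMap u with hU
  set V := piMap v with hV
  set d' := towerDiff G' t' with hd'
  set d := towerDiff G t with hd
  set d'' := towerDiff G'' t'' with hd''
  have cU : ∀ x, d (U x) = U (d' x) := comm t' t u hu
  have cV : ∀ x, d'' (V x) = V (d x) := comm t t'' v hv
  have Uinj : Function.Injective U := by
    intro x y h
    ext n
    exact hinj n (congrFun h n)
  have Vsurj : Function.Surjective V := by
    intro z
    choose y hy using fun n => hsurj n (z n)
    exact ⟨y, funext hy⟩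
  have VU : ∀ x, V (U x) = 0 := by
    intro x
    ext n
    have : u n (x n) ∈ (v n).ker := by rw [hex n]; exact ⟨_, rfl⟩
    exact this
  have kerV : ∀ y, V y = 0 → ∃ x, U x = y := by
    intro y hy
    have : ∀ n, ∃ xn, u n xn = y n := by
      intro n
      have h1 : y n ∈ (v n).ker := congrFun hy n
      rw [hex n] at h1
      exact h1
    choose x hx using this
    exact ⟨x, funext hx⟩
  -- α, β
  let α : limZero G' t' →+ limZero G t :=
    (U.comp (limZero G' t').subtype).codRestrict (limZero G t) (by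
      intro x
      show d (U x.1) = 0
      rw [cU, show d' x.1 = 0 from x.2, map_zero])
  let β : limZero G t →+ limZero G'' t'' :=
    (V.comp (limZero G t).subtype).codRestrict (limZero G'' t'') (by
      intro x
      show d'' (V x.1) = 0
      rw [cV, show d x.1 = 0 from x.2, map_zero])
  -- ε, ζ
  let ε : limOne G' t' →+ limOne G t :=
    QuotientAddGroup.map _ _ U (by
      rintro _ ⟨x, rfl⟩
      exact ⟨U x, cU x⟩)
  let ζ : limOne G t →+ limOne G'' t'' :=
    QuotientAddGroup.map _ _ V (by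
      rintro _ ⟨x, rfl⟩
      exact ⟨V x, cV x⟩)
  -- δ
  have exδ : ∀ z : limZero G'' t'', ∃ (y : ∀ n, G n) (w : ∀ n, G' n), V y = z.1 ∧ U w = d y := by
    intro z
    obtain ⟨y, hy⟩ := Vsurj z.1
    have h1 : V (d y) = 0 := by rw [← cV, hy]; exact z.2
    obtain ⟨w, hw⟩ := kerV _ h1
    exact ⟨y, w, hy, hw⟩
  have indep : ∀ (z : limZero G'' t'') (y y0 : ∀ n, G n) (w w0 : ∀ n, G' n),
      V y = z.1 → U w = d y → V y0 = z.1 → U w0 = d y0 →
      (QuotientAddGroup.mk w : limOne G' t') = QuotientAddGroup.mk w0 := by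
    intro z y y0 w w0 h1 h2 h3 h4
    have h5 : V (y - y0) = 0 := by rw [map_sub, h1, h3, sub_self]
    obtain ⟨x, hx⟩ := kerV _ h5
    have h6 : U (w - w0) = U (d' x) := by
      rw [map_sub, h2, h4, ← map_sub, ← hx, cU]
    have h7 := Uinj h6
    rw [QuotientAddGroup.eq]
    refine ⟨-x, ?_⟩
    rw [map_neg]
    show -d' x = -w + w0
    rw [← h7]
    abel
  let δf : limZero G'' t'' → limOne G' t' := fun z =>
    QuotientAddGroup.mk (Classical.choose (Classical.choose_spec (exδ z)))
  have δspec : ∀ (z : limZero G'' t'') (y : ∀ n, G n) (w : ∀ n, G' n), V y = z.1 → U w = d y →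
      δf z = QuotientAddGroup.mk w := by
    intro z y w h1 h2
    have h3 := Classical.choose_spec (Classical.choose_spec (exδ z))
    exact indep z _ y _ w h3.1 h3.2 h1 h2
  let δ : limZero G'' t'' →+ limOne G' t' :=
    { toFun := δf
      map_zero' := by
        have := δspec 0 0 0 (by simp) (by simp)
        rw [this]
        rfl
      map_add' := by
        intro z1 z2
        obtain ⟨y1, w1, h1, h2⟩ := exδ z1
        obtain ⟨y2, w2, h3, h4⟩ := exδ z2
        rw [δspec z1 y1 w1 h1 h2, δspec z2 y2 w2 h3 h4,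
          δspec (z1 + z2) (y1 + y2) (w1 + w2) (by rw [map_add, h1, h3]; rfl)
            (by rw [map_add, map_add, h2, h4])]
        rfl }
  refine ⟨α, β, δ, ε, ζ, fun x n => rfl, fun x n => rfl, ?_, fun y => rfl, fun y => rfl,
    ?_, ?_, ?_, ?_, ?_, ?_⟩
  · intro z y w h1 h2
    exact δspec z y w (funext h1) (funext h2)
  · -- α injective
    intro x y h
    apply Subtype.ext
    apply Uinj
    exact congrArg Subtype.val h
  · -- range α = ker β
    ext x
    constructor
    · rintro ⟨x', rfl⟩
      apply Subtype.ext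
      exact VU x'.1
    · intro hx
      have h1 : V x.1 = 0 := congrArg Subtype.val hx
      obtain ⟨x', hx'⟩ := kerV _ h1
      have h2 : d' x' = 0 := by
        apply Uinj
        rw [← cU, hx', map_zero]
        exact x.2
      exact ⟨⟨x', h2⟩, Subtype.ext hx'⟩
  · -- range β = ker δ
    ext z
    constructor
    · rintro ⟨y0, rfl⟩
      show δf _ = 0
      rw [δspec (β y0) y0.1 0 rfl (by rw [map_zero]; exact y0.2.symm)]
      rfl
    · intro hz
      obtain ⟨y, w, h1, h2⟩ := exδ z
      have h3 : (QuotientAddGroup.mk w : limOne G' t') = 0 := by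
        rw [← δspec z y w h1 h2]
        exact hz
      rw [QuotientAddGroup.eq_zero_iff] at h3
      obtain ⟨x', hx'⟩ := h3
      have h4 : d (y - U x') = 0 := by
        rw [map_sub, cU, ← h2]
        show U w - U (d' x') = 0
        rw [hx', sub_self]
      refine ⟨⟨y - U x', h4⟩, ?_⟩
      apply Subtype.ext
      show V (y - U x') = z.1
      rw [map_sub, VU, sub_zero, h1]
  · -- range δ = ker ε
    ext c
    constructor
    · rintro ⟨z, rfl⟩
      obtain ⟨y, w, h1, h2⟩ := exδ z
      show ε (δf z) = 0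
      rw [δspec z y w h1 h2]
      show (QuotientAddGroup.mk (U w) : limOne G t) = 0
      rw [QuotientAddGroup.eq_zero_iff, h2]
      exact ⟨y, rfl⟩
    · intro hc
      obtain ⟨w, rfl⟩ := QuotientAddGroup.mk_surjective c
      have h1 : (QuotientAddGroup.mk (U w) : limOne G t) = 0 := hc
      rw [QuotientAddGroup.eq_zero_iff] at h1
      obtain ⟨y, hy⟩ := h1
      have h2 : d'' (V y) = 0 := by
        rw [cV]
        show V (d y) = 0
        rw [hy, VU]
      refine ⟨⟨V y, h2⟩, ?_⟩
      exact δspec ⟨V y, h2⟩ y w rfl hy.symm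
  · -- range ε = ker ζ
    ext c
    constructor
    · rintro ⟨c', rfl⟩
      obtain ⟨w, rfl⟩ := QuotientAddGroup.mk_surjective c'
      show (QuotientAddGroup.mk (V (U w)) : limOne G'' t'') = 0
      rw [VU]
      rfl
    · intro hc
      obtain ⟨y, rfl⟩ := QuotientAddGroup.mk_surjective c
      have h1 : (QuotientAddGroup.mk (V y) : limOne G'' t'') = 0 := hc
      rw [QuotientAddGroup.eq_zero_iff] at h1
      obtain ⟨z'', hz''⟩ := h1
      obtain ⟨y1, hy1⟩ := Vsurj z''
      have h2 : V (y - d y1) = 0 := by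
        rw [map_sub, ← cV, hy1]
        show V y - d'' z'' = 0
        rw [hz'', sub_self]
      obtain ⟨w, hw⟩ := kerV _ h2
      refine ⟨QuotientAddGroup.mk w, ?_⟩
      show (QuotientAddGroup.mk (U w) : limOne G t) = QuotientAddGroup.mk y
      rw [QuotientAddGroup.eq, hw]
      refine ⟨y1, ?_⟩
      show d y1 = -(y - d y1) + y
      abel
  · -- ζ surjective
    intro c
    obtain ⟨z, rfl⟩ := QuotientAddGroup.mk_surjective c
    obtain ⟨y, rfl⟩ := Vsurj z
    exact ⟨QuotientAddGroup.mk y, rfl⟩

end Groth.Agent.H9Snake
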