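import Mathlib
import Groth.Prelude.Def_LinTop

/-! helper9: in an admissible ring, `1 - j` is a unit for `j` in an ideal of definition. -/

namespace Groth.Agent.H9_LinTopUnit

open Filter Topology

universe u

variable (A : Type u) [CommRing A] [UniformSpace A] [IsUniformAddGroup A] [IsTopologicalRing A]

theorem nonarch (hA : LinTop.IsAdmissible A) : NonarchimedeanAddGroup A := by
  haveI : IsLinearTopology A A := hA.1.1
  refine { is_nonarchimedean := ?_ }
  intro U hU
  obtain ⟨I, hI, hIU⟩ := (IsLinearTopology.hasBasis_open_ideal (R := A)).mem_iff.mp hU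
  exact ⟨⟨I.toAddSubgroup, hI⟩, hIU⟩

variable {A}

theorem isUnit_one_sub (hA : LinTop.IsAdmissible A) (J : Ideal A)
    (hJ : LinTop.IsIdealOfDefinition A J) (j : A) (hj : j ∈ J) : IsUnit (1 - j) := by
  haveI := nonarch A hA
  haveI : T2Space A := hA.2.1
  haveI : CompleteSpace A := hA.2.2
  have htend : Tendsto (fun n : ℕ => j ^ n) cofinite (𝓝 0) := by
    rw [Nat.cofinite_eq_atTop]
    intro U hU
    obtain ⟨n, -, hn⟩ := hJ.2 U hU
    rw [Filter.mem_map, Filter.mem_atTop_sets]
    refine ⟨n, fun m hm => ?_⟩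
    apply hn
    exact Ideal.pow_le_pow_right hm (Ideal.pow_mem_pow hj m)
  have hsum : Summable (fun n : ℕ => j ^ n) :=
    NonarchimedeanAddGroup.summable_of_tendsto_cofinite_zero htend
  exact IsUnit.of_mul_eq_one _ (hsum.one_sub_mul_tsum_pow)

theorem isUnit_iff (hA : LinTop.IsAdmissible A) (J : Ideal A)
    (hJ : LinTop.IsIdealOfDefinition A J) (f : A) :
    IsUnit f ↔ IsUnit (Ideal.Quotient.mk J f) := by
  constructor
  · intro h
    exact h.map _
  · intro h
    obtain ⟨g, hg⟩ := h.exists_right_inv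
    obtain ⟨g, rfl⟩ := Ideal.Quotient.mk_surjective g
    rw [← map_mul, ← map_one (Ideal.Quotient.mk J), Ideal.Quotient.eq] at hg
    have h1 : f * g = 1 - (1 - f * g) := by ring
    have hu : IsUnit (f * g) := by
      rw [h1]
      apply isUnit_one_sub hA J hJ
      have := J.neg_mem hg
      rwa [neg_sub] at this
    exact isUnit_of_mul_isUnit_left hu

end Groth.Agent.H9_LinTopUnit
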