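import Mathlib
import Groth.Prelude.Def_LinTop
import Groth.Agent.Lib.helper9.H9_LinTopUnit

/-! helper9: an admissible ring is `I`-adically complete for any f.g. ideal `I` inside an ideal of
definition. -/

namespace Groth.Agent.H9_LinTopComplete

open Filter Topology

universe u

variable {A : Type u} [CommRing A] [UniformSpace A] [IsUniformAddGroup A] [IsTopologicalRing A]

/-- an element lying in all powers of an ideal of definition is zero -/
theorem eq_zero_of_forall_mem (hA : LinTop.IsAdmissible A) (J : Ideal A)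
    (hJ : LinTop.IsIdealOfDefinition A J) (x : A) (hx : ∀ n : ℕ, x ∈ J ^ n) : x = 0 := by
  haveI : T2Space A := hA.2.1
  by_contra hne
  have hU : ({x}ᶜ : Set A) ∈ 𝓝 (0 : A) := isOpen_compl_singleton.mem_nhds (Ne.symm hne)
  obtain ⟨n, -, hn⟩ := hJ.2 _ hU
  exact hn (hx n) rfl

/-- sequences whose `m`-th term lies in `J^m` are summable -/
theorem summable_of_mem_pow (hA : LinTop.IsAdmissible A) (J : Ideal A)
    (hJ : LinTop.IsIdealOfDefinition A J) (t : ℕ → A) (ht : ∀ m, t m ∈ J ^ m) : Summable t := by
  haveI := Groth.Agent.H9_LinTopUnit.nonarch A hA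
  haveI : CompleteSpace A := hA.2.2
  apply NonarchimedeanAddGroup.summable_of_tendsto_cofinite_zero
  rw [Nat.cofinite_eq_atTop]
  intro U hU
  obtain ⟨n, -, hn⟩ := hJ.2 U hU
  rw [Filter.mem_map, Filter.mem_atTop_sets]
  refine ⟨n, fun m hm => ?_⟩
  apply hn
  exact Ideal.pow_le_pow_right hm (ht m)

/-- key convergence lemma -/
theorem exists_limit (hA : LinTop.IsAdmissible A) (J : Ideal A)
    (hJ : LinTop.IsIdealOfDefinition A J) {r : ℕ} (a : Fin r → A) (haJ : ∀ i, a i ∈ J)
    (g : ℕ → A) (c : ℕ → Fin r → A)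
    (hgc : ∀ n, g (n + 1) - g n = ∑ i, c n i * a i ^ n) :
    ∃ L : A, ∀ n, L - g n ∈ Ideal.span (Set.range a) ^ n := by
  haveI : T2Space A := hA.2.1
  -- the inner series
  have hsum : ∀ (i : Fin r) (n : ℕ), Summable (fun m : ℕ => a i ^ m * c (n + m) i) := by
    intro i n
    apply summable_of_mem_pow hA J hJ
    intro m
    exact Ideal.mul_mem_right _ _ (Ideal.pow_mem_pow (haJ i) m)
  set T : ℕ → A := fun n => ∑ i, a i ^ n * ∑' m, a i ^ m * c (n + m) i with hT
  have hTmem : ∀ n, T n ∈ Ideal.span (Set.range a) ^ n := by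
    intro n
    apply Ideal.sum_mem
    intro i _
    apply Ideal.mul_mem_right
    exact Ideal.pow_mem_pow (Ideal.subset_span (Set.mem_range_self i)) n
  have hHas : ∀ n, HasSum (fun m : ℕ => g (n + m + 1) - g (n + m)) (T n) := by
    intro n
    have h1 : ∀ i : Fin r, HasSum (fun m : ℕ => a i ^ n * (a i ^ m * c (n + m) i))
        (a i ^ n * ∑' m, a i ^ m * c (n + m) i) := fun i => (hsum i n).hasSum.mul_left _
    have h2 := hasSum_sum (s := Finset.univ) (fun i _ => h1 i)
    convert h2 using 1
    funext m
    rw [hgc (n + m)]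
    apply Finset.sum_congr rfl
    intro i _
    rw [pow_add]
    ring
  have hTend : ∀ n, Tendsto (fun M : ℕ => g (n + M)) atTop (𝓝 (g n + T n)) := by
    intro n
    have h := (hHas n).tendsto_sum_nat
    have h' : (fun M : ℕ => ∑ m ∈ Finset.range M, (g (n + m + 1) - g (n + m))) =
        fun M => g (n + M) - g n := by
      funext M
      have := Finset.sum_range_sub (fun m => g (n + m)) M
      simpa [add_assoc] using this
    rw [h'] at h
    have h2 := h.const_add (g n)
    simpa using h2
  refine ⟨g 0 + T 0, fun n => ?_⟩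
  have h0 : Tendsto (fun M : ℕ => g M) atTop (𝓝 (g 0 + T 0)) := by
    simpa using hTend 0
  have hn : Tendsto (fun M : ℕ => g (n + M)) atTop (𝓝 (g 0 + T 0)) := by
    have := (tendsto_add_atTop_iff_nat (f := g) n).mpr h0
    simpa [add_comm] using this
  have huniq := tendsto_nhds_unique hn (hTend n)
  rw [huniq, add_sub_cancel_left]
  exact hTmem n

theorem isAdicComplete (hA : LinTop.IsAdmissible A) (J : Ideal A)
    (hJ : LinTop.IsIdealOfDefinition A J) (I : Ideal A) (hI : I.FG) (hIJ : I ≤ J) :
    IsAdicComplete I A := by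
  classical
  have htop : ∀ n : ℕ, (I ^ n • (⊤ : Submodule A A) : Submodule A A) = I ^ n := by
    intro n
    rw [smul_eq_mul, Ideal.mul_top]
  refine { haus' := ?_, prec' := ?_ }
  · intro x hx
    apply eq_zero_of_forall_mem hA J hJ
    intro n
    have := SModEq.sub_mem.mp (hx n)
    rw [sub_zero, htop] at this
    exact Ideal.pow_right_mono hIJ n this
  · intro f hf
    obtain ⟨r, a, ha⟩ := Submodule.fg_iff_exists_fin_generating_family.mp hI
    have haI : ∀ i, a i ∈ I := fun i => ha ▸ Submodule.subset_span (Set.mem_range_self i)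
    -- powers
    have hk : ∀ n : ℕ, ∃ k : ℕ, I ^ k ≤ Ideal.span (Set.range fun i => a i ^ n) := by
      intro n
      apply Ideal.exists_pow_le_of_le_radical_of_fg _ hI
      rw [← ha]
      change Ideal.span (Set.range a) ≤ _
      rw [Ideal.span_le]
      rintro _ ⟨i, rfl⟩
      by_cases hn : n = 0
      · subst hn
        have : (1 : A) ∈ Ideal.span (Set.range fun i => a i ^ 0) :=
          Ideal.subset_span ⟨i, pow_zero _⟩
        rw [(Ideal.eq_top_iff_one _).mpr this, Ideal.radical_top]
        trivial
      · exact ⟨n, Ideal.subset_span ⟨i, rfl⟩⟩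
    choose k hk using hk
    set K : ℕ → ℕ := fun n => n + ∑ i ∈ Finset.range (n + 1), k i with hK
    have hKmono : ∀ n, K n ≤ K (n + 1) := by
      intro n
      simp only [hK]
      rw [Finset.sum_range_succ _ (n + 1)]
      omega
    have hKn : ∀ n, n ≤ K n := fun n => Nat.le_add_right _ _
    have hKk : ∀ n, k n ≤ K n := by
      intro n
      simp only [hK]
      rw [Finset.sum_range_succ]
      omega
    have hfsub : ∀ {m n}, m ≤ n → f m - f n ∈ I ^ m := by
      intro m n hmn
      have := SModEq.sub_mem.mp (hf hmn)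
      rwa [htop] at this
    have hstep : ∀ n, f (K (n + 1)) - f (K n) ∈ Ideal.span (Set.range fun i => a i ^ n) := by
      intro n
      apply hk n
      apply Ideal.pow_le_pow_right (hKk n)
      have := hfsub (hKmono n)
      rw [← neg_sub]
      exact (I ^ K n).neg_mem this
    have hc : ∀ n, ∃ c : Fin r → A, ∑ i, c i * a i ^ n = f (K (n + 1)) - f (K n) := by
      intro n
      exact (Ideal.mem_span_range_iff_exists_fun).mp (hstep n)
    choose c hc using hc
    obtain ⟨L, hL⟩ := exists_limit hA J hJ a (fun i => hIJ (haI i)) (fun n => f (K n)) c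
      (fun n => (hc n).symm)
    refine ⟨L, fun n => ?_⟩
    rw [SModEq.sub_mem, htop]
    have h1 : f n - f (K n) ∈ I ^ n := hfsub (hKn n)
    have h2 : L - f (K n) ∈ I ^ n := by
      have := hL n
      have ha' : Ideal.span (Set.range a) = I := ha
      rwa [ha'] at this
    have : f n - L = (f n - f (K n)) - (L - f (K n)) := by ring
    rw [this]
    exact Ideal.sub_mem _ h1 h2

end Groth.Agent.H9_LinTopComplete
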