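import Mathlib
import Groth.Agent.Lib.helper9.H9_MilK

set_option autoImplicit false
universe u v w

namespace H9_MilK

open MilK

section Bimul

variable {F : Type u} [Field F] {M : Type w} [AddCommGroup M]
  (B : Fˣ → Fˣ → M)
  (hl : ∀ a b c, B (a * b) c = B a c + B b c)
  (hr : ∀ a b c, B a (b * c) = B a b + B a c)
  (hs : ∀ a b : Fˣ, (a : F) + (b : F) = 1 → B a b = 0)

include hl in
theorem bimul_one_left (c : Fˣ) : B 1 c = 0 := by
  have h := hl 1 1 c
  rw [mul_one] at h
  exact left_eq_add.mp h

include hr in
theorem bimul_one_right (a : Fˣ) : B a 1 = 0 := by
  have h := hr a 1 1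
  rw [mul_one] at h
  exact left_eq_add.mp h

include hl in
theorem bimul_inv_left (a c : Fˣ) : B a⁻¹ c = -B a c := by
  have h := hl a a⁻¹ c
  rw [mul_inv_cancel, bimul_one_left B hl] at h
  exact eq_neg_of_add_eq_zero_right h.symm

include hr in
theorem bimul_inv_right (a c : Fˣ) : B a c⁻¹ = -B a c := by
  have h := hr a c c⁻¹
  rw [mul_inv_cancel, bimul_one_right B hr] at h
  exact eq_neg_of_add_eq_zero_right h.symm

include hl hr hs in
theorem bimul_neg_self (x : Fˣ) : B x (-x) = 0 := by
  by_cases hx : x = 1
  · subst hx
    exact bimul_one_left B hl _
  · have hx1 : (1 : F) - (x : F) ≠ 0 := by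
      intro h
      apply hx
      apply Units.ext
      rw [Units.val_one]
      exact (sub_eq_zero.mp h).symm
    have hx2 : (1 : F) - ((x⁻¹ : Fˣ) : F) ≠ 0 := by
      intro h
      apply hx
      have : ((x⁻¹ : Fˣ) : F) = 1 := (sub_eq_zero.mp h).symm
      have h2 : x⁻¹ = 1 := Units.ext (by rw [this, Units.val_one])
      exact inv_eq_one.mp h2
    set u : Fˣ := Units.mk0 _ hx1 with hu
    set v : Fˣ := Units.mk0 _ hx2 with hv
    have e : -x = u / v := by
      apply Units.ext
      rw [Units.val_neg, Units.val_div_eq_div_val, hu, hv, Units.val_mk0, Units.val_mk0,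
        Units.val_inv_eq_inv_val]
      have hxne : (x : F) ≠ 0 := x.ne_zero
      rw [Units.val_inv_eq_inv_val] at hx2
      rw [eq_div_iff hx2, mul_sub, mul_one, neg_mul, mul_inv_cancel₀ hxne]
      ring
    have h1 : B x u = 0 := by
      apply hs
      rw [hu, Units.val_mk0]; ring
    have h2 : B x⁻¹ v = 0 := by
      apply hs
      rw [hv, Units.val_mk0]; ring
    rw [e, div_eq_mul_inv, hr, bimul_inv_right B hr, h1, zero_add]
    rw [bimul_inv_left B hl] at h2
    exact h2

include hl hr hs in
theorem bimul_swap (x y : Fˣ) : B x y = -B y x := by
  have h := bimul_neg_self B hl hr hs (x * y)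
  have e : -(x * y) = (-x) * y := by rw [neg_mul]
  have e' : -(x * y) = x * (-y) := by rw [mul_neg]
  rw [hl] at h
  nth_rewrite 1 [e] at h
  nth_rewrite 1 [e'] at h
  rw [hr, hr, bimul_neg_self B hl hr hs, bimul_neg_self B hl hr hs] at h
  rw [eq_neg_iff_add_eq_zero]
  simpa using h

include hl hr hs in
theorem bimul_self (x : Fˣ) : B x x = B x (-1) := by
  have h := bimul_neg_self B hl hr hs x
  have e : x = (-x) * (-1) := by simp
  nth_rewrite 2 [e]
  rw [hr, h, zero_add]

end Bimul

section Positional

variable {F : Type u} [Field F]

theorem isSteinberg_update_update {n : ℕ} (x : Fin n → Fˣ) (i j : Fin n) (hij : i ≠ j)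
    (a b : Fˣ) (h : (a : F) + (b : F) = 1) :
    IsSteinberg F (Function.update (Function.update x i a) j b) := by
  rcases lt_or_gt_of_ne hij with hlt | hgt
  · refine ⟨i, j, hlt, ?_⟩
    rw [Function.update_of_ne hij, Function.update_self, Function.update_self]
    exact h
  · refine ⟨j, i, hgt, ?_⟩
    rw [Function.update_of_ne hij, Function.update_self, Function.update_self, add_comm]
    exact h

theorem symbol_swap_update {n : ℕ} (x : Fin n → Fˣ) (i j : Fin n) (hij : i ≠ j) (a b : Fˣ) :
    (symbol (Function.update (Function.update x i a) j b) : K F n) =
      -symbol (Function.update (Function.update x i b) j a) := by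
  refine bimul_swap (fun a b => (symbol (Function.update (Function.update x i a) j b) : K F n))
    ?_ ?_ ?_ a b
  · intro a b c
    have comm : ∀ a c : Fˣ, Function.update (Function.update x i a) j c =
        Function.update (Function.update x j c) i a := fun a c => Function.update_comm hij a c x
    show symbol (Function.update (Function.update x i (a * b)) j c) =
      symbol (Function.update (Function.update x i a) j c) +
        symbol (Function.update (Function.update x i b) j c)
    rw [comm, comm a c, comm b c]
    exact symbol_update_mul _ i a b
  · intro a b c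
    exact symbol_update_mul _ j b c
  · intro a b h
    exact symbol_eq_zero_of_isSteinberg _ (isSteinberg_update_update x i j hij a b h)

theorem symbol_self_update {n : ℕ} (x : Fin n → Fˣ) (i j : Fin n) (hij : i ≠ j) (a : Fˣ) :
    (symbol (Function.update (Function.update x i a) j a) : K F n) =
      symbol (Function.update (Function.update x i a) j (-1)) := by
  refine bimul_self (fun a b => (symbol (Function.update (Function.update x i a) j b) : K F n))
    ?_ ?_ ?_ a
  · intro a b c
    have comm : ∀ a c : Fˣ, Function.update (Function.update x i a) j c =
        Function.update (Function.update x j c) i a := fun a c => Function.update_comm hij a c x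
    show symbol (Function.update (Function.update x i (a * b)) j c) =
      symbol (Function.update (Function.update x i a) j c) +
        symbol (Function.update (Function.update x i b) j c)
    rw [comm, comm a c, comm b c]
    exact symbol_update_mul _ i a b
  · intro a b c
    exact symbol_update_mul _ j b c
  · intro a b h
    exact symbol_eq_zero_of_isSteinberg _ (isSteinberg_update_update x i j hij a b h)

end Positional

end H9_MilK

namespace H9_MilK

open MilK

section Gen

variable (A : Type u) [CommRing A] [IsDomain A] [IsDiscreteValuationRing A]
  (L : Type v) [Field L] [Algebra A L] [IsFractionRing A L]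

/-- decomposition of units of the fraction field of a DVR -/
theorem exists_zpow_mul_unit (ϖ : A) (hϖ : Irreducible ϖ) (a : Lˣ) :
    ∃ (e : ℤ) (u : Aˣ), a = unitFrac A L ϖ hϖ.ne_zero ^ e * unitToFrac A L u := by
  obtain ⟨x, y, hy, hxy⟩ := IsFractionRing.div_surjective (A := A) (a : L)
  have hy0 : y ≠ 0 := nonZeroDivisors.ne_zero hy
  have hx0 : x ≠ 0 := by
    rintro rfl
    rw [map_zero, zero_div] at hxy
    exact a.ne_zero hxy.symm
  obtain ⟨m, u, hu⟩ := IsDiscreteValuationRing.eq_unit_mul_pow_irreducible hx0 hϖ
  obtain ⟨k, v, hv⟩ := IsDiscreteValuationRing.eq_unit_mul_pow_irreducible hy0 hϖ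
  refine ⟨(m : ℤ) - k, u * v⁻¹, ?_⟩
  apply Units.ext
  have hP : algebraMap A L ϖ ≠ 0 := (unitFrac A L ϖ hϖ.ne_zero).ne_zero
  have hvu : algebraMap A L (v : A) ≠ 0 := (unitToFrac A L v).ne_zero
  have hvinv : algebraMap A L ((v⁻¹ : Aˣ) : A) = (algebraMap A L (v : A))⁻¹ := by
    apply eq_inv_of_mul_eq_one_left
    rw [← map_mul, Units.inv_mul, map_one]
  rw [← hxy, hu, hv]
  simp only [Units.val_mul, Units.val_zpow_eq_zpow_val, coe_unitFrac, unitToFrac, Units.coe_map,
    MonoidHom.coe_coe, map_mul, map_pow, hvinv]
  rw [zpow_sub₀ hP, zpow_natCast, zpow_natCast]
  field_simp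

/-- an additive map killing the symbols `{π, u₁, …, uₙ}` (all uniformizers) kills symbols of units -/
theorem units_of_special {M : Type w} [AddCommGroup M] (n : ℕ) (k : K L (n + 1) →+ M)
    (hk : ∀ (ϖ : A) (hϖ : Irreducible ϖ) (u : Fin n → Aˣ),
      k (symbol (Fin.cons (unitFrac A L ϖ hϖ.ne_zero) fun i => unitToFrac A L (u i))) = 0)
    (u : Fin (n + 1) → Aˣ) : k (symbol fun i => unitToFrac A L (u i)) = 0 := by
  obtain ⟨ϖ, hϖ⟩ := IsDiscreteValuationRing.exists_irreducible A
  have hϖ' : Irreducible (ϖ * (u 0 : A)) := (irreducible_mul_units (u 0)).mpr hϖ
  have h1 := hk ϖ hϖ (fun i => u i.succ)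
  have h2 := hk (ϖ * (u 0 : A)) hϖ' (fun i => u i.succ)
  rw [unitFrac_mul_unit A L ϖ hϖ.ne_zero (u 0) hϖ'.ne_zero, symbol_cons_mul, map_add, h1,
    zero_add] at h2
  have e : (fun i => unitToFrac A L (u i)) =
      (Fin.cons (unitToFrac A L (u 0)) fun i => unitToFrac A L (u i.succ) : Fin (n + 1) → Lˣ) := by
    funext i
    refine Fin.cases ?_ (fun j => ?_) i
    · simp
    · simp
  rw [e]
  exact h2

/-- Bass–Tate generation: an additive map out of `K L (n+1)` killing all symbols
`{π, u₁, …, uₙ}` with `π` a uniformizer and `uᵢ` units is zero. -/
theorem kills_of_special {M : Type w} [AddCommGroup M] (n : ℕ) (k : K L (n + 1) →+ M)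
    (hk : ∀ (ϖ : A) (hϖ : Irreducible ϖ) (u : Fin n → Aˣ),
      k (symbol (Fin.cons (unitFrac A L ϖ hϖ.ne_zero) fun i => unitToFrac A L (u i))) = 0) :
    k = 0 := by
  classical
  obtain ⟨π, hπ⟩ := IsDiscreteValuationRing.exists_irreducible A
  set P : Lˣ := unitFrac A L π hπ.ne_zero with hP
  have hPu : ∀ u : Aˣ, unitToFrac A L u ≠ P := by
    intro u h
    have h1 : algebraMap A L (u : A) = algebraMap A L π := congrArg Units.val h
    have h2 := IsFractionRing.injective A L h1
    exact hπ.not_isUnit (h2 ▸ u.isUnit)
  have hunits := units_of_special A L n k hk
  -- Step B: basic tuples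
  have hB : ∀ m : ℕ, ∀ a : Fin (n + 1) → Lˣ,
      (∀ i, a i = P ∨ ∃ u : Aˣ, a i = unitToFrac A L u) →
      (Finset.univ.filter (fun i => a i = P)).card = m → k (symbol a) = 0 := by
    intro m
    induction m using Nat.strong_induction_on with
    | _ m ih =>
      intro a ha hcard
      by_cases h2 : ∃ i j, i ≠ j ∧ a i = P ∧ a j = P
      · obtain ⟨i, j, hij, hi, hj⟩ := h2
        have e0 : Function.update a i P = a := by
          rw [← hi]; exact Function.update_eq_self i a
        have e1 : Function.update (Function.update a i P) j P = a := by
          rw [e0, ← hj]; exact Function.update_eq_self j a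
        have hsym : (symbol a : K L (n + 1)) = symbol (Function.update a j (-1)) := by
          have := symbol_self_update a i j hij P
          rw [e1, e0] at this
          exact this
        rw [hsym]
        have hjmem : j ∈ Finset.univ.filter (fun i => a i = P) := by
          simp [hj]
        have hcard' : (Finset.univ.filter (fun t => Function.update a j (-1) t = P)).card =
            m - 1 := by
          have : Finset.univ.filter (fun t => Function.update a j (-1) t = P) =
              (Finset.univ.filter (fun i => a i = P)).erase j := by
            ext t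
            simp only [Finset.mem_filter, Finset.mem_univ, true_and, Finset.mem_erase]
            by_cases htj : t = j
            · subst htj
              simp only [Function.update_self, ne_eq, not_true_eq_false, false_and, iff_false]
              have := hPu (-1)
              intro h
              apply this
              rw [← h]
              apply Units.ext
              simp [unitToFrac]
            · simp [Function.update_of_ne htj, htj]
          rw [this, Finset.card_erase_of_mem hjmem, hcard]
        have hmpos : 0 < m := by
          rw [← hcard]
          exact Finset.card_pos.mpr ⟨j, hjmem⟩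
        apply ih (m - 1) (by omega) _ _ hcard'
        intro t
        by_cases htj : t = j
        · subst htj
          right
          refine ⟨-1, ?_⟩
          rw [Function.update_self]
          apply Units.ext
          simp [unitToFrac]
        · rw [Function.update_of_ne htj]
          exact ha t
      · push_neg at h2
        by_cases h1 : ∃ j, a j = P
        · obtain ⟨j, hj⟩ := h1
          have hothers : ∀ t, t ≠ j → ∃ u : Aˣ, a t = unitToFrac A L u := by
            intro t ht
            rcases ha t with h | h
            · exact absurd h (h2 j t ht.symm hj)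
            · exact h
          by_cases hj0 : j = 0
          · subst hj0
            choose! u hu using hothers
            have e : a = (Fin.cons P (fun i => unitToFrac A L (u i.succ)) : Fin (n + 1) → Lˣ) := by
              funext t
              refine Fin.cases ?_ (fun s => ?_) t
              · simp [hj]
              · simp [hu s.succ (Fin.succ_ne_zero s)]
            rw [e]
            exact hk π hπ _
          · have h0j : (0 : Fin (n + 1)) ≠ j := Ne.symm hj0
            obtain ⟨u0, hu0⟩ := hothers 0 h0j
            have e1 : Function.update (Function.update a 0 (a 0)) j P = a := by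
              rw [Function.update_eq_self, ← hj]; exact Function.update_eq_self j a
            have hsym : (symbol a : K L (n + 1)) =
                -symbol (Function.update (Function.update a 0 P) j (a 0)) := by
              have := symbol_swap_update a 0 j h0j (a 0) P
              rw [e1] at this
              exact this
            rw [hsym, map_neg, neg_eq_zero]
            have hunits' : ∀ t : Fin (n + 1), t ≠ 0 →
                ∃ w : Aˣ, Function.update (Function.update a 0 P) j (a 0) t = unitToFrac A L w := by
              intro t ht
              by_cases htj : t = j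
              · subst htj
                exact ⟨u0, by rw [Function.update_self, hu0]⟩
              · rw [Function.update_of_ne htj, Function.update_of_ne ht]
                exact hothers t htj
            choose! w hw using hunits'
            have e : Function.update (Function.update a 0 P) j (a 0) =
                (Fin.cons P (fun i => unitToFrac A L (w i.succ)) : Fin (n + 1) → Lˣ) := by
              funext t
              refine Fin.cases ?_ (fun s => ?_) t
              · rw [Function.update_of_ne h0j, Function.update_self]
                simp
              · rw [hw s.succ (Fin.succ_ne_zero s)]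
                simp
            rw [e]
            exact hk π hπ _
        · push_neg at h1
          have hall : ∀ t, ∃ u : Aˣ, a t = unitToFrac A L u :=
            fun t => (ha t).resolve_left (h1 t)
          choose u hu using hall
          have e : a = fun i => unitToFrac A L (u i) := funext hu
          rw [e]
          exact hunits u
  -- Step A: reduction to basic tuples
  have hA : ∀ m : ℕ, m ≤ n + 1 → ∀ a : Fin (n + 1) → Lˣ,
      (∀ i : Fin (n + 1), m ≤ i.val → (a i = P ∨ ∃ u : Aˣ, a i = unitToFrac A L u)) →
      k (symbol a) = 0 := by
    intro m
    induction m with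
    | zero =>
      intro _ a ha
      exact hB _ a (fun i => ha i (Nat.zero_le _)) rfl
    | succ m ih =>
      intro hm a ha
      let i0 : Fin (n + 1) := ⟨m, by omega⟩
      obtain ⟨e, U, heU⟩ := exists_zpow_mul_unit A L π hπ (a i0)
      have ea : a = Function.update a i0 (P ^ e * unitToFrac A L U) := by
        rw [← heU, Function.update_eq_self]
      rw [ea, symbol_update_mul, symbol_update_zpow, map_add, map_zsmul]
      have c1 : k (symbol (Function.update a i0 P)) = 0 := by
        apply ih (by omega)
        intro i hi
        by_cases hii : i = i0
        · subst hii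
          left
          rw [Function.update_self]
        · rw [Function.update_of_ne hii]
          apply ha
          have : i.val ≠ m := fun h => hii (Fin.ext h)
          omega
      have c2 : k (symbol (Function.update a i0 (unitToFrac A L U))) = 0 := by
        apply ih (by omega)
        intro i hi
        by_cases hii : i = i0
        · subst hii
          right
          exact ⟨U, by rw [Function.update_self]⟩
        · rw [Function.update_of_ne hii]
          apply ha
          have : i.val ≠ m := fun h => hii (Fin.ext h)
          omega
      rw [c1, c2, smul_zero, add_zero]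
  apply hom_ext
  intro a
  rw [AddMonoidHom.zero_apply]
  apply hA (n + 1) le_rfl a
  intro i hi
  exact absurd i.2 (by omega)

theorem hom_ext_tame {M : Type w} [AddCommGroup M] (n : ℕ) (f g : K L (n + 1) →+ M)
    (h : ∀ (ϖ : A) (hϖ : Irreducible ϖ) (u : Fin n → Aˣ),
      f (symbol (Fin.cons (unitFrac A L ϖ hϖ.ne_zero) fun i => unitToFrac A L (u i))) =
        g (symbol (Fin.cons (unitFrac A L ϖ hϖ.ne_zero) fun i => unitToFrac A L (u i)))) :
    f = g := by
  have := kills_of_special A L n (f - g) (by
    intro ϖ hϖ u
    rw [AddMonoidHom.sub_apply, h ϖ hϖ u, sub_self])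
  exact sub_eq_zero.mp this

end Gen

end H9_MilK
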