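import Mathlib
import Groth.Prelude.Def_EtMil

/-! helper9: basic toolkit for Milnor (fibre) squares of rings `B' = B ×_A A'`. -/

set_option autoImplicit false
universe u
open TensorProduct

namespace Groth.Agent.H9_Milnor

variable {B' B A' A : Type u} [CommRing B'] [CommRing B] [CommRing A'] [CommRing A]
  [Algebra B' B] [Algebra B' A'] [Algebra B A] [Algebra A' A] [Algebra B' A]
  [IsScalarTower B' B A] [IsScalarTower B' A' A]

theorem surj_B (hsq : EtMil.IsFibreSquare B' B A' A) : Function.Surjective (algebraMap B' B) := by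
  intro b
  obtain ⟨a', ha'⟩ := hsq.1 (algebraMap B A b)
  obtain ⟨b', ⟨hb1, _⟩, _⟩ := hsq.2 b a' ha'.symm
  exact ⟨b', hb1⟩

theorem exists_of_ker (hsq : EtMil.IsFibreSquare B' B A' A) (i : A') (hi : algebraMap A' A i = 0) :
    ∃ b' : B', algebraMap B' B b' = 0 ∧ algebraMap B' A' b' = i := by
  obtain ⟨b', ⟨hb1, hb2⟩, _⟩ := hsq.2 0 i (by rw [map_zero, hi])
  exact ⟨b', hb1, hb2⟩

theorem eq_of_eq (hsq : EtMil.IsFibreSquare B' B A' A) (x y : B')
    (h1 : algebraMap B' B x = algebraMap B' B y) (h2 : algebraMap B' A' x = algebraMap B' A' y) :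
    x = y := by
  have hc : algebraMap B A (algebraMap B' B y) = algebraMap A' A (algebraMap B' A' y) := by
    rw [← IsScalarTower.algebraMap_apply, ← IsScalarTower.algebraMap_apply]
  obtain ⟨z, _, hz⟩ := hsq.2 _ _ hc
  rw [hz x ⟨h1, h2⟩, hz y ⟨rfl, rfl⟩]

theorem exists_lift (hsq : EtMil.IsFibreSquare B' B A' A) (b : B) (a' : A')
    (h : algebraMap B A b = algebraMap A' A a') :
    ∃ b' : B', algebraMap B' B b' = b ∧ algebraMap B' A' b' = a' := by
  obtain ⟨b', hb, _⟩ := hsq.2 b a' h
  exact ⟨b', hb⟩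

variable (L' : Type u) [AddCommGroup L'] [Module B' L']

/-- every element of `B ⊗[B'] L'` is a pure tensor `1 ⊗ l` -/
theorem exists_one_tmul (hsq : EtMil.IsFibreSquare B' B A' A) (x : B ⊗[B'] L') :
    ∃ l : L', (1 : B) ⊗ₜ[B'] l = x := by
  induction x using TensorProduct.induction_on with
  | zero => exact ⟨0, by simp⟩
  | tmul b l =>
    obtain ⟨b', rfl⟩ := surj_B hsq b
    refine ⟨b' • l, ?_⟩
    rw [TensorProduct.tmul_smul, TensorProduct.smul_tmul', Algebra.smul_def, mul_one]
  | add x y hx hy =>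
    obtain ⟨l1, rfl⟩ := hx
    obtain ⟨l2, rfl⟩ := hy
    exact ⟨l1 + l2, by rw [TensorProduct.tmul_add]⟩

/-- elements of `A' ⊗[B'] L'` dying in `A ⊗[B'] L'` come from `I' L'` where `I' = ker (B' → B)`. -/
theorem exists_of_rTensor_eq_zero (hsq : EtMil.IsFibreSquare B' B A' A) (z : A' ⊗[B'] L')
    (hz : (IsScalarTower.toAlgHom B' A' A).toLinearMap.rTensor L' z = 0) :
    ∃ l ∈ (RingHom.ker (algebraMap B' B)) • (⊤ : Submodule B' L'), (1 : A') ⊗ₜ[B'] l = z := by
  let I : Submodule B' A' := LinearMap.ker (IsScalarTower.toAlgHom B' A' A).toLinearMap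
  have hex : Function.Exact I.subtype (IsScalarTower.toAlgHom B' A' A).toLinearMap := by
    intro a
    constructor
    · intro ha; exact ⟨⟨a, ha⟩, rfl⟩
    · rintro ⟨⟨i, hi⟩, rfl⟩; exact hi
  have hsurj : Function.Surjective (IsScalarTower.toAlgHom B' A' A).toLinearMap := hsq.1
  have hex2 := rTensor_exact L' hex hsurj
  obtain ⟨w, rfl⟩ := (hex2 z).1 hz
  clear hz
  induction w using TensorProduct.induction_on with
  | zero => exact ⟨0, Submodule.zero_mem _, by simp⟩
  | tmul i l =>
    obtain ⟨i, hi⟩ := i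
    have hi' : algebraMap A' A i = 0 := hi
    obtain ⟨b', hb1, hb2⟩ := exists_of_ker hsq i hi'
    refine ⟨b' • l, Submodule.smul_mem_smul (by simpa [RingHom.mem_ker] using hb1) Submodule.mem_top, ?_⟩
    rw [LinearMap.rTensor_tmul, TensorProduct.tmul_smul, TensorProduct.smul_tmul', Algebra.smul_def,
      mul_one, hb2]
    rfl
  | add x y hx hy =>
    obtain ⟨l1, h1, e1⟩ := hx
    obtain ⟨l2, h2, e2⟩ := hy
    exact ⟨l1 + l2, Submodule.add_mem _ h1 h2, by rw [TensorProduct.tmul_add, e1, e2, map_add]⟩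

/-- elements of `I' L'` die in `B ⊗[B'] L'`. -/
theorem one_tmul_eq_zero_of_mem (l : L')
    (hl : l ∈ (RingHom.ker (algebraMap B' B)) • (⊤ : Submodule B' L')) :
    (1 : B) ⊗ₜ[B'] l = 0 := by
  refine Submodule.smul_induction_on hl ?_ ?_
  · intro r hr n _
    rw [TensorProduct.tmul_smul, TensorProduct.smul_tmul', Algebra.smul_def, mul_one,
      (RingHom.mem_ker).1 hr, TensorProduct.zero_tmul]
  · intro x y hx hy
    rw [TensorProduct.tmul_add, hx, hy, add_zero]

section General

variable {R S : Type u} [CommRing R] [CommRing S] [Algebra R S]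
variable (M : Type u) [AddCommGroup M] [Module R M]

theorem exists_one_tmul_of_surjective (hs : Function.Surjective (algebraMap R S)) (x : S ⊗[R] M) :
    ∃ m : M, (1 : S) ⊗ₜ[R] m = x := by
  induction x using TensorProduct.induction_on with
  | zero => exact ⟨0, by simp⟩
  | tmul b l =>
    obtain ⟨b', rfl⟩ := hs b
    refine ⟨b' • l, ?_⟩
    rw [TensorProduct.tmul_smul, TensorProduct.smul_tmul', Algebra.smul_def, mul_one]
  | add x y hx hy =>
    obtain ⟨l1, rfl⟩ := hx
    obtain ⟨l2, rfl⟩ := hy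
    exact ⟨l1 + l2, by rw [TensorProduct.tmul_add]⟩

theorem one_tmul_eq_zero_of_mem_smul_top (m : M)
    (hm : m ∈ (RingHom.ker (algebraMap R S)) • (⊤ : Submodule R M)) :
    (1 : S) ⊗ₜ[R] m = 0 := by
  refine Submodule.smul_induction_on hm ?_ ?_
  · intro r hr n _
    rw [TensorProduct.tmul_smul, TensorProduct.smul_tmul', Algebra.smul_def, mul_one,
      (RingHom.mem_ker).1 hr, TensorProduct.zero_tmul]
  · intro x y hx hy
    rw [TensorProduct.tmul_add, hx, hy, add_zero]

theorem mem_smul_top_of_one_tmul_eq_zero (hs : Function.Surjective (algebraMap R S)) (m : M)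
    (hm : (1 : S) ⊗ₜ[R] m = 0) :
    m ∈ (RingHom.ker (algebraMap R S)) • (⊤ : Submodule R M) := by
  let I : Submodule R R := LinearMap.ker (Algebra.linearMap R S)
  have hex : Function.Exact I.subtype (Algebra.linearMap R S) := by
    intro a
    constructor
    · intro ha; exact ⟨⟨a, ha⟩, rfl⟩
    · rintro ⟨⟨i, hi⟩, rfl⟩; exact hi
  have hex2 := rTensor_exact M hex hs
  have h0 : (Algebra.linearMap R S).rTensor M ((1 : R) ⊗ₜ[R] m) = 0 := by
    rw [LinearMap.rTensor_tmul]; simpa using hm
  obtain ⟨w, hw⟩ := (hex2 _).1 h0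
  have key : ∀ w : I ⊗[R] M, TensorProduct.lid R M (I.subtype.rTensor M w) ∈
      (RingHom.ker (algebraMap R S)) • (⊤ : Submodule R M) := by
    intro w
    induction w using TensorProduct.induction_on with
    | zero => simp
    | tmul i l =>
      obtain ⟨i, hi⟩ := i
      rw [LinearMap.rTensor_tmul]
      simp only [Submodule.subtype_apply, TensorProduct.lid_tmul]
      exact Submodule.smul_mem_smul (by simpa [RingHom.mem_ker, I] using hi) Submodule.mem_top
    | add x y hx hy =>
      rw [map_add, map_add]; exact Submodule.add_mem _ hx hy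
  have := key w
  rw [hw] at this
  simpa using this

end General

end Groth.Agent.H9_Milnor
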