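import Mathlib
import Groth.Prelude.Def_EtMil
import Groth.Agent.Lib.helper9.H9_Milnor
import Groth.Agent.Lib.helper9.H9_FlatOfUI
import Groth.Agent.H8Flat

/-! helper9: descent of flatness along a Milnor square: if `B ⊗ L'` and `A' ⊗ L'` are flat then
`L'` is flat over `B' = B ×_A A'`. -/

set_option autoImplicit false
universe u
open TensorProduct

namespace Groth.Agent.H9_MilnorFlat

open Groth.Agent.H9_Milnor

section BC

variable {R S : Type u} [CommRing R] [CommRing S] [Algebra R S]
variable (L : Type u) [AddCommGroup L] [Module R L]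
variable {P P' : Type u} [AddCommGroup P] [Module S P] [Module R P] [IsScalarTower R S P]
  [AddCommGroup P'] [Module S P'] [Module R P'] [IsScalarTower R S P']

/-- if `S ⊗[R] L` is `S`-flat then `- ⊗[R] L` preserves injections of `S`-modules. -/
theorem rTensor_injective_of_flat_baseChange [Module.Flat S (S ⊗[R] L)] (u : P →ₗ[S] P')
    (hu : Function.Injective u) : Function.Injective ((u.restrictScalars R).rTensor L) := by
  have h1 : Function.Injective (u.rTensor (S ⊗[R] L)) :=
    Module.Flat.rTensor_preserves_injective_linearMap u hu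
  have hcomm : ∀ z : P ⊗[R] L, (u.restrictScalars R).rTensor L z =
      (AlgebraTensorModule.cancelBaseChange R S S P' L) (u.rTensor (S ⊗[R] L)
        ((AlgebraTensorModule.cancelBaseChange R S S P L).symm z)) := by
    intro z
    induction z using TensorProduct.induction_on with
    | zero => simp
    | tmul p l =>
      rw [LinearMap.rTensor_tmul, AlgebraTensorModule.cancelBaseChange_symm_tmul,
        LinearMap.rTensor_tmul, AlgebraTensorModule.cancelBaseChange_tmul, one_smul]
      rfl
    | add x y hx hy => simp only [map_add, hx, hy]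
  intro x y hxy
  rw [hcomm, hcomm] at hxy
  exact (AlgebraTensorModule.cancelBaseChange R S S P L).symm.injective
    (h1 ((AlgebraTensorModule.cancelBaseChange R S S P' L).injective hxy))

variable {K F : Type u} [AddCommGroup K] [Module R K] [AddCommGroup F] [Module R F]
variable {L}

/-- if `0 → S ⊗ K → S ⊗ F → S ⊗ L → 0` is exact with `S ⊗ L` flat over `S`, then
`Q ⊗[R] K → Q ⊗[R] F` is injective for every `S`-module `Q`. -/
theorem lTensor_injective_of_module_over [Module.Flat S (S ⊗[R] L)]
    (i : K →ₗ[R] F) (p : F →ₗ[R] L) (hex : Function.Exact i p) (hp : Function.Surjective p)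
    (hiS : Function.Injective (i.lTensor S))
    (Q : Type u) [AddCommGroup Q] [Module S Q] [Module R Q] [IsScalarTower R S Q] :
    Function.Injective (i.lTensor Q) := by
  have hex' : Function.Exact (i.baseChange S) (p.baseChange S) := by
    have := lTensor_exact S hex hp
    exact this
  have hp' : Function.Surjective (p.baseChange S) := LinearMap.lTensor_surjective S hp
  have h1 : Function.Injective ((i.baseChange S).lTensor Q) :=
    H8Flat.lTensor_injective_of_flat_quotient (i.baseChange S) (p.baseChange S) hiS hex' hp' Q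
  have hcomm : ∀ z : Q ⊗[R] K, i.lTensor Q z =
      (AlgebraTensorModule.cancelBaseChange R S S Q F) ((i.baseChange S).lTensor Q
        ((AlgebraTensorModule.cancelBaseChange R S S Q K).symm z)) := by
    intro z
    induction z using TensorProduct.induction_on with
    | zero => simp
    | tmul q k =>
      rw [LinearMap.lTensor_tmul, AlgebraTensorModule.cancelBaseChange_symm_tmul,
        LinearMap.lTensor_tmul, LinearMap.baseChange_tmul,
        AlgebraTensorModule.cancelBaseChange_tmul, one_smul]
    | add x y hx hy => simp only [map_add, hx, hy]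
  intro x y hxy
  rw [hcomm, hcomm] at hxy
  exact (AlgebraTensorModule.cancelBaseChange R S S Q K).symm.injective
    (h1 ((AlgebraTensorModule.cancelBaseChange R S S Q F).injective hxy))

end BC

section Main

variable {B' B A' A : Type u} [CommRing B'] [CommRing B] [CommRing A'] [CommRing A]
  [Algebra B' B] [Algebra B' A'] [Algebra B A] [Algebra A' A] [Algebra B' A]
  [IsScalarTower B' B A] [IsScalarTower B' A' A]
variable (L' : Type u) [AddCommGroup L'] [Module B' L']

/-- for an ideal `𝔞` of `A'`, the `B'`-submodule of `I' = ker (B' → B)` corresponding to it. -/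
def pre (𝔞 : Ideal A') : Submodule B' B' where
  carrier := {b' | algebraMap B' B b' = 0 ∧ algebraMap B' A' b' ∈ 𝔞}
  zero_mem' := by simp
  add_mem' := by
    rintro x y ⟨hx1, hx2⟩ ⟨hy1, hy2⟩
    exact ⟨by rw [map_add, hx1, hy1, add_zero], by rw [map_add]; exact 𝔞.add_mem hx2 hy2⟩
  smul_mem' := by
    rintro c x ⟨hx1, hx2⟩
    exact ⟨by rw [smul_eq_mul, map_mul, hx1, mul_zero],
      by rw [smul_eq_mul, map_mul]; exact 𝔞.mul_mem_left _ hx2⟩

omit [Algebra B A] [Algebra A' A] [Algebra B' A] [IsScalarTower B' B A] [IsScalarTower B' A' A] in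
theorem mem_pre (𝔞 : Ideal A') (b' : B') :
    b' ∈ pre (B := B) 𝔞 ↔ algebraMap B' B b' = 0 ∧ algebraMap B' A' b' ∈ 𝔞 := Iff.rfl

/-- the `B'`-linear map `pre 𝔞 → 𝔞`. -/
def preMap (𝔞 : Ideal A') : pre (B' := B') (B := B) 𝔞 →ₗ[B'] 𝔞 where
  toFun x := ⟨algebraMap B' A' x.1, ((mem_pre 𝔞 x.1).1 x.2).2⟩
  map_add' x y := by ext; simp
  map_smul' c x := by
    ext
    show algebraMap B' A' (c • x.1) = c • algebraMap B' A' x.1
    rw [smul_eq_mul, map_mul, Algebra.smul_def]

theorem preMap_bijective (hsq : EtMil.IsFibreSquare B' B A' A) (𝔞 : Ideal A')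
    (h𝔞 : 𝔞 ≤ RingHom.ker (algebraMap A' A)) :
    Function.Bijective (preMap (B' := B') (B := B) 𝔞) := by
  constructor
  · rintro ⟨x, hx1, hx2⟩ ⟨y, hy1, hy2⟩ hxy
    have h : algebraMap B' A' x = algebraMap B' A' y := congrArg Subtype.val hxy
    exact Subtype.ext (eq_of_eq hsq x y (by rw [hx1, hy1]) h)
  · rintro ⟨a, ha⟩
    obtain ⟨b', hb1, hb2⟩ := exists_of_ker hsq a ((RingHom.mem_ker).1 (h𝔞 ha))
    exact ⟨⟨b', hb1, by rw [hb2]; exact ha⟩, Subtype.ext hb2⟩

/-- Step A. -/
theorem rTensor_pre_injective (hsq : EtMil.IsFibreSquare B' B A' A)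
    [Module.Flat A' (A' ⊗[B'] L')] (𝔞 : Ideal A')
    (h𝔞 : 𝔞 ≤ RingHom.ker (algebraMap A' A)) :
    Function.Injective ((pre (B' := B') (B := B) 𝔞).subtype.rTensor L') := by
  have h1 : Function.Injective (((Submodule.subtype 𝔞).restrictScalars B').rTensor L') :=
    rTensor_injective_of_flat_baseChange L' (Submodule.subtype 𝔞) (Submodule.injective_subtype 𝔞)
  have h2 : Function.Injective ((preMap (B' := B') (B := B) 𝔞).rTensor L') := by
    have := (LinearEquiv.ofBijective _ (preMap_bijective hsq 𝔞 h𝔞)).rTensor L'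
    exact (LinearEquiv.rTensor L' (LinearEquiv.ofBijective _ (preMap_bijective hsq 𝔞 h𝔞))).injective
  have h3 : ((Algebra.linearMap B' A').rTensor L') ∘ₗ ((pre (B' := B') (B := B) 𝔞).subtype.rTensor L')
      = (((Submodule.subtype 𝔞).restrictScalars B').rTensor L') ∘ₗ
        ((preMap (B' := B') (B := B) 𝔞).rTensor L') := by
    rw [← LinearMap.rTensor_comp, ← LinearMap.rTensor_comp]
    congr 1
  have h4 : Function.Injective (((Algebra.linearMap B' A').rTensor L') ∘ₗ
      ((pre (B' := B') (B := B) 𝔞).subtype.rTensor L')) := by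
    rw [h3, LinearMap.coe_comp]
    exact h1.comp h2
  rw [LinearMap.coe_comp] at h4
  exact Function.Injective.of_comp h4

open Groth.Agent.H9_FlatOfUI in
/-- Step B. -/
theorem lTensor_B_injective (hsq : EtMil.IsFibreSquare B' B A' A)
    [Module.Flat A' (A' ⊗[B'] L')] :
    Function.Injective ((LinearMap.ker (pr B' L')).subtype.lTensor B) := by
  have hI : (pre (B' := B') (B := B) (RingHom.ker (algebraMap A' A))) =
      LinearMap.ker (Algebra.linearMap B' B) := by
    ext b'
    rw [mem_pre, LinearMap.mem_ker]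
    constructor
    · exact fun h => h.1
    · intro h
      have h' : algebraMap B' B b' = 0 := h
      refine ⟨h', ?_⟩
      rw [RingHom.mem_ker, ← IsScalarTower.algebraMap_apply,
        IsScalarTower.algebraMap_apply B' B A, h', map_zero]
  refine H8Flat.chase (LinearMap.ker (pr B' L')).subtype (pr B' L')
    (LinearMap.exact_subtype_ker_map _) (pr_surjective B' L')
    (pre (B' := B') (B := B) (RingHom.ker (algebraMap A' A))).subtype (Algebra.linearMap B' B)
    ?_ (surj_B hsq) ?_ ?_
  · rw [hI]
    exact LinearMap.exact_subtype_ker_map _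
  · exact Module.Flat.lTensor_preserves_injective_linearMap _ (Submodule.injective_subtype _)
  · exact rTensor_pre_injective L' hsq _ le_rfl

open Groth.Agent.H9_FlatOfUI in
/-- Step D. -/
theorem rTensor_injective_of_coker_over_B (hsq : EtMil.IsFibreSquare B' B A' A)
    [Module.Flat B (B ⊗[B'] L')] [Module.Flat A' (A' ⊗[B'] L')]
    {X Y : Type u} [AddCommGroup X] [Module B' X] [AddCommGroup Y] [Module B' Y]
    (f : X →ₗ[B'] Y) (hf : Function.Injective f)
    (Q : Type u) [AddCommGroup Q] [Module B Q] [Module B' Q] [IsScalarTower B' B Q]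
    (g : Y →ₗ[B'] Q) (hfg : Function.Exact f g) (hg : Function.Surjective g) :
    Function.Injective (f.rTensor L') := by
  rw [← LinearMap.lTensor_inj_iff_rTensor_inj]
  refine H8Flat.chase f g hfg hg (LinearMap.ker (pr B' L')).subtype (pr B' L')
    (LinearMap.exact_subtype_ker_map _) (pr_surjective B' L') ?_ ?_
  · exact Module.Flat.lTensor_preserves_injective_linearMap f hf
  · rw [← LinearMap.lTensor_inj_iff_rTensor_inj]
    exact lTensor_injective_of_module_over (S := B) (LinearMap.ker (pr B' L')).subtype (pr B' L')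
      (LinearMap.exact_subtype_ker_map _) (pr_surjective B' L') (lTensor_B_injective L' hsq) Q

/-- Descent of flatness along a Milnor square. -/
theorem flat_of_flat_baseChange (hsq : EtMil.IsFibreSquare B' B A' A)
    [Module.Flat B (B ⊗[B'] L')] [Module.Flat A' (A' ⊗[B'] L')] : Module.Flat B' L' := by
  rw [Module.Flat.iff_rTensor_injective']
  intro J
  set I' : Submodule B' B' := LinearMap.ker (Algebra.linearMap B' B) with hI'
  set K : Submodule B' B' := J ⊓ I' with hK
  set 𝔞 : Ideal A' := Ideal.span (algebraMap B' A' '' (K : Set B')) with h𝔞def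
  have hI'mem : ∀ b' : B', b' ∈ I' ↔ algebraMap B' B b' = 0 := fun b' => LinearMap.mem_ker
  have h𝔞 : 𝔞 ≤ RingHom.ker (algebraMap A' A) := by
    rw [h𝔞def, Ideal.span_le]
    rintro _ ⟨k, hk, rfl⟩
    have hk2 : algebraMap B' B k = 0 := (hI'mem k).1 hk.2
    show algebraMap B' A' k ∈ RingHom.ker (algebraMap A' A)
    rw [RingHom.mem_ker, ← IsScalarTower.algebraMap_apply,
      IsScalarTower.algebraMap_apply B' B A, hk2, map_zero]
  have hK𝔞 : K ≤ pre (B' := B') (B := B) 𝔞 := by
    intro k hk
    exact ⟨(hI'mem k).1 hk.2, Ideal.subset_span ⟨k, hk, rfl⟩⟩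
  have hkey : ∀ a ∈ 𝔞, ∀ i : B', algebraMap B' B i = 0 →
      ∃ k ∈ K, algebraMap B' A' k = algebraMap B' A' i * a := by
    intro a ha
    refine Submodule.span_induction (p := fun a _ => ∀ i : B', algebraMap B' B i = 0 →
      ∃ k ∈ K, algebraMap B' A' k = algebraMap B' A' i * a) ?_ ?_ ?_ ?_ ha
    · rintro _ ⟨k0, hk0, rfl⟩ i _
      exact ⟨i * k0, K.smul_mem i hk0, by rw [map_mul]⟩
    · intro i _
      exact ⟨0, K.zero_mem, by simp⟩
    · intro x y _ _ hx hy i hi
      obtain ⟨k1, hk1, e1⟩ := hx i hi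
      obtain ⟨k2, hk2, e2⟩ := hy i hi
      exact ⟨k1 + k2, K.add_mem hk1 hk2, by rw [map_add, e1, e2, mul_add]⟩
    · intro c x _ hx i hi
      have hci : algebraMap A' A (algebraMap B' A' i * c) = 0 := by
        rw [map_mul, ← IsScalarTower.algebraMap_apply, IsScalarTower.algebraMap_apply B' B A, hi,
          map_zero, zero_mul]
      obtain ⟨i2, hi2, e2⟩ := exists_of_ker hsq _ hci
      obtain ⟨k, hk, e⟩ := hx i2 hi2
      exact ⟨k, hk, by rw [e, e2, smul_eq_mul, mul_assoc]⟩
  have hIpre : ∀ i : B', algebraMap B' B i = 0 → ∀ y ∈ pre (B' := B') (B := B) 𝔞, i * y ∈ K := by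
    intro i hi y hy
    obtain ⟨k, hk, e⟩ := hkey _ hy.2 i hi
    have : i * y = k := by
      apply eq_of_eq hsq
      · rw [map_mul, hi, zero_mul, (hI'mem k).1 hk.2]
      · rw [map_mul, e]
    rw [this]
    exact hk
  -- E1
  have E1 : Function.Injective ((Submodule.inclusion hK𝔞).rTensor L') := by
    let K'' : Submodule B' (pre (B' := B') (B := B) 𝔞) := LinearMap.range (Submodule.inclusion hK𝔞)
    let g : pre (B' := B') (B := B) 𝔞 →ₗ[B'] B ⊗[B'] (pre (B' := B') (B := B) 𝔞 ⧸ K'') :=
      (TensorProduct.mk B' B _ 1) ∘ₗ K''.mkQ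
    have hann : (RingHom.ker (algebraMap B' B)) •
        (⊤ : Submodule B' (pre (B' := B') (B := B) 𝔞 ⧸ K'')) = ⊥ := by
      rw [eq_bot_iff]
      intro n hn
      refine Submodule.smul_induction_on hn ?_ ?_
      · intro i hi n _
        obtain ⟨y, rfl⟩ := K''.mkQ_surjective n
        rw [← map_smul, Submodule.mem_bot, Submodule.mkQ_apply, Submodule.Quotient.mk_eq_zero]
        have h1 : i * y.1 ∈ K := hIpre i ((RingHom.mem_ker).1 hi) y.1 y.2
        exact ⟨⟨i * y.1, h1⟩, Subtype.ext rfl⟩
      · intro x y hx hy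
        exact Submodule.add_mem _ hx hy
    refine rTensor_injective_of_coker_over_B L' hsq (Submodule.inclusion hK𝔞)
      (Submodule.inclusion_injective _) (B ⊗[B'] (pre (B' := B') (B := B) 𝔞 ⧸ K'')) g ?_ ?_
    · intro y
      constructor
      · intro hy
        have h1 : (1 : B) ⊗ₜ[B'] (K''.mkQ y) = 0 := hy
        have h2 := mem_smul_top_of_one_tmul_eq_zero _ (surj_B hsq) _ h1
        rw [hann, Submodule.mem_bot, Submodule.mkQ_apply, Submodule.Quotient.mk_eq_zero] at h2
        exact h2
      · intro hy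
        show (1 : B) ⊗ₜ[B'] (K''.mkQ y) = 0
        have : K''.mkQ y = 0 := by
          rw [Submodule.mkQ_apply, Submodule.Quotient.mk_eq_zero]; exact hy
        rw [this, TensorProduct.tmul_zero]
    · intro w
      obtain ⟨n, rfl⟩ := exists_one_tmul_of_surjective _ (surj_B hsq) w
      obtain ⟨y, rfl⟩ := K''.mkQ_surjective n
      exact ⟨y, rfl⟩
  have E2 := rTensor_pre_injective L' hsq 𝔞 h𝔞
  have E12 : Function.Injective (K.subtype.rTensor L') := by
    have : K.subtype = (pre (B' := B') (B := B) 𝔞).subtype ∘ₗ Submodule.inclusion hK𝔞 := rfl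
    rw [this, LinearMap.rTensor_comp, LinearMap.coe_comp]
    exact E2.comp E1
  -- E3
  rw [injective_iff_map_eq_zero]
  intro z hz
  let 𝔟 : Ideal B := Ideal.map (algebraMap B' B) J
  let q : J →ₗ[B'] 𝔟 :=
    { toFun := fun x => ⟨algebraMap B' B x.1, Ideal.mem_map_of_mem _ x.2⟩
      map_add' := fun x y => by ext; simp
      map_smul' := fun c x => by
        ext
        show algebraMap B' B (c • x.1) = c • algebraMap B' B x.1
        rw [smul_eq_mul, map_mul, Algebra.smul_def] }
  have hq_surj : Function.Surjective q := by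
    rintro ⟨b, hb⟩
    obtain ⟨x, hx, rfl⟩ := (Ideal.mem_map_iff_of_surjective _ (surj_B hsq)).1 hb
    exact ⟨⟨x, hx⟩, rfl⟩
  let incl : K →ₗ[B'] J := Submodule.inclusion inf_le_left
  have hexq : Function.Exact incl q := by
    intro x
    constructor
    · intro hx
      have h1 : algebraMap B' B x.1 = 0 := congrArg Subtype.val hx
      exact ⟨⟨x.1, ⟨x.2, (hI'mem _).2 h1⟩⟩, Subtype.ext rfl⟩
    · rintro ⟨k, rfl⟩
      apply Subtype.ext
      exact (hI'mem _).1 k.2.2
  have E3a : Function.Injective (((Submodule.subtype 𝔟).restrictScalars B').rTensor L') :=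
    rTensor_injective_of_flat_baseChange L' (Submodule.subtype 𝔟) (Submodule.injective_subtype 𝔟)
  have h5 : ((Submodule.subtype 𝔟).restrictScalars B').rTensor L' (q.rTensor L' z) =
      (Algebra.linearMap B' B).rTensor L' ((Submodule.subtype J).rTensor L' z) := by
    rw [← LinearMap.comp_apply, ← LinearMap.rTensor_comp, ← LinearMap.comp_apply,
      ← LinearMap.rTensor_comp]
    rfl
  have h6 : q.rTensor L' z = 0 := E3a (by rw [h5, hz, map_zero, map_zero])
  obtain ⟨z₀, rfl⟩ := (rTensor_exact L' hexq hq_surj z).1 h6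
  have h7 : K.subtype.rTensor L' z₀ = 0 := by
    rw [← hz, ← LinearMap.comp_apply, ← LinearMap.rTensor_comp]
    rfl
  rw [E12 (h7.trans (map_zero _).symm), map_zero]

end Main

end Groth.Agent.H9_MilnorFlat



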