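import Mathlib
import Groth.Prelude.Def_EtMil
import Groth.Agent.Lib.helper9.H9_Milnor

/-! helper9: the glued module `N ×_φ M'` over a Milnor square: base change recovers `N` and `M'`. -/

set_option autoImplicit false
universe u
open TensorProduct

namespace Groth.Agent.H9_MilnorGlue

open Groth.Agent.H9_Milnor

variable {B' B A' A : Type u} [CommRing B'] [CommRing B] [CommRing A'] [CommRing A]
  [Algebra B' B] [Algebra B' A'] [Algebra B A] [Algebra A' A] [Algebra B' A]
  [IsScalarTower B' B A] [IsScalarTower B' A' A]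
variable {N M' : Type u} [AddCommGroup N] [Module B N] [Module B' N] [IsScalarTower B' B N]
  [AddCommGroup M'] [Module A' M'] [Module B' M'] [IsScalarTower B' A' M']
variable (φ : A ⊗[B] N ≃ₗ[A] A ⊗[A'] M')

theorem mem_glue_iff (x : N × M') :
    x ∈ EtMil.glue B' φ ↔ φ ((1 : A) ⊗ₜ[B] x.1) = (1 : A) ⊗ₜ[A'] x.2 := Iff.rfl

theorem exists_mem_glue (hsq : EtMil.IsFibreSquare B' B A' A) (n : N) :
    ∃ m' : M', (n, m') ∈ EtMil.glue B' φ := by
  obtain ⟨m', hm'⟩ := exists_one_tmul_of_surjective M' hsq.1 (φ ((1 : A) ⊗ₜ[B] n))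
  exact ⟨m', hm'.symm⟩

theorem zero_mk_mem_glue (m' : M')
    (hm : m' ∈ (RingHom.ker (algebraMap A' A)) • (⊤ : Submodule A' M')) :
    ((0 : N), m') ∈ EtMil.glue B' φ := by
  rw [mem_glue_iff]
  simp only [TensorProduct.tmul_zero, map_zero]
  exact (one_tmul_eq_zero_of_mem_smul_top M' m' hm).symm

theorem mem_smul_top_of_zero_mk_mem_glue (hsq : EtMil.IsFibreSquare B' B A' A) (m' : M')
    (hm : ((0 : N), m') ∈ EtMil.glue B' φ) :
    m' ∈ (RingHom.ker (algebraMap A' A)) • (⊤ : Submodule A' M') := by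
  rw [mem_glue_iff] at hm
  simp only [TensorProduct.tmul_zero, map_zero] at hm
  exact mem_smul_top_of_one_tmul_eq_zero M' hsq.1 m' hm.symm

/-- the `A'`-span of the image of the glued module in `M'`. -/
def sndSpan : Submodule A' M' :=
  Submodule.span A' {m' | ∃ n : N, (n, m') ∈ EtMil.glue B' φ}

theorem exists_sndSpan_decomp (hsq : EtMil.IsFibreSquare B' B A' A) (m : M') :
    ∃ m'' ∈ sndSpan (B' := B') φ, m - m'' ∈ (RingHom.ker (algebraMap A' A)) • (⊤ : Submodule A' M') := by
  have key : ∀ w : A ⊗[B] N, ∃ m'' ∈ sndSpan (B' := B') φ, φ w = (1 : A) ⊗ₜ[A'] m'' := by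
    intro w
    induction w using TensorProduct.induction_on with
    | zero => exact ⟨0, Submodule.zero_mem _, by simp⟩
    | tmul a n =>
      obtain ⟨a', rfl⟩ := hsq.1 a
      obtain ⟨m', hm'⟩ := exists_mem_glue (B' := B') φ hsq n
      refine ⟨a' • m', Submodule.smul_mem _ _ (Submodule.subset_span ⟨n, hm'⟩), ?_⟩
      rw [mem_glue_iff] at hm'
      have : (algebraMap A' A a') ⊗ₜ[B] n = (algebraMap A' A a') • ((1 : A) ⊗ₜ[B] n) := by
        rw [TensorProduct.smul_tmul', smul_eq_mul, mul_one]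
      rw [this, map_smul, hm', TensorProduct.tmul_smul, TensorProduct.smul_tmul', TensorProduct.smul_tmul',
        smul_eq_mul, mul_one, Algebra.smul_def, mul_one]
    | add x y hx hy =>
      obtain ⟨m1, h1, e1⟩ := hx
      obtain ⟨m2, h2, e2⟩ := hy
      exact ⟨m1 + m2, Submodule.add_mem _ h1 h2, by rw [map_add, e1, e2, TensorProduct.tmul_add]⟩
  obtain ⟨m'', hm'', e⟩ := key (φ.symm ((1 : A) ⊗ₜ[A'] m))
  refine ⟨m'', hm'', mem_smul_top_of_one_tmul_eq_zero M' hsq.1 _ ?_⟩
  rw [TensorProduct.tmul_sub, ← e, LinearEquiv.apply_symm_apply, sub_self]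

/-- the key claim: `0 × I M' ⊆ I' (N ×_φ M')`. -/
theorem zero_mk_mem_smul_glue (hsq : EtMil.IsFibreSquare B' B A' A) (m' : M')
    (hm : m' ∈ (RingHom.ker (algebraMap A' A)) • (⊤ : Submodule A' M')) :
    ((0 : N), m') ∈ (RingHom.ker (algebraMap B' B)) • (EtMil.glue B' φ) := by
  -- step 1: elements `(0, i • m'')` with `m''` in the span
  have step1 : ∀ m'' ∈ sndSpan (B' := B') φ, ∀ i ∈ RingHom.ker (algebraMap A' A),
      ((0 : N), i • m'') ∈ (RingHom.ker (algebraMap B' B)) • (EtMil.glue B' φ) := by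
    intro m'' hm''
    refine Submodule.span_induction (p := fun m'' _ => ∀ i ∈ RingHom.ker (algebraMap A' A),
      ((0 : N), i • m'') ∈ (RingHom.ker (algebraMap B' B)) • (EtMil.glue B' φ)) ?_ ?_ ?_ ?_ hm''
    · rintro m1 ⟨n, hn⟩ i hi
      obtain ⟨b', hb1, hb2⟩ := exists_of_ker hsq i ((RingHom.mem_ker).1 hi)
      have : ((0 : N), i • m1) = b' • (n, m1) := by
        ext
        · show (0 : N) = b' • n
          rw [← algebraMap_smul B b' n, hb1, zero_smul]
        · show i • m1 = b' • m1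
          rw [← algebraMap_smul A' b' m1, hb2]
      rw [this]
      exact Submodule.smul_mem_smul ((RingHom.mem_ker).2 hb1) hn
    · intro i _
      rw [smul_zero]
      exact Submodule.zero_mem _
    · intro x y _ _ hx hy i hi
      have : ((0 : N), i • (x + y)) = ((0 : N), i • x) + ((0 : N), i • y) := by
        ext <;> simp
      rw [this]
      exact Submodule.add_mem _ (hx i hi) (hy i hi)
    · intro a x _ hx i hi
      rw [smul_smul]
      exact hx (i * a) (Ideal.mul_mem_right _ _ hi)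
  -- step 2: elements `(0, i • r)` with `r ∈ I M'`
  have step2 : ∀ r ∈ (RingHom.ker (algebraMap A' A)) • (⊤ : Submodule A' M'),
      ∀ i ∈ RingHom.ker (algebraMap A' A),
      ((0 : N), i • r) ∈ (RingHom.ker (algebraMap B' B)) • (EtMil.glue B' φ) := by
    intro r hr i hi
    obtain ⟨b', hb1, hb2⟩ := exists_of_ker hsq i ((RingHom.mem_ker).1 hi)
    have : ((0 : N), i • r) = b' • ((0 : N), r) := by
      ext
      · show (0 : N) = b' • (0 : N)
        rw [smul_zero]
      · show i • r = b' • r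
        rw [← algebraMap_smul A' b' r, hb2]
    rw [this]
    exact Submodule.smul_mem_smul ((RingHom.mem_ker).2 hb1) (zero_mk_mem_glue φ r hr)
  refine Submodule.smul_induction_on hm ?_ ?_
  · intro i hi m _
    obtain ⟨m'', hm'', hr⟩ := exists_sndSpan_decomp (B' := B') φ hsq m
    have : ((0 : N), i • m) = ((0 : N), i • m'') + ((0 : N), i • (m - m'')) := by
      ext
      · simp
      · show i • m = i • m'' + i • (m - m'')
        rw [← smul_add]; congr 1; abel
    rw [this]
    exact Submodule.add_mem _ (step1 m'' hm'' i hi) (step2 _ hr i hi)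
  · intro x y hx hy
    have : ((0 : N), x + y) = ((0 : N), x) + ((0 : N), y) := by
      ext <;> simp
    rw [this]
    exact Submodule.add_mem _ hx hy

theorem fst_bijective (hsq : EtMil.IsFibreSquare B' B A' A) :
    Function.Bijective (LinearMap.liftBaseChange B (EtMil.glueFst B' φ)) := by
  constructor
  · rw [injective_iff_map_eq_zero]
    intro z hz
    obtain ⟨x, rfl⟩ := exists_one_tmul (EtMil.glue B' φ) hsq z
    rw [LinearMap.liftBaseChange_tmul, one_smul] at hz
    obtain ⟨⟨n, m'⟩, hx⟩ := x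
    have hn : n = 0 := hz
    subst hn
    have h1 := mem_smul_top_of_zero_mk_mem_glue (B' := B') φ hsq m' hx
    have h2 := zero_mk_mem_smul_glue (B' := B') φ hsq m' h1
    apply one_tmul_eq_zero_of_mem
    have h3 : (RingHom.ker (algebraMap B' B)) • (EtMil.glue B' φ) =
        Submodule.map (EtMil.glue B' φ).subtype
          ((RingHom.ker (algebraMap B' B)) • (⊤ : Submodule B' (EtMil.glue B' φ))) := by
      rw [Submodule.map_smul'', Submodule.map_subtype_top]
    rw [h3] at h2
    obtain ⟨y, hy, hy2⟩ := h2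
    have : y = ⟨((0 : N), m'), hx⟩ := Subtype.ext hy2
    rw [← this]
    exact hy
  · intro n
    obtain ⟨m', hm'⟩ := exists_mem_glue (B' := B') φ hsq n
    refine ⟨(1 : B) ⊗ₜ[B'] ⟨(n, m'), hm'⟩, ?_⟩
    rw [LinearMap.liftBaseChange_tmul, one_smul]
    rfl

/-- the equivalence `B ⊗[B'] (N ×_φ M') ≃ N`. -/
noncomputable def fstEquiv (hsq : EtMil.IsFibreSquare B' B A' A) :
    B ⊗[B'] (EtMil.glue B' φ) ≃ₗ[B] N :=
  LinearEquiv.ofBijective _ (fst_bijective φ hsq)

theorem fstEquiv_tmul (hsq : EtMil.IsFibreSquare B' B A' A) (b : B) (x : EtMil.glue B' φ) :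
    fstEquiv φ hsq (b ⊗ₜ[B'] x) = b • x.1.1 := by
  show LinearMap.liftBaseChange B (EtMil.glueFst B' φ) (b ⊗ₜ[B'] x) = _
  rw [LinearMap.liftBaseChange_tmul]
  rfl

/-- the map `A ⊗[B'] (N ×_φ M') → A ⊗[B] N`, which is injective. -/
noncomputable def psi (hsq : EtMil.IsFibreSquare B' B A' A) :
    A ⊗[B'] (EtMil.glue B' φ) →ₗ[A] A ⊗[B] N :=
  (LinearMap.baseChange A (fstEquiv φ hsq).toLinearMap) ∘ₗ
    (TensorProduct.AlgebraTensorModule.cancelBaseChange B' B A A (EtMil.glue B' φ)).symm.toLinearMap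

theorem psi_tmul (hsq : EtMil.IsFibreSquare B' B A' A) (a : A) (x : EtMil.glue B' φ) :
    psi φ hsq (a ⊗ₜ[B'] x) = a ⊗ₜ[B] x.1.1 := by
  unfold psi
  rw [LinearMap.comp_apply, LinearEquiv.coe_coe,
    TensorProduct.AlgebraTensorModule.cancelBaseChange_symm_tmul, LinearMap.baseChange_tmul,
    LinearEquiv.coe_coe, fstEquiv_tmul, one_smul]

theorem psi_injective (hsq : EtMil.IsFibreSquare B' B A' A) :
    Function.Injective (psi φ hsq) := by
  unfold psi
  rw [LinearMap.coe_comp]
  refine Function.Injective.comp ?_ (LinearEquiv.injective _)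
  exact (LinearEquiv.baseChange B A _ _ (fstEquiv φ hsq)).injective

theorem snd_comp (hsq : EtMil.IsFibreSquare B' B A' A) (z : A' ⊗[B'] (EtMil.glue B' φ)) :
    (1 : A) ⊗ₜ[A'] (LinearMap.liftBaseChange A' (EtMil.glueSnd B' φ) z) =
      φ (psi φ hsq ((IsScalarTower.toAlgHom B' A' A).toLinearMap.rTensor _ z)) := by
  induction z using TensorProduct.induction_on with
  | zero => simp
  | tmul a' x =>
    rw [LinearMap.liftBaseChange_tmul, LinearMap.rTensor_tmul, psi_tmul]
    have hx : φ ((1 : A) ⊗ₜ[B] x.1.1) = (1 : A) ⊗ₜ[A'] x.1.2 := x.2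
    have h1 : ((IsScalarTower.toAlgHom B' A' A).toLinearMap a') ⊗ₜ[B] x.1.1 =
        (algebraMap A' A a') • ((1 : A) ⊗ₜ[B] x.1.1) := by
      rw [TensorProduct.smul_tmul', smul_eq_mul, mul_one]; rfl
    rw [h1, map_smul, hx, TensorProduct.tmul_smul, TensorProduct.smul_tmul', TensorProduct.smul_tmul',
      smul_eq_mul, mul_one, Algebra.smul_def, mul_one]
    rfl
  | add x y hx hy => rw [map_add, TensorProduct.tmul_add, hx, hy, map_add, map_add, map_add]

theorem snd_bijective (hsq : EtMil.IsFibreSquare B' B A' A) :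
    Function.Bijective (LinearMap.liftBaseChange A' (EtMil.glueSnd B' φ)) := by
  constructor
  · rw [injective_iff_map_eq_zero]
    intro z hz
    have h0 : (IsScalarTower.toAlgHom B' A' A).toLinearMap.rTensor _ z = 0 := by
      apply psi_injective φ hsq
      apply φ.injective
      rw [← snd_comp, hz]; simp
    obtain ⟨x, hx, rfl⟩ := exists_of_rTensor_eq_zero _ hsq z h0
    rw [LinearMap.liftBaseChange_tmul, one_smul] at hz
    have hx1 : x.1.1 = 0 := by
      have := one_tmul_eq_zero_of_mem (B := B) _ x hx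
      have h2 := congrArg (fstEquiv φ hsq) this
      rw [fstEquiv_tmul, one_smul, map_zero] at h2
      exact h2
    have hx2 : x.1.2 = 0 := hz
    have : x = 0 := Subtype.ext (Prod.ext hx1 hx2)
    rw [this, TensorProduct.tmul_zero]
  · intro m
    obtain ⟨m'', hm'', hr⟩ := exists_sndSpan_decomp (B' := B') φ hsq m
    have h1 : sndSpan (B' := B') φ ≤ LinearMap.range (LinearMap.liftBaseChange A' (EtMil.glueSnd B' φ)) := by
      unfold sndSpan
      rw [Submodule.span_le]
      rintro m1 ⟨n, hn⟩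
      refine ⟨(1 : A') ⊗ₜ[B'] ⟨(n, m1), hn⟩, ?_⟩
      rw [LinearMap.liftBaseChange_tmul, one_smul]
      rfl
    have h2 : (m - m'') ∈ LinearMap.range (LinearMap.liftBaseChange A' (EtMil.glueSnd B' φ)) := by
      refine ⟨(1 : A') ⊗ₜ[B'] ⟨((0 : N), m - m''), zero_mk_mem_glue φ _ hr⟩, ?_⟩
      rw [LinearMap.liftBaseChange_tmul, one_smul]
      rfl
    have h3 := Submodule.add_mem _ (h1 hm'') h2
    rw [add_sub_cancel] at h3
    exact h3

section Weak

/-! Finiteness of the glued module for a "weak" square (`B' → B ×_A A'` only surjective). -/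

theorem exists_mem_glue' (hs : Function.Surjective (algebraMap A' A)) (n : N) :
    ∃ m' : M', (n, m') ∈ EtMil.glue B' φ := by
  obtain ⟨m', hm'⟩ := exists_one_tmul_of_surjective M' hs (φ ((1 : A) ⊗ₜ[B] n))
  exact ⟨m', hm'.symm⟩

theorem mem_smul_top_of_zero_mk_mem_glue' (hs : Function.Surjective (algebraMap A' A)) (m' : M')
    (hm : ((0 : N), m') ∈ EtMil.glue B' φ) :
    m' ∈ (RingHom.ker (algebraMap A' A)) • (⊤ : Submodule A' M') := by
  rw [mem_glue_iff] at hm
  simp only [TensorProduct.tmul_zero, map_zero] at hm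
  exact mem_smul_top_of_one_tmul_eq_zero M' hs m' hm.symm

theorem exists_sndSpan_decomp' (hs : Function.Surjective (algebraMap A' A)) (m : M') :
    ∃ m'' ∈ sndSpan (B' := B') φ, m - m'' ∈ (RingHom.ker (algebraMap A' A)) • (⊤ : Submodule A' M') := by
  have key : ∀ w : A ⊗[B] N, ∃ m'' ∈ sndSpan (B' := B') φ, φ w = (1 : A) ⊗ₜ[A'] m'' := by
    intro w
    induction w using TensorProduct.induction_on with
    | zero => exact ⟨0, Submodule.zero_mem _, by simp⟩
    | tmul a n =>
      obtain ⟨a', rfl⟩ := hs a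
      obtain ⟨m', hm'⟩ := exists_mem_glue' (B' := B') φ hs n
      refine ⟨a' • m', Submodule.smul_mem _ _ (Submodule.subset_span ⟨n, hm'⟩), ?_⟩
      rw [mem_glue_iff] at hm'
      have : (algebraMap A' A a') ⊗ₜ[B] n = (algebraMap A' A a') • ((1 : A) ⊗ₜ[B] n) := by
        rw [TensorProduct.smul_tmul', smul_eq_mul, mul_one]
      rw [this, map_smul, hm', TensorProduct.tmul_smul, TensorProduct.smul_tmul', TensorProduct.smul_tmul',
        smul_eq_mul, mul_one, Algebra.smul_def, mul_one]
    | add x y hx hy =>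
      obtain ⟨m1, h1, e1⟩ := hx
      obtain ⟨m2, h2, e2⟩ := hy
      exact ⟨m1 + m2, Submodule.add_mem _ h1 h2, by rw [map_add, e1, e2, TensorProduct.tmul_add]⟩
  obtain ⟨m'', hm'', e⟩ := key (φ.symm ((1 : A) ⊗ₜ[A'] m))
  refine ⟨m'', hm'', mem_smul_top_of_one_tmul_eq_zero M' hs _ ?_⟩
  rw [TensorProduct.tmul_sub, ← e, LinearEquiv.apply_symm_apply, sub_self]

theorem sndSpan_eq_top' (hs : Function.Surjective (algebraMap A' A)) :
    sndSpan (B' := B') φ = ⊤ := by
  rw [eq_top_iff]
  intro m _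
  obtain ⟨m'', hm'', hr⟩ := exists_sndSpan_decomp' (B' := B') φ hs m
  have h2 : m - m'' ∈ sndSpan (B' := B') φ :=
    Submodule.subset_span ⟨0, zero_mk_mem_glue φ _ hr⟩
  have := Submodule.add_mem _ hm'' h2
  rwa [add_sub_cancel] at this

theorem glue_finite_of_weak (hs : Function.Surjective (algebraMap A' A))
    (hl : ∀ (b : B) (a' : A'), algebraMap B A b = algebraMap A' A a' →
      ∃ b' : B', algebraMap B' B b' = b ∧ algebraMap B' A' b' = a')
    [Module.Finite B N] [Module.Finite A' M'] : Module.Finite B' ↥(EtMil.glue B' φ) := by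
  classical
  have hsB : Function.Surjective (algebraMap B' B) := by
    intro b
    obtain ⟨a', ha'⟩ := hs (algebraMap B A b)
    obtain ⟨b', hb1, _⟩ := hl b a' ha'.symm
    exact ⟨b', hb1⟩
  -- generators of `N`
  obtain ⟨SN, hSN⟩ := (Module.finite_def.1 (inferInstance : Module.Finite B N))
  have hSN' : Submodule.span B' (SN : Set N) = ⊤ := by
    rw [← Submodule.restrictScalars_span B' B hsB, hSN]
    rfl
  choose liftN hliftN using exists_mem_glue' (B' := B') φ hs
  -- generators of `M'`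
  have hM : (Submodule.span A' {m' | ∃ n : N, (n, m') ∈ EtMil.glue B' φ}).FG := by
    have := sndSpan_eq_top' (B' := B') φ hs
    unfold sndSpan at this
    rw [this]
    exact Module.finite_def.1 inferInstance
  obtain ⟨T, hT1, hT2⟩ := (Submodule.fg_span_iff_fg_span_finset_subset _).1 hM
  have hT3 : Submodule.span A' (T : Set M') = ⊤ := by
    rw [← hT2]
    exact sndSpan_eq_top' (B' := B') φ hs
  choose liftM hliftM using fun (t : M') (ht : t ∈ (T : Set M')) => hT1 ht
  -- the generating set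
  let G : Set (N × M') := ((fun n => (n, liftN n)) '' (SN : Set N)) ∪
    {x | ∃ t, ∃ ht : t ∈ (T : Set M'), x = (liftM t ht, t)}
  have hGfin : G.Finite := by
    refine Set.Finite.union (Set.Finite.image _ (Finset.finite_toSet SN)) ?_
    have : {x : N × M' | ∃ t, ∃ ht : t ∈ (T : Set M'), x = (liftM t ht, t)} ⊆
        (fun t : (T : Set M') => (liftM t.1 t.2, t.1)) '' Set.univ := by
      rintro x ⟨t, ht, rfl⟩
      exact ⟨⟨t, ht⟩, trivial, rfl⟩
    exact Set.Finite.subset (Set.Finite.image _ Set.finite_univ) this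
  have hGle : Submodule.span B' G ≤ EtMil.glue B' φ := by
    rw [Submodule.span_le]
    rintro x (⟨n, _, rfl⟩ | ⟨t, ht, rfl⟩)
    · exact hliftN n
    · exact hliftM t ht
  -- `(0, i • m) ∈ span G`
  have step1 : ∀ m ∈ Submodule.span A' (T : Set M'), ∀ i ∈ RingHom.ker (algebraMap A' A),
      ((0 : N), i • m) ∈ Submodule.span B' G := by
    intro m hm
    refine Submodule.span_induction (p := fun m _ => ∀ i ∈ RingHom.ker (algebraMap A' A),
      ((0 : N), i • m) ∈ Submodule.span B' G) ?_ ?_ ?_ ?_ hm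
    · intro t ht i hi
      obtain ⟨b', hb1, hb2⟩ := hl 0 i (by rw [map_zero, (RingHom.mem_ker).1 hi])
      have : ((0 : N), i • t) = b' • (liftM t ht, t) := by
        ext
        · show (0 : N) = b' • liftM t ht
          rw [← algebraMap_smul B b' (liftM t ht), hb1, zero_smul]
        · show i • t = b' • t
          rw [← algebraMap_smul A' b' t, hb2]
      rw [this]
      exact Submodule.smul_mem _ _ (Submodule.subset_span (Or.inr ⟨t, ht, rfl⟩))
    · intro i _
      rw [smul_zero]
      exact Submodule.zero_mem _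
    · intro x y _ _ hx hy i hi
      have : ((0 : N), i • (x + y)) = ((0 : N), i • x) + ((0 : N), i • y) := by
        ext <;> simp
      rw [this]
      exact Submodule.add_mem _ (hx i hi) (hy i hi)
    · intro a x _ hx i hi
      rw [smul_smul]
      exact hx (i * a) (Ideal.mul_mem_right _ _ hi)
  have step2 : ∀ r ∈ (RingHom.ker (algebraMap A' A)) • (⊤ : Submodule A' M'),
      ((0 : N), r) ∈ Submodule.span B' G := by
    intro r hr
    refine Submodule.smul_induction_on hr ?_ ?_
    · intro i hi m _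
      exact step1 m (by rw [hT3]; exact Submodule.mem_top) i hi
    · intro x y hx hy
      have : ((0 : N), x + y) = ((0 : N), x) + ((0 : N), y) := by
        ext <;> simp
      rw [this]
      exact Submodule.add_mem _ hx hy
  -- first projection of span G is onto
  have step3 : ∀ n : N, ∃ y ∈ Submodule.span B' G, y.1 = n := by
    intro n
    have hn : n ∈ Submodule.span B' (SN : Set N) := by rw [hSN']; exact Submodule.mem_top
    refine Submodule.span_induction (p := fun n _ => ∃ y ∈ Submodule.span B' G, y.1 = n)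
      ?_ ?_ ?_ ?_ hn
    · intro s hs'
      exact ⟨(s, liftN s), Submodule.subset_span (Or.inl ⟨s, hs', rfl⟩), rfl⟩
    · exact ⟨0, Submodule.zero_mem _, rfl⟩
    · rintro x y _ _ ⟨y1, h1, e1⟩ ⟨y2, h2, e2⟩
      exact ⟨y1 + y2, Submodule.add_mem _ h1 h2, by rw [Prod.fst_add, e1, e2]⟩
    · rintro c x _ ⟨y1, h1, e1⟩
      exact ⟨c • y1, Submodule.smul_mem _ _ h1, by rw [Prod.smul_fst, e1]⟩
  have hle : EtMil.glue B' φ ≤ Submodule.span B' G := by
    intro x hx
    obtain ⟨y, hy, hy1⟩ := step3 x.1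
    have hxy : x - y ∈ EtMil.glue B' φ := Submodule.sub_mem _ hx (hGle hy)
    have h0 : x - y = ((0 : N), x.2 - y.2) := by
      ext
      · simp [hy1]
      · simp
    rw [h0] at hxy
    have hr := mem_smul_top_of_zero_mk_mem_glue' (B' := B') φ hs _ hxy
    have := Submodule.add_mem _ hy (step2 _ hr)
    rw [← h0, add_sub_cancel] at this
    exact this
  have heq : EtMil.glue B' φ = Submodule.span B' G := le_antisymm hle hGle
  rw [Module.Finite.iff_fg, heq]
  exact Submodule.fg_span hGfin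

end Weak

end Groth.Agent.H9_MilnorGlue
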