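import Mathlib
import Groth.Prelude.Def_EtMil
import Groth.Agent.Lib.helper9.H9_MilnorFlat
import Groth.Agent.Lib.helper9.H9_MilnorGlue
import Groth.Agent.S14953

/-! helper9: descent of finite presentation (for flat modules) along a Milnor square. -/

set_option autoImplicit false
universe u
open TensorProduct

namespace Groth.Agent.H9_MilnorFP

open Groth.Agent.H9_Milnor Groth.Agent.H9_MilnorFlat

variable {B' B A' A : Type u} [CommRing B'] [CommRing B] [CommRing A'] [CommRing A]
  [Algebra B' B] [Algebra B' A'] [Algebra B A] [Algebra A' A] [Algebra B' A]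
  [IsScalarTower B' B A] [IsScalarTower B' A' A]
variable (L' : Type u) [AddCommGroup L'] [Module B' L']

theorem finitePresentation_of_baseChange (hsq : EtMil.IsFibreSquare B' B A' A)
    [Module.Flat B (B ⊗[B'] L')] [Module.FinitePresentation B (B ⊗[B'] L')]
    [Module.Flat A' (A' ⊗[B'] L')] [Module.FinitePresentation A' (A' ⊗[B'] L')] :
    Module.FinitePresentation B' L' := by
  haveI hflat : Module.Flat B' L' := flat_of_flat_baseChange L' hsq
  haveI hfin : Module.Finite B' L' := Groth.Agent.S14953.result B' B A' A hsq L'
  obtain ⟨n, f, hf⟩ := Module.Finite.exists_fin' B' L'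
  have key : ∀ (S : Type u) [CommRing S] [Algebra B' S]
      [Module.FinitePresentation S (S ⊗[B'] L')],
      Module.Finite S (S ⊗[B'] (LinearMap.ker f)) := by
    intro S _ _ _
    have hinj : Function.Injective ((LinearMap.ker f).subtype.baseChange S) :=
      H8Flat.lTensor_injective_of_flat_quotient (LinearMap.ker f).subtype f
        (LinearMap.ker f).injective_subtype (LinearMap.exact_subtype_ker_map f) hf S
    have hex : Function.Exact ((LinearMap.ker f).subtype.baseChange S) (f.baseChange S) :=
      lTensor_exact S (LinearMap.exact_subtype_ker_map f) hf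
    have hsurj : Function.Surjective (f.baseChange S) := LinearMap.lTensor_surjective S hf
    have hfg : (LinearMap.ker (f.baseChange S)).FG := Module.FinitePresentation.fg_ker _ hsurj
    have hrange : LinearMap.range ((LinearMap.ker f).subtype.baseChange S) =
        LinearMap.ker (f.baseChange S) := (LinearMap.exact_iff.1 hex).symm
    rw [← hrange] at hfg
    haveI : Module.Finite S (LinearMap.range ((LinearMap.ker f).subtype.baseChange S)) :=
      Module.Finite.iff_fg.2 hfg
    exact Module.Finite.equiv (LinearEquiv.ofInjective _ hinj).symm
  haveI := key B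
  haveI := key A'
  have hK : Module.Finite B' (LinearMap.ker f) := Groth.Agent.S14953.result B' B A' A hsq _
  exact Module.finitePresentation_of_free_of_surjective f hf (Module.Finite.iff_fg.1 hK)

end Groth.Agent.H9_MilnorFP
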