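import Mathlib
import Groth.Prelude.Def_EtMil
import Groth.Agent.Lib.helper9.H9_Milnor

/-! helper9: the prime spectrum of a Milnor square `B' = B ×_A A'`. -/

set_option autoImplicit false
universe u

namespace Groth.Agent.H9_MilnorSpec

open Groth.Agent.H9_Milnor PrimeSpectrum

variable {B' B A' A : Type u} [CommRing B'] [CommRing B] [CommRing A'] [CommRing A]
  [Algebra B' B] [Algebra B' A'] [Algebra B A] [Algebra A' A] [Algebra B' A]
  [IsScalarTower B' B A] [IsScalarTower B' A' A]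

/-- the image in `A'` of an element of `I' = ker (B' → B)` lies in `I = ker (A' → A)`. -/
theorem map_mem_ker (b' : B') (hb : algebraMap B' B b' = 0) :
    algebraMap A' A (algebraMap B' A' b') = 0 := by
  rw [← IsScalarTower.algebraMap_apply, IsScalarTower.algebraMap_apply B' B A, hb, map_zero]

/-- `j ⋆ a'`: for `j ∈ I'` and `a' ∈ A'` the element of `I'` with image `ι j * a'`. -/
theorem exists_star (hsq : EtMil.IsFibreSquare B' B A' A) (j : B') (hj : algebraMap B' B j = 0)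
    (a' : A') : ∃ b' : B', algebraMap B' B b' = 0 ∧ algebraMap B' A' b' = algebraMap B' A' j * a' := by
  apply exists_of_ker hsq
  rw [map_mul, map_mem_ker j hj, zero_mul]

/-- the prime of `A'` over a prime of `B'` not containing `I'`. -/
def liftPrime (hsq : EtMil.IsFibreSquare B' B A' A) (𝔭 : Ideal B') : Ideal A' where
  carrier := {a' | ∀ j b' : B', algebraMap B' B j = 0 → algebraMap B' B b' = 0 →
    algebraMap B' A' b' = algebraMap B' A' j * a' → b' ∈ 𝔭}
  zero_mem' := by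
    intro j b' _ hb hb'
    rw [mul_zero] at hb'
    have : b' = 0 := eq_of_eq hsq b' 0 (by rw [hb, map_zero]) (by rw [hb', map_zero])
    rw [this]
    exact 𝔭.zero_mem
  add_mem' := by
    intro a₁ a₂ h₁ h₂ j b' hj hb hb'
    obtain ⟨b₁, hb₁, e₁⟩ := exists_star hsq j hj a₁
    obtain ⟨b₂, hb₂, e₂⟩ := exists_star hsq j hj a₂
    have : b' = b₁ + b₂ := eq_of_eq hsq _ _ (by rw [hb, map_add, hb₁, hb₂, add_zero])
      (by rw [hb', map_add, e₁, e₂, mul_add])
    rw [this]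
    exact 𝔭.add_mem (h₁ j b₁ hj hb₁ e₁) (h₂ j b₂ hj hb₂ e₂)
  smul_mem' := by
    intro c a ha j b' hj hb hb'
    obtain ⟨j₂, hj₂, e₂⟩ := exists_star hsq j hj c
    exact ha j₂ b' hj₂ hb (by rw [hb', e₂, smul_eq_mul, mul_assoc])

theorem mem_liftPrime (hsq : EtMil.IsFibreSquare B' B A' A) (𝔭 : Ideal B') (a' : A') :
    a' ∈ liftPrime hsq 𝔭 ↔ ∀ j b' : B', algebraMap B' B j = 0 → algebraMap B' B b' = 0 →
      algebraMap B' A' b' = algebraMap B' A' j * a' → b' ∈ 𝔭 := Iff.rfl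

theorem comap_liftPrime (hsq : EtMil.IsFibreSquare B' B A' A) (𝔭 : Ideal B') [𝔭.IsPrime]
    (i : B') (hi : algebraMap B' B i = 0) (hi𝔭 : i ∉ 𝔭) :
    (liftPrime hsq 𝔭).comap (algebraMap B' A') = 𝔭 := by
  ext b₀
  rw [Ideal.mem_comap, mem_liftPrime]
  constructor
  · intro h
    have := h i (i * b₀) hi (by rw [map_mul, hi, zero_mul]) (by rw [map_mul])
    exact (Ideal.IsPrime.mem_or_mem inferInstance this).resolve_left hi𝔭
  · intro hb₀ j b' hj hb hb'
    have : b' = j * b₀ := eq_of_eq hsq _ _ (by rw [hb, map_mul, hj, zero_mul])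
      (by rw [hb', map_mul])
    rw [this]
    exact 𝔭.mul_mem_left _ hb₀

theorem liftPrime_isPrime (hsq : EtMil.IsFibreSquare B' B A' A) (𝔭 : Ideal B') [h𝔭 : 𝔭.IsPrime]
    (i : B') (hi : algebraMap B' B i = 0) (hi𝔭 : i ∉ 𝔭) : (liftPrime hsq 𝔭).IsPrime := by
  refine ⟨?_, ?_⟩
  · intro htop
    have h1 : (1 : A') ∈ liftPrime hsq 𝔭 := by rw [htop]; exact Submodule.mem_top
    exact hi𝔭 (h1 i i hi hi (by rw [mul_one]))
  · intro a b hab
    by_contra hcon
    push_neg at hcon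
    obtain ⟨ha, hb⟩ := hcon
    rw [mem_liftPrime] at ha hb
    push_neg at ha hb
    obtain ⟨j₁, b₁, hj₁, hb₁, e₁, hn₁⟩ := ha
    obtain ⟨j₂, b₂, hj₂, hb₂, e₂, hn₂⟩ := hb
    have := hab (j₁ * j₂) (b₁ * b₂) (by rw [map_mul, hj₁, zero_mul])
      (by rw [map_mul, hb₁, zero_mul]) (by rw [map_mul, map_mul, e₁, e₂]; ring)
    rcases h𝔭.mem_or_mem this with h | h
    · exact hn₁ h
    · exact hn₂ h

/-- primes of `B'` not containing `I'` come from `A'`. -/
theorem exists_comap_eq (hsq : EtMil.IsFibreSquare B' B A' A) (𝔭 : PrimeSpectrum B')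
    (h𝔭 : ¬ (RingHom.ker (algebraMap B' B) ≤ 𝔭.asIdeal)) :
    ∃ 𝔮 : PrimeSpectrum A', comap (algebraMap B' A') 𝔮 = 𝔭 := by
  obtain ⟨i, hi, hi𝔭⟩ := SetLike.not_le_iff_exists.1 h𝔭
  haveI := 𝔭.isPrime
  refine ⟨⟨liftPrime hsq 𝔭.asIdeal, liftPrime_isPrime hsq 𝔭.asIdeal i ((RingHom.mem_ker).1 hi) hi𝔭⟩,
    ?_⟩
  apply PrimeSpectrum.ext
  exact comap_liftPrime hsq 𝔭.asIdeal i ((RingHom.mem_ker).1 hi) hi𝔭

/-- `comap ι' 𝔮 ⊇ I'` iff `𝔮 ⊇ I`. -/
theorem ker_le_comap_iff (hsq : EtMil.IsFibreSquare B' B A' A) (𝔮 : PrimeSpectrum A') :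
    RingHom.ker (algebraMap B' B) ≤ (comap (algebraMap B' A') 𝔮).asIdeal ↔
      RingHom.ker (algebraMap A' A) ≤ 𝔮.asIdeal := by
  constructor
  · intro h a ha
    obtain ⟨b', hb1, hb2⟩ := exists_of_ker hsq a ((RingHom.mem_ker).1 ha)
    have := h ((RingHom.mem_ker).2 hb1)
    rw [comap_asIdeal, Ideal.mem_comap, hb2] at this
    exact this
  · intro h b' hb'
    rw [comap_asIdeal, Ideal.mem_comap]
    exact h ((RingHom.mem_ker).2 (map_mem_ker b' ((RingHom.mem_ker).1 hb')))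

/-- `comap ι'` is injective away from `V(I)`. -/
theorem comap_injOn (hsq : EtMil.IsFibreSquare B' B A' A) (𝔮₁ 𝔮₂ : PrimeSpectrum A')
    (h₁ : ¬ (RingHom.ker (algebraMap A' A) ≤ 𝔮₁.asIdeal))
    (h₂ : ¬ (RingHom.ker (algebraMap A' A) ≤ 𝔮₂.asIdeal))
    (h : comap (algebraMap B' A') 𝔮₁ = comap (algebraMap B' A') 𝔮₂) : 𝔮₁ = 𝔮₂ := by
  have key : ∀ 𝔮 𝔮' : PrimeSpectrum A', ¬ (RingHom.ker (algebraMap A' A) ≤ 𝔮'.asIdeal) →
      comap (algebraMap B' A') 𝔮 = comap (algebraMap B' A') 𝔮' → 𝔮.asIdeal ≤ 𝔮'.asIdeal := by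
    intro 𝔮 𝔮' hn hc a ha
    obtain ⟨i, hi, hi𝔮⟩ := SetLike.not_le_iff_exists.1 hn
    have hia : algebraMap A' A (i * a) = 0 := by rw [map_mul, (RingHom.mem_ker).1 hi, zero_mul]
    obtain ⟨b', _, hb2⟩ := exists_of_ker hsq (i * a) hia
    have h1 : b' ∈ (comap (algebraMap B' A') 𝔮).asIdeal := by
      rw [comap_asIdeal, Ideal.mem_comap, hb2]
      exact 𝔮.asIdeal.mul_mem_left _ ha
    rw [hc, comap_asIdeal, Ideal.mem_comap, hb2] at h1
    exact (𝔮'.isPrime.mem_or_mem h1).resolve_left hi𝔮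
  apply PrimeSpectrum.ext
  exact le_antisymm (key 𝔮₁ 𝔮₂ h₂ h) (key 𝔮₂ 𝔮₁ h₁ h.symm)

/-- every prime of `B'` comes from `B` or from `A' ∖ V(I)`. -/
theorem cases_prime (hsq : EtMil.IsFibreSquare B' B A' A) (𝔭' : PrimeSpectrum B') :
    (∃ 𝔭 : PrimeSpectrum B, comap (algebraMap B' B) 𝔭 = 𝔭') ∨
    (∃ 𝔮 : PrimeSpectrum A', comap (algebraMap B' A') 𝔮 = 𝔭' ∧
      ¬ (RingHom.ker (algebraMap A' A) ≤ 𝔮.asIdeal)) := by
  by_cases h : RingHom.ker (algebraMap B' B) ≤ 𝔭'.asIdeal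
  · left
    have : 𝔭' ∈ zeroLocus (RingHom.ker (algebraMap B' B) : Set B') := h
    rw [← range_comap_of_surjective _ _ (surj_B hsq)] at this
    exact this
  · right
    obtain ⟨𝔮, h𝔮⟩ := exists_comap_eq hsq 𝔭' h
    refine ⟨𝔮, h𝔮, ?_⟩
    rw [← ker_le_comap_iff hsq, h𝔮]
    exact h

theorem comap_comm (𝔯 : PrimeSpectrum A) :
    comap (algebraMap B' B) (comap (algebraMap B A) 𝔯) =
      comap (algebraMap B' A') (comap (algebraMap A' A) 𝔯) := by
  apply PrimeSpectrum.ext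
  ext x
  simp only [comap_asIdeal, Ideal.mem_comap]
  rw [← IsScalarTower.algebraMap_apply B' B A, ← IsScalarTower.algebraMap_apply B' A' A]

/-- the quotient-topology property. -/
theorem isClosed_of_preimages (hsq : EtMil.IsFibreSquare B' B A' A) (Z : Set (PrimeSpectrum B'))
    (h1 : IsClosed (comap (algebraMap B' B) ⁻¹' Z))
    (h2 : IsClosed (comap (algebraMap B' A') ⁻¹' Z)) : IsClosed Z := by
  set T := comap (algebraMap B' B) ⁻¹' Z with hTdef
  set T' := comap (algebraMap B' A') ⁻¹' Z with hT'def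
  set J := vanishingIdeal T with hJ
  set J' := vanishingIdeal T' with hJ'
  have hT : zeroLocus (J : Set B) = T := by
    rw [hJ, zeroLocus_vanishingIdeal_eq_closure, h1.closure_eq]
  have hT' : zeroLocus (J' : Set A') = T' := by
    rw [hJ', zeroLocus_vanishingIdeal_eq_closure, h2.closure_eq]
  have hJle : ∀ 𝔭 ∈ T, J ≤ 𝔭.asIdeal := fun 𝔭 h𝔭 x hx => (mem_vanishingIdeal _ _).1 hx 𝔭 h𝔭
  have hJ'le : ∀ 𝔮 ∈ T', J' ≤ 𝔮.asIdeal := fun 𝔮 h𝔮 x hx => (mem_vanishingIdeal _ _).1 hx 𝔮 h𝔮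
  have hTmem : ∀ 𝔭 : PrimeSpectrum B, J ≤ 𝔭.asIdeal → 𝔭 ∈ T := by
    intro 𝔭 h; rw [← hT]; exact h
  have hT'mem : ∀ 𝔮 : PrimeSpectrum A', J' ≤ 𝔮.asIdeal → 𝔮 ∈ T' := by
    intro 𝔮 h; rw [← hT']; exact h
  have hZ : Z = zeroLocus ((J.comap (algebraMap B' B) ⊓ J'.comap (algebraMap B' A') : Ideal B') : Set B') := by
    ext 𝔭'
    rw [mem_zeroLocus, SetLike.coe_subset_coe]
    constructor
    · intro h𝔭'
      rcases cases_prime hsq 𝔭' with ⟨𝔭, rfl⟩ | ⟨𝔮, rfl, _⟩
      · intro b' hb'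
        rw [comap_asIdeal, Ideal.mem_comap]
        exact hJle 𝔭 h𝔭' hb'.1
      · intro b' hb'
        rw [comap_asIdeal, Ideal.mem_comap]
        exact hJ'le 𝔮 h𝔭' hb'.2
    · intro hle
      rcases cases_prime hsq 𝔭' with ⟨𝔭, rfl⟩ | ⟨𝔮, rfl, hn⟩
      · show 𝔭 ∈ T
        apply hTmem
        intro j hj
        -- `s j` lies in the radical of `t(J')`
        have hrad : algebraMap B A j ∈ (Ideal.map (algebraMap A' A) J').radical := by
          rw [← vanishingIdeal_zeroLocus_eq_radical, mem_vanishingIdeal]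
          intro 𝔯 h𝔯
          have h3 : comap (algebraMap A' A) 𝔯 ∈ T' := by
            apply hT'mem
            intro x hx
            rw [comap_asIdeal, Ideal.mem_comap]
            exact h𝔯 (Ideal.mem_map_of_mem _ hx)
          have h4 : comap (algebraMap B A) 𝔯 ∈ T := by
            show comap (algebraMap B' B) (comap (algebraMap B A) 𝔯) ∈ Z
            rw [comap_comm (A' := A')]
            exact h3
          have := hJle _ h4 hj
          rwa [comap_asIdeal, Ideal.mem_comap] at this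
        obtain ⟨n, hn⟩ := hrad
        have hn1 : algebraMap B A j ^ (n + 1) ∈ Ideal.map (algebraMap A' A) J' := by
          rw [pow_succ]
          exact Ideal.mul_mem_right _ _ hn
        obtain ⟨j', hj', e⟩ := (Ideal.mem_map_iff_of_surjective _ hsq.1).1 hn1
        obtain ⟨b', hb1, hb2⟩ := exists_lift hsq (j ^ (n + 1)) j' (by rw [map_pow, e])
        have hb' : b' ∈ (J.comap (algebraMap B' B) ⊓ J'.comap (algebraMap B' A') : Ideal B') := by
          refine ⟨?_, ?_⟩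
          · show algebraMap B' B b' ∈ J
            rw [hb1]; exact Ideal.pow_mem_of_mem _ hj _ (Nat.succ_pos n)
          · show algebraMap B' A' b' ∈ J'
            rw [hb2]; exact hj'
        have := hle hb'
        rw [comap_asIdeal, Ideal.mem_comap, hb1] at this
        exact 𝔭.isPrime.mem_of_pow_mem _ this
      · show 𝔮 ∈ T'
        apply hT'mem
        intro j' hj'
        obtain ⟨i, hi, hi𝔮⟩ := SetLike.not_le_iff_exists.1 hn
        have hij : algebraMap A' A (i * j') = 0 := by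
          rw [map_mul, (RingHom.mem_ker).1 hi, zero_mul]
        obtain ⟨b', hb1, hb2⟩ := exists_of_ker hsq (i * j') hij
        have hb' : b' ∈ (J.comap (algebraMap B' B) ⊓ J'.comap (algebraMap B' A') : Ideal B') := by
          refine ⟨?_, ?_⟩
          · show algebraMap B' B b' ∈ J
            rw [hb1]; exact J.zero_mem
          · show algebraMap B' A' b' ∈ J'
            rw [hb2]; exact J'.mul_mem_left _ hj'
        have := hle hb'
        rw [comap_asIdeal, Ideal.mem_comap, hb2] at this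
        exact (𝔮.isPrime.mem_or_mem this).resolve_left hi𝔮
  rw [hZ]
  exact isClosed_zeroLocus _

end Groth.Agent.H9_MilnorSpec

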