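import Mathlib
import Groth.Prelude.Def_Models

set_option autoImplicit false

namespace Groth.Agent.H9.NumType

open Finset Models

variable {n : ℕ} (T : Models.NumericalType n)

/-- For `n > 1` the diagonal entries of the intersection matrix are negative. -/
theorem diag_neg (hn : 1 < n) (i : Fin n) : T.a i i < 0 := by
  classical
  have hne : ({i} : Finset (Fin n)) ≠ univ := by
    intro h
    have := congrArg Finset.card h
    rw [Finset.card_singleton, Finset.card_univ, Fintype.card_fin] at this
    omega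
  obtain ⟨i', hi', j, hj, hij⟩ := T.connected {i} (Finset.singleton_nonempty i) hne
  rw [Finset.mem_singleton] at hi'
  subst hi'
  rw [Finset.mem_singleton] at hj
  have hpos : 0 < T.a i' j := lt_of_le_of_ne (T.offDiag_nonneg i' j (Ne.symm hj)) (Ne.symm hij)
  have hrow : ∑ k, T.a i' k * T.m k = 0 := by
    have := congrFun T.mulVec_m i'
    simpa [Matrix.mulVec, dotProduct] using this
  rw [← Finset.add_sum_erase _ _ (Finset.mem_univ i')] at hrow
  have hrest : 0 < ∑ k ∈ univ.erase i', T.a i' k * T.m k := by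
    have hjmem : j ∈ univ.erase i' := Finset.mem_erase.2 ⟨hj, Finset.mem_univ j⟩
    refine Finset.sum_pos' ?_ ⟨j, hjmem, mul_pos hpos (T.m_pos j)⟩
    intro k hk
    exact mul_nonneg (T.offDiag_nonneg i' k (Ne.symm (Finset.ne_of_mem_erase hk))) (T.m_pos k).le
  have : T.a i' i' * T.m i' < 0 := by linarith
  by_contra hcon
  rw [not_lt] at hcon
  have := mul_nonneg hcon (T.m_pos i').le
  linarith

/-- For `n > 1`, `a i i = - c * w i` with `c ≥ 1`. -/
theorem diag_eq (hn : 1 < n) (i : Fin n) : ∃ c : ℤ, 1 ≤ c ∧ T.a i i = -c * T.w i := by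
  obtain ⟨d, hd⟩ := T.w_dvd i i
  have hneg := diag_neg T hn i
  have hw := T.w_pos i
  refine ⟨-d, ?_, by rw [hd]; ring⟩
  by_contra hcon
  rw [not_le] at hcon
  have hd0 : 0 ≤ d := by omega
  have := mul_nonneg hw.le hd0
  rw [← hd] at this
  linarith

end Groth.Agent.H9.NumType
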