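import Mathlib

/-!
# The semisimple part of a matrix lies in the closure of its conjugation orbit
-/

set_option autoImplicit false
set_option linter.unusedSectionVars false
universe u

namespace H9_OrbitSS

open MvPolynomial

variable {k : Type u} [Field k] {n : ℕ}

local notation "Mat" => Matrix (Fin n) (Fin n) k

/-- evaluation of a polynomial in the matrix entries -/
noncomputable def ev (F : MvPolynomial (Fin n × Fin n) k) (M : Mat) : k :=
  MvPolynomial.eval (fun p => M p.1 p.2) F

section Poly

variable [Infinite k]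

theorem ev_eq_zero_of_forall (F : MvPolynomial (Fin n × Fin n) k) (M0 M1 : Mat)
    (h : ∀ t : k, t ≠ 0 → ev F (M0 + t • M1) = 0) : ev F M0 = 0 := by
  let g : Fin n × Fin n → Polynomial k := fun p =>
    Polynomial.C (M0 p.1 p.2) + Polynomial.X * Polynomial.C (M1 p.1 p.2)
  let q : Polynomial k := MvPolynomial.aeval g F
  have hq : ∀ t : k, Polynomial.eval t q = ev F (M0 + t • M1) := by
    intro t
    have h1 : (Polynomial.evalRingHom t).comp (MvPolynomial.aeval g : _ →ₐ[k] Polynomial k).toRingHom =
        MvPolynomial.eval (fun p => (M0 + t • M1) p.1 p.2) := by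
      apply MvPolynomial.ringHom_ext
      · intro c
        simp
      · intro p
        simp [g]
        exact mul_comm _ _
    exact RingHom.congr_fun h1 F
  have hq0 : q = 0 := by
    apply Polynomial.eq_zero_of_infinite_isRoot
    apply Set.Infinite.mono (s := {t : k | t ≠ 0})
    · intro t ht
      show Polynomial.IsRoot q t
      rw [Polynomial.IsRoot, hq, h t ht]
    · exact (Set.finite_singleton (0 : k)).infinite_compl
  have := hq 0
  rw [hq0, Polynomial.eval_zero, zero_smul, add_zero] at this
  exact this.symm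

end Poly

section Ring

/-- the basic conjugation identity -/
theorem conj_identity (S N P : Mat) (hP : P * P = P) (hSP : Commute S P) (hQN : (1 - P) * N = 0)
    (t : k) (ht : t ≠ 0) :
    (P + t⁻¹ • (1 - P)) * (P + t • (1 - P)) = 1 ∧
    (P + t⁻¹ • (1 - P)) * (S + N) * (P + t • (1 - P)) = S + N * P + t • (N * (1 - P)) := by
  have hPQ : P * (1 - P) = 0 := by rw [mul_sub, mul_one, hP, sub_self]
  have hQP : (1 - P) * P = 0 := by rw [sub_mul, one_mul, hP, sub_self]
  have hQQ : (1 - P) * (1 - P) = 1 - P := by
    rw [mul_sub, mul_one, hQP, sub_zero]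
  have hPN : P * N = N := by
    have : N - P * N = 0 := by rw [← hQN, sub_mul, one_mul]
    exact (sub_eq_zero.1 this).symm
  have hSQ : Commute S (1 - P) := (Commute.one_right S).sub_right hSP
  have h1 : (P + t⁻¹ • (1 - P)) * (P + t • (1 - P)) = 1 := by
    rw [add_mul, mul_add, mul_add, hP, Matrix.mul_smul, Matrix.smul_mul, Matrix.smul_mul,
      Matrix.mul_smul, hPQ, hQP, hQQ, smul_zero, smul_zero, add_zero, zero_add, smul_smul,
      inv_mul_cancel₀ ht, one_smul]
    abel
  refine ⟨h1, ?_⟩
  have hA : Commute S (P + t⁻¹ • (1 - P)) := hSP.add_right (hSQ.smul_right _)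
  have h2 : (P + t⁻¹ • (1 - P)) * S * (P + t • (1 - P)) = S := by
    rw [← hA.eq, mul_assoc, h1, mul_one]
  have h3 : (P + t⁻¹ • (1 - P)) * N = N := by
    rw [add_mul, Matrix.smul_mul, hQN, smul_zero, add_zero, hPN]
  rw [mul_add (P + t⁻¹ • (1 - P)) S N, add_mul, h2, h3, mul_add N, Matrix.mul_smul, add_assoc]

theorem mul_proj_pow (N P : Mat) (hPN : P * N = N) (j : ℕ) :
    (N * P) ^ (j + 1) = N ^ (j + 1) * P := by
  induction j with
  | zero => simp
  | succ j ih =>
    rw [pow_succ, ih, pow_succ N (j + 1), mul_assoc, ← mul_assoc P N P, hPN, mul_assoc]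

end Ring

section Proj

/-- an `S`-invariant projection onto the kernel of a power of `N` -/
theorem exists_proj (S N : Mat) (hS : Module.End.IsSemisimple (Matrix.toLin' S))
    (hc : Commute S N) (m : ℕ) (hN : N ^ (m + 2) = 0) :
    ∃ P : Mat, P * P = P ∧ Commute S P ∧ (1 - P) * N = 0 ∧ N ^ (m + 1) * P = 0 := by
  set s : Module.End k (Fin n → k) := Matrix.toLin' S with hs
  set ν : Module.End k (Fin n → k) := Matrix.toLin' N with hν
  have hcomm : Commute s ν := by
    show s * ν = ν * s
    rw [hs, hν, Module.End.mul_eq_comp, Module.End.mul_eq_comp, ← Matrix.toLin'_mul,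
      ← Matrix.toLin'_mul, hc.eq]
  have hνpow : ν ^ (m + 2) = 0 := by
    rw [hν, ← Matrix.toLin'_pow, hN, map_zero]
  let K : Submodule k (Fin n → k) := LinearMap.ker (ν ^ (m + 1))
  have hK : K ∈ Module.End.invtSubmodule s := by
    rw [Module.End.mem_invtSubmodule]
    intro v hv
    rw [Submodule.mem_comap, LinearMap.mem_ker]
    rw [LinearMap.mem_ker] at hv
    have h1 : (ν ^ (m + 1)) (s v) = s ((ν ^ (m + 1)) v) := by
      have := (hcomm.pow_right (m + 1)).eq
      exact (LinearMap.congr_fun this v).symm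
    rw [h1, hv, map_zero]
  obtain ⟨C, hC, hKC⟩ := (Module.End.isSemisimple_iff.1 hS) K hK
  let π : Module.End k (Fin n → k) := K.projection C hKC
  have hπid : IsIdempotentElem π := Submodule.isIdempotentElem_projection hKC
  have hπs : Commute π s := by
    rw [LinearMap.IsIdempotentElem.commute_iff hπid]
    refine ⟨?_, ?_⟩
    · rw [Submodule.range_projection]; exact hK
    · rw [Submodule.ker_projection]; exact hC
  have hπK : ∀ v ∈ K, π v = v := fun v hv => Submodule.projection_apply_of_mem_left hKC hv
  have hπmem : ∀ v, π v ∈ K := fun v => Submodule.projection_apply_mem hKC v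
  have hνK : ∀ v, ν v ∈ K := by
    intro v
    show (ν ^ (m + 1)) (ν v) = 0
    have : (ν ^ (m + 1)) (ν v) = (ν ^ (m + 2)) v := by
      rw [pow_succ (ν) (m + 1)]
      rfl
    rw [this, hνpow, LinearMap.zero_apply]
  refine ⟨LinearMap.toMatrix' π, ?_, ?_, ?_, ?_⟩
  · rw [← LinearMap.toMatrix'_mul, hπid.eq]
  · have h1 : S = LinearMap.toMatrix' s := by rw [hs, LinearMap.toMatrix'_toLin']
    show S * LinearMap.toMatrix' π = LinearMap.toMatrix' π * S
    rw [h1, ← LinearMap.toMatrix'_mul, ← LinearMap.toMatrix'_mul, hπs.eq]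
  · have h1 : N = LinearMap.toMatrix' ν := by rw [hν, LinearMap.toMatrix'_toLin']
    have h2 : (1 : Mat) = LinearMap.toMatrix' (1 : Module.End k (Fin n → k)) :=
      (LinearMap.toMatrix'_one).symm
    rw [h1, h2, ← map_sub, ← LinearMap.toMatrix'_mul]
    have : (1 - π) * ν = 0 := by
      apply LinearMap.ext
      intro v
      show ν v - π (ν v) = 0
      rw [hπK _ (hνK v), sub_self]
    rw [this, map_zero]
  · have h1 : N = LinearMap.toMatrix' ν := by rw [hν, LinearMap.toMatrix'_toLin']
    have h3 : N ^ (m + 1) = LinearMap.toMatrix' (ν ^ (m + 1)) := by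
      rw [hν, ← Matrix.toLin'_pow, LinearMap.toMatrix'_toLin']
    rw [h3, ← LinearMap.toMatrix'_mul]
    have : ν ^ (m + 1) * π = 0 := by
      apply LinearMap.ext
      intro v
      show (ν ^ (m + 1)) (π v) = 0
      exact hπmem v
    rw [this, map_zero]

end Proj

section Main

variable [Infinite k]

/-- every polynomial vanishing on the conjugation orbit of `S + N` vanishes on that of `S` -/
theorem orbit_closure (S : Mat) (hS : Module.End.IsSemisimple (Matrix.toLin' S)) :
    ∀ (m : ℕ) (N : Mat), Commute S N → N ^ (m + 1) = 0 →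
      ∀ F : MvPolynomial (Fin n × Fin n) k,
        (∀ A : Mat, IsUnit A.det → ev F (A * (S + N) * A⁻¹) = 0) →
        ∀ A : Mat, IsUnit A.det → ev F (A * S * A⁻¹) = 0 := by
  intro m
  induction m with
  | zero =>
    intro N _ hN F hF A hA
    rw [zero_add, pow_one] at hN
    have := hF A hA
    rwa [hN, add_zero] at this
  | succ m ih =>
    intro N hc hN F hF A₀ hA₀
    obtain ⟨P, hPP, hSP, hQN, hNP⟩ := exists_proj S N hS hc m hN
    have hPN : P * N = N := by
      have : N - P * N = 0 := by rw [← hQN, sub_mul, one_mul]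
      exact (sub_eq_zero.1 this).symm
    have hc' : Commute S (N * P) := hc.mul_right hSP
    have hN' : (N * P) ^ (m + 1) = 0 := by rw [mul_proj_pow N P hPN, hNP]
    refine ih (N * P) hc' hN' F ?_ A₀ hA₀
    intro A hA
    -- the polynomial family
    apply ev_eq_zero_of_forall F (A * (S + N * P) * A⁻¹) (A * (N * (1 - P)) * A⁻¹)
    intro t ht
    obtain ⟨h1, h2⟩ := conj_identity S N P hPP hSP hQN t ht
    set At : Mat := P + t⁻¹ • (1 - P) with hAt
    set At' : Mat := P + t • (1 - P) with hAt'
    have hAtinv : At⁻¹ = At' := Matrix.inv_eq_right_inv h1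
    have hAtdet : IsUnit At.det := Matrix.isUnit_det_of_right_inverse h1
    have hdet : IsUnit (A * At).det := by
      rw [Matrix.det_mul]
      exact hA.mul hAtdet
    have := hF (A * At) hdet
    rw [Matrix.mul_inv_rev, hAtinv] at this
    have e : A * At * (S + N) * (At' * A⁻¹) =
        A * (S + N * P) * A⁻¹ + t • (A * (N * (1 - P)) * A⁻¹) := by
      calc A * At * (S + N) * (At' * A⁻¹) = A * (At * (S + N) * At') * A⁻¹ := by
            simp only [mul_assoc]
        _ = A * (S + N * P + t • (N * (1 - P))) * A⁻¹ := by rw [h2]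
        _ = A * (S + N * P) * A⁻¹ + t • (A * (N * (1 - P)) * A⁻¹) := by
            rw [mul_add, add_mul, Matrix.mul_smul, Matrix.smul_mul]
    rw [e] at this
    exact this

end Main

end H9_OrbitSS
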