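import Mathlib

/-!
# Semisimple endomorphisms with the same characteristic polynomial are conjugate
-/

set_option autoImplicit false
set_option linter.unusedSectionVars false
universe u v

namespace H9_SSConj

open Module

variable {k : Type u} [Field k] [IsAlgClosed k] {V : Type v} [AddCommGroup V] [Module k V]
  [FiniteDimensional k V]

theorem finrank_eigenspace_eq (f : End k V) (hf : f.IsSemisimple) (μ : k) :
    finrank k (f.eigenspace μ) = f.charpoly.rootMultiplicity μ := by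
  rw [← LinearMap.finrank_maxGenEigenspace_eq,
    (Module.End.isFinitelySemisimple_iff_isSemisimple.mpr hf).maxGenEigenspace_eq_eigenspace]

theorem exists_conj (f₁ f₂ : End k V) (h₁ : f₁.IsSemisimple) (h₂ : f₂.IsSemisimple)
    (hcp : f₁.charpoly = f₂.charpoly) :
    ∃ e : V ≃ₗ[k] V, ∀ v, e (f₁ v) = f₂ (e v) := by
  classical
  have hfr : ∀ μ : k, finrank k (f₁.eigenspace μ) = finrank k (f₂.eigenspace μ) := by
    intro μ
    rw [finrank_eigenspace_eq f₁ h₁, finrank_eigenspace_eq f₂ h₂, hcp]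
  let eμ : ∀ μ : k, f₁.eigenspace μ ≃ₗ[k] f₂.eigenspace μ := fun μ =>
    LinearEquiv.ofFinrankEq _ _ (hfr μ)
  have hI₁ : DirectSum.IsInternal (fun μ : k => f₁.eigenspace μ) :=
    DirectSum.isInternal_submodule_of_iSupIndep_of_iSup_eq_top f₁.eigenspaces_iSupIndep
      h₁.iSup_eigenspace_eq_top
  have hI₂ : DirectSum.IsInternal (fun μ : k => f₂.eigenspace μ) :=
    DirectSum.isInternal_submodule_of_iSupIndep_of_iSup_eq_top f₂.eigenspaces_iSupIndep
      h₂.iSup_eigenspace_eq_top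
  let φ₁ := LinearEquiv.ofBijective (DirectSum.coeLinearMap (fun μ : k => f₁.eigenspace μ)) hI₁
  let φ₂ := LinearEquiv.ofBijective (DirectSum.coeLinearMap (fun μ : k => f₂.eigenspace μ)) hI₂
  let c : (DirectSum k fun μ : k => f₁.eigenspace μ) ≃ₗ[k] (DirectSum k fun μ : k => f₂.eigenspace μ) :=
    DFinsupp.mapRange.linearEquiv eμ
  let e : V ≃ₗ[k] V := φ₁.symm ≪≫ₗ c ≪≫ₗ φ₂
  have he : ∀ (μ : k) (v : V) (hv : v ∈ f₁.eigenspace μ), e v = (eμ μ ⟨v, hv⟩ : V) := by
    intro μ v hv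
    have h1 : φ₁.symm v = DirectSum.of (fun μ : k => f₁.eigenspace μ) μ ⟨v, hv⟩ := by
      rw [LinearEquiv.symm_apply_eq]
      exact (DirectSum.coeLinearMap_of (fun μ : k => f₁.eigenspace μ) μ ⟨v, hv⟩).symm
    show φ₂ (c (φ₁.symm v)) = _
    rw [h1]
    have h2 : c (DirectSum.of (fun μ : k => f₁.eigenspace μ) μ ⟨v, hv⟩) =
        DirectSum.of (fun μ : k => f₂.eigenspace μ) μ (eμ μ ⟨v, hv⟩) := by
      show DFinsupp.mapRange (fun μ => eμ μ) (fun μ => map_zero _) (DFinsupp.single μ ⟨v, hv⟩) = _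
      rw [DFinsupp.mapRange_single]
      rfl
    rw [h2]
    exact DirectSum.coeLinearMap_of (fun μ : k => f₂.eigenspace μ) μ _
  refine ⟨e, ?_⟩
  have hle : (⊤ : Submodule k V) ≤
      LinearMap.eqLocus ((e : V →ₗ[k] V) ∘ₗ f₁) (f₂ ∘ₗ (e : V →ₗ[k] V)) := by
    rw [← h₁.iSup_eigenspace_eq_top]
    apply iSup_le
    intro μ v hv
    rw [LinearMap.mem_eqLocus]
    show e (f₁ v) = f₂ (e v)
    have hv' := Module.End.mem_eigenspace_iff.1 hv
    rw [hv', map_smul, he μ v hv]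
    exact (Module.End.mem_eigenspace_iff.1 (eμ μ ⟨v, hv⟩).2).symm
  intro v
  exact hle (Submodule.mem_top : v ∈ ⊤)

end H9_SSConj
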