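import Mathlib
import Groth.Agent.Lib.helper9.H9_OrbitSS
import Groth.Agent.Lib.helper9.H9_SSConj

/-!
# Orbit closures of matrices meet iff the semisimple parts are conjugate
-/

set_option autoImplicit false
set_option linter.unusedSectionVars false
universe u

namespace H9_OrbitSS

open MvPolynomial

variable {k : Type u} [Field k] {n : ℕ}

local notation "Mat" => Matrix (Fin n) (Fin n) k

/-- the generic matrix -/
noncomputable def gen (k : Type u) [Field k] (n : ℕ) :
    Matrix (Fin n) (Fin n) (MvPolynomial (Fin n × Fin n) k) :=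
  Matrix.of fun i j => X (i, j)

theorem gen_map (M : Mat) :
    (gen k n).map (MvPolynomial.eval (fun p : Fin n × Fin n => M p.1 p.2)) = M := by
  ext i j
  simp [gen]

/-- the polynomial computing a coefficient of the characteristic polynomial, shifted -/
noncomputable def cpF (B : Mat) (i : ℕ) : MvPolynomial (Fin n × Fin n) k :=
  (gen k n).charpoly.coeff i - C (B.charpoly.coeff i)

theorem ev_cpF (B M : Mat) (i : ℕ) : ev (cpF B i) M = M.charpoly.coeff i - B.charpoly.coeff i := by
  unfold ev cpF
  rw [map_sub, eval_C]
  congr 1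
  have h := Matrix.charpoly_map (gen k n) (MvPolynomial.eval (fun p : Fin n × Fin n => M p.1 p.2))
  rw [gen_map] at h
  rw [h, Polynomial.coeff_map]

theorem ev_cpF_conj (B A : Mat) (hA : IsUnit A.det) (i : ℕ) : ev (cpF B i) (A * B * A⁻¹) = 0 := by
  rw [ev_cpF]
  have hu : IsUnit A := (Matrix.isUnit_iff_isUnit_det A).2 hA
  obtain ⟨u, rfl⟩ := hu
  have := Matrix.charpoly_units_conj u B
  rw [this, sub_self]

/-- a point in the closure of the orbit has the same characteristic polynomial -/
theorem charpoly_eq_of_closure (B C' : Mat)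
    (h : ∀ F : MvPolynomial (Fin n × Fin n) k,
      (∀ A : Mat, IsUnit A.det → ev F (A * B * A⁻¹) = 0) → ev F C' = 0) :
    C'.charpoly = B.charpoly := by
  ext i
  have := h (cpF B i) (fun A hA => ev_cpF_conj B A hA i)
  rw [ev_cpF, sub_eq_zero] at this
  exact this

end H9_OrbitSS
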