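import Mathlib
import Groth.Agent.Lib.helper9.H9_TorShift
import Groth.Agent.Lib.helper9.H9_PdFlat

/-! Projective dimension does not increase when passing to the quotient by an element which is
regular on both the ring and the module. -/

namespace Groth.Agent.H9PdQuot

open CategoryTheory CategoryTheory.Limits TensorProduct

universe u

variable (A : Type u) [CommRing A]

theorem rTensor_lsmul_injective (E : Type u) [AddCommGroup E] [Module A E] (a : A)
    (hE : IsSMulRegular E a) :
    Function.Injective (LinearMap.rTensor E (LinearMap.lsmul A A a)) := by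
  have h1 : LinearMap.rTensor E (LinearMap.lsmul A A a) =
      (TensorProduct.lid A E).symm.toLinearMap ∘ₗ (LinearMap.lsmul A E a) ∘ₗ
        (TensorProduct.lid A E).toLinearMap := by
    apply TensorProduct.ext'
    intro x e
    simp [TensorProduct.smul_tmul', mul_comm]
  rw [h1]
  simp only [LinearMap.coe_comp, LinearEquiv.coe_coe]
  exact (TensorProduct.lid A E).symm.injective.comp (hE.comp (TensorProduct.lid A E).injective)

theorem lTensor_quot_injective (a : A) {K F E : Type u} [AddCommGroup K] [AddCommGroup F]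
    [AddCommGroup E] [Module A K] [Module A F] [Module A E] [Module.Flat A F]
    (ι : K →ₗ[A] F) (π : F →ₗ[A] E) (hι : Function.Injective ι) (hπ : Function.Surjective π)
    (hex : Function.Exact ι π) (hA : IsSMulRegular A a) (hE : IsSMulRegular E a) :
    Function.Injective (LinearMap.lTensor (A ⧸ Ideal.span {a}) ι) := by
  have hι' : Function.Injective (LinearMap.lsmul A A a) := hA
  have hex' : Function.Exact (LinearMap.lsmul A A a) (Ideal.span {a}).mkQ := by
    rw [LinearMap.exact_iff, Submodule.ker_mkQ]
    ext y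
    rw [Ideal.mem_span_singleton', LinearMap.mem_range]
    constructor
    · rintro ⟨b, rfl⟩
      exact ⟨b, by simp [mul_comm]⟩
    · rintro ⟨b, rfl⟩
      exact ⟨b, by simp [mul_comm]⟩
  have h1 := (H9TorBal.tor1_isZero_iff_rTensor_inj A (A ⧸ Ideal.span {a}) E
    (LinearMap.lsmul A A a) (Ideal.span {a}).mkQ hι' (Submodule.mkQ_surjective _) hex').mpr
    (rTensor_lsmul_injective A E a hE)
  exact (H9TorShift.tor1_isZero_iff_lTensor_inj A (A ⧸ Ideal.span {a}) E ι π hι hπ hex).mp h1

theorem pd_quot_succ : ∀ (n : ℕ) (a : A) (_ : IsSMulRegular A a) (E : Type u) [AddCommGroup E]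
    [Module A E] (_ : IsSMulRegular E a),
    HasProjectiveDimensionLT (ModuleCat.of A E) (n + 1) →
    HasProjectiveDimensionLT (ModuleCat.of (A ⧸ Ideal.span {a})
      ((A ⧸ Ideal.span {a}) ⊗[A] E)) (n + 1) := by
  intro n
  induction n with
  | zero =>
    intro a _ E _ _ _ h
    haveI : Projective (ModuleCat.of A E) := projective_iff_hasProjectiveDimensionLT_one.mpr h
    haveI : Module.Projective A E :=
      (IsProjective.iff_projective (R := A) (P := E)).mpr inferInstance
    haveI : Module.Projective (A ⧸ Ideal.span {a}) ((A ⧸ Ideal.span {a}) ⊗[A] E) := inferInstance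
    haveI : Projective (ModuleCat.of (A ⧸ Ideal.span {a}) ((A ⧸ Ideal.span {a}) ⊗[A] E)) :=
      (IsProjective.iff_projective (R := A ⧸ Ideal.span {a})
        (P := (A ⧸ Ideal.span {a}) ⊗[A] E)).mp inferInstance
    exact projective_iff_hasProjectiveDimensionLT_one.mp inferInstance
  | succ n ih =>
    intro a hA E _ _ hE h
    obtain ⟨F, _, _, _, π, hπ⟩ : ∃ (F : Type u) (_ : AddCommGroup F) (_ : Module A F)
        (_ : Module.Free A F) (π : F →ₗ[A] E), Function.Surjective π :=
      ⟨E →₀ A, inferInstance, inferInstance, inferInstance,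
        Finsupp.linearCombination A (id : E → E), Finsupp.linearCombination_id_surjective A E⟩
    obtain ⟨w, hmono, hepi, hex⟩ := H9TorShift.ses_of_surjective A π hπ
    have hS : (ShortComplex.mk (ModuleCat.ofHom (LinearMap.ker π).subtype) (ModuleCat.ofHom π)
        w).ShortExact := { exact := hex, mono_f := hmono, epi_g := hepi }
    haveI : Projective (ModuleCat.of A F) :=
      (IsProjective.iff_projective (R := A) (P := F)).mp inferInstance
    have h1 := hS.hasProjectiveDimensionLT_X₃_iff n
      (inferInstance : Projective (ModuleCat.of A F))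
    -- `a` is regular on `F` and hence on the kernel
    have hF : IsSMulRegular F a := by
      haveI : Module.Flat A F := inferInstance
      exact Module.Flat.isSMulRegular_of_isRegular
        (isLeftRegular_iff_isRegular.mp (isLeftRegular_iff.mpr hA))
    have hK : IsSMulRegular (LinearMap.ker π) a := by
      intro x y hxy
      apply Subtype.ext
      apply hF
      exact congrArg Subtype.val hxy
    have hinj := lTensor_quot_injective A a (LinearMap.ker π).subtype π
      (Submodule.injective_subtype _) hπ (LinearMap.exact_subtype_ker_map π) hA hE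
    obtain ⟨ιb, πb, hιb, hπb, hexb⟩ : ∃ (ιb : ((A ⧸ Ideal.span {a}) ⊗[A] (LinearMap.ker π))
        →ₗ[A ⧸ Ideal.span {a}] ((A ⧸ Ideal.span {a}) ⊗[A] F))
        (πb : ((A ⧸ Ideal.span {a}) ⊗[A] F) →ₗ[A ⧸ Ideal.span {a}]
          ((A ⧸ Ideal.span {a}) ⊗[A] E)),
        Function.Injective ιb ∧ Function.Surjective πb ∧ Function.Exact ιb πb := by
      refine ⟨(LinearMap.ker π).subtype.baseChange _, π.baseChange _, ?_, ?_, ?_⟩
      · rw [LinearMap.baseChange_eq_ltensor]
        exact hinj
      · rw [LinearMap.baseChange_eq_ltensor]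
        exact LinearMap.lTensor_surjective _ hπ
      · rw [LinearMap.baseChange_eq_ltensor, LinearMap.baseChange_eq_ltensor]
        exact lTensor_exact _ (LinearMap.exact_subtype_ker_map π) hπ
    obtain ⟨w', hmono', hepi', hex'⟩ := H9TorShift.ses_of_exact (A ⧸ Ideal.span {a})
      ιb πb hιb hπb hexb
    have hS' : (ShortComplex.mk (ModuleCat.ofHom ιb) (ModuleCat.ofHom πb) w').ShortExact :=
      { exact := hex', mono_f := hmono', epi_g := hepi' }
    haveI : Module.Projective (A ⧸ Ideal.span {a}) ((A ⧸ Ideal.span {a}) ⊗[A] F) := inferInstance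
    haveI : Projective (ModuleCat.of (A ⧸ Ideal.span {a}) ((A ⧸ Ideal.span {a}) ⊗[A] F)) :=
      (IsProjective.iff_projective (R := A ⧸ Ideal.span {a})
        (P := (A ⧸ Ideal.span {a}) ⊗[A] F)).mp inferInstance
    have h2 := hS'.hasProjectiveDimensionLT_X₃_iff n
      (inferInstance : Projective (ModuleCat.of (A ⧸ Ideal.span {a})
        ((A ⧸ Ideal.span {a}) ⊗[A] F)))
    exact h2.mpr (ih a hA (LinearMap.ker π) hK (h1.mp h))

theorem pd_quot_le (E : Type u) [AddCommGroup E] [Module A E] (a : A)
    (hA : IsSMulRegular A a) (hE : IsSMulRegular E a) :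
    projectiveDimension (ModuleCat.of (A ⧸ Ideal.span {a})
      (E ⧸ (Ideal.span {a} • (⊤ : Submodule A E)))) ≤ projectiveDimension (ModuleCat.of A E) := by
  have hsurj : Function.Surjective (algebraMap A (A ⧸ Ideal.span {a})) :=
    Ideal.Quotient.mk_surjective
  let e : ((A ⧸ Ideal.span {a}) ⊗[A] E) ≃ₗ[A ⧸ Ideal.span {a}]
      E ⧸ (Ideal.span {a} • (⊤ : Submodule A E)) :=
    (TensorProduct.quotTensorEquivQuotSMul E (Ideal.span {a})).extendScalarsOfSurjective hsurj
  rw [← projectiveDimension_eq_of_iso e.toModuleIso]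
  apply H9PdFlat.pd_le_of_forall
  intro i hi
  cases i with
  | zero =>
    have h0 : IsZero (ModuleCat.of A E) := (hasProjectiveDimensionLT_zero_iff_isZero _).mp hi
    haveI : Subsingleton E := ModuleCat.subsingleton_of_isZero h0
    haveI : Subsingleton ((A ⧸ Ideal.span {a}) ⊗[A] E) := inferInstance
    exact (ModuleCat.isZero_of_subsingleton (ModuleCat.of (A ⧸ Ideal.span {a})
      ((A ⧸ Ideal.span {a}) ⊗[A] E))).hasProjectiveDimensionLT_zero
  | succ n => exact pd_quot_succ A n a hA E hE hi

end Groth.Agent.H9PdQuot
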