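import Mathlib
import Groth.Prelude.Def_CAlgX
import Groth.Agent.S2057

/-! helper9: pure covers by direct sums of finitely presented modules; pure projectivity. -/

set_option autoImplicit false
universe u

namespace Groth.Agent.H9_PureProj

/-- index type: a finite matrix `a` together with a solution `y` in `M` of the homogeneous system. -/
structure Idx (R : Type u) [CommRing R] (M : Type u) [AddCommGroup M] [Module R M] : Type u where
  n : ℕ
  m : ℕ
  a : Fin n → Fin m → R
  y : Fin m → M
  hy : ∀ i, ∑ j, a i j • y j = 0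

variable {R : Type u} [CommRing R] {M : Type u} [AddCommGroup M] [Module R M]

/-- the relation submodule. -/
def rels (i : Idx R M) : Submodule R (Fin i.m → R) := Submodule.span R (Set.range i.a)

/-- the finitely presented module attached to an index. -/
def Q (i : Idx R M) : Type u := (Fin i.m → R) ⧸ rels i

noncomputable instance (i : Idx R M) : AddCommGroup (Q i) :=
  inferInstanceAs (AddCommGroup ((Fin i.m → R) ⧸ rels i))

noncomputable instance (i : Idx R M) : Module R (Q i) :=
  inferInstanceAs (Module R ((Fin i.m → R) ⧸ rels i))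

/-- the quotient map. -/
noncomputable def mk (i : Idx R M) : (Fin i.m → R) →ₗ[R] Q i := (rels i).mkQ

theorem mk_surjective (i : Idx R M) : Function.Surjective (mk i) := (rels i).mkQ_surjective

theorem ker_mk (i : Idx R M) : LinearMap.ker (mk i) = rels i := (rels i).ker_mkQ

theorem mk_a (i : Idx R M) (k : Fin i.n) : mk i (i.a k) = 0 := by
  have : i.a k ∈ LinearMap.ker (mk i) := by
    rw [ker_mk]; exact Submodule.subset_span ⟨k, rfl⟩
  exact this

instance (i : Idx R M) : Module.FinitePresentation R (Q i) :=
  Module.finitePresentation_of_free_of_surjective (mk i) (mk_surjective i)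
    (by rw [ker_mk]; exact Submodule.fg_span (Set.finite_range _))

/-- the map `Q i → M`. -/
noncomputable def toM (i : Idx R M) : Q i →ₗ[R] M :=
  (rels i).liftQ (Fintype.linearCombination R i.y) (by
    unfold rels
    rw [Submodule.span_le]
    rintro _ ⟨k, rfl⟩
    rw [SetLike.mem_coe, LinearMap.mem_ker, Fintype.linearCombination_apply]
    exact i.hy k)

theorem toM_mk (i : Idx R M) (e : Fin i.m → R) : toM i (mk i e) = ∑ j, e j • i.y j := by
  have : toM i (mk i e) = Fintype.linearCombination R i.y e := rfl
  rw [this, Fintype.linearCombination_apply]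

open Classical in
/-- the pure cover. -/
noncomputable def cover : (Π₀ i : Idx R M, Q i) →ₗ[R] M := DFinsupp.lsum ℕ (fun i => toM i)

open Classical in
theorem cover_single (i : Idx R M) (q : Q i) : cover (DFinsupp.single i q) = toM i q := by
  unfold cover
  rw [DFinsupp.lsum_single]

open Classical in
theorem cover_surjective : Function.Surjective (cover (R := R) (M := M)) := by
  intro x
  let i : Idx R M := ⟨0, 1, fun _ _ => 0, fun _ => x, fun k => Fin.elim0 k⟩
  refine ⟨DFinsupp.single i (mk i (fun _ => 1)), ?_⟩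
  rw [cover_single, toM_mk]
  simp [i]

theorem sum_smul_single {m : ℕ} (v : Fin m → R) :
    ∑ j, v j • (Pi.single j (1 : R) : Fin m → R) = v := by
  ext l
  rw [Finset.sum_apply]
  simp only [Pi.smul_apply, smul_eq_mul]
  rw [Finset.sum_eq_single l]
  · simp
  · intro b _ hb
    rw [Pi.single_eq_of_ne (Ne.symm hb), mul_zero]
  · intro h; exact absurd (Finset.mem_univ l) h

open Classical in
theorem cover_ker_UI :
    CAlgX.UniversallyInjective R (LinearMap.ker (cover (R := R) (M := M))).subtype := by
  refine (Groth.Agent.S2057.result _ (Submodule.injective_subtype _)).2 ?_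
  intro n m x y a hxy
  have hy : ∀ k, ∑ j, a k j • cover (y j) = 0 := by
    intro k
    have h1 := congrArg (cover (R := R) (M := M)) (hxy k)
    rw [map_sum] at h1
    simp only [map_smul] at h1
    rw [← h1]
    exact (x k).2
  let i : Idx R M := ⟨n, m, a, fun j => cover (y j), hy⟩
  let L : (Fin m → R) →ₗ[R] (Π₀ i : Idx R M, Q i) := (DFinsupp.lsingle i) ∘ₗ (mk i)
  have hL : ∀ e : Fin m → R, cover (L e) = ∑ j, e j • cover (y j) := by
    intro e
    show cover (DFinsupp.single i (mk i e)) = _
    rw [cover_single, toM_mk]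
  let y' : Fin m → (Π₀ i : Idx R M, Q i) := fun j => L (Pi.single j (1 : R))
  have hy'1 : ∀ j, cover (y' j) = cover (y j) := by
    intro j
    show cover (L (Pi.single j (1 : R))) = _
    rw [hL, Finset.sum_eq_single j]
    · simp
    · intro b _ hb
      rw [Pi.single_eq_of_ne hb, zero_smul]
    · intro h; exact absurd (Finset.mem_univ j) h
  have hy'2 : ∀ k, ∑ j, a k j • y' j = 0 := by
    intro k
    show ∑ j : Fin m, a k j • L (Pi.single j (1 : R)) = 0
    simp only [← map_smul]
    rw [← map_sum, sum_smul_single]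
    show DFinsupp.single i (mk i (i.a k)) = 0
    rw [mk_a, DFinsupp.single_zero]
  refine ⟨fun j => ⟨y j - y' j, ?_⟩, fun k => ?_⟩
  · rw [LinearMap.mem_ker, map_sub, hy'1, sub_self]
  · apply Subtype.ext
    have := hxy k
    simp only [Submodule.subtype_apply] at this
    rw [this]
    simp only [Submodule.coe_sum, Submodule.coe_smul, smul_sub, Finset.sum_sub_distrib, hy'2,
      sub_zero]

/-- finitely presented modules lift along pure surjections. -/
theorem exists_lift_of_finitePresentation {Q L N : Type u} [AddCommGroup Q] [Module R Q]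
    [Module.FinitePresentation R Q] [AddCommGroup L] [Module R L] [AddCommGroup N] [Module R N]
    (g : L →ₗ[R] N) (hg : Function.Surjective g)
    (hUI : CAlgX.UniversallyInjective R (LinearMap.ker g).subtype) (φ : Q →ₗ[R] N) :
    ∃ lam : Q →ₗ[R] L, g ∘ₗ lam = φ := by
  classical
  obtain ⟨n, m, f, g₀, hf, hex⟩ := Module.FinitePresentation.exists_fin' R Q
  choose l hl using fun j : Fin n => hg (φ (f (Pi.single j (1 : R))))
  -- rows
  let ρ : Fin m → Fin n → R := fun i => g₀ (Pi.single i (1 : R))
  have hρ : ∀ i, f (ρ i) = 0 := fun i => (hex _).2 ⟨_, rfl⟩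
  have hφf : ∀ e : Fin n → R, φ (f e) = ∑ j, e j • g (l j) := by
    intro e
    conv_lhs => rw [← sum_smul_single e]
    rw [map_sum, map_sum]
    refine Finset.sum_congr rfl fun j _ => ?_
    rw [map_smul, map_smul, hl]
  have hx : ∀ i, (∑ j, ρ i j • l j) ∈ LinearMap.ker g := by
    intro i
    rw [LinearMap.mem_ker, map_sum]
    simp only [map_smul]
    rw [← hφf, hρ, map_zero]
  obtain ⟨z, hz⟩ := (Groth.Agent.S2057.result _ (Submodule.injective_subtype _)).1 hUI m n
    (fun i => ⟨_, hx i⟩) l ρ (fun i => rfl)
  let Lam0 : (Fin n → R) →ₗ[R] L := Fintype.linearCombination R (fun j => l j - (z j : L))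
  have hLam0 : ∀ e, Lam0 e = ∑ j, e j • (l j - (z j : L)) := fun e =>
    Fintype.linearCombination_apply R _ e
  have hLamρ : ∀ i, Lam0 (ρ i) = 0 := by
    intro i
    rw [hLam0]
    simp only [smul_sub, Finset.sum_sub_distrib]
    have := congrArg Subtype.val (hz i)
    simp only [Submodule.coe_sum, Submodule.coe_smul] at this
    rw [← this, sub_self]
  have hker : LinearMap.ker f ≤ LinearMap.ker Lam0 := by
    intro w hw
    obtain ⟨v, rfl⟩ := (hex w).1 hw
    rw [LinearMap.mem_ker]
    conv_lhs => rw [← sum_smul_single v]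
    rw [map_sum, map_sum]
    refine Finset.sum_eq_zero fun i _ => ?_
    rw [map_smul, map_smul]
    show v i • Lam0 (ρ i) = 0
    rw [hLamρ, smul_zero]
  refine ⟨((LinearMap.ker f).liftQ Lam0 hker) ∘ₗ (f.quotKerEquivOfSurjective hf).symm.toLinearMap, ?_⟩
  ext q
  obtain ⟨e, rfl⟩ := hf q
  have h1 : (f.quotKerEquivOfSurjective hf).symm (f e) = Submodule.Quotient.mk e := by
    rw [LinearEquiv.symm_apply_eq]
    rfl
  simp only [LinearMap.comp_apply, LinearEquiv.coe_coe, h1, Submodule.liftQ_apply]
  rw [hLam0, map_sum, hφf]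
  refine Finset.sum_congr rfl fun j _ => ?_
  rw [map_smul, map_sub]
  have : g (z j : L) = 0 := (z j).2
  rw [this, sub_zero]

/-- direct sums of finitely presented modules (and their summands) are pure projective. -/
theorem pureProjective_of_summand {P : Type u} [AddCommGroup P] [Module R P]
    {ι : Type u} {Q : ι → Type u} [∀ i, AddCommGroup (Q i)] [∀ i, Module R (Q i)]
    [∀ i, Module.FinitePresentation R (Q i)]
    (s : P →ₗ[R] (Π₀ i, Q i)) (r : (Π₀ i, Q i) →ₗ[R] P) (hrs : r ∘ₗ s = LinearMap.id)
    {L N : Type u} [AddCommGroup L] [Module R L] [AddCommGroup N] [Module R N] (g : L →ₗ[R] N)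
    (hg : Function.Surjective g) (hUI : CAlgX.UniversallyInjective R (LinearMap.ker g).subtype)
    (φ : P →ₗ[R] N) : ∃ ψ : P →ₗ[R] L, g ∘ₗ ψ = φ := by
  classical
  choose lam hlam using fun i : ι =>
    exists_lift_of_finitePresentation g hg hUI (φ ∘ₗ r ∘ₗ (DFinsupp.lsingle i : Q i →ₗ[R] _))
  refine ⟨(DFinsupp.lsum ℕ lam) ∘ₗ s, ?_⟩
  have h1 : g ∘ₗ (DFinsupp.lsum ℕ lam) = φ ∘ₗ r := by
    apply DFinsupp.lhom_ext'
    intro i
    ext q
    simp only [LinearMap.comp_apply, DFinsupp.lsingle_apply, DFinsupp.lsum_single]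
    have := congrArg (fun F => F q) (hlam i)
    simpa using this
  rw [← LinearMap.comp_assoc, h1, LinearMap.comp_assoc, hrs, LinearMap.comp_id]

end Groth.Agent.H9_PureProj

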