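import Mathlib
import Groth.Prelude.Def_W4c6intromoduliQuartic

set_option autoImplicit false
universe u

namespace H9_Quartic

open Polynomial W4c6intromoduli

variable {R : Type u} [CommRing R]

theorem rootPoly_eq (la mu : Fin 4 → R) :
    rootPoly la mu =
      C (mu 0 * mu 1 * mu 2 * mu 3)
      + C (-(la 0 * mu 1 * mu 2 * mu 3 + mu 0 * la 1 * mu 2 * mu 3 + mu 0 * mu 1 * la 2 * mu 3
            + mu 0 * mu 1 * mu 2 * la 3)) * X
      + C (la 0 * la 1 * mu 2 * mu 3 + la 0 * mu 1 * la 2 * mu 3 + la 0 * mu 1 * mu 2 * la 3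
            + mu 0 * la 1 * la 2 * mu 3 + mu 0 * la 1 * mu 2 * la 3 + mu 0 * mu 1 * la 2 * la 3) * X ^ 2
      + C (-(la 0 * la 1 * la 2 * mu 3 + la 0 * la 1 * mu 2 * la 3 + la 0 * mu 1 * la 2 * la 3
            + mu 0 * la 1 * la 2 * la 3)) * X ^ 3
      + C (la 0 * la 1 * la 2 * la 3) * X ^ 4 := by
  unfold rootPoly
  rw [Fin.prod_univ_four]
  simp only [map_add, map_mul, map_neg]
  ring

theorem gen_coeff (c0 c1 c2 c3 c4 : R) :
    (C c0 + C c1 * X + C c2 * X ^ 2 + C c3 * X ^ 3 + C c4 * X ^ 4 : R[X]).coeff 0 = c0 ∧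
    (C c0 + C c1 * X + C c2 * X ^ 2 + C c3 * X ^ 3 + C c4 * X ^ 4 : R[X]).coeff 1 = c1 ∧
    (C c0 + C c1 * X + C c2 * X ^ 2 + C c3 * X ^ 3 + C c4 * X ^ 4 : R[X]).coeff 2 = c2 ∧
    (C c0 + C c1 * X + C c2 * X ^ 2 + C c3 * X ^ 3 + C c4 * X ^ 4 : R[X]).coeff 3 = c3 ∧
    (C c0 + C c1 * X + C c2 * X ^ 2 + C c3 * X ^ 3 + C c4 * X ^ 4 : R[X]).coeff 4 = c4 := by
  refine ⟨?_, ?_, ?_, ?_, ?_⟩ <;>
  simp only [coeff_add, coeff_C_mul, coeff_X_pow, coeff_X, coeff_C] <;> simp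

theorem coef0 (la mu : Fin 4 → R) : coef la mu 0 = mu 0 * mu 1 * mu 2 * mu 3 := by
  unfold coef; rw [rootPoly_eq]; exact (gen_coeff _ _ _ _ _).1

theorem coef1 (la mu : Fin 4 → R) : coef la mu 1 =
    -(la 0 * mu 1 * mu 2 * mu 3 + mu 0 * la 1 * mu 2 * mu 3 + mu 0 * mu 1 * la 2 * mu 3
            + mu 0 * mu 1 * mu 2 * la 3) := by
  unfold coef; rw [rootPoly_eq]; exact (gen_coeff _ _ _ _ _).2.1

theorem coef2 (la mu : Fin 4 → R) : coef la mu 2 =
    la 0 * la 1 * mu 2 * mu 3 + la 0 * mu 1 * la 2 * mu 3 + la 0 * mu 1 * mu 2 * la 3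
            + mu 0 * la 1 * la 2 * mu 3 + mu 0 * la 1 * mu 2 * la 3 + mu 0 * mu 1 * la 2 * la 3 := by
  unfold coef; rw [rootPoly_eq]; exact (gen_coeff _ _ _ _ _).2.2.1

theorem coef3 (la mu : Fin 4 → R) : coef la mu 3 =
    -(la 0 * la 1 * la 2 * mu 3 + la 0 * la 1 * mu 2 * la 3 + la 0 * mu 1 * la 2 * la 3
            + mu 0 * la 1 * la 2 * la 3) := by
  unfold coef; rw [rootPoly_eq]; exact (gen_coeff _ _ _ _ _).2.2.2.1

theorem coef4 (la mu : Fin 4 → R) : coef la mu 4 = la 0 * la 1 * la 2 * la 3 := by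
  unfold coef; rw [rootPoly_eq]; exact (gen_coeff _ _ _ _ _).2.2.2.2

/-- cross differences -/
def d (la mu : Fin 4 → R) (a b : Fin 4) : R := la a * mu b - la b * mu a

theorem two_invI (la mu : Fin 4 → R) :
    2 * invI (coef la mu) =
      (d la mu 0 1 * d la mu 2 3) ^ 2 + (d la mu 0 2 * d la mu 3 1) ^ 2
        + (d la mu 0 3 * d la mu 1 2) ^ 2 := by
  unfold invI d
  rw [coef0, coef1, coef2, coef3, coef4]
  ring

theorem plucker (la mu : Fin 4 → R) :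
    d la mu 0 1 * d la mu 2 3 + d la mu 0 2 * d la mu 3 1 + d la mu 0 3 * d la mu 1 2 = 0 := by
  unfold d; ring

theorem invJ_eq (la mu : Fin 4 → R) :
    invJ (coef la mu) =
      (d la mu 0 1 * d la mu 2 3 - d la mu 0 2 * d la mu 3 1) *
      (d la mu 0 2 * d la mu 3 1 - d la mu 0 3 * d la mu 1 2) *
      (d la mu 0 3 * d la mu 1 2 - d la mu 0 1 * d la mu 2 3) := by
  unfold invJ d
  rw [coef0, coef1, coef2, coef3, coef4]
  ring

theorem disc_eq (la mu : Fin 4 → R) :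
    disc la mu =
      (d la mu 0 1 * d la mu 0 2 * d la mu 0 3 * d la mu 1 2 * d la mu 1 3 * d la mu 2 3) ^ 2 := by
  unfold disc d
  rw [Finset.prod_filter, Fintype.prod_prod_type]
  simp [Fin.prod_univ_four]
  ring

theorem disc_identity (la mu : Fin 4 → R) :
    27 * disc la mu = 4 * invI (coef la mu) ^ 3 - invJ (coef la mu) ^ 2 := by
  rw [disc_eq]
  unfold invI invJ d
  rw [coef0, coef1, coef2, coef3, coef4]
  ring

end H9_Quartic
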