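import Mathlib

/-! Hopf algebras whose augmentation ideal is free of rank one. -/

namespace Groth.Agent.H9Rank2

open TensorProduct

universe u v

section Coord

variable {R : Type u} [CommRing R] {A : Type v} [CommRing A] [HopfAlgebra R A]
  {x : A} (hx : Bialgebra.counitAlgHom R A x = 0)
  (hgen : ∀ f : A, Bialgebra.counitAlgHom R A f = 0 → ∃ r : R, f = r • x)
  (hfree : ∀ r : R, r • x = 0 → r = 0)

include hgen in
theorem decomp (f : A) : ∃ β : R, f = Bialgebra.counitAlgHom R A f • (1 : A) + β • x := by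
  have h : Bialgebra.counitAlgHom R A (f - Bialgebra.counitAlgHom R A f • (1 : A)) = 0 := by
    rw [map_sub, map_smul, map_one, smul_eq_mul, mul_one, sub_self]
  obtain ⟨β, hβ⟩ := hgen _ h
  exact ⟨β, by rw [← hβ]; ring⟩

include hx in
theorem counit_comb (α β : R) : Bialgebra.counitAlgHom R A (α • (1 : A) + β • x) = α := by
  rw [map_add, map_smul, map_smul, map_one, hx, smul_eq_mul, mul_one, smul_zero, add_zero]

include hx hfree in
theorem uniq {α β α' β' : R} (h : α • (1 : A) + β • x = α' • (1 : A) + β' • x) :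
    α = α' ∧ β = β' := by
  have h1 : α = α' := by
    have := congrArg (Bialgebra.counitAlgHom R A) h
    rwa [counit_comb hx, counit_comb hx] at this
  refine ⟨h1, ?_⟩
  subst h1
  have h2 : (β - β') • x = 0 := by
    rw [sub_smul]
    have := add_left_cancel h
    rw [this, sub_self]
  exact sub_eq_zero.mp (hfree _ h2)

/-- the `x`-coordinate -/
noncomputable def L (f : A) : R := Classical.choose (decomp hgen f)

theorem L_spec (f : A) : f = Bialgebra.counitAlgHom R A f • (1 : A) + L hgen f • x :=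
  Classical.choose_spec (decomp hgen f)

include hx hfree in
theorem L_eq {f : A} {α β : R} (h : f = α • (1 : A) + β • x) :
    Bialgebra.counitAlgHom R A f = α ∧ L hgen f = β := by
  have h1 := L_spec hgen f
  rw [h] at h1
  have := uniq hx hfree h1
  rw [← h] at this
  exact ⟨this.1.symm, this.2.symm⟩

/-- the `x`-coordinate as a linear map -/
noncomputable def Ll : A →ₗ[R] R where
  toFun := L hgen
  map_add' f g := by
    have hf := L_spec hgen f
    have hg := L_spec hgen g
    have : f + g = (Bialgebra.counitAlgHom R A f + Bialgebra.counitAlgHom R A g) • (1 : A) +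
        (L hgen f + L hgen g) • x := by
      rw [add_smul, add_smul]
      nth_rewrite 1 [hf]
      nth_rewrite 1 [hg]
      abel
    exact (L_eq hx hgen hfree this).2
  map_smul' r f := by
    have hf := L_spec hgen f
    have : r • f = (r * Bialgebra.counitAlgHom R A f) • (1 : A) + (r * L hgen f) • x := by
      nth_rewrite 1 [hf]
      rw [smul_add, smul_smul, smul_smul]
    exact (L_eq hx hgen hfree this).2

theorem Ll_apply (f : A) : Ll hx hgen hfree f = L hgen f := rfl

include hx hfree in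
theorem L_one : L hgen (1 : A) = 0 := by
  have : (1 : A) = (1 : R) • (1 : A) + (0 : R) • x := by simp
  exact (L_eq hx hgen hfree this).2

include hx hfree in
theorem L_x : L hgen x = 1 := by
  have : x = (0 : R) • (1 : A) + (1 : R) • x := by simp
  exact (L_eq hx hgen hfree this).2

end Coord

section Iso

variable {R : Type u} [CommRing R] {A : Type v} [CommRing A] [HopfAlgebra R A]
  {x : A} (hx : Bialgebra.counitAlgHom R A x = 0)
  (hgen : ∀ f : A, Bialgebra.counitAlgHom R A f = 0 → ∃ r : R, f = r • x)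
  (hfree : ∀ r : R, r • x = 0 → r = 0)
  {a b : R} (hxa : x * x = a • x)
  (hxb : Bialgebra.comulAlgHom R A x = x ⊗ₜ[R] 1 + 1 ⊗ₜ[R] x + b • (x ⊗ₜ[R] x))
  {A' : Type v} [CommRing A'] [HopfAlgebra R A']
  {x' : A'} (hx' : Bialgebra.counitAlgHom R A' x' = 0)
  (hgen' : ∀ f : A', Bialgebra.counitAlgHom R A' f = 0 → ∃ r : R, f = r • x')
  (hfree' : ∀ r : R, r • x' = 0 → r = 0)
  {a' b' : R} (hxa' : x' * x' = a' • x')
  (hxb' : Bialgebra.comulAlgHom R A' x' = x' ⊗ₜ[R] 1 + 1 ⊗ₜ[R] x' + b' • (x' ⊗ₜ[R] x'))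

include hx hgen hfree hxa hxb hx' hgen' hfree' hxa' hxb' in
theorem forward (φ : A ≃ₐc[R] A') : ∃ s : Rˣ, a = a' * (s : R) ∧ b' = b * (s : R) := by
  have h1 : Bialgebra.counitAlgHom R A' (φ x) = 0 := by
    have := CoalgHomClass.counit_comp_apply φ x
    rw [Bialgebra.counitAlgHom_apply, this]
    exact hx
  obtain ⟨s, hs⟩ := hgen' _ h1
  have h2 : Bialgebra.counitAlgHom R A (φ.symm x') = 0 := by
    have := CoalgHomClass.counit_comp_apply φ.symm x'
    rw [Bialgebra.counitAlgHom_apply, this]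
    exact hx'
  obtain ⟨t, ht⟩ := hgen _ h2
  have hst : s * t = 1 := by
    have : x = (s * t) • x := by
      calc x = φ.symm (φ x) := (φ.symm_apply_apply x).symm
        _ = φ.symm (s • x') := by rw [hs]
        _ = s • φ.symm x' := map_smul _ _ _
        _ = s • t • x := by rw [ht]
        _ = (s * t) • x := smul_smul _ _ _
    have h3 : (s * t - 1) • x = 0 := by rw [sub_smul, one_smul, ← this, sub_self]
    exact sub_eq_zero.mp (hfree _ h3)
  refine ⟨⟨s, t, hst, by rw [mul_comm]; exact hst⟩, ?_, ?_⟩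
  · have h4 : φ (x * x) = φ x * φ x := map_mul φ x x
    rw [hxa, map_smul, hs, smul_mul_smul_comm, hxa', smul_smul, smul_smul] at h4
    have h5 : (a * s - s * s * a') • x' = 0 := by rw [sub_smul, h4, sub_self]
    have h6 := sub_eq_zero.mp (hfree' _ h5)
    show a = a' * s
    calc a = a * (s * t) := by rw [hst, mul_one]
      _ = (a * s) * t := by ring
      _ = (s * s * a') * t := by rw [h6]
      _ = a' * s * (s * t) := by ring
      _ = a' * s := by rw [hst, mul_one]
  · have h7 := CoalgHomClass.map_comp_comul_apply φ x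
    let Λ : A' ⊗[R] A' →ₗ[R] R := (TensorProduct.lid R R).toLinearMap ∘ₗ
      TensorProduct.map (Ll hx' hgen' hfree') (Ll hx' hgen' hfree')
    have hΛ : ∀ u v, Λ (u ⊗ₜ[R] v) = L hgen' u * L hgen' v := by
      intro u v
      simp [Λ, Ll_apply]
    have hL1 := L_one hx' hgen' hfree'
    have hLx := L_x hx' hgen' hfree'
    have hLs : L hgen' (s • x') = s := by
      rw [← Ll_apply hx' hgen' hfree', map_smul, Ll_apply, hLx, smul_eq_mul, mul_one]
    have key : ∀ (ψ : A →ₗ[R] A'), ψ x = s • x' → ψ 1 = 1 →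
        Λ (TensorProduct.map ψ ψ (x ⊗ₜ[R] 1 + 1 ⊗ₜ[R] x + b • (x ⊗ₜ[R] x))) = b * (s * s) := by
      intro ψ h9 h10
      simp only [map_add, map_smul, TensorProduct.map_tmul, h9, h10, hΛ, hL1, hLs, smul_eq_mul,
        mul_zero, zero_mul, zero_add]
    have h8a : Λ (Coalgebra.comul (R := R) (φ x)) = b * (s * s) := by
      rw [← h7, ← Bialgebra.comulAlgHom_apply, hxb]
      exact key _ hs (map_one φ)
    have h8b : Λ (Coalgebra.comul (R := R) (φ x)) = s * b' := by
      have h11 : (φ x : A') = s • x' := hs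
      rw [h11, map_smul, ← Bialgebra.comulAlgHom_apply, hxb']
      simp only [map_add, map_smul, hΛ, hL1, hLx, smul_eq_mul, mul_zero, zero_mul, zero_add,
        mul_one]
    have h8 : s * b' = b * (s * s) := h8b.symm.trans h8a
    show b' = b * s
    calc b' = (s * b') * t := by rw [mul_comm s b', mul_assoc, hst, mul_one]
      _ = (b * (s * s)) * t := by rw [h8]
      _ = b * s * (s * t) := by ring
      _ = b * s := by rw [hst, mul_one]


theorem mul_formula (hxa : x * x = a • x) (α β γ δ : R) :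
    (α • (1 : A) + β • x) * (γ • (1 : A) + δ • x) =
      (α * γ) • (1 : A) + (α * δ + β * γ + β * δ * a) • x := by
  have : (α • (1 : A) + β • x) * (γ • (1 : A) + δ • x) =
      (α * γ) • (1 : A) + (α * δ + β * γ) • x + (β * δ) • (x * x) := by
    simp only [add_mul, mul_add, smul_mul_smul_comm, mul_one, one_mul, add_smul]
    abel
  rw [this, hxa, smul_smul, add_assoc, ← add_smul]

/-- the linear map `α + β x ↦ α + β s x'` -/
noncomputable def phiL (s : R) : A →ₗ[R] A' :=
  (Algebra.linearMap R A') ∘ₗ (Bialgebra.counitAlgHom R A).toLinearMap +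
    (LinearMap.toSpanSingleton R A' (s • x')) ∘ₗ (Ll hx hgen hfree)

theorem phiL_apply (s : R) (f : A) : phiL hx hgen hfree (x' := x') s f =
    Bialgebra.counitAlgHom R A f • (1 : A') + (L hgen f * s) • x' := by
  simp [phiL, Ll_apply, Algebra.algebraMap_eq_smul_one, smul_smul]

include hx hfree in
theorem phiL_comb (s : R) (α β : R) : phiL hx hgen hfree (x' := x') s (α • (1 : A) + β • x) =
    α • (1 : A') + (β * s) • x' := by
  rw [phiL_apply]
  obtain ⟨h1, h2⟩ := L_eq hx hgen hfree (rfl : α • (1 : A) + β • x = α • (1 : A) + β • x)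
  rw [h1, h2]

include hxa hxa' in
/-- the algebra map -/
theorem phiL_mul (s : R) (ha : a = a' * s) (f g : A) :
    phiL hx hgen hfree (x' := x') s (f * g) =
      phiL hx hgen hfree (x' := x') s f * phiL hx hgen hfree (x' := x') s g := by
  have hf := L_spec hgen f
  have hg := L_spec hgen g
  set α := Bialgebra.counitAlgHom R A f
  set β := L hgen f
  set γ := Bialgebra.counitAlgHom R A g
  set δ := L hgen g
  rw [hf, hg, mul_formula hxa, phiL_comb, phiL_comb, phiL_comb, mul_formula hxa', ha]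
  congr 2
  ring

include hx hfree in
theorem phiL_one (s : R) : phiL hx hgen hfree (x' := x') s (1 : A) = 1 := by
  have : (1 : A) = (1 : R) • (1 : A) + (0 : R) • x := by simp
  rw [this, phiL_comb]
  simp

/-- the algebra map `α + β x ↦ α + β s x'` -/
noncomputable def phiA (s : R) (ha : a = a' * s) : A →ₐ[R] A' :=
  AlgHom.ofLinearMap (phiL hx hgen hfree (x' := x') s) (phiL_one hx hgen hfree s)
    (phiL_mul hx hgen hfree hxa hxa' s ha)

theorem phiA_apply (s : R) (ha : a = a' * s) (f : A) :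
    phiA hx hgen hfree hxa hxa' s ha f = phiL hx hgen hfree (x' := x') s f := rfl

include hx hgen hfree hxa hxb hx' hgen' hfree' hxa' hxb' in
theorem backward (s : Rˣ) (ha : a = a' * (s : R)) (hb : b' = b * (s : R)) :
    Nonempty (A ≃ₐc[R] A') := by
  set φ := phiA hx hgen hfree hxa hxa' (s : R) ha with hφ
  have hφc : ∀ α β : R, φ (α • (1 : A) + β • x) = α • (1 : A') + (β * s) • x' := by
    intro α β
    rw [hφ, phiA_apply, phiL_comb]
  have hφx : φ x = (s : R) • x' := by
    have := hφc 0 1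
    simpa using this
  have hcounit : (Bialgebra.counitAlgHom R A').comp φ = Bialgebra.counitAlgHom R A := by
    apply AlgHom.ext
    intro f
    obtain ⟨α, β, rfl⟩ : ∃ α β : R, f = α • (1 : A) + β • x := ⟨_, _, L_spec hgen f⟩
    rw [AlgHom.comp_apply, hφc, counit_comb hx', counit_comb hx]
  have hcomul : (Algebra.TensorProduct.map φ φ).comp (Bialgebra.comulAlgHom R A) =
      (Bialgebra.comulAlgHom R A').comp φ := by
    apply AlgHom.ext
    intro f
    obtain ⟨α, β, rfl⟩ : ∃ α β : R, f = α • (1 : A) + β • x := ⟨_, _, L_spec hgen f⟩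
    rw [AlgHom.comp_apply, AlgHom.comp_apply, hφc]
    simp only [map_add, map_smul, map_one, hxb, hxb', Algebra.TensorProduct.map_tmul, hφx,
      Algebra.TensorProduct.one_def, hb]
    simp only [TensorProduct.smul_tmul', TensorProduct.tmul_smul, smul_smul, smul_add]
    congr 1
    congr 2
    ring
  let Φ : A →ₐc[R] A' := BialgHom.ofAlgHom φ hcounit hcomul
  have hΦ : ∀ f, Φ f = φ f := fun f => rfl
  have hbij : Function.Bijective Φ := by
    constructor
    · rw [injective_iff_map_eq_zero]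
      intro f hf0
      obtain ⟨α, β, rfl⟩ : ∃ α β : R, f = α • (1 : A) + β • x := ⟨_, _, L_spec hgen f⟩
      rw [hΦ, hφc] at hf0
      have h0 : (0 : A') = (0 : R) • (1 : A') + (0 : R) • x' := by simp
      rw [h0] at hf0
      obtain ⟨h1, h2⟩ := uniq hx' hfree' hf0
      have h3 : β = 0 := by
        have := congrArg (fun z => z * ((s⁻¹ : Rˣ) : R)) h2
        simpa [mul_assoc] using this
      rw [h1, h3]
      simp
    · intro y
      have hy := L_spec hgen' y
      refine ⟨Bialgebra.counitAlgHom R A' y • (1 : A) + (L hgen' y * ((s⁻¹ : Rˣ) : R)) • x, ?_⟩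
      rw [hΦ, hφc, mul_assoc, Units.inv_mul, mul_one]
      exact hy.symm
  exact ⟨BialgEquiv.ofBijective Φ hbij⟩

end Iso

section Struct

variable {R : Type u} [CommRing R] {A : Type v} [CommRing A] [HopfAlgebra R A]
  {x : A} (hx : Bialgebra.counitAlgHom R A x = 0)
  (hgen : ∀ f : A, Bialgebra.counitAlgHom R A f = 0 → ∃ r : R, f = r • x)
  (hfree : ∀ r : R, r • x = 0 → r = 0)

include hgen in
theorem tensor_decomp (z : A ⊗[R] A) : ∃ c0 c1 c2 c3 : R,
    z = c0 • ((1 : A) ⊗ₜ[R] (1 : A)) + c1 • (x ⊗ₜ[R] (1 : A)) + c2 • ((1 : A) ⊗ₜ[R] x) +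
      c3 • (x ⊗ₜ[R] x) := by
  induction z using TensorProduct.induction_on with
  | zero => exact ⟨0, 0, 0, 0, by simp⟩
  | tmul f g =>
    obtain ⟨α, β, rfl⟩ : ∃ α β : R, f = α • (1 : A) + β • x := ⟨_, _, L_spec hgen f⟩
    obtain ⟨γ, δ, rfl⟩ : ∃ γ δ : R, g = γ • (1 : A) + δ • x := ⟨_, _, L_spec hgen g⟩
    refine ⟨α * γ, β * γ, α * δ, β * δ, ?_⟩
    simp only [TensorProduct.add_tmul, TensorProduct.tmul_add, ← TensorProduct.smul_tmul',
      TensorProduct.tmul_smul, smul_smul, smul_add]
    simp only [mul_comm γ α, mul_comm γ β, mul_comm δ α, mul_comm δ β]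
    abel
  | add z w hz hw =>
    obtain ⟨c0, c1, c2, c3, rfl⟩ := hz
    obtain ⟨d0, d1, d2, d3, rfl⟩ := hw
    refine ⟨c0 + d0, c1 + d1, c2 + d2, c3 + d3, ?_⟩
    simp only [add_smul]
    abel

include hx hgen hfree in
theorem structure_consts : ∃ a b : R, x * x = a • x ∧
    Bialgebra.comulAlgHom R A x = x ⊗ₜ[R] 1 + 1 ⊗ₜ[R] x + b • (x ⊗ₜ[R] x) ∧ a * b = -2 := by
  -- a
  have hxx0 : Bialgebra.counitAlgHom R A (x * x) = 0 := by rw [map_mul, hx, mul_zero]
  obtain ⟨a, hxa⟩ := hgen _ hxx0
  -- comul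
  obtain ⟨c0, c1, c2, c3, hc⟩ := tensor_decomp hgen (Bialgebra.comulAlgHom R A x)
  have hεx : Coalgebra.counit (R := R) x = 0 := hx
  have hε1 : Coalgebra.counit (R := R) (1 : A) = 1 := by
    rw [← Bialgebra.counitAlgHom_apply, map_one]
  have h1 := Coalgebra.rTensor_counit_comul (R := R) x
  rw [← Bialgebra.comulAlgHom_apply, hc] at h1
  simp only [map_add, map_smul, LinearMap.rTensor_tmul, hεx, hε1, TensorProduct.zero_tmul,
    smul_zero, add_zero] at h1
  have h1' := congrArg (TensorProduct.lid R A) h1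
  simp only [map_add, map_smul, TensorProduct.lid_tmul, one_smul] at h1'
  have h2 := Coalgebra.lTensor_counit_comul (R := R) x
  rw [← Bialgebra.comulAlgHom_apply, hc] at h2
  simp only [map_add, map_smul, LinearMap.lTensor_tmul, hεx, hε1, TensorProduct.tmul_zero,
    smul_zero, add_zero] at h2
  have h2' := congrArg (TensorProduct.rid R A) h2
  simp only [map_add, map_smul, TensorProduct.rid_tmul, one_smul] at h2'
  have hx01 : x = (0 : R) • (1 : A) + (1 : R) • x := by simp
  obtain ⟨hc0, hc2⟩ := uniq hx hfree (h1'.trans hx01)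
  obtain ⟨hc0', hc1⟩ := uniq hx hfree (h2'.trans hx01)
  have hxb : Bialgebra.comulAlgHom R A x = x ⊗ₜ[R] 1 + 1 ⊗ₜ[R] x + c3 • (x ⊗ₜ[R] x) := by
    rw [hc, hc0, hc1, hc2]
    simp
  refine ⟨a, c3, hxa, hxb, ?_⟩
  let Λ : A ⊗[R] A →ₗ[R] R := (TensorProduct.lid R R).toLinearMap ∘ₗ
    TensorProduct.map (Ll hx hgen hfree) (Ll hx hgen hfree)
  have hΛ : ∀ u v, Λ (u ⊗ₜ[R] v) = L hgen u * L hgen v := by
    intro u v
    simp [Λ, Ll_apply]
  have hL1 := L_one hx hgen hfree
  have hLx := L_x hx hgen hfree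
  have hLxx : L hgen (x * x) = a := by
    have : x * x = (0 : R) • (1 : A) + a • x := by rw [hxa]; simp
    exact (L_eq hx hgen hfree this).2
  have hm : Bialgebra.comulAlgHom R A (x * x) =
      Bialgebra.comulAlgHom R A x * Bialgebra.comulAlgHom R A x := map_mul _ _ _
  have hm1 : Λ (Bialgebra.comulAlgHom R A (x * x)) = a * c3 := by
    rw [hxa, map_smul, hxb]
    simp only [map_add, map_smul, hΛ, hL1, hLx, smul_eq_mul, mul_zero, zero_mul, zero_add,
      mul_one]
  have hm2 : Λ (Bialgebra.comulAlgHom R A x * Bialgebra.comulAlgHom R A x) =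
      a * a * c3 * c3 + 4 * a * c3 + 2 := by
    rw [hxb]
    simp only [add_mul, mul_add, Algebra.TensorProduct.tmul_mul_tmul, smul_mul_assoc,
      mul_smul_comm, mul_one, one_mul, map_add, map_smul, hΛ, hL1, hLx, hLxx, smul_eq_mul]
    ring
  have hi : a * c3 = a * a * c3 * c3 + 4 * a * c3 + 2 := by rw [← hm1, hm, hm2]
  have hS := HopfAlgebra.mul_antipode_rTensor_comul_apply (R := R) x
  rw [← Bialgebra.comulAlgHom_apply, hxb, hεx, map_zero] at hS
  simp only [map_add, map_smul, LinearMap.rTensor_tmul, LinearMap.mul'_apply,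
    HopfAlgebra.antipode_one, mul_one, one_mul] at hS
  obtain ⟨σ0, σ1, hσ⟩ : ∃ σ0 σ1 : R, HopfAlgebra.antipode R x = σ0 • (1 : A) + σ1 • x :=
    ⟨_, _, L_spec hgen _⟩
  rw [hσ] at hS
  have hS' : σ0 • (1 : A) + (σ1 + 1 + c3 * σ0 + c3 * σ1 * a) • x =
      (0 : R) • (1 : A) + (0 : R) • x := by
    rw [zero_smul, zero_smul, add_zero, ← hS]
    simp only [add_mul, smul_mul_assoc, one_mul, hxa, add_smul, one_smul, smul_add, smul_smul,
      mul_assoc]
    abel
  obtain ⟨hσ0, hσ1⟩ := uniq hx hfree hS'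
  rw [hσ0] at hσ1
  have e1 : (a * c3 + 1) * (a * c3 + 2) = 0 := by linear_combination (-1 : R) * hi
  have e2 : -σ1 * (a * c3 + 1) = 1 := by linear_combination (-1 : R) * hσ1
  have e3 : a * c3 + 2 = 0 := by
    calc a * c3 + 2 = (-σ1 * (a * c3 + 1)) * (a * c3 + 2) := by rw [e2, one_mul]
      _ = -σ1 * ((a * c3 + 1) * (a * c3 + 2)) := by ring
      _ = 0 := by rw [e1, mul_zero]
  linear_combination e3

end Struct

end Groth.Agent.H9Rank2
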