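import Mathlib

/-! Localizations of regular rings are regular; localizations of finite type algebras over a
quotient of a regular ring are quotients of regular rings. -/

namespace Groth.Agent.H9RegLocz

universe u

theorem isRegularRing_localization (R : Type u) [CommRing R] [IsRegularRing R] (T : Submonoid R) :
    IsRegularRing (Localization T) := by
  haveI : IsNoetherianRing (Localization T) := IsLocalization.isNoetherianRing T _ inferInstance
  rw [isRegularRing_iff]
  intro q hq
  haveI : (q.comap (algebraMap R (Localization T))).IsPrime := Ideal.comap_isPrime _ _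
  exact IsRegularLocalRing.of_ringEquiv
    (IsLocalization.localizationLocalizationAtPrimeIsoLocalization T q).toRingEquiv

theorem exists_regular_surjective (B A C : Type u) [CommRing B]
    [IsRegularRing B] [CommRing A] (π : B →+* A) (hπ : Function.Surjective π) [CommRing C]
    [Algebra A C] [Algebra.FiniteType A C] (S : Submonoid C) :
    ∃ (R : Type u) (_ : CommRing R) (_ : IsRegularRing R) (f : R →+* Localization S),
      Function.Surjective f := by
  obtain ⟨n, f, hf⟩ := Algebra.FiniteType.iff_quotient_mvPolynomial''.mp
    (inferInstance : Algebra.FiniteType A C)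
  have hmap : Function.Surjective (MvPolynomial.map (σ := Fin n) π) :=
    MvPolynomial.map_surjective π hπ
  obtain ⟨φ, hφ⟩ : ∃ φ : MvPolynomial (Fin n) B →+* C, Function.Surjective φ :=
    ⟨f.toRingHom.comp (MvPolynomial.map π), hf.comp hmap⟩
  haveI : IsRegularRing (MvPolynomial (Fin n) B) := inferInstance
  refine ⟨Localization (S.comap φ), inferInstance,
    isRegularRing_localization (MvPolynomial (Fin n) B) (S.comap φ),
    IsLocalization.map (M := S.comap φ) (T := S) (Localization S) φ (le_refl _), ?_⟩
  intro z
  obtain ⟨⟨c, s⟩, rfl⟩ := IsLocalization.mk'_surjective S z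
  obtain ⟨b, rfl⟩ := hφ c
  obtain ⟨t, ht⟩ := hφ s.1
  have htT : t ∈ S.comap φ := by
    rw [Submonoid.mem_comap, ht]
    exact s.2
  refine ⟨IsLocalization.mk' (Localization (S.comap φ)) b ⟨t, htT⟩, ?_⟩
  rw [IsLocalization.map_mk']
  congr 1
  exact Subtype.ext ht

end Groth.Agent.H9RegLocz
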