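import Mathlib
import Groth.Prelude.Def_HopfRep
import Groth.Prelude.Def_Hoch
import Groth.Prelude.Def_GLin
import Groth.Agent.Lib.helper9.H9_ComodFix
import Groth.Agent.Lib.helper9.H9_LinRed

/-!
# Linear actions on polynomial rings over a comodule algebra preserve the grading
-/

set_option autoImplicit false
set_option linter.unusedSectionVars false
universe u v w w'
open scoped TensorProduct

namespace H9_RelLinAct

open MvPolynomial

variable {k : Type u} [Field k] {H : Type v} [CommRing H] [Bialgebra k H]
  {A : Type w} [CommRing A] [Algebra k A] {σ : Type w'}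

/-- `S_d ⊗ H` inside `S ⊗ H`, `S = A[σ]` -/
noncomputable def M (k : Type u) [Field k] (H : Type v) [CommRing H] [Bialgebra k H]
    (A : Type w) [CommRing A] [Algebra k A] (σ : Type w') (d : ℕ) :
    Submodule k (MvPolynomial σ A ⊗[k] H) :=
  LinearMap.range (((homogeneousSubmodule σ A d).restrictScalars k).subtype.rTensor H)

theorem tmul_mem_M {d : ℕ} {p : MvPolynomial σ A} (hp : p.IsHomogeneous d) (a : H) :
    p ⊗ₜ[k] a ∈ M k H A σ d :=
  ⟨(⟨p, hp⟩ : (homogeneousSubmodule σ A d).restrictScalars k) ⊗ₜ[k] a, rfl⟩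

theorem mul_mem_M {a b : ℕ} {x y : MvPolynomial σ A ⊗[k] H} (hx : x ∈ M k H A σ a)
    (hy : y ∈ M k H A σ b) : x * y ∈ M k H A σ (a + b) := by
  obtain ⟨x', rfl⟩ := hx
  obtain ⟨y', rfl⟩ := hy
  induction x' using TensorProduct.induction_on with
  | zero => rw [map_zero, zero_mul]; exact Submodule.zero_mem _
  | add x₁ x₂ h₁ h₂ => rw [map_add, add_mul]; exact Submodule.add_mem _ h₁ h₂
  | tmul p c =>
    induction y' using TensorProduct.induction_on with
    | zero => rw [map_zero, mul_zero]; exact Submodule.zero_mem _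
    | add y₁ y₂ h₁ h₂ => rw [map_add, mul_add]; exact Submodule.add_mem _ h₁ h₂
    | tmul q e =>
      rw [LinearMap.rTensor_tmul, LinearMap.rTensor_tmul, Algebra.TensorProduct.tmul_mul_tmul]
      exact tmul_mem_M (IsHomogeneous.mul p.2 q.2) _

variable [HopfRep.Comod k H (MvPolynomial σ A)] [GLin.IsCoactAlg k H (MvPolynomial σ A)]

/-- the coaction is linear over the base: variables go to (linear forms) ⊗ H and constants
to constants ⊗ H -/
def IsLin (k : Type u) [Field k] (H : Type v) [CommRing H] [Bialgebra k H]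
    (A : Type w) [CommRing A] [Algebra k A] (σ : Type w')
    [HopfRep.Comod k H (MvPolynomial σ A)] : Prop :=
  (∀ i : σ, HopfRep.Comod.coact (k := k) (A := H) (X i : MvPolynomial σ A) ∈ M k H A σ 1) ∧
  ∀ a : A, HopfRep.Comod.coact (k := k) (A := H) (C a : MvPolynomial σ A) ∈ M k H A σ 0

theorem coact_mem_of_isHomogeneous (hlin : IsLin k H A σ) {F : MvPolynomial σ A} {d : ℕ}
    (hF : F.IsHomogeneous d) : HopfRep.Comod.coact (k := k) (A := H) F ∈ M k H A σ d := by
  have h1 : ∀ m ∈ homogeneousSubmodule σ A 1,
      HopfRep.Comod.coact (k := k) (A := H) m ∈ M k H A σ 1 := by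
    intro m hm
    rw [homogeneousSubmodule_one_eq_span_X] at hm
    induction hm using Submodule.span_induction with
    | mem x hx => obtain ⟨i, rfl⟩ := hx; exact hlin.1 i
    | zero => rw [map_zero]; exact Submodule.zero_mem _
    | add x y _ _ hx hy => rw [map_add]; exact Submodule.add_mem _ hx hy
    | smul c x _ hx =>
      rw [MvPolynomial.smul_eq_C_mul, GLin.IsCoactAlg.coact_mul (k := k) (A := H)]
      have := mul_mem_M (hlin.2 c) hx
      rwa [zero_add] at this
  have hF' : F ∈ (homogeneousSubmodule σ A 1) ^ d := by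
    rw [homogeneousSubmodule_one_pow]; exact hF
  clear hF
  induction hF' using Submodule.pow_induction_on_left' with
  | algebraMap r => exact hlin.2 r
  | add x y i hx hy ihx ihy => rw [map_add]; exact Submodule.add_mem _ ihx ihy
  | mem_mul m hm i x hx ih =>
    rw [GLin.IsCoactAlg.coact_mul (k := k) (A := H), Nat.succ_eq_add_one, add_comm]
    exact mul_mem_M (h1 m hm) ih

theorem isSubcomod_homogeneousSubmodule (hlin : IsLin k H A σ) (d : ℕ) :
    HopfRep.IsSubcomod (k := k) (A := H) ((homogeneousSubmodule σ A d).restrictScalars k) :=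
  fun F hF => coact_mem_of_isHomogeneous hlin hF

/-- the homogeneous component as a `k`-linear map -/
noncomputable def hc (k : Type u) [Field k] (A : Type w) [CommRing A] [Algebra k A] (σ : Type w')
    (d : ℕ) : MvPolynomial σ A →ₗ[k] MvPolynomial σ A :=
  (homogeneousComponent d : MvPolynomial σ A →ₗ[A] MvPolynomial σ A).restrictScalars k

theorem hc_apply (d : ℕ) (F : MvPolynomial σ A) : hc k A σ d F = homogeneousComponent d F := rfl

theorem rTensor_hc_of_mem {d e : ℕ} {x : MvPolynomial σ A ⊗[k] H}
    (hx : x ∈ M k H A σ e) :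
    (hc k A σ d).rTensor H x = if d = e then x else 0 := by
  obtain ⟨x', rfl⟩ := hx
  induction x' using TensorProduct.induction_on with
  | zero => simp
  | add x₁ x₂ h₁ h₂ => rw [map_add, map_add, h₁, h₂]; split_ifs <;> simp
  | tmul p c =>
    rw [LinearMap.rTensor_tmul, LinearMap.rTensor_tmul, Submodule.subtype_apply, hc_apply,
      homogeneousComponent_of_mem p.2]
    split_ifs <;> simp

/-- taking a homogeneous component is a comodule map -/
theorem isComodHom_hc (hlin : IsLin k H A σ) (d : ℕ) :
    Hoch.IsComodHom H (hc k A σ d) := by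
  classical
  unfold Hoch.IsComodHom
  apply LinearMap.ext
  intro F
  rw [LinearMap.comp_apply, LinearMap.comp_apply]
  conv_rhs => rw [← sum_homogeneousComponent F]
  rw [map_sum, map_sum]
  have : ∀ e ∈ Finset.range (F.totalDegree + 1),
      (hc k A σ d).rTensor H
        (HopfRep.Comod.coact (k := k) (A := H) (homogeneousComponent e F)) =
      if d = e then HopfRep.Comod.coact (k := k) (A := H) (homogeneousComponent e F) else 0 :=
    fun e _ => rTensor_hc_of_mem
      (coact_mem_of_isHomogeneous hlin (homogeneousComponent_isHomogeneous e F))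
  rw [Finset.sum_congr rfl this, Finset.sum_ite_eq]
  split_ifs with h
  · rfl
  · rw [Finset.mem_range, not_lt] at h
    rw [hc_apply, homogeneousComponent_eq_zero _ _ (by omega), map_zero]

/-- homogeneous components of invariants are invariant -/
theorem homogeneousComponent_mem_fixedPts (hlin : IsLin k H A σ) {F : MvPolynomial σ A}
    (hF : F ∈ HopfRep.fixedPts k H (MvPolynomial σ A)) (d : ℕ) :
    homogeneousComponent d F ∈ HopfRep.fixedPts k H (MvPolynomial σ A) :=
  H9_ComodMod.map_mem_fixedPts _ (isComodHom_hc hlin d) F hF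

end H9_RelLinAct
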