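import Mathlib
import Groth.Agent.Lib.helper9.H9_InvSep
import Groth.Agent.Lib.helper9.H9_RelLinAct

/-!
# Hilbert's finiteness theorem for linear actions over a Noetherian comodule algebra
-/

set_option autoImplicit false
set_option linter.unusedSectionVars false
universe u
open scoped TensorProduct

namespace H9_RelHilbert

open MvPolynomial H9_RelLinAct

variable {k : Type u} [Field k] {H : Type u} [CommRing H] [HopfAlgebra k H]
  {A : Type u} [CommRing A] [Algebra k A] [IsNoetherianRing A]
  {ι : Type} [Finite ι]
  [HopfRep.Comod k H (MvPolynomial ι A)] [GLin.IsCoactAlg k H (MvPolynomial ι A)]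

theorem hilbert (hG : HopfRep.IsLinearlyReductive k H) (hlin : IsLin k H A ι) :
    ∃ s : Finset (MvPolynomial ι A),
      (∀ f ∈ s, f ∈ HopfRep.fixedPts k H (MvPolynomial ι A) ∧
        ∃ d, 0 < d ∧ f.IsHomogeneous d) ∧
      ∀ f ∈ HopfRep.fixedPts k H (MvPolynomial ι A), f ∈ Algebra.adjoin k
        ({F : MvPolynomial ι A | F ∈ HopfRep.fixedPts k H (MvPolynomial ι A) ∧ F.IsHomogeneous 0} ∪
          (s : Set (MvPolynomial ι A))) := by
  classical
  obtain ⟨E, hE₁, hE₂, hE₃, -⟩ :=
    H9_InvSep.exists_reynolds (k := k) (A := H) (R := MvPolynomial ι A) hG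
  let Sp : Set (MvPolynomial ι A) :=
    {F | F ∈ HopfRep.fixedPts k H (MvPolynomial ι A) ∧ ∃ d, 0 < d ∧ F.IsHomogeneous d}
  have hfg : (Ideal.span Sp).FG := IsNoetherian.noetherian _
  obtain ⟨s, hsS, hs⟩ := (Submodule.fg_span_iff_fg_span_finset_subset Sp).1 hfg
  refine ⟨s, fun f hf => hsS hf, ?_⟩
  have hdegex : ∀ f : MvPolynomial ι A, ∃ d : ℕ, f ∈ s → 0 < d ∧ f.IsHomogeneous d := by
    intro f
    by_cases hf : f ∈ s
    · obtain ⟨d, hd, hh⟩ := (hsS hf).2
      exact ⟨d, fun _ => ⟨hd, hh⟩⟩
    · exact ⟨0, fun h => absurd h hf⟩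
  choose deg hdeg using hdegex
  set T : Set (MvPolynomial ι A) :=
    {F : MvPolynomial ι A | F ∈ HopfRep.fixedPts k H (MvPolynomial ι A) ∧ F.IsHomogeneous 0} ∪
          (s : Set (MvPolynomial ι A)) with hT
  have key : ∀ d : ℕ, ∀ F : MvPolynomial ι A, F ∈ HopfRep.fixedPts k H (MvPolynomial ι A) →
      F.IsHomogeneous d → F ∈ Algebra.adjoin k T := by
    intro d
    induction d using Nat.strong_induction_on with
    | _ d ih =>
      intro F hF hhom
      rcases Nat.eq_zero_or_pos d with rfl | hd
      · exact Algebra.subset_adjoin (Or.inl ⟨hF, hhom⟩)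
      · have hFS : F ∈ Sp := ⟨hF, d, hd, hhom⟩
        have hFI : F ∈ Submodule.span (MvPolynomial ι A) (s : Set (MvPolynomial ι A)) := by
          rw [← hs]; exact Submodule.subset_span hFS
        obtain ⟨a, -, ha⟩ := Submodule.mem_span_finset.1 hFI
        have h1 : F = ∑ f ∈ s, E (a f) * f := by
          rw [← hE₂ F hF]
          conv_lhs => rw [← ha]
          rw [map_sum]
          apply Finset.sum_congr rfl
          intro f hf
          rw [smul_eq_mul, mul_comm, hE₃ f (hsS hf).1, mul_comm]
        have h2 : F = ∑ f ∈ s, ∑ e ∈ Finset.range ((E (a f)).totalDegree + 1),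
            (if d = e + deg f then homogeneousComponent e (E (a f)) * f else 0) := by
          conv_lhs => rw [← homogeneousComponent_eq_self hhom, h1]
          rw [map_sum]
          apply Finset.sum_congr rfl
          intro f hf
          conv_lhs => rw [← sum_homogeneousComponent (E (a f)), Finset.sum_mul]
          rw [map_sum]
          apply Finset.sum_congr rfl
          intro e _
          have hh : (homogeneousComponent e (E (a f)) * f).IsHomogeneous (e + deg f) :=
            (homogeneousComponent_isHomogeneous e _).mul (hdeg f hf).2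
          rw [homogeneousComponent_of_mem hh]
        rw [h2]
        apply Subalgebra.sum_mem
        intro f hf
        apply Subalgebra.sum_mem
        intro e _
        split_ifs with hde
        · apply Subalgebra.mul_mem
          · have hlt : e < d := by have := (hdeg f hf).1; omega
            exact ih e hlt _ (homogeneousComponent_mem_fixedPts hlin (hE₁ (a f)) e)
              (homogeneousComponent_isHomogeneous e _)
          · exact Algebra.subset_adjoin (Or.inr hf)
        · exact Subalgebra.zero_mem _
  intro F hF
  rw [← sum_homogeneousComponent F]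
  apply Subalgebra.sum_mem
  intro d _
  exact key d _ (homogeneousComponent_mem_fixedPts hlin hF d)
    (homogeneousComponent_isHomogeneous d F)

end H9_RelHilbert
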