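import Mathlib
import Groth.Agent.Lib.helper9.H9_RelHilbert
import Groth.Agent.Lib.helper9.H9_HilbertGen

/-!
# Relative Hilbert finiteness: invariants of a finitely generated comodule algebra over a
Noetherian comodule algebra
-/

set_option autoImplicit false
set_option linter.unusedSectionVars false
universe u
open scoped TensorProduct

namespace H9_RelHilbertGen

open MvPolynomial

section Poly

variable {k : Type u} [Field k] {H : Type u} [CommRing H] [Bialgebra k H]
  {A : Type u} [CommRing A] [Algebra k A] [HopfRep.Comod k H A] [GLin.IsCoactAlg k H A]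
  {n : ℕ} (a : Fin n → Fin n → H)

/-- constants, as a `k`-algebra map -/
noncomputable def cAlg (k : Type u) [Field k] (A : Type u) [CommRing A] [Algebra k A] (n : ℕ) :
    A →ₐ[k] MvPolynomial (Fin n) A :=
  IsScalarTower.toAlgHom k A (MvPolynomial (Fin n) A)

theorem cAlg_apply (b : A) : cAlg k A n b = C b := rfl

/-- the coaction on constants -/
noncomputable def baseHom (k : Type u) [Field k] (H : Type u) [CommRing H] [Bialgebra k H]
    (A : Type u) [CommRing A] [Algebra k A] [HopfRep.Comod k H A] [GLin.IsCoactAlg k H A] (n : ℕ) :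
    A →ₐ[k] MvPolynomial (Fin n) A ⊗[k] H :=
  (Algebra.TensorProduct.map (cAlg k A n) (AlgHom.id k H)).comp (GLin.coactAlgHom k H A)

theorem map_cAlg_eq (y : A ⊗[k] H) :
    Algebra.TensorProduct.map (cAlg k A n) (AlgHom.id k H) y =
      (cAlg k A n).toLinearMap.rTensor H y := by
  induction y using TensorProduct.induction_on with
  | zero => simp
  | add x y hx hy => rw [map_add, map_add, hx, hy]
  | tmul x h => rfl

theorem baseHom_apply (b : A) :
    baseHom k H A n b =
      (cAlg k A n).toLinearMap.rTensor H (HopfRep.Comod.coact (k := k) (A := H) b) := by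
  show Algebra.TensorProduct.map (cAlg k A n) (AlgHom.id k H) (GLin.coactAlgHom k H A b) = _
  rw [map_cAlg_eq]
  rfl

/-- the coaction on the polynomial ring over `A` given by a matrix -/
noncomputable def rhoS : MvPolynomial (Fin n) A →ₐ[k] MvPolynomial (Fin n) A ⊗[k] H :=
  aevalTower (baseHom k H A n) (fun j => ∑ i, (X i : MvPolynomial (Fin n) A) ⊗ₜ[k] a i j)

theorem rhoS_X (j : Fin n) :
    rhoS (k := k) (A := A) a (X j) = ∑ i, (X i : MvPolynomial (Fin n) A) ⊗ₜ[k] a i j := by
  simp [rhoS]

theorem rhoS_C (b : A) :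
    rhoS (k := k) (A := A) a (C b) =
      (cAlg k A n).toLinearMap.rTensor H (HopfRep.Comod.coact (k := k) (A := H) b) := by
  rw [rhoS, aevalTower_C, baseHom_apply]

theorem rhoS_comp_c :
    (rhoS (k := k) (A := A) a).toLinearMap ∘ₗ (cAlg k A n).toLinearMap =
      (cAlg k A n).toLinearMap.rTensor H ∘ₗ HopfRep.Comod.coact (k := k) (A := H) := by
  apply LinearMap.ext
  intro b
  exact rhoS_C a b

theorem adjoin_C_X :
    Algebra.adjoin k (Set.range (C : A → MvPolynomial (Fin n) A) ∪ Set.range X) = ⊤ := by
  rw [eq_top_iff]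
  intro p hp
  clear hp
  induction p using MvPolynomial.induction_on with
  | C b => exact Algebra.subset_adjoin (Or.inl ⟨b, rfl⟩)
  | add p q hp hq => exact Subalgebra.add_mem _ hp hq
  | mul_X p i hp => exact Subalgebra.mul_mem _ hp (Algebra.subset_adjoin (Or.inr ⟨i, rfl⟩))

theorem assoc_rTensor_rTensor {V W : Type u} [AddCommGroup V] [Module k V] [AddCommGroup W]
    [Module k W] (c : V →ₗ[k] W) :
    (TensorProduct.assoc k W H H).toLinearMap ∘ₗ (c.rTensor H).rTensor H =
      c.rTensor (H ⊗[k] H) ∘ₗ (TensorProduct.assoc k V H H).toLinearMap := by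
  apply TensorProduct.ext_threefold
  intro x y z
  rfl

variable (hΔ : ∀ l j, CoalgebraStruct.comul (R := k) (a l j) = ∑ i, a l i ⊗ₜ[k] a i j)
  (hε : ∀ l j, CoalgebraStruct.counit (R := k) (a l j) = if l = j then 1 else 0)

/-- the comodule structure on the polynomial ring over `A` given by a multiplicative matrix -/
@[reducible] noncomputable def comodS : HopfRep.Comod k H (MvPolynomial (Fin n) A) :=
  H9_ComodAlg.comodOfAlgHom (rhoS (k := k) (A := A) a)
    (Set.range (C : A → MvPolynomial (Fin n) A) ∪ Set.range X) adjoin_C_X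
    (by
      rintro _ (⟨b, rfl⟩ | ⟨j, rfl⟩)
      · rw [rhoS_C]
        have h1 : (rhoS (k := k) (A := A) a).toLinearMap.rTensor H
            ((cAlg k A n).toLinearMap.rTensor H (HopfRep.Comod.coact (k := k) (A := H) b)) =
            ((cAlg k A n).toLinearMap.rTensor H).rTensor H
              ((HopfRep.Comod.coact (k := k) (A := H) (V := A)).rTensor H
                (HopfRep.Comod.coact (k := k) (A := H) b)) := by
          rw [← LinearMap.comp_apply, ← LinearMap.rTensor_comp, rhoS_comp_c, LinearMap.rTensor_comp,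
            LinearMap.comp_apply]
        rw [h1]
        have h2 := LinearMap.congr_fun (assoc_rTensor_rTensor (k := k) (H := H)
          (cAlg k A n).toLinearMap)
          ((HopfRep.Comod.coact (k := k) (A := H) (V := A)).rTensor H
                (HopfRep.Comod.coact (k := k) (A := H) b))
        simp only [LinearMap.comp_apply, LinearEquiv.coe_coe] at h2
        rw [h2]
        have h3 := LinearMap.congr_fun (HopfRep.Comod.coassoc (k := k) (A := H) (V := A)) b
        simp only [LinearMap.comp_apply, LinearEquiv.coe_coe] at h3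
        rw [h3]
        generalize HopfRep.Comod.coact (k := k) (A := H) b = y
        induction y using TensorProduct.induction_on with
        | zero => simp
        | add x y hx hy => rw [map_add, map_add, map_add, map_add, hx, hy]
        | tmul x h => rfl
      · rw [rhoS_X]
        simp only [map_sum, LinearMap.rTensor_tmul, LinearMap.lTensor_tmul, AlgHom.toLinearMap_apply,
          rhoS_X, TensorProduct.sum_tmul, TensorProduct.assoc_tmul, hΔ, TensorProduct.tmul_sum]
        rw [Finset.sum_comm])
    (by
      classical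
      rintro _ (⟨b, rfl⟩ | ⟨j, rfl⟩)
      · rw [rhoS_C, ← LinearMap.comp_apply, LinearMap.lTensor_comp_rTensor,
          ← LinearMap.rTensor_comp_lTensor, LinearMap.comp_apply]
        have h3 := LinearMap.congr_fun (HopfRep.Comod.counit_comp (k := k) (A := H) (V := A)) b
        simp only [LinearMap.comp_apply, LinearMap.flip_apply, TensorProduct.mk_apply] at h3
        rw [h3, LinearMap.rTensor_tmul]
        rfl
      · rw [rhoS_X]
        simp only [map_sum, LinearMap.lTensor_tmul, hε]
        rw [Finset.sum_eq_single j]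
        · rw [if_pos rfl]
        · intro b _ hb; rw [if_neg hb, TensorProduct.tmul_zero]
        · intro hj; exact absurd (Finset.mem_univ j) hj)

theorem comodS_coact (F : MvPolynomial (Fin n) A) :
    (comodS (A := A) a hΔ hε).coact F = rhoS a F := rfl

theorem isCoactAlg_comodS :
    @GLin.IsCoactAlg k _ H _ _ (MvPolynomial (Fin n) A) _ _ (comodS (A := A) a hΔ hε) :=
  letI := comodS (A := A) a hΔ hε
  ⟨map_one (rhoS a), fun f g => map_mul (rhoS a) f g⟩

theorem isLin_comodS :
    @H9_RelLinAct.IsLin k _ H _ _ A _ _ (Fin n) (comodS (A := A) a hΔ hε) := by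
  letI := comodS (A := A) a hΔ hε
  refine ⟨?_, ?_⟩
  · intro j
    show rhoS a (X j) ∈ _
    rw [rhoS_X]
    exact Submodule.sum_mem _ fun i _ => H9_RelLinAct.tmul_mem_M (isHomogeneous_X A i) _
  · intro b
    show rhoS a (C b) ∈ _
    rw [rhoS_C]
    generalize HopfRep.Comod.coact (k := k) (A := H) b = y
    induction y using TensorProduct.induction_on with
    | zero => rw [map_zero]; exact Submodule.zero_mem _
    | add x y hx hy => rw [map_add]; exact Submodule.add_mem _ hx hy
    | tmul x h =>
      rw [LinearMap.rTensor_tmul]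
      exact H9_RelLinAct.tmul_mem_M (isHomogeneous_C _ x) _

end Poly

section Main

variable {k : Type u} [Field k] {H : Type u} [CommRing H] [HopfAlgebra k H]
  {A : Type u} [CommRing A] [Algebra k A] [IsNoetherianRing A]
  [HopfRep.Comod k H A] [GLin.IsCoactAlg k H A]
  {R : Type u} [CommRing R] [Algebra k R] [HopfRep.Comod k H R] [GLin.IsCoactAlg k H R]
  [Algebra A R] [IsScalarTower k A R] [Algebra.FiniteType A R]

/-- an invariant constant polynomial has invariant constant term -/
theorem mem_fixedPts_of_C_mem {n : ℕ} (a : Fin n → Fin n → H)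
    (hΔ : ∀ l j, CoalgebraStruct.comul (R := k) (a l j) = ∑ i, a l i ⊗ₜ[k] a i j)
    (hε : ∀ l j, CoalgebraStruct.counit (R := k) (a l j) = if l = j then 1 else 0) (b : A)
    (hb : (comodS (A := A) a hΔ hε).coact (C b) = (C b : MvPolynomial (Fin n) A) ⊗ₜ[k] (1 : H)) :
    b ∈ HopfRep.fixedPts k H A := by
  rw [comodS_coact, rhoS_C] at hb
  let cc : MvPolynomial (Fin n) A →ₗ[k] A :=
    (MvPolynomial.lcoeff A (0 : Fin n →₀ ℕ)).restrictScalars k
  have hcc : cc ∘ₗ (cAlg k A n).toLinearMap = LinearMap.id := by
    apply LinearMap.ext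
    intro x
    show coeff 0 (C x : MvPolynomial (Fin n) A) = x
    exact coeff_zero_C x
  have h1 := congrArg (cc.rTensor H) hb
  rw [← LinearMap.comp_apply, ← LinearMap.rTensor_comp, hcc, LinearMap.rTensor_id,
    LinearMap.id_apply, LinearMap.rTensor_tmul] at h1
  show HopfRep.Comod.coact (k := k) (A := H) b = b ⊗ₜ[k] (1 : H)
  rw [h1]
  congr 1
  show coeff 0 (C b : MvPolynomial (Fin n) A) = b
  exact coeff_zero_C b

/-- relative Hilbert finiteness theorem -/
theorem finite_generation (hG : HopfRep.IsLinearlyReductive k H)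
    (hAR : Hoch.IsComodHom H (IsScalarTower.toAlgHom k A R).toLinearMap) :
    ∃ s : Finset R, (∀ f ∈ s, f ∈ HopfRep.fixedPts k H R) ∧
      ∀ f ∈ HopfRep.fixedPts k H R, f ∈ Algebra.adjoin k
        (⇑(algebraMap A R) '' (HopfRep.fixedPts k H A : Set A) ∪ (s : Set R)) := by
  classical
  obtain ⟨s₀, hs₀⟩ := (Algebra.FiniteType.out : (⊤ : Subalgebra A R).FG)
  obtain ⟨W, hWfin, hWsub, -, hsW⟩ := H9_SubLat.exists_finite_subcomod (k := k) (C := H) s₀ ⊤
    H9_SubLat.isSubcomod_top (fun x _ => Submodule.mem_top)
  haveI := hWfin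
  let n := Module.finrank k W
  let b : Module.Basis (Fin n) k W := Module.finBasis k W
  let w : Fin n → R := fun j => (b j : R)
  have hw : LinearIndependent k w := by
    have := b.linearIndependent
    exact this.map' W.subtype (Submodule.ker_subtype W)
  -- matrix coefficients
  have hex : ∀ j, ∃ c : Fin n → H, HopfRep.Comod.coact (k := k) (A := H) (w j) =
      ∑ i, w i ⊗ₜ[k] c i := by
    intro j
    obtain ⟨y, hy⟩ := hWsub (w j) (b j).2
    obtain ⟨c, hc⟩ := TensorProduct.eq_repr_basis_left b y
    refine ⟨fun i => c i, ?_⟩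
    rw [← hy, ← hc, Finsupp.sum_fintype _ _ (fun i => TensorProduct.tmul_zero _ _), map_sum]
    rfl
  choose a' ha' using hex
  let a : Fin n → Fin n → H := fun i j => a' j i
  have hcoact : ∀ j, HopfRep.Comod.coact (k := k) (A := H) (w j) = ∑ i, w i ⊗ₜ[k] a i j := ha'
  have hΔ := H9_HilbertGen.comul_a w hw a hcoact
  have hε := H9_HilbertGen.counit_a w hw a hcoact
  letI cS : HopfRep.Comod k H (MvPolynomial (Fin n) A) := comodS (A := A) a hΔ hε
  haveI : GLin.IsCoactAlg k H (MvPolynomial (Fin n) A) := isCoactAlg_comodS a hΔ hε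
  have hlin : H9_RelLinAct.IsLin k H A (Fin n) := isLin_comodS a hΔ hε
  obtain ⟨sP, hsP₁, hsP₂⟩ := H9_RelHilbert.hilbert (k := k) (H := H) (A := A) (ι := Fin n) hG hlin
  -- the projection
  let πA : MvPolynomial (Fin n) A →ₐ[A] R := aeval w
  let π : MvPolynomial (Fin n) A →ₐ[k] R := πA.restrictScalars k
  have hπX : ∀ i, π (X i) = w i := fun i => by simp [π, πA]
  have hπC : ∀ x, π (C x) = algebraMap A R x := fun x => by simp [π, πA]
  have hπsurj : Function.Surjective π := by
    have : Function.Surjective πA := by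
      rw [← AlgHom.range_eq_top, eq_top_iff, ← hs₀]
      apply Algebra.adjoin_le
      intro x hx
      have hxW : x ∈ W := hsW hx
      have : W ≤ Subalgebra.toSubmodule ((AlgHom.range πA).restrictScalars k) := by
        have hWspan : W = Submodule.span k (Set.range w) := by
          have h1 := b.span_eq
          have h2 := congrArg (Submodule.map W.subtype) h1
          rw [Submodule.map_span, Submodule.map_subtype_top, ← Set.range_comp] at h2
          exact h2.symm
        rw [hWspan]
        apply Submodule.span_le.2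
        rintro _ ⟨j, rfl⟩
        exact ⟨X j, by simp [πA]⟩
      exact this hxW
    exact this
  have hπhom : Hoch.IsComodHom H π.toLinearMap := by
    have hAlg : (GLin.coactAlgHom k H R).comp π =
        (Algebra.TensorProduct.map π (AlgHom.id k H)).comp (rhoS a) := by
      apply AlgHom.ext_of_adjoin_eq_top (adjoin_C_X (k := k) (A := A) (n := n))
      rintro _ (⟨x, rfl⟩ | ⟨j, rfl⟩)
      · show HopfRep.Comod.coact (k := k) (A := H) (π (C x)) =
          Algebra.TensorProduct.map π (AlgHom.id k H) (rhoS a (C x))
        rw [hπC, rhoS_C]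
        have h1 := LinearMap.congr_fun hAR x
        simp only [LinearMap.comp_apply] at h1
        have h2 : HopfRep.Comod.coact (k := k) (A := H) (algebraMap A R x) =
            (IsScalarTower.toAlgHom k A R).toLinearMap.rTensor H
              (HopfRep.Comod.coact (k := k) (A := H) x) := h1
        rw [h2]
        generalize HopfRep.Comod.coact (k := k) (A := H) x = y
        induction y using TensorProduct.induction_on with
        | zero => simp
        | add y z hy hz => rw [map_add, map_add, map_add, hy, hz]
        | tmul y h =>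
          rw [LinearMap.rTensor_tmul, LinearMap.rTensor_tmul, Algebra.TensorProduct.map_tmul]
          show algebraMap A R y ⊗ₜ[k] h = π (C y) ⊗ₜ[k] h
          rw [hπC]
      · show HopfRep.Comod.coact (k := k) (A := H) (π (X j)) =
          Algebra.TensorProduct.map π (AlgHom.id k H) (rhoS a (X j))
        rw [hπX, hcoact, rhoS_X, map_sum]
        apply Finset.sum_congr rfl
        intro i _
        rw [Algebra.TensorProduct.map_tmul, hπX]
        rfl
    unfold Hoch.IsComodHom
    apply LinearMap.ext
    intro F
    exact AlgHom.congr_fun hAlg F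
  have hssP : HopfRep.IsSemisimpleComod k H (MvPolynomial (Fin n) A) :=
    H9_LinRed.isSemisimpleComod hG _
  refine ⟨sP.image π, ?_, ?_⟩
  · intro f hf
    obtain ⟨F, hF, rfl⟩ := Finset.mem_image.1 hf
    exact H9_ComodMod.map_mem_fixedPts π.toLinearMap hπhom F (hsP₁ F hF).1
  · intro f hf
    obtain ⟨F, hF, hFf⟩ := H9_LinRed.exists_fixed_lift hssP π.toLinearMap hπhom hπsurj f hf
    have h1 := hsP₂ F hF
    have h2 : π F ∈ (Algebra.adjoin k
        ({F : MvPolynomial (Fin n) A | F ∈ HopfRep.fixedPts k H (MvPolynomial (Fin n) A) ∧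
          F.IsHomogeneous 0} ∪ (sP : Set (MvPolynomial (Fin n) A)))).map π :=
      ⟨F, h1, rfl⟩
    rw [AlgHom.map_adjoin] at h2
    rw [← hFf]
    refine Algebra.adjoin_mono ?_ h2
    rintro _ ⟨G, (⟨hG₁, hG₂⟩ | hG), rfl⟩
    · left
      have hGC : G = C (coeff 0 G) := by
        rw [← homogeneousComponent_zero, homogeneousComponent_eq_self hG₂]
      refine ⟨coeff 0 G, ?_, ?_⟩
      · apply mem_fixedPts_of_C_mem a hΔ hε
        rw [← hGC]
        exact hG₁
      · rw [← hπC, ← hGC]
    · right
      rw [Finset.coe_image]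
      exact ⟨G, hG, rfl⟩

end Main

end H9_RelHilbertGen
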