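import Mathlib
import Groth.Agent.Lib.helper9.H9_GrpLikeConn

/-!
# Rigidity of coalgebra maps into a group algebra modulo a nilpotent ideal
-/

set_option autoImplicit false
universe u v w
open TensorProduct H9_GrpLikeConn

namespace H9_RigidDiag

variable {S : Type u} [CommRing S] {M : Type v} {C : Type w} [AddCommGroup C] [Module S C]
  [Coalgebra S C]

/-- coefficient functional of a coalgebra map, as an element of the convolution algebra -/
noncomputable def cf (φ : C →ₗc[S] MonoidAlgebra S M) (m : M) : WithConv (C →ₗ[S] S) :=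
  WithConv.toConv (co m ∘ₗ φ.toLinearMap)

theorem cf_apply (φ : C →ₗc[S] MonoidAlgebra S M) (m : M) (c : C) :
    (cf φ m) c = (φ c).coeff m := rfl

theorem cf_mul [DecidableEq M] (φ : C →ₗc[S] MonoidAlgebra S M) (m m' : M) :
    cf φ m * cf φ m' = if m = m' then cf φ m else 0 := by
  apply WithConv.ext
  apply LinearMap.ext
  intro c
  have h1 : (cf φ m * cf φ m') c =
      co2 m m' (TensorProduct.map φ.toLinearMap φ.toLinearMap (Coalgebra.comul (R := S) c)) := by
    rw [LinearMap.convMul_apply]
    show LinearMap.mul' S S (TensorProduct.map (co m ∘ₗ φ.toLinearMap) (co m' ∘ₗ φ.toLinearMap) _) = _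
    rw [TensorProduct.map_comp]
    rfl
  have h2 : TensorProduct.map φ.toLinearMap φ.toLinearMap (Coalgebra.comul (R := S) c) =
      Coalgebra.comul (R := S) (φ c) := CoalgHomClass.map_comp_comul_apply φ c
  show (cf φ m * cf φ m') c = _
  rw [h1, h2, co2_comul]
  split_ifs with h
  · rfl
  · rfl

/-- functionals with values in `J ^ j` -/
def InN (J : Ideal S) (j : ℕ) (g : WithConv (C →ₗ[S] S)) : Prop := ∀ c, g c ∈ J ^ j

theorem inN_mul (J : Ideal S) {i j : ℕ} {g g' : WithConv (C →ₗ[S] S)}
    (hg : InN J i g) (hg' : InN J j g') : InN J (i + j) (g * g') := by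
  intro c
  show (g * g') c ∈ _
  rw [LinearMap.convMul_apply]
  generalize Coalgebra.comul (R := S) c = t
  induction t using TensorProduct.induction_on with
  | zero => simp
  | add x y hx hy => rw [map_add, map_add]; exact Ideal.add_mem _ hx hy
  | tmul x y =>
    rw [TensorProduct.map_tmul, LinearMap.mul'_apply, pow_add]
    exact Ideal.mul_mem_mul (hg x) (hg' y)

theorem eq_zero_of_eq_mul (J : Ideal S) (n : ℕ) (hJ : J ^ n = ⊥) (d x : WithConv (C →ₗ[S] S))
    (hx : InN J 1 x) (hd : d = d * x) : d = 0 := by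
  have hall : ∀ j, InN J j d := by
    intro j
    induction j with
    | zero => intro c; rw [pow_zero, Ideal.one_eq_top]; trivial
    | succ j ih => rw [hd]; exact inN_mul J ih hx
  apply WithConv.ext
  apply LinearMap.ext
  intro c
  have := hall n c
  rw [hJ] at this
  exact this

section Cocomm

variable [Coalgebra.IsCocomm S C]

theorem cf_eq_of_cocomm [DecidableEq M] (J : Ideal S) (n : ℕ) (hJ : J ^ n = ⊥)
    (φ ψ : C →ₗc[S] MonoidAlgebra S M)
    (h : ∀ c m, (φ c).coeff m - (ψ c).coeff m ∈ J) (m : M) : cf φ m = cf ψ m := by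
  have he : cf φ m * cf φ m = cf φ m := by rw [cf_mul, if_pos rfl]
  have he' : cf ψ m * cf ψ m = cf ψ m := by rw [cf_mul, if_pos rfl]
  set e := cf φ m
  set e' := cf ψ m
  have hd1 : InN J 1 (e - e') := by
    intro c
    rw [pow_one]
    exact h c m
  have hd2 : InN J 1 ((e - e') * (e - e')) := by
    intro c
    have := inN_mul J hd1 hd1 c
    exact Ideal.pow_le_pow_right (by norm_num) this
  have hd3 : e - e' = (e - e') * ((e - e') * (e - e')) := by
    linear_combination (-(e + 1 - 3 * e')) * he + (-(3 * e - e' - 1)) * he'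
  exact sub_eq_zero.mp (eq_zero_of_eq_mul J n hJ _ _ hd2 hd3)

end Cocomm

section Trivial

variable [Monoid M]

theorem cf_eq_of_trivial [DecidableEq M] (J : Ideal S) (n : ℕ) (hJ : J ^ n = ⊥)
    (φ : C →ₗc[S] MonoidAlgebra S M)
    (h : ∀ c m, (φ c).coeff m - (algebraMap S (MonoidAlgebra S M) (Coalgebra.counit c)).coeff m ∈ J)
    (m : M) (c : C) :
    (φ c).coeff m = (algebraMap S (MonoidAlgebra S M) (Coalgebra.counit c)).coeff m := by
  have hcoef : ∀ c : C, (algebraMap S (MonoidAlgebra S M) (Coalgebra.counit (R := S) c)).coeff m =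
      if m = 1 then Coalgebra.counit (R := S) c else 0 := by
    intro c
    rw [MonoidAlgebra.coe_algebraMap, Function.comp_apply, Algebra.algebraMap_self_apply,
      MonoidAlgebra.coeff_single, Finsupp.single_apply]
    by_cases hm : m = 1
    · rw [if_pos hm, if_pos hm.symm]
    · rw [if_neg hm, if_neg (Ne.symm hm)]
  have he : cf φ m * cf φ m = cf φ m := by rw [cf_mul, if_pos rfl]
  by_cases hm : m = 1
  · -- `1 - e` is an idempotent with values in `J`
    have h1 : InN J 1 (1 - cf φ m) := by
      intro c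
      rw [pow_one]
      have := h c m
      rw [hcoef, if_pos hm] at this
      have e2 : (1 - cf φ m) c = Coalgebra.counit (R := S) c - (φ c).coeff m := by
        show (1 : WithConv (C →ₗ[S] S)) c - (cf φ m) c = _
        rw [LinearMap.convOne_apply, cf_apply]
        rfl
      rw [e2, ← neg_sub]
      exact Ideal.neg_mem_iff J |>.mpr this
    have h2 : 1 - cf φ m = (1 - cf φ m) * (1 - cf φ m) := by
      rw [mul_sub, sub_mul, sub_mul, one_mul, mul_one, one_mul, he, sub_self, sub_zero]
    have h3 := eq_zero_of_eq_mul J n hJ _ _ h1 h2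
    have h4 : cf φ m = 1 := (sub_eq_zero.mp h3).symm
    rw [hcoef, if_pos hm, ← cf_apply, h4, LinearMap.convOne_apply]
    rfl
  · have h1 : InN J 1 (cf φ m) := by
      intro c
      rw [pow_one]
      have := h c m
      rw [hcoef, if_neg hm, sub_zero] at this
      exact this
    have h3 := eq_zero_of_eq_mul J n hJ _ _ h1 he.symm
    rw [hcoef, if_neg hm, ← cf_apply, h3]
    rfl

end Trivial

end H9_RigidDiag
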