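import Mathlib
import Groth.Prelude.Def_SGA3b
import Groth.Agent.Lib.helper9.H9_RigidDiag

/-!
# Rigidity of homomorphisms into groups of multiplicative type, by descent
-/

set_option autoImplicit false
universe u
open TensorProduct

namespace H9_RigidDesc

/-- rigidity for maps from cocommutative coalgebras -/
def RigidC (R : Type u) [CommRing R] (I : Ideal R) (A : Type u) [CommRing A] [HopfAlgebra R A] :
    Prop :=
  ∀ (C : Type u) [AddCommGroup C] [Module R C] [Coalgebra R C] [Coalgebra.IsCocomm R C]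
    (φ ψ : C →ₗc[R] A), (∀ c, φ c - ψ c ∈ I • (⊤ : Submodule R A)) → φ = ψ

/-- rigidity of the trivial map -/
def RigidT (R : Type u) [CommRing R] (I : Ideal R) (A : Type u) [CommRing A] [HopfAlgebra R A] :
    Prop :=
  ∀ (C : Type u) [AddCommGroup C] [Module R C] [Coalgebra R C]
    (φ : C →ₗc[R] A),
    (∀ c, φ c - algebraMap R A (Coalgebra.counit (R := R) c) ∈ I • (⊤ : Submodule R A)) →
    ∀ c, φ c = algebraMap R A (Coalgebra.counit (R := R) c)

section Family

variable {R : Type u} [CommRing R] (I : Ideal R) {A : Type u} [CommRing A] [HopfAlgebra R A]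

theorem tmul_mem (S : Type u) [CommRing S] [Algebra R S] (s : S) (x : A)
    (hx : x ∈ I • (⊤ : Submodule R A)) :
    s ⊗ₜ[R] x ∈ (I.map (algebraMap R S)) • (⊤ : Submodule S (S ⊗[R] A)) := by
  refine Submodule.smul_induction_on hx (fun r hr a _ => ?_) (fun x y hx hy => ?_)
  · have : s ⊗ₜ[R] (r • a) = (algebraMap R S r) • (s ⊗ₜ[R] a) := by
      rw [TensorProduct.tmul_smul, algebraMap_smul]
    rw [this]
    exact Submodule.smul_mem_smul (Ideal.mem_map_of_mem _ hr) Submodule.mem_top
  · rw [TensorProduct.tmul_add]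
    exact Submodule.add_mem _ hx hy

variable {ι : Type*} (S : ι → Type u) [∀ i, CommRing (S i)] [∀ i, Algebra R (S i)]

theorem rigidC_of_family
    (hinj : ∀ a : A, (∀ i, (1 : S i) ⊗ₜ[R] a = 0) → a = 0)
    (h : ∀ i, RigidC (S i) (I.map (algebraMap R (S i))) (S i ⊗[R] A)) : RigidC R I A := by
  intro C _ _ _ _ φ ψ h0
  apply CoalgHom.ext
  intro c
  rw [← sub_eq_zero]
  apply hinj
  intro i
  let φi : S i ⊗[R] C →ₗc[S i] S i ⊗[R] A :=
    Coalgebra.TensorProduct.map (CoalgHom.id (S i) (S i)) φ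
  let ψi : S i ⊗[R] C →ₗc[S i] S i ⊗[R] A :=
    Coalgebra.TensorProduct.map (CoalgHom.id (S i) (S i)) ψ
  have hφi : ∀ (s : S i) (c : C), φi (s ⊗ₜ[R] c) = s ⊗ₜ[R] φ c := fun _ _ => rfl
  have hψi : ∀ (s : S i) (c : C), ψi (s ⊗ₜ[R] c) = s ⊗ₜ[R] ψ c := fun _ _ => rfl
  have key : φi = ψi := by
    apply h i
    intro t
    induction t using TensorProduct.induction_on with
    | zero => simp
    | add x y hx hy =>
      rw [map_add, map_add, add_sub_add_comm]
      exact Submodule.add_mem _ hx hy
    | tmul s c =>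
      rw [hφi, hψi, ← TensorProduct.tmul_sub]
      exact tmul_mem I (S i) s _ (h0 c)
  have := congrArg (fun f => f ((1 : S i) ⊗ₜ[R] c)) key
  simp only [hφi, hψi] at this
  rw [TensorProduct.tmul_sub, this, sub_self]

theorem rigidT_of_family
    (hinj : ∀ a : A, (∀ i, (1 : S i) ⊗ₜ[R] a = 0) → a = 0)
    (h : ∀ i, RigidT (S i) (I.map (algebraMap R (S i))) (S i ⊗[R] A)) : RigidT R I A := by
  intro C _ _ _ φ h0 c
  rw [← sub_eq_zero]
  apply hinj
  intro i
  let φi : S i ⊗[R] C →ₗc[S i] S i ⊗[R] A :=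
    Coalgebra.TensorProduct.map (CoalgHom.id (S i) (S i)) φ
  have hφi : ∀ (s : S i) (c : C), φi (s ⊗ₜ[R] c) = s ⊗ₜ[R] φ c := fun _ _ => rfl
  have hcu : ∀ (s : S i) (c : C),
      algebraMap (S i) (S i ⊗[R] A) (Coalgebra.counit (R := S i) (s ⊗ₜ[R] c)) =
        s ⊗ₜ[R] algebraMap R A (Coalgebra.counit (R := R) c) := by
    intro s c
    rw [TensorProduct.counit_tmul, Algebra.TensorProduct.algebraMap_apply,
      Algebra.algebraMap_eq_smul_one (Coalgebra.counit (R := R) c), TensorProduct.tmul_smul,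
      TensorProduct.smul_tmul']
    rfl
  have key := h i (S i ⊗[R] C) φi (by
    intro t
    induction t using TensorProduct.induction_on with
    | zero => simp
    | add x y hx hy =>
      rw [map_add, map_add, map_add, add_sub_add_comm]
      exact Submodule.add_mem _ hx hy
    | tmul s c =>
      rw [hφi, hcu, ← TensorProduct.tmul_sub]
      exact tmul_mem I (S i) s _ (h0 c))
  have := key ((1 : S i) ⊗ₜ[R] c)
  rw [hφi, hcu] at this
  rw [TensorProduct.tmul_sub, this, sub_self]

end Family

end H9_RigidDesc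

namespace H9_RigidDesc

section Inj

variable {R : Type u} [CommRing R] {A : Type u} [AddCommGroup A] [Module R A]

/-- an element vanishing in all localizations away from a spanning set is zero -/
theorem eq_zero_of_away (s : Set R) (hs : Ideal.span s = ⊤) (a : A)
    (h : ∀ f : s, (1 : Localization.Away (f : R)) ⊗ₜ[R] a = 0) : a = 0 := by
  let Ann : Ideal R := LinearMap.ker (LinearMap.toSpanSingleton R A a)
  have hmem : ∀ r : R, r ∈ Ann ↔ r • a = 0 := fun r => by
    show LinearMap.toSpanSingleton R A a r = 0 ↔ _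
    rw [LinearMap.toSpanSingleton_apply]
  have hrad : Ann.radical = ⊤ := by
    rw [eq_top_iff, ← hs, Ideal.span_le]
    intro f hf
    have h1 := h ⟨f, hf⟩
    have h2 : TensorProduct.mk R (Localization.Away f) A 1 a = 0 := h1
    rw [IsLocalizedModule.eq_zero_iff (Submonoid.powers f)] at h2
    obtain ⟨⟨_, n, rfl⟩, hn⟩ := h2
    exact ⟨n, (hmem _).mpr hn⟩
  have htop : Ann = ⊤ := Ideal.radical_eq_top.mp hrad
  have h1 : (1 : R) ∈ Ann := htop ▸ Submodule.mem_top
  have := (hmem 1).mp h1
  rwa [one_smul] at this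

theorem eq_zero_of_fflat (S : Type u) [CommRing S] [Algebra R S] [Module.FaithfullyFlat R S]
    (a : A) (h : (1 : S) ⊗ₜ[R] a = 0) : a = 0 := by
  have hinj := Module.FaithfullyFlat.tensorProduct_mk_injective (A := R) (B := S) A
  apply hinj
  rw [map_zero]
  exact h

end Inj

section Transfer

variable {R : Type u} [CommRing R] (I : Ideal R) {A B : Type u} [CommRing A] [HopfAlgebra R A]
  [CommRing B] [HopfAlgebra R B]

theorem map_mem (e : A →ₗ[R] B) (x : A) (hx : x ∈ I • (⊤ : Submodule R A)) :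
    e x ∈ I • (⊤ : Submodule R B) := by
  refine Submodule.smul_induction_on hx (fun r hr a _ => ?_) (fun x y hx hy => ?_)
  · rw [map_smul]
    exact Submodule.smul_mem_smul hr Submodule.mem_top
  · rw [map_add]
    exact Submodule.add_mem _ hx hy

theorem rigidC_of_equiv (e : A ≃ₐc[R] B) (h : RigidC R I B) : RigidC R I A := by
  intro C _ _ _ _ φ ψ h0
  have key : (e : A →ₗc[R] B).comp φ = (e : A →ₗc[R] B).comp ψ := by
    apply h
    intro c
    have : ((e : A →ₗc[R] B).comp φ) c - ((e : A →ₗc[R] B).comp ψ) c =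
        (e : A →ₗc[R] B).toLinearMap (φ c - ψ c) := by
      rw [map_sub]; rfl
    rw [this]
    exact map_mem I _ _ (h0 c)
  apply CoalgHom.ext
  intro c
  have := congrArg (fun f => f c) key
  exact e.injective this

theorem rigidT_of_equiv (e : A ≃ₐc[R] B) (h : RigidT R I B) : RigidT R I A := by
  intro C _ _ _ φ h0 c
  have hcomm : ∀ r : R, e (algebraMap R A r) = algebraMap R B r := fun r => by
    rw [Algebra.algebraMap_eq_smul_one, map_smul, map_one, ← Algebra.algebraMap_eq_smul_one]
  have key := h C ((e : A →ₗc[R] B).comp φ) (by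
    intro c
    have : ((e : A →ₗc[R] B).comp φ) c - algebraMap R B (Coalgebra.counit (R := R) c) =
        (e : A →ₗc[R] B).toLinearMap (φ c - algebraMap R A (Coalgebra.counit (R := R) c)) := by
      rw [map_sub]
      show e (φ c) - _ = e (φ c) - e _
      rw [hcomm]
    rw [this]
    exact map_mem I _ _ (h0 c)) c
  apply e.injective
  show e (φ c) = e (algebraMap R A (Coalgebra.counit (R := R) c))
  rw [hcomm]
  exact key

end Transfer

section Diag

variable {R : Type u} [CommRing R] (I : Ideal R) {M : Type u} [CommGroup M]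

theorem coeff_mem (x : MonoidAlgebra R M) (hx : x ∈ I • (⊤ : Submodule R (MonoidAlgebra R M)))
    (m : M) : x.coeff m ∈ I := by
  refine Submodule.smul_induction_on hx (fun r hr a _ => ?_) (fun x y hx hy => ?_)
  · rw [MonoidAlgebra.coeff_smul, Finsupp.smul_apply, smul_eq_mul]
    exact Ideal.mul_mem_right _ _ hr
  · rw [MonoidAlgebra.coeff_add, Finsupp.add_apply]
    exact Ideal.add_mem _ hx hy

theorem rigidC_monoidAlgebra (n : ℕ) (hI : I ^ n = ⊥) : RigidC R I (MonoidAlgebra R M) := by
  classical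
  intro C _ _ _ _ φ ψ h0
  apply CoalgHom.ext
  intro c
  apply MonoidAlgebra.coeff_injective
  ext m
  have := H9_RigidDiag.cf_eq_of_cocomm I n hI φ ψ (fun c m => by
    have := coeff_mem I _ (h0 c) m
    rwa [MonoidAlgebra.coeff_sub, Finsupp.sub_apply] at this) m
  have h2 := congrArg (fun g : WithConv (C →ₗ[R] R) => g c) this
  exact h2

theorem rigidT_monoidAlgebra (n : ℕ) (hI : I ^ n = ⊥) : RigidT R I (MonoidAlgebra R M) := by
  classical
  intro C _ _ _ φ h0 c
  apply MonoidAlgebra.coeff_injective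
  ext m
  exact H9_RigidDiag.cf_eq_of_trivial I n hI φ (fun c m => by
    have := coeff_mem I _ (h0 c) m
    rwa [MonoidAlgebra.coeff_sub, Finsupp.sub_apply] at this) m c

end Diag

end H9_RigidDesc

namespace H9_RigidDesc

theorem map_pow_eq_bot {R S : Type u} [CommRing R] [CommRing S] (f : R →+* S) (I : Ideal R)
    (n : ℕ) (h : I ^ n = ⊥) : (I.map f) ^ n = ⊥ := by
  rw [← Ideal.map_pow, h, Ideal.map_bot]

theorem rigid_of_isMultType (R : Type u) [CommRing R] (I : Ideal R) (hI : IsNilpotent I)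
    (A : Type u) [CommRing A] [HopfAlgebra R A] (hH : SGA3b.IsMultType R A) :
    RigidC R I A ∧ RigidT R I A := by
  obtain ⟨s, hs, hf⟩ := hH
  obtain ⟨n, hn⟩ := hI
  have hn' : I ^ n = ⊥ := hn
  constructor
  · apply rigidC_of_family I (fun f : s => Localization.Away (f : R))
      (fun a h => eq_zero_of_away s hs a h)
    intro f
    obtain ⟨R', _, _, hff, M, _, ⟨e⟩⟩ := hf f f.2
    haveI := hff
    apply rigidC_of_family _ (fun _ : Unit => R') (fun a h => eq_zero_of_fflat R' a (h ()))
    intro _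
    apply rigidC_of_equiv _ e
    exact rigidC_monoidAlgebra _ n (map_pow_eq_bot _ _ n (map_pow_eq_bot _ _ n hn'))
  · apply rigidT_of_family I (fun f : s => Localization.Away (f : R))
      (fun a h => eq_zero_of_away s hs a h)
    intro f
    obtain ⟨R', _, _, hff, M, _, ⟨e⟩⟩ := hf f f.2
    haveI := hff
    apply rigidT_of_family _ (fun _ : Unit => R') (fun a h => eq_zero_of_fflat R' a (h ()))
    intro _
    apply rigidT_of_equiv _ e
    exact rigidT_monoidAlgebra _ n (map_pow_eq_bot _ _ n (map_pow_eq_bot _ _ n hn'))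

/-- from equality after reduction modulo `I` to membership in `I • ⊤` -/
theorem mem_smul_top_of_tmul_eq {R : Type u} [CommRing R] (I : Ideal R) {A : Type u}
    [AddCommGroup A] [Module R A] (x y : A)
    (h : (1 : R ⧸ I) ⊗ₜ[R] x = (1 : R ⧸ I) ⊗ₜ[R] y) : x - y ∈ I • (⊤ : Submodule R A) := by
  have h1 := congrArg (TensorProduct.quotTensorEquivQuotSMul A I) h
  rw [TensorProduct.quotTensorEquivQuotSMul_mk_one_tmul,
    TensorProduct.quotTensorEquivQuotSMul_mk_one_tmul] at h1
  exact (Submodule.Quotient.eq _).mp h1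

end H9_RigidDesc
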