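import Mathlib

/-! Stepwise `p`-adic expansion when Frobenius is surjective modulo `p`. -/

namespace Groth.Agent.H9Theta

universe u

variable (p : ℕ) {B : Type u} [CommRing B]

theorem exists_pow_add
    (hF : Function.Surjective (fun y : B ⧸ Ideal.span {(p : B)} => y ^ p)) (m : ℕ) (t : B) :
    ∃ s t' : B, t = s ^ (p ^ m) + (p : B) * t' := by
  have hsurj : ∀ m, Function.Surjective (fun y : B ⧸ Ideal.span {(p : B)} => y ^ (p ^ m)) := by
    intro m
    induction m with
    | zero => intro y; exact ⟨y, by simp⟩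
    | succ m ih =>
      intro y
      obtain ⟨z, hz⟩ := ih y
      obtain ⟨w, hw⟩ := hF z
      refine ⟨w, ?_⟩
      simp only at hz hw ⊢
      rw [pow_succ', pow_mul, hw, hz]
  obtain ⟨y, hy⟩ := hsurj m (Ideal.Quotient.mk _ t)
  obtain ⟨s, rfl⟩ := Ideal.Quotient.mk_surjective y
  simp only at hy
  rw [← map_pow, Ideal.Quotient.eq, Ideal.mem_span_singleton'] at hy
  obtain ⟨a, ha⟩ := hy
  exact ⟨s, -a, by linear_combination ha⟩

theorem expand (hF : Function.Surjective (fun y : B ⧸ Ideal.span {(p : B)} => y ^ p)) :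
    ∀ (m : ℕ) (b : B), ∃ (c : ℕ → B) (t : B),
      b = ∑ i ∈ Finset.range m, (p : B) ^ i * (c i) ^ (p ^ (m - i)) + (p : B) ^ m * t := by
  intro m
  induction m with
  | zero => intro b; exact ⟨fun _ => 0, b, by simp⟩
  | succ m ih =>
    intro b
    obtain ⟨s, b1, hb⟩ := exists_pow_add p hF (m + 1) b
    obtain ⟨c, t, hc⟩ := ih b1
    refine ⟨fun i => Nat.casesOn i s c, t, ?_⟩
    rw [Finset.sum_range_succ', hb, hc]
    have e : ∑ i ∈ Finset.range m, (p : B) ^ (i + 1) *
        (Nat.casesOn (motive := fun _ => B) (i + 1) s c) ^ p ^ (m + 1 - (i + 1)) =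
        (p : B) * ∑ i ∈ Finset.range m, (p : B) ^ i * c i ^ p ^ (m - i) := by
      rw [Finset.mul_sum]
      refine Finset.sum_congr rfl fun i _ => ?_
      rw [Nat.add_sub_add_right]
      show (p : B) ^ (i + 1) * c i ^ p ^ (m - i) = _
      ring
    rw [e]
    show _ = _ + (p : B) ^ 0 * s ^ p ^ (m + 1 - 0) + _
    rw [Nat.sub_zero]
    ring

end Groth.Agent.H9Theta

namespace Groth.Agent.H9Theta

universe u

open WittVector

/-- In characteristic `p` with surjective Frobenius, a Witt vector with vanishing zeroth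
coefficient is a multiple of `p`. -/
theorem exists_mul_p_of_coeff_zero (p : ℕ) [Fact p.Prime] {A : Type u} [CommRing A] [CharP A p]
    (hF : Function.Surjective (fun y : A => y ^ p)) (D : WittVector p A) (h0 : D.coeff 0 = 0) :
    ∃ z : WittVector p A, D = z * (p : WittVector p A) := by
  have h1 : verschiebung (D.shift 1) = D := by
    have := verschiebung_shift D 0 (by intro i hi; obtain rfl : i = 0 := by omega
                                       exact h0)
    rw [this]
    ext i
    simp [shift_coeff]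
  have hsurj : Function.Surjective (frobenius : WittVector p A → WittVector p A) := by
    rw [frobenius_eq_map_frobenius]
    apply map_surjective
    intro y
    obtain ⟨z, hz⟩ := hF y
    exact ⟨z, hz⟩
  obtain ⟨z, hz⟩ := hsurj (D.shift 1)
  refine ⟨z, ?_⟩
  rw [← verschiebung_frobenius, hz, h1]

theorem mem_ker_sup_span (p : ℕ) [Fact p.Prime]
    (n : ℕ) (hn : 0 < n) {B : Type u} [CommRing B] (hp : (p : B) ^ n = 0)
    (hF : Function.Surjective (fun y : B ⧸ (Ideal.span {(p : B)}) => y ^ p))
    (θ : TruncatedWittVector p n (B ⧸ (Ideal.span {(p : B)})) →+* B)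
    (hθ : ∀ x : WittVector p B, θ (WittVector.truncate n (WittVector.map (Ideal.Quotient.mk (Ideal.span {(p : B)})) x)) =
        ∑ i : Fin n, (p : B) ^ (i : ℕ) * (x.coeff i) ^ (p ^ (n - i)))
    (a : TruncatedWittVector p n (B ⧸ (Ideal.span {(p : B)}))) (ha : (TruncatedWittVector.coeff ⟨0, hn⟩ a) ^ (p ^ n) = 0) :
    a ∈ RingHom.ker θ ⊔ Ideal.span {(p : TruncatedWittVector p n (B ⧸ (Ideal.span {(p : B)})))} := by
  rcases subsingleton_or_nontrivial B with hB | hB
  · have : a = 0 := by
      apply TruncatedWittVector.ext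
      intro i
      exact Subsingleton.elim _ _
    rw [this]
    exact Submodule.zero_mem _
  · -- A is nontrivial of characteristic p
    have hne : Ideal.span {(p : B)} ≠ ⊤ := by
      intro h
      rw [Ideal.span_singleton_eq_top] at h
      have : IsUnit ((p : B) ^ n) := h.pow n
      rw [hp] at this
      exact not_isUnit_zero this
    haveI : Nontrivial (B ⧸ Ideal.span {(p : B)}) := Ideal.Quotient.nontrivial_iff.mpr hne
    haveI : CharP (B ⧸ Ideal.span {(p : B)}) p := by
      rw [CharP.charP_iff_prime_eq_zero (Fact.out : p.Prime)]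
      rw [← map_natCast (Ideal.Quotient.mk (Ideal.span {(p : B)})), Ideal.Quotient.eq_zero_iff_mem]
      exact Ideal.mem_span_singleton_self _
    obtain ⟨Xa, rfl⟩ := WittVector.truncate_surjective p n _ a
    rw [WittVector.coeff_truncate] at ha
    obtain ⟨b, hb⟩ := Ideal.Quotient.mk_surjective (Xa.coeff 0)
    have hb' : Xa.coeff ((⟨0, hn⟩ : Fin n) : ℕ) = Xa.coeff 0 := rfl
    rw [hb', ← hb, ← map_pow, Ideal.Quotient.eq_zero_iff_mem, Ideal.mem_span_singleton'] at ha
    obtain ⟨t1, ht1⟩ := ha
    obtain ⟨c, t, hc⟩ := expand p hF (n - 1) (-t1)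
    set X : WittVector p B := WittVector.mk p (fun i => Nat.casesOn i b c) with hX
    have hθX : θ (WittVector.truncate n (WittVector.map (Ideal.Quotient.mk (Ideal.span {(p : B)})) X)) = 0 := by
      rw [hθ, Fin.sum_univ_eq_sum_range (fun i => (p : B) ^ i * (X.coeff i) ^ (p ^ (n - i))) n]
      obtain ⟨m, rfl⟩ : ∃ m, n = m + 1 := ⟨n - 1, by omega⟩
      rw [Finset.sum_range_succ']
      have e : ∑ i ∈ Finset.range m, (p : B) ^ (i + 1) * (X.coeff (i + 1)) ^ p ^ (m + 1 - (i + 1)) =
          (p : B) * ∑ i ∈ Finset.range m, (p : B) ^ i * c i ^ p ^ (m - i) := by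
        rw [Finset.mul_sum]
        refine Finset.sum_congr rfl fun i _ => ?_
        rw [Nat.add_sub_add_right]
        show (p : B) ^ (i + 1) * c i ^ p ^ (m - i) = _
        ring
      rw [e]
      have hX0 : X.coeff 0 = b := rfl
      rw [hX0, Nat.sub_zero, pow_zero, one_mul, ← ht1]
      have hm : m + 1 - 1 = m := by omega
      rw [hm] at hc
      have hp' : (p : B) * (p : B) ^ m = 0 := by rw [← pow_succ']; exact hp
      linear_combination (-(p : B)) * hc - t * hp'
    have hD0 : (Xa - WittVector.map (Ideal.Quotient.mk (Ideal.span {(p : B)})) X).coeff 0 = 0 := by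
      have h1 : (Xa - WittVector.map (Ideal.Quotient.mk (Ideal.span {(p : B)})) X).coeff 0 =
          Xa.coeff 0 - (WittVector.map (Ideal.Quotient.mk (Ideal.span {(p : B)})) X).coeff 0 :=
        map_sub (WittVector.constantCoeff (p := p) (R := B ⧸ Ideal.span {(p : B)})) Xa _
      rw [h1, WittVector.map_coeff, ← hb]
      exact sub_self _
    obtain ⟨z, hz⟩ := exists_mul_p_of_coeff_zero p hF _ hD0
    have hsplit : WittVector.truncate n Xa =
        WittVector.truncate n (WittVector.map (Ideal.Quotient.mk (Ideal.span {(p : B)})) X) +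
          WittVector.truncate n z * (p : TruncatedWittVector p n (B ⧸ (Ideal.span {(p : B)}))) := by
      rw [← map_natCast (WittVector.truncate n), ← map_mul, ← hz, ← map_add]
      congr 1
      ring
    rw [hsplit]
    apply Submodule.add_mem_sup
    · exact hθX
    · exact Ideal.mul_mem_left _ _ (Ideal.mem_span_singleton_self _)

end Groth.Agent.H9Theta

namespace Groth.Agent.H9Theta

universe u

open WittVector

theorem frobEquiv_symm_pow_apply (p : ℕ) [Fact p.Prime] (k : Type u) [CommRing k] [CharP k p]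
    [PerfectRing k p] (i : ℕ) (b : k) :
    (((_root_.frobeniusEquiv k p).symm ^ i) (b ^ p ^ i)) = b := by
  induction i generalizing b with
  | zero => simp
  | succ i ih =>
    rw [pow_succ, RingAut.mul_apply]
    have : b ^ p ^ (i + 1) = (b ^ p ^ i) ^ p := by rw [← pow_mul, pow_succ]
    rw [this, frobeniusEquiv_symm_pow, ih]

theorem truncate_eq_sum (p : ℕ) [Fact p.Prime]
    (k : Type u) [Field k] [CharP k p] [PerfectRing k p] (n : ℕ) (x : WittVector p k)
    (y : Fin n → WittVector p k) (hy : ∀ i : Fin n, ((y i).coeff 0) ^ (p ^ n) = x.coeff i) :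
    WittVector.truncate n x =
      WittVector.truncate n (∑ i : Fin n, (p : WittVector p k) ^ (i : ℕ) * (y i) ^ (p ^ (n - i))) := by
  rcases Nat.eq_zero_or_pos n with h0 | hpos
  · subst h0
    apply TruncatedWittVector.ext
    intro i
    exact i.elim0
  · obtain ⟨m, hn⟩ : ∃ m, n = m + 1 := ⟨n - 1, by omega⟩
    let y' : ℕ → WittVector p k := fun i => if h : i < n then y ⟨i, h⟩ else 0
    have hsum : ∑ i : Fin n, (p : WittVector p k) ^ (i : ℕ) * (y i) ^ (p ^ (n - i)) =
        ∑ i ∈ Finset.Iic m, (p : WittVector p k) ^ i * (y' i) ^ (p ^ (n - i)) := by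
      have h1 : ∑ i : Fin n, (p : WittVector p k) ^ (i : ℕ) * (y i) ^ (p ^ (n - i)) =
          ∑ i : Fin n, (fun j : ℕ => (p : WittVector p k) ^ j * (y' j) ^ (p ^ (n - j))) (i : ℕ) := by
        refine Finset.sum_congr rfl fun i _ => ?_
        show _ = (p : WittVector p k) ^ (i : ℕ) * (y' i) ^ (p ^ (n - i))
        have : y' i = y i := by
          show (if h : (i : ℕ) < n then y ⟨i, h⟩ else 0) = y i
          rw [dif_pos i.2]
        rw [this]
      rw [h1]
      refine (Fin.sum_univ_eq_sum_range
        (fun j : ℕ => (p : WittVector p k) ^ j * (y' j) ^ (p ^ (n - j))) n).trans ?_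
      refine Finset.sum_congr ?_ fun _ _ => rfl
      ext i
      simp [hn, Nat.lt_succ_iff]
    rw [hsum]
    -- divisibility
    have h1 := dvd_sub_sum_teichmuller_iterateFrobeniusEquiv_coeff x m
    have h2 : ∀ i ∈ Finset.Iic m, (p : WittVector p k) ^ (m + 1) ∣
        (teichmuller p (((_root_.frobeniusEquiv k p).symm ^ i) (x.coeff i)) * (p : WittVector p k) ^ i) -
          (p : WittVector p k) ^ i * (y' i) ^ (p ^ (n - i)) := by
      intro i hi
      rw [Finset.mem_Iic] at hi
      have hin : i < n := by omega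
      have hy' : y' i = y ⟨i, hin⟩ := by
        show (if h : i < n then y ⟨i, h⟩ else 0) = _
        rw [dif_pos hin]
      have hyi := hy ⟨i, hin⟩
      rw [hy']
      set Y := y ⟨i, hin⟩
      have hdiv : (p : WittVector p k) ∣ Y - teichmuller p (Y.coeff 0) := by
        rw [← Ideal.mem_span_singleton, mem_span_p_iff_coeff_zero_eq_zero]
        have : (Y - teichmuller p (Y.coeff 0)).coeff 0 =
            Y.coeff 0 - (teichmuller p (Y.coeff 0)).coeff 0 :=
          map_sub (WittVector.constantCoeff (p := p) (R := k)) Y _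
        rw [this, teichmuller_coeff_zero, sub_self]
      have hpow := dvd_sub_pow_of_dvd_sub hdiv (n - i)
      have hT : teichmuller p (((_root_.frobeniusEquiv k p).symm ^ i) (x.coeff i)) =
          (teichmuller p (Y.coeff 0)) ^ p ^ (n - i) := by
        rw [← map_pow]
        congr 1
        have : x.coeff i = ((Y.coeff 0) ^ p ^ (n - i)) ^ p ^ i := by
          rw [← pow_mul, ← pow_add, Nat.sub_add_cancel hin.le]
          exact hyi.symm
        rw [this, frobEquiv_symm_pow_apply]
      rw [hT]
      obtain ⟨w, hw⟩ := hpow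
      have : (teichmuller p (Y.coeff 0)) ^ p ^ (n - i) * (p : WittVector p k) ^ i -
          (p : WittVector p k) ^ i * Y ^ p ^ (n - i) =
          (p : WittVector p k) ^ (m + 1) * ((p : WittVector p k) ^ (i + (n - i + 1) - (m + 1)) * (-w)) := by
        have e : (p : WittVector p k) ^ (m + 1) * (p : WittVector p k) ^ (i + (n - i + 1) - (m + 1)) =
            (p : WittVector p k) ^ i * (p : WittVector p k) ^ (n - i + 1) := by
          rw [← pow_add, ← pow_add]
          congr 1
          omega
        have hw' : Y ^ p ^ (n - i) - teichmuller p (Y.coeff 0) ^ p ^ (n - i) =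
            (p : WittVector p k) ^ (n - i + 1) * w := by
          rw [hw]
        linear_combination (-(p : WittVector p k) ^ i) * hw' + w * e
      rw [this]
      exact dvd_mul_right _ _
    have h3 : (p : WittVector p k) ^ (m + 1) ∣
        x - ∑ i ∈ Finset.Iic m, (p : WittVector p k) ^ i * (y' i) ^ (p ^ (n - i)) := by
      have := dvd_add h1 (Finset.dvd_sum h2)
      have e3 : x - ∑ i ∈ Finset.Iic m, (p : WittVector p k) ^ i * (y' i) ^ (p ^ (n - i)) =
          (x - ∑ i ∈ Finset.Iic m, (teichmuller p
            (((_root_.frobeniusEquiv k p).symm ^ i) (x.coeff i)) * (p : WittVector p k) ^ i)) +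
          ∑ i ∈ Finset.Iic m, ((teichmuller p
            (((_root_.frobeniusEquiv k p).symm ^ i) (x.coeff i)) * (p : WittVector p k) ^ i) -
              (p : WittVector p k) ^ i * (y' i) ^ (p ^ (n - i))) := by
        rw [Finset.sum_sub_distrib]
        ring
      rw [e3]
      exact this
    -- conclude
    rw [← sub_eq_zero, ← map_sub]
    have h4 : x - ∑ i ∈ Finset.Iic m, (p : WittVector p k) ^ i * (y' i) ^ (p ^ (n - i)) ∈
        RingHom.ker (WittVector.truncate (p := p) (R := k) n) := by
      rw [WittVector.mem_ker_truncate]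
      rw [← Ideal.mem_span_singleton, mem_span_p_pow_iff_le_coeff_eq_zero] at h3
      intro i hi
      exact h3 i (by omega)
    exact h4

end Groth.Agent.H9Theta
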