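import Mathlib

/-! The tilde functor on modules over an affine scheme is exact. -/

namespace Groth.Agent.H9TildeExact

open CategoryTheory CategoryTheory.Limits AlgebraicGeometry
universe u

theorem loc_inj {R : CommRingCat.{u}} {M N : ModuleCat.{u} R} (f : M ⟶ N) (hf : Function.Injective f.hom)
    (y : PrimeSpectrum.Top R) :
    Function.Injective (StructureSheaf.Localizations.comapFun (σ := RingHom.id R) f.hom y) := by
  intro a b hab
  induction a using LocalizedModule.induction_on with | h a s =>
  induction b using LocalizedModule.induction_on with | h b t =>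
  rw [StructureSheaf.Localizations.comapFun_mk, StructureSheaf.Localizations.comapFun_mk] at hab
  rw [LocalizedModule.mk_eq] at hab ⊢
  obtain ⟨u, hu⟩ := hab
  refine ⟨u, hf ?_⟩
  have e1 : f.hom (u • t • a) = (u : R) • (t : R) • f.hom a := by
    rw [Submonoid.smul_def, Submonoid.smul_def, map_smul, map_smul]
  have e2 : f.hom (u • s • b) = (u : R) • (s : R) • f.hom b := by
    rw [Submonoid.smul_def, Submonoid.smul_def, map_smul, map_smul]
  exact e1.trans (hu.trans e2.symm)

theorem comap_inj {R : CommRingCat.{u}} {M N : ModuleCat.{u} R} (f : M ⟶ N) (hf : Function.Injective f.hom)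
    (U : TopologicalSpace.Opens (PrimeSpectrum.Top R)) :
    Function.Injective (StructureSheaf.comapₗ f.hom U U (le_refl _)) := by
  intro s t hst
  apply Subtype.ext
  funext x
  have h1 := congrArg (fun z => z.1 x) hst
  exact loc_inj f hf x.1 h1

set_option backward.isDefEq.respectTransparency.types false in
theorem tilde_mono {R : CommRingCat.{u}} {M N : ModuleCat.{u} R} (f : M ⟶ N) [Mono f] :
    Mono (tilde.map f) := by
  have hf : Function.Injective f.hom := (ModuleCat.mono_iff_injective f).mp inferInstance
  apply (modulesSpecToSheaf (R := R)).mono_of_mono_map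
  unfold tilde.map
  rw [Functor.FullyFaithful.map_preimage]
  apply Sheaf.Hom.mono_of_presheaf_mono (h := ?_)
  dsimp only
  apply +allowSynthFailures mono_comp
  apply +allowSynthFailures mono_comp
  apply +allowSynthFailures NatTrans.mono_of_mono_app
  intro U
  exact (ModuleCat.mono_iff_injective _).mpr (comap_inj f hf (Opposite.unop U))

theorem tilde_exact (R : CommRingCat.{u}) :
    PreservesFiniteLimits (tilde.functor R) ∧ PreservesFiniteColimits (tilde.functor R) := by
  have hc : PreservesFiniteColimits (tilde.functor R) := by
    have : PreservesColimitsOfSize.{0, 0} (tilde.functor R) :=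
      (tilde.adjunction (R := R)).leftAdjoint_preservesColimits
    exact PreservesColimitsOfSize.preservesFiniteColimits _
  refine ⟨?_, hc⟩
  rw [Functor.preservesFiniteLimits_iff_forall_exact_map_and_mono]
  intro S hS
  have h1 := (Functor.preservesFiniteColimits_iff_forall_exact_map_and_epi (tilde.functor R)).mp hc S hS
  refine ⟨h1.1, ?_⟩
  haveI := hS.mono_f
  exact tilde_mono S.f

end Groth.Agent.H9TildeExact
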