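import Mathlib
import Groth.Agent.Lib.helper9.H9_TorShift
import Groth.Agent.Lib.helper9.H9_GlDim

/-! Dimension shifting for `Tor` in the first variable, vanishing of `Tor` above the
projective dimension of the first variable, and Serre's criterion `pd k ≤ n ⇒ gl.dim ≤ n`. -/

namespace Groth.Agent.H9TorLeft

open CategoryTheory CategoryTheory.Limits MonoidalCategory

universe u

variable (A : Type u) [CommRing A]

theorem exists_free_pres (M : Type u) [AddCommGroup M] [Module A M] :
    ∃ (F' : Type u) (_ : AddCommGroup F') (_ : Module A F') (_ : Module.Free A F')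
      (π : F' →ₗ[A] M), Function.Surjective π :=
  ⟨M →₀ A, inferInstance, inferInstance, inferInstance,
    Finsupp.linearCombination A (id : M → M), Finsupp.linearCombination_id_surjective A M⟩

theorem tor_shift_left : ∀ (n : ℕ) (M : Type u) [AddCommGroup M] [Module A M]
    (N : Type u) [AddCommGroup N] [Module A N]
    {K F : Type u} [AddCommGroup K] [AddCommGroup F] [Module A K] [Module A F]
    [Module.Projective A F]
    (j : K →ₗ[A] F) (ρ : F →ₗ[A] N) (_ : Function.Injective j) (_ : Function.Surjective ρ)
    (_ : Function.Exact j ρ),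
    IsZero (((Tor (ModuleCat.{u} A) (n + 2)).obj (ModuleCat.of A N)).obj (ModuleCat.of A M)) ↔
    IsZero (((Tor (ModuleCat.{u} A) (n + 1)).obj (ModuleCat.of A K)).obj (ModuleCat.of A M)) := by
  intro n
  induction n with
  | zero =>
    intro M _ _ N _ _ K F _ _ _ _ _ j ρ hj hρ hjρ
    obtain ⟨F', _, _, _, π, hπ⟩ := exists_free_pres A M
    obtain ⟨w, hmono, hepi, hex⟩ := H9TorShift.ses_of_surjective A π hπ
    haveI : Projective (ModuleCat.of A F') :=
      (IsProjective.iff_projective (R := A) (P := F')).mp inferInstance
    have h1 := H9TorShift.leftDerived_shift_iff ((tensoringLeft (ModuleCat.{u} A)).obj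
      (ModuleCat.of A N)) _ _ w hex 0
    refine h1.trans ?_
    have h2 := H9TorBal.tor1_isZero_iff_rTensor_inj A N (LinearMap.ker π) j ρ hj hρ hjρ
    refine h2.trans ?_
    have h3 := H9TorShift.tor1_isZero_iff_lTensor_inj A K M (LinearMap.ker π).subtype π
      (Submodule.injective_subtype _) hπ (LinearMap.exact_subtype_ker_map π)
    refine Iff.trans ?_ h3.symm
    have e1 : (LinearMap.rTensor F' j).comp (LinearMap.lTensor K (LinearMap.ker π).subtype) =
        (LinearMap.lTensor F (LinearMap.ker π).subtype).comp
          (LinearMap.rTensor (LinearMap.ker π) j) := by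
      rw [LinearMap.rTensor_comp_lTensor, LinearMap.lTensor_comp_rTensor]
    have i1 : Function.Injective (LinearMap.rTensor F' j) :=
      Module.Flat.rTensor_preserves_injective_linearMap j hj
    have i2 : Function.Injective (LinearMap.lTensor F (LinearMap.ker π).subtype) :=
      Module.Flat.lTensor_preserves_injective_linearMap _ (Submodule.injective_subtype _)
    constructor
    · intro h
      have h4 : Function.Injective ((LinearMap.rTensor F' j).comp
          (LinearMap.lTensor K (LinearMap.ker π).subtype)) := by
        rw [e1, LinearMap.coe_comp]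
        exact i2.comp h
      rw [LinearMap.coe_comp] at h4
      exact Function.Injective.of_comp h4
    · intro h
      have h4 : Function.Injective ((LinearMap.lTensor F (LinearMap.ker π).subtype).comp
          (LinearMap.rTensor (LinearMap.ker π) j)) := by
        rw [← e1, LinearMap.coe_comp]
        exact i1.comp h
      rw [LinearMap.coe_comp] at h4
      exact Function.Injective.of_comp h4
  | succ n ih =>
    intro M _ _ N _ _ K F _ _ _ _ _ j ρ hj hρ hjρ
    obtain ⟨F', _, _, _, π, hπ⟩ := exists_free_pres A M
    obtain ⟨w, hmono, hepi, hex⟩ := H9TorShift.ses_of_surjective A π hπ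
    haveI : Projective (ModuleCat.of A F') :=
      (IsProjective.iff_projective (R := A) (P := F')).mp inferInstance
    have h1 := H9TorShift.leftDerived_shift_iff ((tensoringLeft (ModuleCat.{u} A)).obj
      (ModuleCat.of A N)) _ _ w hex (n + 1)
    have h2 := H9TorShift.leftDerived_shift_iff ((tensoringLeft (ModuleCat.{u} A)).obj
      (ModuleCat.of A K)) _ _ w hex n
    refine h1.trans (Iff.trans ?_ h2.symm)
    exact ih (LinearMap.ker π) N j ρ hj hρ hjρ

/-- `Tor_i(N, M) = 0` for `i` above the projective dimension of the first variable `N`. -/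
theorem tor_pd_left : ∀ (q : ℕ) (N : Type u) [AddCommGroup N] [Module A N]
    (_ : HasProjectiveDimensionLT (ModuleCat.of A N) (q + 1))
    (M : Type u) [AddCommGroup M] [Module A M] (i : ℕ) (_ : q < i),
    IsZero (((Tor (ModuleCat.{u} A) i).obj (ModuleCat.of A N)).obj (ModuleCat.of A M)) := by
  intro q
  induction q with
  | zero =>
    intro N _ _ hN M _ _ i hi
    haveI : Projective (ModuleCat.of A N) := projective_iff_hasProjectiveDimensionLT_one.mpr hN
    haveI : Module.Projective A N :=
      (IsProjective.iff_projective (R := A) (P := N)).mpr inferInstance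
    haveI : Module.Flat A (ModuleCat.of A N) := (inferInstance : Module.Flat A N)
    exact H9TorFlat.tor_left_flat (ModuleCat.of A N) (ModuleCat.of A M) i hi
  | succ q ih =>
    intro N _ _ hN M _ _ i hi
    obtain ⟨F, _, _, _, ρ, hρ⟩ := exists_free_pres A N
    obtain ⟨w, hmono, hepi, hex⟩ := H9TorShift.ses_of_surjective A ρ hρ
    haveI : Projective (ModuleCat.of A F) :=
      (IsProjective.iff_projective (R := A) (P := F)).mp inferInstance
    have hS : (ShortComplex.mk (ModuleCat.ofHom (LinearMap.ker ρ).subtype) (ModuleCat.ofHom ρ)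
        w).ShortExact := { exact := hex, mono_f := hmono, epi_g := hepi }
    have hF : HasProjectiveDimensionLT (ModuleCat.of A F) (q + 1) :=
      hasProjectiveDimensionLT_of_ge _ 1 _ (by omega)
    have hK : HasProjectiveDimensionLT (ModuleCat.of A (LinearMap.ker ρ)) (q + 1) :=
      hS.hasProjectiveDimensionLT_X₁ (q + 1) hF hN
    obtain ⟨n, rfl⟩ : ∃ n, i = n + 2 := ⟨i - 2, by omega⟩
    exact (tor_shift_left A n M N (LinearMap.ker ρ).subtype ρ (Submodule.injective_subtype _) hρ
      (LinearMap.exact_subtype_ker_map ρ)).mpr (ih (LinearMap.ker ρ) hK M (n + 1) (by omega))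

/-- Serre: over a Noetherian local ring, `pd k ≤ n` forces `pd M ≤ n` for every module. -/
theorem pd_of_pd_residue [IsLocalRing A] [IsNoetherianRing A] (n : ℕ)
    (hk : HasProjectiveDimensionLT (ModuleCat.of A (IsLocalRing.ResidueField A)) (n + 1))
    (M : ModuleCat.{u} A) : HasProjectiveDimensionLT M (n + 1) := by
  apply H9GlDim.pd_of_pd_cyclic A n _ M
  intro I
  exact H9TorShift.pd_of_tor_residue A n (A ⧸ I)
    (tor_pd_left A n (IsLocalRing.ResidueField A) hk (A ⧸ I) (n + 1) (Nat.lt_succ_self n))

end Groth.Agent.H9TorLeft
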