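import Mathlib

/-!
# Base change along `R → R'` inducing isomorphisms `R/I^n ≅ R'/I^n R'` does not change
`I`-power-torsion modules
-/

namespace Groth.Agent.H9.TorsionBC

universe u

open TensorProduct

variable {R R' : Type u} [CommRing R] [CommRing R'] [Algebra R R'] (I : Ideal R)
variable {M : Type u} [AddCommGroup M] [Module R M]

/-- the extended ideals -/
abbrev J (n : ℕ) : Ideal R' := Ideal.map (algebraMap R R') (I ^ n)

theorem J_anti {a b : ℕ} (hab : a ≤ b) : J (R' := R') I b ≤ J I a :=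
  Ideal.map_mono (Ideal.pow_le_pow_right hab)

variable (hsurj : ∀ n : ℕ, 0 < n → ∀ x : R', ∃ r : R, x - algebraMap R R' r ∈ J (R' := R') I n)
variable (hinj : ∀ n : ℕ, 0 < n → ∀ r : R, algebraMap R R' r ∈ J (R' := R') I n → r ∈ I ^ n)
variable (hM : ∀ y : M, ∃ n : ℕ, ∀ a ∈ I ^ n, a • y = 0)

/-- the (positive) exponent killing an element -/
noncomputable def N (y : M) : ℕ := (hM y).choose + 1

theorem N_pos (y : M) : 0 < N I hM y := Nat.succ_pos _

theorem N_spec (y : M) : ∀ a ∈ I ^ N I hM y, a • y = 0 := fun a ha =>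
  (hM y).choose_spec a (Ideal.pow_le_pow_right (Nat.le_succ _) ha)

/-- a representative -/
noncomputable def rep (x : R') (n : ℕ) (hn : 0 < n) : R := (hsurj n hn x).choose

theorem rep_spec (x : R') (n : ℕ) (hn : 0 < n) :
    x - algebraMap R R' (rep I hsurj x n hn) ∈ J (R' := R') I n := (hsurj n hn x).choose_spec

/-- the action -/
noncomputable def act (x : R') (y : M) : M := rep I hsurj x (N I hM y) (N_pos I hM y) • y

include hinj in
theorem act_eq (x : R') (y : M) (n : ℕ) (hn : 0 < n) (hy : ∀ a ∈ I ^ n, a • y = 0) (r : R)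
    (hr : x - algebraMap R R' r ∈ J (R' := R') I n) : act I hsurj hM x y = r • y := by
  unfold act
  set n₀ := N I hM y with hn₀
  set r₀ := rep I hsurj x n₀ (N_pos I hM y) with hr₀
  have h0 : x - algebraMap R R' r₀ ∈ J (R' := R') I n₀ := rep_spec I hsurj x n₀ (N_pos I hM y)
  rw [← sub_eq_zero, ← sub_smul]
  have hdiff : ∀ k : ℕ, k ≤ n → k ≤ n₀ → algebraMap R R' (r₀ - r) ∈ J (R' := R') I k := by
    intro k hk hk0
    have : algebraMap R R' (r₀ - r) = (x - algebraMap R R' r) - (x - algebraMap R R' r₀) := by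
      rw [map_sub]; ring
    rw [this]
    exact (J I k).sub_mem (J_anti I hk hr) (J_anti I hk0 h0)
  rcases le_total n n₀ with h | h
  · exact hy _ (hinj n hn _ (hdiff n le_rfl h))
  · exact N_spec I hM y _ (hinj n₀ (N_pos I hM y) _ (hdiff n₀ h le_rfl))

/-- the action as a bilinear map -/
noncomputable def actₗ : R' →ₗ[R] M →ₗ[R] M :=
  LinearMap.mk₂ R (act I hsurj hM)
    (by
      intro x₁ x₂ y
      rw [act_eq I hsurj hinj hM (x₁ + x₂) y _ (N_pos I hM y) (N_spec I hM y)
        (rep I hsurj x₁ _ (N_pos I hM y) + rep I hsurj x₂ _ (N_pos I hM y)) (by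
          have h1 := rep_spec I hsurj x₁ _ (N_pos I hM y)
          have h2 := rep_spec I hsurj x₂ _ (N_pos I hM y)
          have := (J (R' := R') I (N I hM y)).add_mem h1 h2
          rw [map_add]
          convert this using 1
          ring), add_smul]
      rfl)
    (by
      intro c x y
      rw [act_eq I hsurj hinj hM (c • x) y _ (N_pos I hM y) (N_spec I hM y)
        (c * rep I hsurj x _ (N_pos I hM y)) (by
          have h1 := rep_spec I hsurj x _ (N_pos I hM y)
          have := (J (R' := R') I (N I hM y)).mul_mem_left (algebraMap R R' c) h1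
          rw [map_mul, Algebra.smul_def]
          convert this using 1
          ring), mul_smul]
      rfl)
    (by
      intro x y₁ y₂
      set n := max (N I hM y₁) (N I hM y₂) with hn
      have hpos : 0 < n := lt_of_lt_of_le (N_pos I hM y₁) (le_max_left _ _)
      have h1 : ∀ a ∈ I ^ n, a • y₁ = 0 := fun a ha =>
        N_spec I hM y₁ a (Ideal.pow_le_pow_right (le_max_left _ _) ha)
      have h2 : ∀ a ∈ I ^ n, a • y₂ = 0 := fun a ha =>
        N_spec I hM y₂ a (Ideal.pow_le_pow_right (le_max_right _ _) ha)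
      have h3 : ∀ a ∈ I ^ n, a • (y₁ + y₂) = 0 := fun a ha => by
        rw [smul_add, h1 a ha, h2 a ha, add_zero]
      rw [act_eq I hsurj hinj hM x y₁ n hpos h1 _ (rep_spec I hsurj x n hpos),
        act_eq I hsurj hinj hM x y₂ n hpos h2 _ (rep_spec I hsurj x n hpos),
        act_eq I hsurj hinj hM x (y₁ + y₂) n hpos h3 _ (rep_spec I hsurj x n hpos), smul_add])
    (by
      intro c x y
      have h1 : ∀ a ∈ I ^ N I hM y, a • (c • y) = 0 := fun a ha => by
        rw [smul_comm, N_spec I hM y a ha, smul_zero]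
      rw [act_eq I hsurj hinj hM x (c • y) _ (N_pos I hM y) h1 _
        (rep_spec I hsurj x _ (N_pos I hM y)), smul_comm]
      rfl)

include hinj in
theorem actₗ_one (y : M) : actₗ I hsurj hinj hM 1 y = y := by
  show act I hsurj hM 1 y = y
  rw [act_eq I hsurj hinj hM 1 y _ (N_pos I hM y) (N_spec I hM y) 1
    (by rw [map_one, sub_self]; exact zero_mem _), one_smul]

include hsurj hinj hM in
theorem mk_one_injective : Function.Injective (fun m : M => (1 : R') ⊗ₜ[R] m) := by
  have h : Function.LeftInverse (TensorProduct.lift (actₗ I hsurj hinj hM))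
      (fun m : M => (1 : R') ⊗ₜ[R] m) := by
    intro y
    show TensorProduct.lift (actₗ I hsurj hinj hM) ((1 : R') ⊗ₜ[R] y) = y
    rw [TensorProduct.lift.tmul, actₗ_one]
  exact h.injective

include hsurj hM in
theorem tmul_eq (x : R') (y : M) :
    ∃ z : M, x ⊗ₜ[R] y = (1 : R') ⊗ₜ[R] z := by
  set n := N I hM y with hn
  set r := rep I hsurj x n (N_pos I hM y) with hr
  have hz : x - algebraMap R R' r ∈ J (R' := R') I n := rep_spec I hsurj x n (N_pos I hM y)
  have hkill : ∀ z ∈ J (R' := R') I n, z ⊗ₜ[R] y = 0 := by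
    intro z hz
    refine Submodule.span_induction (p := fun z _ => z ⊗ₜ[R] y = 0) ?_ ?_ ?_ ?_ hz
    · rintro _ ⟨a, ha, rfl⟩
      rw [Algebra.algebraMap_eq_smul_one, TensorProduct.smul_tmul, N_spec I hM y a ha,
        TensorProduct.tmul_zero]
    · rw [TensorProduct.zero_tmul]
    · intro z₁ z₂ _ _ h1 h2
      rw [TensorProduct.add_tmul, h1, h2, add_zero]
    · intro c z _ h1
      rw [← TensorProduct.smul_tmul', h1, smul_zero]
  have h1 := hkill _ hz
  rw [TensorProduct.sub_tmul, sub_eq_zero] at h1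
  refine ⟨r • y, ?_⟩
  rw [h1, Algebra.algebraMap_eq_smul_one, TensorProduct.smul_tmul]

include hsurj hM in
theorem mk_one_surjective : Function.Surjective (fun m : M => (1 : R') ⊗ₜ[R] m) := by
  intro t
  induction t using TensorProduct.induction_on with
  | zero => exact ⟨0, TensorProduct.tmul_zero _ _⟩
  | tmul x y =>
    obtain ⟨z, hz⟩ := tmul_eq I hsurj hM x y
    exact ⟨z, hz.symm⟩
  | add t₁ t₂ h1 h2 =>
    obtain ⟨y₁, rfl⟩ := h1
    obtain ⟨y₂, rfl⟩ := h2
    exact ⟨y₁ + y₂, TensorProduct.tmul_add _ _ _⟩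

end Groth.Agent.H9.TorsionBC
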