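import Groth.Prelude.Def_Exal
import Mathlib

/-! helper9: the extension `B ⊕_f L` defined by a symmetric Hochschild 2-cocycle `f`. -/

namespace Groth.Agent.H9_TwistExt

universe u v

/-- A symmetric `A`-bilinear Hochschild 2-cocycle. -/
structure Coc (A : Type u) (B L : Type v) [CommRing A] [CommRing B] [Algebra A B]
    [AddCommGroup L] [Module B L] [Module A L] [IsScalarTower A B L] where
  f : B →ₗ[A] B →ₗ[A] L
  symm : ∀ x y : B, f x y = f y x
  coc : ∀ x y z : B, f (x * y) z + z • f x y = x • f y z + f x (y * z)

variable {A : Type u} {B L : Type v} [CommRing A] [CommRing B] [Algebra A B]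
  [AddCommGroup L] [Module B L] [Module A L] [IsScalarTower A B L]

/-- carrier -/
@[nolint unusedArguments]
def Tw (_c : Coc A B L) : Type v := B × L

variable (c : Coc A B L)

instance : AddCommGroup (Tw c) := inferInstanceAs (AddCommGroup (B × L))

instance : Module A (Tw c) := inferInstanceAs (Module A (B × L))

lemma f_one_left (b : B) : c.f 1 b = b • c.f 1 1 := by
  have h := c.coc 1 1 b
  rw [mul_one, one_mul, one_smul] at h
  exact (add_left_cancel h).symm

instance : Mul (Tw c) := ⟨fun x y => ((x.1 * y.1, x.1 • y.2 + y.1 • x.2 + c.f x.1 y.1) : B × L)⟩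

instance : One (Tw c) := ⟨((1, - c.f 1 1) : B × L)⟩

lemma mul_def (x y : Tw c) :
    x * y = ((x.1 * y.1, x.1 • y.2 + y.1 • x.2 + c.f x.1 y.1) : B × L) := rfl

lemma one_def : (1 : Tw c) = ((1, - c.f 1 1) : B × L) := rfl

lemma ext' {x y : Tw c} (h1 : x.1 = y.1) (h2 : x.2 = y.2) : x = y := Prod.ext h1 h2

lemma fst_mul (x y : Tw c) : (x * y).1 = x.1 * y.1 := rfl
lemma snd_mul (x y : Tw c) : (x * y).2 = x.1 • y.2 + y.1 • x.2 + c.f x.1 y.1 := rfl
lemma fst_add (x y : Tw c) : (x + y).1 = x.1 + y.1 := rfl
lemma snd_add (x y : Tw c) : (x + y).2 = x.2 + y.2 := rfl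
lemma fst_zero : (0 : Tw c).1 = 0 := rfl
lemma snd_zero : (0 : Tw c).2 = 0 := rfl
lemma fst_one : (1 : Tw c).1 = 1 := rfl
lemma snd_one : (1 : Tw c).2 = - c.f 1 1 := rfl
lemma fst_smul (a : A) (x : Tw c) : (a • x).1 = a • x.1 := rfl
lemma snd_smul (a : A) (x : Tw c) : (a • x).2 = a • x.2 := rfl

lemma mul_comm' (x y : Tw c) : x * y = y * x := by
  apply ext'
  · rw [fst_mul, fst_mul, mul_comm]
  · rw [snd_mul, snd_mul, c.symm x.1 y.1, add_comm (x.1 • y.2)]

lemma one_mul' (x : Tw c) : 1 * x = x := by
  apply ext'
  · rw [fst_mul, fst_one, one_mul]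
  · rw [snd_mul, fst_one, snd_one, one_smul, f_one_left c x.1, smul_neg]
    abel

noncomputable instance : CommRing (Tw c) :=
  { (inferInstance : AddCommGroup (Tw c)) with
    mul := (· * ·)
    one := 1
    left_distrib := fun x y z => by
      apply ext'
      · rw [fst_mul, fst_add, fst_add, fst_mul, fst_mul, mul_add]
      · rw [snd_mul, snd_add, snd_add, fst_add, snd_mul, snd_mul, smul_add, add_smul, map_add]
        abel
    right_distrib := fun x y z => by
      apply ext'
      · rw [fst_mul, fst_add, fst_add, fst_mul, fst_mul, add_mul]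
      · rw [snd_mul, snd_add, snd_add, fst_add, snd_mul, snd_mul, smul_add, add_smul, map_add,
          LinearMap.add_apply]
        abel
    zero_mul := fun x => by
      apply ext'
      · rw [fst_mul, fst_zero, zero_mul]
      · rw [snd_mul, fst_zero, snd_zero, zero_smul, smul_zero, map_zero, LinearMap.zero_apply,
          add_zero, add_zero]
    mul_zero := fun x => by
      apply ext'
      · rw [fst_mul, fst_zero, mul_zero]
      · rw [snd_mul, fst_zero, snd_zero, zero_smul, smul_zero, map_zero, add_zero, add_zero]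
    mul_assoc := fun x y z => by
      apply ext'
      · rw [fst_mul, fst_mul, fst_mul, fst_mul, mul_assoc]
      · rw [snd_mul, snd_mul, snd_mul, snd_mul, fst_mul, fst_mul]
        have h := c.coc x.1 y.1 z.1
        simp only [smul_add, smul_smul]
        rw [mul_comm z.1 x.1, mul_comm z.1 y.1]
        calc (x.1 * y.1) • z.2 + ((x.1 * z.1) • y.2 + (y.1 * z.1) • x.2 + z.1 • c.f x.1 y.1) +
              c.f (x.1 * y.1) z.1
            = (x.1 * y.1) • z.2 + (x.1 * z.1) • y.2 + (y.1 * z.1) • x.2 +
              (c.f (x.1 * y.1) z.1 + z.1 • c.f x.1 y.1) := by abel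
          _ = (x.1 * y.1) • z.2 + (x.1 * z.1) • y.2 + (y.1 * z.1) • x.2 +
              (x.1 • c.f y.1 z.1 + c.f x.1 (y.1 * z.1)) := by rw [h]
          _ = _ := by abel
    one_mul := one_mul' c
    mul_one := fun x => by rw [mul_comm', one_mul']
    mul_comm := mul_comm' c }

noncomputable instance : Algebra A (Tw c) :=
  Algebra.ofModule
    (fun a x y => by
      apply ext'
      · rw [fst_mul, fst_smul, fst_smul, fst_mul, smul_mul_assoc]
      · rw [snd_mul, fst_smul, snd_smul, snd_smul, snd_mul, map_smul, LinearMap.smul_apply,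
          smul_add, smul_add, smul_assoc, smul_comm a y.1 x.2])
    (fun a x y => by
      apply ext'
      · rw [fst_mul, fst_smul, fst_smul, fst_mul, mul_smul_comm]
      · rw [snd_mul, fst_smul, snd_smul, snd_smul, snd_mul, map_smul,
          smul_add, smul_add, smul_assoc, smul_comm a x.1 y.2])

lemma algebraMap_fst (a : A) : (algebraMap A (Tw c) a).1 = algebraMap A B a := by
  rw [Algebra.algebraMap_eq_smul_one, fst_smul, fst_one, ← Algebra.algebraMap_eq_smul_one]

/-- The extension. -/
noncomputable def ext : Exal.Ext A B L where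
  E := Tw c
  proj :=
    { toFun := fun x => x.1
      map_one' := rfl
      map_mul' := fun _ _ => rfl
      map_zero' := rfl
      map_add' := fun _ _ => rfl
      commutes' := algebraMap_fst c }
  incl :=
    { toFun := fun z => ((0, z) : B × L)
      map_zero' := rfl
      map_add' := fun z z' => by
        apply ext'
        · show (0 : B) = 0 + 0
          rw [add_zero]
        · rfl }
  isExtension :=
    { proj_surjective := fun b => ⟨((b, 0) : B × L), rfl⟩
      incl_injective := fun z z' h => congrArg Prod.snd h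
      exact := fun x => by
        constructor
        · intro hx
          exact ⟨x.2, ext' c hx.symm rfl⟩
        · rintro ⟨z, rfl⟩
          rfl
      mul_incl := fun x z => by
        apply ext'
        · show x.1 * 0 = 0
          rw [mul_zero]
        · show x.1 • z + (0 : B) • x.2 + c.f x.1 0 = x.1 • z
          rw [zero_smul, map_zero, add_zero, add_zero] }

end Groth.Agent.H9_TwistExt
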