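import Mathlib
import Groth.Prelude.Def_CAlgX
import Groth.Agent.S2057
import Groth.Agent.Lib.helper9.H9_MilnorFlat

/-! helper9: flatness descends along universally injective ring maps. -/

set_option autoImplicit false
universe u
open TensorProduct

namespace Groth.Agent.H9_UIFlatDescent

variable {R : Type u} [CommRing R]

/-- Fintype-indexed version of the solvability of linear systems for a UI map. -/
theorem solve_fintype {M₁ M₂ : Type u} [AddCommGroup M₁] [Module R M₁] [AddCommGroup M₂]
    [Module R M₂] (f : M₁ →ₗ[R] M₂) (hf : Function.Injective f)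
    (hUI : CAlgX.UniversallyInjective R f)
    {ι : Type*} {κ : Type*} [Fintype ι] [Fintype κ] (x : ι → M₁) (y : κ → M₂) (a : ι → κ → R)
    (h : ∀ i, f (x i) = ∑ j, a i j • y j) : ∃ z : κ → M₁, ∀ i, x i = ∑ j, a i j • z j := by
  classical
  let eι := Fintype.equivFin ι
  let eκ := Fintype.equivFin κ
  obtain ⟨z, hz⟩ := (Groth.Agent.S2057.result f hf).1 hUI _ _ (x ∘ eι.symm) (y ∘ eκ.symm)
    (fun i j => a (eι.symm i) (eκ.symm j)) (by
      intro i
      rw [Function.comp_apply, h]
      exact (Equiv.sum_comp eκ.symm (fun j => a (eι.symm i) j • y j)).symm)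
  refine ⟨z ∘ eκ, fun i => ?_⟩
  have h1 := hz (eι i)
  simp only [Function.comp_apply, Equiv.symm_apply_apply] at h1
  rw [h1]
  have h2 := Equiv.sum_comp eκ (fun j => a i (eκ.symm j) • z j)
  simp only [Equiv.symm_apply_apply] at h2
  exact h2.symm

variable {S : Type u} [CommRing S] [Algebra R S]

/-- the restriction of the structure map to `𝔞 → 𝔞S`. -/
def rho (𝔞 : Ideal R) : 𝔞 →ₗ[R] (Ideal.map (algebraMap R S) 𝔞) where
  toFun x := ⟨algebraMap R S x.1, Ideal.mem_map_of_mem _ x.2⟩
  map_add' x y := by ext; simp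
  map_smul' c x := by
    ext
    show algebraMap R S (c • x.1) = c • algebraMap R S x.1
    rw [smul_eq_mul, map_mul, Algebra.smul_def]

theorem rho_UI (hinj : Function.Injective (algebraMap R S))
    (hUI : CAlgX.UniversallyInjective R (Algebra.linearMap R S)) (𝔞 : Ideal R) :
    CAlgX.UniversallyInjective R (rho (S := S) 𝔞) := by
  classical
  have hρinj : Function.Injective (rho (S := S) 𝔞) := by
    intro x y hxy
    have : algebraMap R S x.1 = algebraMap R S y.1 := congrArg Subtype.val hxy
    exact Subtype.ext (hinj this)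
  refine (Groth.Agent.S2057.result (rho (S := S) 𝔞) hρinj).2 ?_
  intro n m x y a hxy
  have hy : ∀ j, ∃ t : Finset R, (↑t : Set R) ⊆ (𝔞 : Set R) ∧ ∃ c : t → S,
      ∑ g, c g • algebraMap R S g = (y j : S) := by
    intro j
    have := (y j).2
    unfold Ideal.map Ideal.span at this
    exact (Submodule.mem_span_image_iff_exists_fun S).1 this
  choose t ht c hc using hy
  -- the linear system over `S`
  have hsys : ∀ i, (Algebra.linearMap R S) (x i).1 =
      ∑ k : (j : Fin m) × ↥(t j), (a i k.1 * (k.2 : R)) • c k.1 k.2 := by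
    intro i
    have h0 : ((rho (S := S) 𝔞 (x i)) : S) = ∑ j, a i j • (y j : S) := by
      have := congrArg Subtype.val (hxy i)
      simpa using this
    have h1 : algebraMap R S (x i).1 = ∑ j, a i j • (y j : S) := h0
    rw [Algebra.linearMap_apply, h1, Fintype.sum_sigma]
    refine Finset.sum_congr rfl fun j _ => ?_
    rw [← hc j, Finset.smul_sum]
    refine Finset.sum_congr rfl fun g _ => ?_
    rw [smul_eq_mul, Algebra.smul_def, Algebra.smul_def, map_mul]
    ring
  obtain ⟨r, hr⟩ := solve_fintype (Algebra.linearMap R S) hinj hUI (fun i => (x i).1)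
    (fun k : (j : Fin m) × ↥(t j) => c k.1 k.2)
    (fun i (k : (j : Fin m) × ↥(t j)) => a i k.1 * (k.2 : R)) hsys
  refine ⟨fun j => ⟨∑ g : ↥(t j), r ⟨j, g⟩ • (g : R), ?_⟩, fun i => ?_⟩
  · exact 𝔞.sum_mem fun g _ => 𝔞.smul_mem _ (ht j g.2)
  · apply Subtype.ext
    have := hr i
    rw [this, Fintype.sum_sigma]
    simp only [Submodule.coe_sum, Submodule.coe_smul, smul_eq_mul, Finset.mul_sum]
    refine Finset.sum_congr rfl fun j _ => ?_
    refine Finset.sum_congr rfl fun g _ => ?_
    ring

/-- flatness descends along universally injective ring maps. -/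
theorem flat_of_UI (hinj : Function.Injective (algebraMap R S))
    (hUI : CAlgX.UniversallyInjective R (Algebra.linearMap R S))
    (M : Type u) [AddCommGroup M] [Module R M] [Module.Flat S (S ⊗[R] M)] : Module.Flat R M := by
  rw [Module.Flat.iff_rTensor_injective']
  intro 𝔞
  have h1 : Function.Injective ((rho (S := S) 𝔞).rTensor M) := rho_UI hinj hUI 𝔞 M
  have h2 : Function.Injective
      (((Submodule.subtype (Ideal.map (algebraMap R S) 𝔞)).restrictScalars R).rTensor M) :=
    H9_MilnorFlat.rTensor_injective_of_flat_baseChange M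
      (Submodule.subtype (Ideal.map (algebraMap R S) 𝔞)) (Submodule.injective_subtype _)
  have h3 : ((Algebra.linearMap R S).rTensor M) ∘ₗ ((Submodule.subtype 𝔞).rTensor M) =
      (((Submodule.subtype (Ideal.map (algebraMap R S) 𝔞)).restrictScalars R).rTensor M) ∘ₗ
        ((rho (S := S) 𝔞).rTensor M) := by
    rw [← LinearMap.rTensor_comp, ← LinearMap.rTensor_comp]
    congr 1
  have h4 : Function.Injective (((Algebra.linearMap R S).rTensor M) ∘ₗ
      ((Submodule.subtype 𝔞).rTensor M)) := by
    rw [h3, LinearMap.coe_comp]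
    exact h2.comp h1
  rw [LinearMap.coe_comp] at h4
  exact Function.Injective.of_comp h4

end Groth.Agent.H9_UIFlatDescent
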