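import Mathlib

set_option autoImplicit false
universe u

namespace H9_VanDantzig

open Topology Pointwise

theorem exists_add_nhds_of_isCompact_isOpen {B : Type*} [AddCommGroup B] [TopologicalSpace B]
    [IsTopologicalAddGroup B] {W : Set B} (hWc : IsCompact W) (hWo : IsOpen W) :
    ∃ T ∈ 𝓝 (0 : B), W + T ⊆ W := by
  apply hWc.induction_on (p := fun S => ∃ T ∈ 𝓝 (0 : B), S + T ⊆ W)
  · exact ⟨Set.univ, Filter.univ_mem, by simp⟩
  · rintro s t hst ⟨T, hT, h⟩
    exact ⟨T, hT, (Set.add_subset_add_right hst).trans h⟩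
  · rintro s t ⟨T₁, hT₁, h₁⟩ ⟨T₂, hT₂, h₂⟩
    refine ⟨T₁ ∩ T₂, Filter.inter_mem hT₁ hT₂, ?_⟩
    rw [Set.union_add]
    exact Set.union_subset ((Set.add_subset_add_left Set.inter_subset_left).trans h₁)
      ((Set.add_subset_add_left Set.inter_subset_right).trans h₂)
  · intro x hx
    have : (x, (0 : B)) ∈ (fun p : B × B => p.1 + p.2) ⁻¹' W := by simp [hx]
    rcases isOpen_prod_iff.mp (continuous_add.isOpen_preimage W hWo) x 0 this with
      ⟨U, V, hU, hV, hxU, h0V, hsub⟩
    refine ⟨U ∩ W, ⟨U, hU.mem_nhds hxU, W, fun _ a => a, rfl⟩, V, hV.mem_nhds h0V, ?_⟩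
    rintro _ ⟨a, ha, b, hb, rfl⟩
    exact hsub (Set.mk_mem_prod ha.1 hb)

/-- van Dantzig: compact open subgroups form a basis of neighbourhoods of `0`. -/
theorem exists_compact_open_addSubgroup {B : Type*} [AddCommGroup B] [TopologicalSpace B]
    [IsTopologicalAddGroup B] [T2Space B] [LocallyCompactSpace B] [TotallyDisconnectedSpace B]
    {V : Set B} (hV : V ∈ 𝓝 (0 : B)) :
    ∃ H : AddSubgroup B, IsOpen (H : Set B) ∧ IsCompact (H : Set B) ∧ (H : Set B) ⊆ V := by
  obtain ⟨K, hK0, hKV, hKc⟩ := local_compact_nhds hV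
  obtain ⟨W, hWclopen, h0W, hWK⟩ :=
    (loc_compact_Haus_tot_disc_of_zero_dim (H := B)).mem_nhds_iff.mp (interior_mem_nhds.mpr hK0)
  have hWclopen' : IsClopen W := hWclopen
  have hWc : IsCompact W := hKc.of_isClosed_subset hWclopen'.1 (hWK.trans interior_subset)
  obtain ⟨T, hT, hWT⟩ := exists_add_nhds_of_isCompact_isOpen hWc hWclopen'.2
  let H : AddSubgroup B := AddSubgroup.closure (T ∩ -T)
  have hp : ∀ x ∈ H, (∀ w ∈ W, w + x ∈ W) ∧ (∀ w ∈ W, w - x ∈ W) := by
    intro x hx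
    induction hx using AddSubgroup.closure_induction with
    | mem x hx =>
      refine ⟨fun w hw => hWT (Set.add_mem_add hw hx.1), fun w hw => ?_⟩
      rw [sub_eq_add_neg]
      exact hWT (Set.add_mem_add hw (Set.mem_neg.mp hx.2))
    | zero => simp
    | add x y _ _ hx hy =>
      refine ⟨fun w hw => ?_, fun w hw => ?_⟩
      · rw [← add_assoc]; exact hy.1 _ (hx.1 w hw)
      · rw [← sub_sub]; exact hy.2 _ (hx.2 w hw)
    | neg x _ hx =>
      refine ⟨fun w hw => ?_, fun w hw => ?_⟩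
      · rw [← sub_eq_add_neg]; exact hx.2 w hw
      · rw [sub_neg_eq_add]; exact hx.1 w hw
  have hHW : (H : Set B) ⊆ W := by
    intro x hx
    have := (hp x hx).1 0 h0W
    rwa [zero_add] at this
  have hHo : IsOpen (H : Set B) := by
    apply AddSubgroup.isOpen_of_mem_nhds
    refine Filter.mem_of_superset (Filter.inter_mem hT (neg_mem_nhds_zero B hT)) ?_
    exact AddSubgroup.subset_closure
  refine ⟨H, hHo, ?_, (hHW.trans (hWK.trans interior_subset)).trans hKV⟩
  exact hWc.of_isClosed_subset (AddSubgroup.isClosed_of_isOpen H hHo) hHW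

end H9_VanDantzig
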