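import Mathlib
import Groth.Prelude.Def_W4c1liftfrobW2

/-! Flatness of modules over `W₂(k)`, `k` a perfect field of characteristic `p`. -/

namespace Groth.Agent.H9W2Flat

open WittVector TensorProduct

universe u v

variable (p : ℕ) [Fact p.Prime] (k : Type u) [Field k] [CharP k p] [PerfectRing k p]

theorem unit_or_mul (x : FrobAlg.W2 p k) :
    IsUnit x ∨ ∃ y, x = (p : FrobAlg.W2 p k) * y := by
  obtain ⟨X, rfl⟩ := WittVector.truncate_surjective p 2 k x
  by_cases hX : X = 0
  · right
    exact ⟨0, by simp [hX]⟩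
  obtain ⟨m, b, rfl⟩ := WittVector.exists_eq_pow_p_mul' X hX
  rcases m with _ | m
  · left
    simp only [pow_zero, one_mul]
    exact (b.isUnit).map (WittVector.truncate 2)
  · right
    refine ⟨WittVector.truncate 2 ((p : WittVector p k) ^ m * b), ?_⟩
    rw [← map_natCast (WittVector.truncate 2), ← map_mul]
    congr 1
    ring

theorem p_mul_p : (p : FrobAlg.W2 p k) * (p : FrobAlg.W2 p k) = 0 := by
  have h1 : (p : FrobAlg.W2 p k) * (p : FrobAlg.W2 p k) =
      WittVector.truncate 2 ((p : WittVector p k) ^ 2) := by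
    rw [map_pow, map_natCast]
    ring
  rw [h1]
  have h2 : ((p : WittVector p k) ^ 2) ∈ RingHom.ker (WittVector.truncate (p := p) (R := k) 2) := by
    rw [WittVector.mem_ker_truncate]
    intro i hi
    exact WittVector.coeff_p_pow_eq_zero p k (by omega)
  exact h2

theorem p_ne_zero : (p : FrobAlg.W2 p k) ≠ 0 := by
  intro h
  have h1 : WittVector.truncate (p := p) (R := k) 2 ((p : WittVector p k) ^ 1) = 0 := by
    rw [pow_one, map_natCast]
    exact h
  have h2 : ((p : WittVector p k) ^ 1) ∈ RingHom.ker (WittVector.truncate (p := p) (R := k) 2) := h1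
  rw [WittVector.mem_ker_truncate] at h2
  have h3 := h2 1 (by omega)
  rw [WittVector.coeff_p_pow] at h3
  exact one_ne_zero h3

theorem ann_p (a : FrobAlg.W2 p k) (h : (p : FrobAlg.W2 p k) * a = 0) :
    ∃ y, a = (p : FrobAlg.W2 p k) * y := by
  rcases unit_or_mul p k a with hu | hy
  · exfalso
    apply p_ne_zero p k
    obtain ⟨u, rfl⟩ := hu
    have := congrArg (fun z => z * (u⁻¹ : (FrobAlg.W2 p k)ˣ).val) h
    simpa [mul_assoc] using this
  · exact hy

theorem ideal_cases (I : Ideal (FrobAlg.W2 p k)) :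
    I = ⊥ ∨ I = Ideal.span {(p : FrobAlg.W2 p k)} ∨ I = ⊤ := by
  by_cases h1 : ∃ x ∈ I, IsUnit x
  · obtain ⟨x, hx, hu⟩ := h1
    right; right
    exact Ideal.eq_top_of_isUnit_mem _ hx hu
  · have hle : I ≤ Ideal.span {(p : FrobAlg.W2 p k)} := by
      intro x hx
      rcases unit_or_mul p k x with hu | ⟨y, rfl⟩
      · exact absurd ⟨x, hx, hu⟩ h1
      · exact Ideal.mul_mem_right _ _ (Ideal.mem_span_singleton_self _)
    by_cases h2 : I = ⊥
    · left; exact h2
    · right; left
      apply le_antisymm hle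
      rw [Ideal.span_singleton_le_iff_mem]
      obtain ⟨x, hx, hx0⟩ := Submodule.exists_mem_ne_zero_of_ne_bot h2
      obtain ⟨y, rfl⟩ := Ideal.mem_span_singleton'.mp (hle hx)
      rcases unit_or_mul p k y with hu | ⟨z, rfl⟩
      · obtain ⟨u, rfl⟩ := hu
        have : (p : FrobAlg.W2 p k) = (u⁻¹ : (FrobAlg.W2 p k)ˣ).val * (u.val * p) := by
          rw [← mul_assoc, Units.inv_mul, one_mul]
        rw [this]
        exact Ideal.mul_mem_left _ _ hx
      · exfalso
        apply hx0
        rw [mul_comm, ← mul_assoc, p_mul_p, zero_mul]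

theorem flat_iff (M : Type v) [AddCommGroup M] [Module (FrobAlg.W2 p k) M] :
    Module.Flat (FrobAlg.W2 p k) M ↔
      ∀ m : M, (p : FrobAlg.W2 p k) • m = 0 → ∃ m' : M, m = (p : FrobAlg.W2 p k) • m' := by
  constructor
  · intro hflat m hm
    have hrel : ∑ i : Unit, (fun _ : Unit => (p : FrobAlg.W2 p k)) i • (fun _ : Unit => m) i = 0 := by
      simpa using hm
    obtain ⟨n, a, y, h1, h2⟩ := Module.Flat.isTrivialRelation_of_sum_smul_eq_zero hrel
    have h3 : ∀ j, ∃ b, a () j = (p : FrobAlg.W2 p k) * b := by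
      intro j
      apply ann_p
      simpa using h2 j
    choose b hb using h3
    refine ⟨∑ j, b j • y j, ?_⟩
    have h1' : m = ∑ j, a () j • y j := h1 ()
    rw [h1', Finset.smul_sum]
    refine Finset.sum_congr rfl fun j _ => ?_
    rw [hb j, mul_smul]
  · intro h
    rw [Module.Flat.iff_rTensor_injective']
    intro I
    rcases ideal_cases p k I with rfl | rfl | rfl
    · intro z w _
      have hz : ∀ z : (↥(⊥ : Ideal (FrobAlg.W2 p k))) ⊗[FrobAlg.W2 p k] M, z = 0 := by
        intro z
        induction z using TensorProduct.induction_on with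
        | zero => rfl
        | tmul x m =>
          have : x = 0 := Subtype.ext ((Submodule.mem_bot _).mp x.2)
          rw [this, TensorProduct.zero_tmul]
        | add a b ha hb => rw [ha, hb, add_zero]
      rw [hz z, hz w]
    · rw [injective_iff_map_eq_zero]
      let P : ↥(Ideal.span {(p : FrobAlg.W2 p k)}) := ⟨p, Ideal.mem_span_singleton_self _⟩
      have hform : ∀ z : (↥(Ideal.span {(p : FrobAlg.W2 p k)})) ⊗[FrobAlg.W2 p k] M,
          ∃ m : M, z = P ⊗ₜ[FrobAlg.W2 p k] m := by
        intro z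
        induction z using TensorProduct.induction_on with
        | zero => exact ⟨0, by rw [TensorProduct.tmul_zero]⟩
        | tmul x m =>
          obtain ⟨w, hw⟩ := Ideal.mem_span_singleton'.mp x.2
          refine ⟨w • m, ?_⟩
          rw [TensorProduct.tmul_smul, TensorProduct.smul_tmul']
          congr 1
          apply Subtype.ext
          show x.val = w * p
          exact hw.symm
        | add a b ha hb =>
          obtain ⟨m1, rfl⟩ := ha
          obtain ⟨m2, rfl⟩ := hb
          exact ⟨m1 + m2, by rw [TensorProduct.tmul_add]⟩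
      intro z hz
      obtain ⟨m, rfl⟩ := hform z
      rw [LinearMap.rTensor_tmul] at hz
      have hz2 := congrArg (TensorProduct.lid (FrobAlg.W2 p k) M) hz
      rw [TensorProduct.lid_tmul, map_zero] at hz2
      obtain ⟨m', rfl⟩ := h m hz2
      rw [TensorProduct.tmul_smul, TensorProduct.smul_tmul']
      have : (p : FrobAlg.W2 p k) • P = 0 := by
        apply Subtype.ext
        show (p : FrobAlg.W2 p k) * (p : FrobAlg.W2 p k) = 0
        exact p_mul_p p k
      rw [this, TensorProduct.zero_tmul]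
    · have e : (⊤ : Ideal (FrobAlg.W2 p k)).subtype =
          (Submodule.topEquiv : (⊤ : Ideal (FrobAlg.W2 p k)) ≃ₗ[FrobAlg.W2 p k] _).toLinearMap := rfl
      rw [e]
      exact (LinearEquiv.rTensor M Submodule.topEquiv).injective

theorem natCast_smul_eq (B : Type v) [CommRing B] [Algebra (FrobAlg.W2 p k) B] (b : B) :
    (p : FrobAlg.W2 p k) • b = (p : B) * b := by
  rw [Algebra.smul_def, map_natCast]

theorem p_mul_p_alg (B : Type v) [CommRing B] [Algebra (FrobAlg.W2 p k) B] :
    (p : B) * (p : B) = 0 := by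
  have := congrArg (algebraMap (FrobAlg.W2 p k) B) (p_mul_p p k)
  simpa using this

theorem flat_quotient_iff (B : Type v) [CommRing B] [Algebra (FrobAlg.W2 p k) B]
    [Module.Flat (FrobAlg.W2 p k) B] (J : Ideal B) :
    Module.Flat (FrobAlg.W2 p k) (B ⧸ J) ↔
      Ideal.span {(p : B)} ⊓ J = Ideal.span {(p : B)} * J := by
  rw [flat_iff]
  have hB := (flat_iff p k B).mp inferInstance
  constructor
  · intro h
    apply le_antisymm _ Ideal.mul_le_inf
    rintro x ⟨hx1, hx2⟩
    obtain ⟨a, rfl⟩ := Ideal.mem_span_singleton'.mp hx1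
    have h1 : (p : FrobAlg.W2 p k) • (Ideal.Quotient.mk J a) = 0 := by
      rw [← Ideal.Quotient.mk_eq_mk, ← Submodule.Quotient.mk_smul, Ideal.Quotient.mk_eq_mk,
        Ideal.Quotient.eq_zero_iff_mem, natCast_smul_eq, mul_comm]
      exact hx2
    obtain ⟨m', hm'⟩ := h _ h1
    obtain ⟨a', rfl⟩ := Ideal.Quotient.mk_surjective m'
    rw [← Ideal.Quotient.mk_eq_mk a', ← Submodule.Quotient.mk_smul, Ideal.Quotient.mk_eq_mk,
      Ideal.Quotient.eq, natCast_smul_eq] at hm'
    have h2 : a * (p : B) = (p : B) * (a - (p : B) * a') := by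
      have := p_mul_p_alg p k B
      linear_combination a' * this
    rw [h2]
    exact Ideal.mul_mem_mul (Ideal.mem_span_singleton_self _) hm'
  · intro h m hm
    obtain ⟨b, rfl⟩ := Ideal.Quotient.mk_surjective m
    rw [← Ideal.Quotient.mk_eq_mk b, ← Submodule.Quotient.mk_smul, Ideal.Quotient.mk_eq_mk,
      Ideal.Quotient.eq_zero_iff_mem, natCast_smul_eq] at hm
    have h1 : (p : B) * b ∈ Ideal.span {(p : B)} ⊓ J :=
      ⟨Ideal.mul_mem_right _ _ (Ideal.mem_span_singleton_self _), hm⟩
    rw [h, Ideal.mem_span_singleton_mul] at h1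
    obtain ⟨j, hj, hjb⟩ := h1
    have h2 : (p : FrobAlg.W2 p k) • (b - j) = 0 := by
      rw [natCast_smul_eq, mul_sub, hjb, sub_self]
    obtain ⟨b', hb'⟩ := hB _ h2
    refine ⟨Ideal.Quotient.mk J b', ?_⟩
    rw [← Ideal.Quotient.mk_eq_mk b', ← Submodule.Quotient.mk_smul, Ideal.Quotient.mk_eq_mk,
      Ideal.Quotient.eq, ← hb']
    simpa using hj

end Groth.Agent.H9W2Flat
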