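import Mathlib
import Groth.Prelude.Def_W4c1liftfrobW2
import Groth.Agent.Lib.helper9.H9_W2Flat

/-! Twisted Witt vectors of length two of a Frobenius-split algebra. -/

namespace Groth.Agent.H9W2Split

open WittVector

universe u

variable (p : ℕ) [Fact p.Prime] (A : Type u) [CommRing A]

theorem coeff_zero_trV (Z : WittVector p A) :
    (WittVector.truncate 2 (verschiebung Z) : FrobAlg.W2 p A).coeff 0 = 0 := by
  rw [WittVector.coeff_truncate]
  exact verschiebung_coeff_zero Z

theorem coeff_one_trV (Z : WittVector p A) :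
    (WittVector.truncate 2 (verschiebung Z) : FrobAlg.W2 p A).coeff 1 = Z.coeff 0 := by
  rw [WittVector.coeff_truncate]
  exact verschiebung_coeff_succ Z 0

theorem exists_V (x : FrobAlg.W2 p A) (h0 : x.coeff 0 = 0) :
    ∃ Z : WittVector p A, x = WittVector.truncate 2 (verschiebung Z) ∧ Z.coeff 0 = x.coeff 1 := by
  refine ⟨WittVector.mk p (fun n => if n = 0 then x.coeff 1 else 0), ?_, by simp⟩
  apply TruncatedWittVector.ext
  intro i
  fin_cases i
  · show x.coeff 0 = TruncatedWittVector.coeff 0 _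
    rw [coeff_zero_trV, h0]
  · show x.coeff 1 = TruncatedWittVector.coeff 1 _
    rw [coeff_one_trV]
    simp

theorem add_coeffs (x y : FrobAlg.W2 p A) (hx : x.coeff 0 = 0) (hy : y.coeff 0 = 0) :
    (x + y).coeff 0 = 0 ∧ (x + y).coeff 1 = x.coeff 1 + y.coeff 1 := by
  obtain ⟨Zx, hxe, hZx⟩ := exists_V p A x hx
  obtain ⟨Zy, hye, hZy⟩ := exists_V p A y hy
  have h : x + y = WittVector.truncate 2 (verschiebung (Zx + Zy)) := by
    rw [map_add, map_add, ← hxe, ← hye]
  rw [h, ← hZx, ← hZy]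
  exact ⟨coeff_zero_trV p A _, by rw [coeff_one_trV, add_coeff_zero]⟩

theorem sub_coeffs (x y : FrobAlg.W2 p A) (hx : x.coeff 0 = 0) (hy : y.coeff 0 = 0) :
    (x - y).coeff 0 = 0 ∧ (x - y).coeff 1 = x.coeff 1 - y.coeff 1 := by
  obtain ⟨Zx, hxe, hZx⟩ := exists_V p A x hx
  obtain ⟨Zy, hye, hZy⟩ := exists_V p A y hy
  have h : x - y = WittVector.truncate 2 (verschiebung (Zx - Zy)) := by
    rw [map_sub, map_sub, ← hxe, ← hye]
  rw [h, ← hZx, ← hZy]
  refine ⟨coeff_zero_trV p A _, ?_⟩
  rw [coeff_one_trV]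
  exact map_sub (WittVector.constantCoeff (p := p) (R := A)) Zx Zy

theorem mul_coeffs [CharP A p] (z x : FrobAlg.W2 p A) (hx : x.coeff 0 = 0) :
    (z * x).coeff 0 = 0 ∧ (z * x).coeff 1 = z.coeff 0 ^ p * x.coeff 1 := by
  obtain ⟨Z, rfl⟩ := WittVector.truncate_surjective p 2 A z
  obtain ⟨Zx, hxe, hZx⟩ := exists_V p A x hx
  have h1 : Z * verschiebung Zx = verschiebung (Zx * frobenius Z) := by
    rw [verschiebung_mul_frobenius, mul_comm]
  have h : WittVector.truncate 2 Z * x = WittVector.truncate 2 (verschiebung (Zx * frobenius Z)) := by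
    rw [hxe, ← map_mul, h1]
  rw [h, ← hZx]
  refine ⟨coeff_zero_trV p A _, ?_⟩
  rw [coeff_one_trV, mul_coeff_zero, coeff_frobenius_charP, WittVector.coeff_truncate]
  simp [mul_comm]

theorem p_mul_coeffs [CharP A p] (z : FrobAlg.W2 p A) :
    ((p : FrobAlg.W2 p A) * z).coeff 0 = 0 ∧ ((p : FrobAlg.W2 p A) * z).coeff 1 = z.coeff 0 ^ p := by
  obtain ⟨Z, rfl⟩ := WittVector.truncate_surjective p 2 A z
  have h : (p : FrobAlg.W2 p A) * WittVector.truncate 2 Z = WittVector.truncate 2 (Z * (p : WittVector p A)) := by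
    rw [map_mul, map_natCast, mul_comm]
  rw [h, WittVector.coeff_truncate, WittVector.coeff_truncate, WittVector.coeff_truncate]
  exact ⟨mul_charP_coeff_zero Z, mul_charP_coeff_succ Z 0⟩

theorem mem_splitIdeal_iff [CharP A p] (φ : A →+ A) (hφ : ∀ a b : A, φ (a ^ p * b) = a * φ b)
    (x : FrobAlg.W2 p A) :
    x ∈ FrobAlg.splitIdeal p A φ ↔ x.coeff 0 = 0 ∧ φ (x.coeff 1) = 0 := by
  constructor
  · intro hx
    unfold FrobAlg.splitIdeal at hx
    induction hx using Submodule.span_induction with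
    | mem y hy => exact ⟨by simpa using hy.1, hy.2⟩
    | zero => simp [TruncatedWittVector.coeff_zero]
    | add y z _ _ hy hz =>
      obtain ⟨h0, h1⟩ := add_coeffs p A y z hy.1 hz.1
      exact ⟨h0, by rw [h1, map_add, hy.2, hz.2, add_zero]⟩
    | smul a y _ hy =>
      obtain ⟨h0, h1⟩ := mul_coeffs p A a y hy.1
      exact ⟨h0, by rw [smul_eq_mul, h1, hφ, hy.2, mul_zero]⟩
  · rintro ⟨h0, h1⟩
    exact Ideal.subset_span ⟨by simpa using h0, h1⟩

theorem isLift (k : Type u) [Field k] [CharP k p] [PerfectRing k p] [Algebra k A] (φ : A →+ A)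
    (hφ : ∀ a b : A, φ (a ^ p * b) = a * φ b) (hφ1 : φ 1 = 1) :
    FrobAlg.IsLift p k A (FrobAlg.W2 p A ⧸ FrobAlg.splitIdeal p A φ)
      ((Ideal.Quotient.mk (FrobAlg.splitIdeal p A φ)).comp (WittGrp.truncMap p 2 (algebraMap k A)))
      (FrobAlg.splitRes p A φ) := by
  have hcomm : (FrobAlg.splitRes p A φ).comp ((Ideal.Quotient.mk (FrobAlg.splitIdeal p A φ)).comp
      (WittGrp.truncMap p 2 (algebraMap k A))) = (algebraMap k A).comp (FrobAlg.res p k) := by
    ext w
    simp [FrobAlg.splitRes]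
  rcases subsingleton_or_nontrivial A with hA | hA
  · haveI : Subsingleton (FrobAlg.W2 p A) := by
      constructor
      intro x y
      apply TruncatedWittVector.ext
      intro i
      exact Subsingleton.elim _ _
    haveI : Subsingleton (FrobAlg.W2 p A ⧸ FrobAlg.splitIdeal p A φ) := by
      constructor
      intro x y
      obtain ⟨x, rfl⟩ := Ideal.Quotient.mk_surjective x
      obtain ⟨y, rfl⟩ := Ideal.Quotient.mk_surjective y
      rw [Subsingleton.elim x y]
    refine ⟨?_, ?_, ?_, hcomm⟩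
    · unfold RingHom.Flat
      letI : Algebra (FrobAlg.W2 p k) (FrobAlg.W2 p A ⧸ FrobAlg.splitIdeal p A φ) :=
        ((Ideal.Quotient.mk (FrobAlg.splitIdeal p A φ)).comp
          (WittGrp.truncMap p 2 (algebraMap k A))).toAlgebra
      rw [Groth.Agent.H9W2Flat.flat_iff]
      intro m _
      exact ⟨0, Subsingleton.elim _ _⟩
    · intro a
      exact ⟨0, Subsingleton.elim _ _⟩
    · ext x
      rw [Subsingleton.elim x 0]
      simp
  · haveI : CharP A p := charP_of_injective_algebraMap (algebraMap k A).injective p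
    have key : ∀ x : FrobAlg.W2 p A, x.coeff 0 = 0 → ∃ y : FrobAlg.W2 p A,
        Ideal.Quotient.mk (FrobAlg.splitIdeal p A φ) x =
          (p : FrobAlg.W2 p A ⧸ FrobAlg.splitIdeal p A φ) *
            Ideal.Quotient.mk (FrobAlg.splitIdeal p A φ) y := by
      intro x hx
      refine ⟨WittVector.truncate 2 (WittVector.teichmuller p (φ (x.coeff 1))), ?_⟩
      set y : FrobAlg.W2 p A := WittVector.truncate 2 (WittVector.teichmuller p (φ (x.coeff 1)))
        with hy
      rw [← map_natCast (Ideal.Quotient.mk (FrobAlg.splitIdeal p A φ)), ← map_mul,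
        Ideal.Quotient.eq, mem_splitIdeal_iff p A φ hφ]
      obtain ⟨h0, h1⟩ := p_mul_coeffs p A y
      obtain ⟨h2, h3⟩ := sub_coeffs p A x ((p : FrobAlg.W2 p A) * y) hx h0
      refine ⟨h2, ?_⟩
      have hy0 : y.coeff 0 = φ (x.coeff 1) := by
        rw [hy, WittVector.coeff_truncate]
        exact WittVector.teichmuller_coeff_zero p _
      rw [h3, h1, map_sub, hy0, ← mul_one (φ (x.coeff 1) ^ p), hφ, hφ1, mul_one, sub_self]
    refine ⟨?_, ?_, ?_, hcomm⟩
    · unfold RingHom.Flat
      letI : Algebra (FrobAlg.W2 p k) (FrobAlg.W2 p A ⧸ FrobAlg.splitIdeal p A φ) :=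
        ((Ideal.Quotient.mk (FrobAlg.splitIdeal p A φ)).comp
          (WittGrp.truncMap p 2 (algebraMap k A))).toAlgebra
      rw [Groth.Agent.H9W2Flat.flat_iff]
      intro m hm
      obtain ⟨x, rfl⟩ := Ideal.Quotient.mk_surjective m
      have e : ∀ q : FrobAlg.W2 p A ⧸ FrobAlg.splitIdeal p A φ,
          (p : FrobAlg.W2 p k) • q = (p : FrobAlg.W2 p A ⧸ FrobAlg.splitIdeal p A φ) * q := by
        intro q
        rw [Algebra.smul_def, map_natCast]
      rw [e, ← map_natCast (Ideal.Quotient.mk (FrobAlg.splitIdeal p A φ)), ← map_mul,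
        Ideal.Quotient.eq_zero_iff_mem, mem_splitIdeal_iff p A φ hφ] at hm
      obtain ⟨h0, h1⟩ := p_mul_coeffs p A x
      have hx0 : x.coeff 0 = 0 := by
        have := hm.2
        rw [h1, ← mul_one (x.coeff 0 ^ p), hφ, hφ1, mul_one] at this
        exact this
      obtain ⟨y, hy⟩ := key x hx0
      exact ⟨Ideal.Quotient.mk _ y, by rw [e]; exact hy⟩
    · intro a
      refine ⟨Ideal.Quotient.mk _ (WittVector.truncate 2 (WittVector.teichmuller p a)), ?_⟩
      simp [FrobAlg.splitRes, WittVector.coeff_truncate]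
    · apply le_antisymm
      · intro q hq
        obtain ⟨x, rfl⟩ := Ideal.Quotient.mk_surjective q
        rw [RingHom.mem_ker] at hq
        have hx0 : x.coeff 0 = 0 := by simpa [FrobAlg.splitRes] using hq
        obtain ⟨y, hy⟩ := key x hx0
        rw [hy]
        apply Ideal.mul_mem_right
        have hp : (p : FrobAlg.W2 p A ⧸ FrobAlg.splitIdeal p A φ) =
            ((Ideal.Quotient.mk (FrobAlg.splitIdeal p A φ)).comp
              (WittGrp.truncMap p 2 (algebraMap k A))) (p : FrobAlg.W2 p k) :=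
          (map_natCast _ p).symm
        rw [hp]
        apply Ideal.mem_map_of_mem
        rw [RingHom.mem_ker, map_natCast]
        exact CharP.cast_eq_zero k p
      · rw [Ideal.map_le_iff_le_comap]
        intro w hw
        rw [Ideal.mem_comap, RingHom.mem_ker]
        rw [RingHom.mem_ker] at hw
        have := congrArg (fun f => f w) hcomm
        simp only [RingHom.comp_apply] at this
        rw [RingHom.comp_apply, this, hw, map_zero]

end Groth.Agent.H9W2Split
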