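import Mathlib

set_option autoImplicit false
universe u

namespace H9_Witt

open WittVector

variable (p : ℕ) [hp : Fact p.Prime]

/-- the candidate for `[a] * x` -/
noncomputable def tmul {R : Type*} [CommRing R] (a : R) (x : WittVector p R) : WittVector p R :=
  WittVector.mk p (fun n => a ^ p ^ n * x.coeff n)

theorem ghost_tmul {R : Type*} [CommRing R] (a : R) (x : WittVector p R) (n : ℕ) :
    ghostComponent n (tmul p a x) = a ^ p ^ n * ghostComponent n x := by
  rw [ghostComponent_apply, ghostComponent_apply, aeval_wittPolynomial, aeval_wittPolynomial,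
    Finset.mul_sum]
  refine Finset.sum_congr rfl ?_
  intro i hi
  have hin : i ≤ n := Nat.lt_succ_iff.mp (Finset.mem_range.mp hi)
  simp only [tmul, WittVector.coeff_mk]
  rw [mul_pow, ← pow_mul, ← pow_add, Nat.add_sub_cancel' hin]
  ring

theorem map_tmul {R S : Type*} [CommRing R] [CommRing S] (f : R →+* S) (a : R)
    (x : WittVector p R) : WittVector.map f (tmul p a x) = tmul p (f a) (WittVector.map f x) := by
  ext n
  simp only [tmul, WittVector.map_coeff, WittVector.coeff_mk, map_mul, map_pow]

private theorem aux₁ {σ : Type*} (a : MvPolynomial σ ℚ) (x : WittVector p (MvPolynomial σ ℚ)) :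
    teichmuller p a * x = tmul p a x := by
  apply (ghostMap.bijective_of_invertible p (MvPolynomial σ ℚ)).1
  rw [map_mul]
  ext1 n
  simp only [Pi.mul_apply, ghostMap_apply, ghostComponent_teichmuller, ghost_tmul]

private theorem aux₂ {σ : Type*} (a : MvPolynomial σ ℤ) (x : WittVector p (MvPolynomial σ ℤ)) :
    teichmuller p a * x = tmul p a x := by
  refine map_injective (MvPolynomial.map (Int.castRingHom ℚ))
    (MvPolynomial.map_injective _ Int.cast_injective) ?_
  rw [map_mul, map_teichmuller, map_tmul, aux₁]

theorem teichmuller_mul_eq {R : Type*} [CommRing R] (a : R) (x : WittVector p R) :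
    teichmuller p a * x = tmul p a x := by
  obtain ⟨x', rfl⟩ := map_surjective (MvPolynomial.counit R) (MvPolynomial.counit_surjective R) x
  obtain ⟨a', rfl⟩ := MvPolynomial.counit_surjective R a
  rw [← map_teichmuller, ← map_mul, ← map_tmul, aux₂]

theorem teichmuller_mul_coeff {R : Type*} [CommRing R] (a : R) (x : WittVector p R) (n : ℕ) :
    (teichmuller p a * x).coeff n = a ^ p ^ n * x.coeff n := by
  rw [teichmuller_mul_eq]
  simp [tmul, WittVector.coeff_mk]

end H9_Witt
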