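import Mathlib
import Groth.Agent.Lib.helper9.H9_Witt
import Groth.Prelude.Def_W4c6katofiltaWFil

set_option autoImplicit false
universe u

namespace H9_WittFil

open MvPolynomial

variable (p : ℕ) [hp : Fact p.Prime]

/-- Γ-weighted version: if the ghost side is isobaric of weight `p^n • γ`, so are the structure
polynomials. -/
theorem structure_homog {Γ : Type*} [AddCommMonoid Γ] {idx : Type*} (Φ : MvPolynomial idx ℤ)
    (w : idx × ℕ → Γ) (γ : Γ)
    (hΦ : ∀ n, IsWeightedHomogeneous w
      (bind₁ (fun b => rename (Prod.mk b) (wittPolynomial p ℤ n)) Φ) (p ^ n • γ)) (n : ℕ) :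
    IsWeightedHomogeneous w (wittStructureInt p Φ n) (p ^ n • γ) := by
  induction n using Nat.strong_induction_on with
  | _ n ih =>
  have hprop := wittStructureInt_prop p Φ n
  have hL : bind₁ (wittStructureInt p Φ) (wittPolynomial p ℤ n) =
      ∑ i ∈ Finset.range (n + 1), C ((p : ℤ) ^ i) * (wittStructureInt p Φ i) ^ (p ^ (n - i)) := by
    rw [wittPolynomial_eq_sum_C_mul_X_pow, map_sum]
    refine Finset.sum_congr rfl ?_
    intro i _
    rw [map_mul, bind₁_C_right, map_pow (bind₁ _) (X i), bind₁_X_right]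
  have hlow : IsWeightedHomogeneous w
      (∑ i ∈ Finset.range n, C ((p : ℤ) ^ i) * (wittStructureInt p Φ i) ^ (p ^ (n - i)))
      (p ^ n • γ) := by
    apply IsWeightedHomogeneous.sum
    intro i hi
    have hin : i < n := Finset.mem_range.mp hi
    have h1 := ((ih i hin).pow (p ^ (n - i))).C_mul ((p : ℤ) ^ i)
    have e : p ^ (n - i) • (p ^ i • γ) = p ^ n • γ := by
      rw [← mul_smul, ← pow_add, Nat.sub_add_cancel hin.le]
    rw [e] at h1
    exact h1
  have htop : IsWeightedHomogeneous w (C ((p : ℤ) ^ n) * wittStructureInt p Φ n) (p ^ n • γ) := by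
    have hEq : C ((p : ℤ) ^ n) * wittStructureInt p Φ n =
        bind₁ (fun b => rename (Prod.mk b) (wittPolynomial p ℤ n)) Φ -
        ∑ i ∈ Finset.range n, C ((p : ℤ) ^ i) * (wittStructureInt p Φ i) ^ (p ^ (n - i)) := by
      rw [← hprop, hL, Finset.sum_range_succ, Nat.sub_self, pow_zero, pow_one]
      ring
    rw [hEq]
    exact (hΦ n).sub hlow
  intro d hd
  apply htop
  rw [coeff_C_mul]
  exact mul_ne_zero (pow_ne_zero _ (by exact_mod_cast hp.out.ne_zero)) hd

theorem rename_witt_homog {Γ : Type*} [AddCommMonoid Γ] {idx : Type*} (w : idx × ℕ → Γ) (b : idx)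
    (γ : Γ) (hw : ∀ i, w (b, i) = p ^ i • γ) (n : ℕ) :
    IsWeightedHomogeneous w (rename (Prod.mk b) (wittPolynomial p ℤ n)) (p ^ n • γ) := by
  rw [wittPolynomial_eq_sum_C_mul_X_pow, map_sum]
  apply IsWeightedHomogeneous.sum
  intro i hi
  have hin : i ≤ n := Nat.lt_succ_iff.mp (Finset.mem_range.mp hi)
  rw [map_mul, rename_C, map_pow (rename _) (X i), rename_X]
  have h1 := ((isWeightedHomogeneous_X (R := ℤ) w (b, i)).pow (p ^ (n - i))).C_mul ((p : ℤ) ^ i)
  have e : p ^ (n - i) • w (b, i) = p ^ n • γ := by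
    rw [hw, ← mul_smul, ← pow_add, Nat.sub_add_cancel hin]
  rw [e] at h1
  exact h1

theorem wittSub_homog (n : ℕ) :
    IsWeightedHomogeneous (fun i : Fin 2 × ℕ => p ^ i.2) (WittVector.wittSub p n) (p ^ n) := by
  have := structure_homog p (X (0 : Fin 2) - X 1) (fun i : Fin 2 × ℕ => p ^ i.2) 1 ?_ n
  · unfold WittVector.wittSub
    simpa using this
  intro n
  rw [map_sub, bind₁_X_right, bind₁_X_right]
  have h0 := rename_witt_homog p (fun i : Fin 2 × ℕ => p ^ i.2) 0 1 (by intro i; simp) n
  have h1 := rename_witt_homog p (fun i : Fin 2 × ℕ => p ^ i.2) 1 1 (by intro i; simp) n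
  exact h0.sub h1

/-- `wittMul` is bi-isobaric. -/
theorem wittMul_bihomog (n : ℕ) :
    IsWeightedHomogeneous
      (fun i : Fin 2 × ℕ => if i.1 = 0 then ((p ^ i.2, 0) : ℕ × ℕ) else (0, p ^ i.2))
      (WittVector.wittMul p n) ((p ^ n, p ^ n) : ℕ × ℕ) := by
  have := structure_homog p (X (0 : Fin 2) * X 1)
    (fun i : Fin 2 × ℕ => if i.1 = 0 then ((p ^ i.2, 0) : ℕ × ℕ) else (0, p ^ i.2)) (1, 1) ?_ n
  · unfold WittVector.wittMul
    simpa using this
  intro n
  rw [map_mul, bind₁_X_right, bind₁_X_right]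
  have h0 := rename_witt_homog p
    (fun i : Fin 2 × ℕ => if i.1 = 0 then ((p ^ i.2, 0) : ℕ × ℕ) else (0, p ^ i.2)) 0 (1, 0)
    (by intro i; simp) n
  have h1 := rename_witt_homog p
    (fun i : Fin 2 × ℕ => if i.1 = 0 then ((p ^ i.2, 0) : ℕ × ℕ) else (0, p ^ i.2)) 1 (0, 1)
    (by intro i; simp) n
  have := h0.mul h1
  simpa using this

/-- evaluation of an isobaric integer polynomial on elements of a multiplicative filtration -/
theorem aeval_mem_of_homog {Γ : Type*} [AddCommMonoid Γ] {A K : Type*} [CommRing A] [CommRing K]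
    [Algebra A K] (N : Γ → Submodule A K) (h1 : (1 : K) ∈ N 0)
    (hmul : ∀ (i j : Γ) (a b : K), a ∈ N i → b ∈ N j → a * b ∈ N (i + j))
    {σ : Type*} (w : σ → Γ) (f : σ → K) (hf : ∀ s, f s ∈ N (w s))
    (P : MvPolynomial σ ℤ) (D : Γ) (hP : IsWeightedHomogeneous w P D) :
    aeval f P ∈ N D := by
  classical
  have hpow : ∀ (s : σ) (k : ℕ), f s ^ k ∈ N (k • w s) := by
    intro s k
    induction k with
    | zero => simpa using h1
    | succ k ih =>
      rw [pow_succ, succ_nsmul]
      exact hmul _ _ _ _ ih (hf s)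
  have hprod : ∀ d : σ →₀ ℕ, (d.prod fun s k => f s ^ k) ∈ N (Finsupp.weight w d) := by
    intro d
    induction d using Finsupp.induction_linear with
    | zero => simpa using h1
    | add d₁ d₂ h₁ h₂ =>
      rw [Finsupp.prod_add_index' (fun a => pow_zero _) (fun a b₁ b₂ => pow_add _ _ _), map_add]
      exact hmul _ _ _ _ h₁ h₂
    | single s k =>
      rw [Finsupp.prod_single_index (h := fun s k => f s ^ k) (pow_zero _), Finsupp.weight_single]
      exact hpow s k
  induction hP using IsWeightedHomogeneous.induction_on with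
  | zero => simp
  | add q r hq hr ihq ihr => rw [map_add]; exact Submodule.add_mem _ ihq ihr
  | monomial d r hr =>
    rw [aeval_monomial, ← hr]
    have : (algebraMap ℤ K) r * (d.prod fun i k => f i ^ k) = r • (d.prod fun i k => f i ^ k) := by
      rw [Algebra.smul_def]
    rw [this]
    exact zsmul_mem (hprod d) r

/-- the `A`-submodule of `y : B` with `y^(p^e) * c` in the image of `A` (char `p`) -/
def Nsub {A B : Type*} [CommRing A] [CommRing B] [Algebra A B] [CharP B p] (e : ℕ) (c : B) :
    Submodule A B where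
  carrier := {y | y ^ p ^ e * c ∈ (algebraMap A B).range}
  add_mem' := by
    intro y y' hy hy'
    change (y + y') ^ p ^ e * c ∈ (algebraMap A B).range
    rw [add_pow_char_pow, add_mul]
    exact add_mem hy hy'
  zero_mem' := by
    change (0 : B) ^ p ^ e * c ∈ (algebraMap A B).range
    rw [zero_pow (pow_pos hp.out.pos _).ne', zero_mul]
    exact zero_mem _
  smul_mem' := by
    intro a y hy
    change (a • y) ^ p ^ e * c ∈ (algebraMap A B).range
    rw [Algebra.smul_def, mul_pow, mul_assoc, ← map_pow]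
    exact mul_mem ⟨_, rfl⟩ hy

theorem mem_Nsub {A B : Type*} [CommRing A] [CommRing B] [Algebra A B] [CharP B p] (e : ℕ) (c y : B) :
    y ∈ Nsub p (A := A) e c ↔ y ^ p ^ e * c ∈ (algebraMap A B).range := Iff.rfl

/-- integrally closed step -/
theorem mem_range_of_pow_mem {A B : Type*} [CommRing A] [IsDomain A] [UniqueFactorizationMonoid A]
    [CommRing B] [Algebra A B] (π : A) (hπ : π ≠ 0) [IsLocalization.Away π B] (z : B) (k : ℕ)
    (hk : k ≠ 0) (hz : z ^ k ∈ (algebraMap A B).range) : z ∈ (algebraMap A B).range := by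
  obtain ⟨t, a, hta⟩ := IsLocalization.Away.surj π z
  obtain ⟨a0, ha0⟩ := hz
  have hinj : Function.Injective (algebraMap A B) :=
    IsLocalization.injective B (powers_le_nonZeroDivisors_of_noZeroDivisors hπ)
  have h1 : a0 * (π ^ t) ^ k = a ^ k := by
    apply hinj
    rw [map_mul, map_pow, map_pow, map_pow, ha0, ← hta, mul_pow]
  have hdvd : (π ^ t) ^ k ∣ a ^ k := ⟨a0, by rw [← h1, mul_comm]⟩
  rw [UniqueFactorizationMonoid.pow_dvd_pow_iff_dvd hk] at hdvd
  obtain ⟨a', rfl⟩ := hdvd
  refine ⟨a', ?_⟩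
  have hu : IsUnit (algebraMap A B π ^ t) :=
    (IsLocalization.Away.algebraMap_isUnit π).pow t
  apply hu.mul_right_cancel
  rw [hta, map_mul, map_pow, mul_comm]

section Fil

variable {A B : Type u} [CommRing A] [IsDomain A] [UniqueFactorizationMonoid A] [CharP A p]
  [CommRing B] [Algebra A B] (π : A) (hπ : π ≠ 0) [IsLocalization.Away π B]

include hπ in
theorem algebraMap_injective : Function.Injective (algebraMap A B) :=
  IsLocalization.injective B (powers_le_nonZeroDivisors_of_noZeroDivisors hπ)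

theorem out_coeff (m : ℕ) (y : TruncatedWittVector p m B) (i : ℕ) :
    y.out.coeff i = if h : i < m then y.coeff ⟨i, h⟩ else 0 := rfl

/-- membership of the coefficients of `out` in the filtration pieces -/
theorem out_coeff_mem [CharP B p] (m : ℕ) (c : B) (a : TruncatedWittVector p m B)
    (ha : a ∈ WittFil.fil p m (A := A) c) (i : ℕ) :
    a.out.coeff i ∈ Nsub p (A := A) (m - 1) (c ^ p ^ i) := by
  rw [out_coeff]
  split_ifs with h
  · rw [mem_Nsub]
    have h1 := ha ⟨i, h⟩
    have e : p ^ (m - 1) = p ^ (m - 1 - i) * p ^ i := by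
      rw [← pow_add]; congr 1; omega
    rw [e, pow_mul, ← mul_pow]
    exact pow_mem h1 _
  · exact Submodule.zero_mem _

include hπ in
/-- from the filtration piece back to `fil` -/
theorem mem_fil_of_coeff_mem [CharP B p] (m : ℕ) (c : B) (a : TruncatedWittVector p m B)
    (h : ∀ j : Fin m, a.coeff j ∈ Nsub p (A := A) (m - 1) (c ^ p ^ (j : ℕ))) :
    a ∈ WittFil.fil p m (A := A) c := by
  intro j
  have h1 := h j
  rw [mem_Nsub] at h1
  have e : p ^ (m - 1) = p ^ (m - 1 - (j : ℕ)) * p ^ (j : ℕ) := by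
    have := j.2
    rw [← pow_add]; congr 1; omega
  rw [e, pow_mul, ← mul_pow] at h1
  exact mem_range_of_pow_mem π hπ _ (p ^ (j : ℕ)) (pow_pos hp.out.pos _).ne' h1

include hπ in
theorem fil_sub (m : ℕ) (c : B) (a b : TruncatedWittVector p m B)
    (ha : a ∈ WittFil.fil p m (A := A) c) (hb : b ∈ WittFil.fil p m (A := A) c) :
    a - b ∈ WittFil.fil p m (A := A) c := by
  have hinj := algebraMap_injective (B := B) π hπ
  haveI : CharP B p := charP_of_injective_algebraMap hinj p
  apply mem_fil_of_coeff_mem p π hπ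
  intro j
  have hab : a - b = WittVector.truncate m (a.out - b.out) := by
    rw [map_sub]
    congr 1
    · exact (TruncatedWittVector.truncateFun_out a).symm
    · exact (TruncatedWittVector.truncateFun_out b).symm
  rw [hab, WittVector.coeff_truncate, WittVector.sub_coeff, WittVector.peval]
  have key := aeval_mem_of_homog (Γ := ℕ) (fun k => Nsub p (A := A) (m - 1) (c ^ k))
    (by rw [mem_Nsub, one_pow, pow_zero, one_mul]; exact one_mem _)
    (by
      intro i j y y' hy hy'
      rw [mem_Nsub] at hy hy' ⊢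
      rw [mul_pow, pow_add]
      have := mul_mem hy hy'
      convert this using 1
      ring)
    (fun i : Fin 2 × ℕ => p ^ i.2) (Function.uncurry ![a.out.coeff, b.out.coeff])
    (by
      rintro ⟨t, i⟩
      fin_cases t
      · exact out_coeff_mem p m c a ha i
      · exact out_coeff_mem p m c b hb i)
    (WittVector.wittSub p (j : ℕ)) (p ^ (j : ℕ)) (wittSub_homog p j)
  exact key

include hπ in
theorem fil_mul (m : ℕ) (c c' : B) (a b : TruncatedWittVector p m B)
    (ha : a ∈ WittFil.fil p m (A := A) c) (hb : b ∈ WittFil.fil p m (A := A) c') :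
    a * b ∈ WittFil.fil p m (A := A) (c * c') := by
  have hinj := algebraMap_injective (B := B) π hπ
  haveI : CharP B p := charP_of_injective_algebraMap hinj p
  apply mem_fil_of_coeff_mem p π hπ
  intro j
  have hab : a * b = WittVector.truncate m (a.out * b.out) := by
    rw [map_mul]
    congr 1
    · exact (TruncatedWittVector.truncateFun_out a).symm
    · exact (TruncatedWittVector.truncateFun_out b).symm
  rw [hab, WittVector.coeff_truncate, WittVector.mul_coeff, WittVector.peval]
  have key := aeval_mem_of_homog (Γ := ℕ × ℕ)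
    (fun k => Nsub p (A := A) (m - 1) (c ^ k.1 * c' ^ k.2))
    (by
      rw [mem_Nsub]
      simp only [Prod.fst_zero, Prod.snd_zero, pow_zero, one_pow, mul_one]
      exact one_mem _)
    (by
      intro i j y y' hy hy'
      rw [mem_Nsub] at hy hy' ⊢
      have := mul_mem hy hy'
      convert this using 1
      simp only [Prod.fst_add, Prod.snd_add, pow_add]
      ring)
    (fun i : Fin 2 × ℕ => if i.1 = 0 then ((p ^ i.2, 0) : ℕ × ℕ) else (0, p ^ i.2))
    (Function.uncurry ![a.out.coeff, b.out.coeff])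
    (by
      rintro ⟨t, i⟩
      fin_cases t
      · have := out_coeff_mem p m c a ha i
        simpa using this
      · have := out_coeff_mem p m c' b hb i
        simpa using this)
    (WittVector.wittMul p (j : ℕ)) ((p ^ (j : ℕ), p ^ (j : ℕ)) : ℕ × ℕ) (wittMul_bihomog p j)
  simpa [mul_pow] using key

end Fil

end H9_WittFil
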