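import Mathlib
import Groth.Agent.Lib.helper9.H9_WittFil

set_option autoImplicit false
universe u

namespace H9_WittFil

theorem pairwise_isRelPrime {A : Type*} [CommRing A] [IsDomain A] {r : ℕ} (x : Fin r → A)
    (hx : ∀ i, Prime (x i)) (hxa : ∀ i j, Associated (x i) (x j) → i = j) :
    Pairwise (Function.onFun IsRelPrime x) := by
  intro i k hik
  show IsRelPrime (x i) (x k)
  rw [(hx i).irreducible.isRelPrime_iff_not_dvd]
  intro hd
  exact hik (hxa i k ((hx i).associated_of_dvd (hx k) hd))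

/-- If `w^k * ∏ x_i^{e_i}` lies in `A` with all `e_i < k`, then `w ∈ A`. -/
theorem mem_range_of_pow_mul_mem {A B : Type*} [CommRing A] [IsDomain A]
    [UniqueFactorizationMonoid A] [CommRing B] [Algebra A B] {r : ℕ} (x : Fin r → A)
    (hx : ∀ i, Prime (x i)) (hxa : ∀ i j, Associated (x i) (x j) → i = j)
    [IsLocalization.Away (∏ i, x i) B] (k : ℕ) (e : Fin r → ℕ) (he : ∀ i, e i < k)
    (w : B) (hw : w ^ k * algebraMap A B (∏ i, x i ^ e i) ∈ (algebraMap A B).range) :
    w ∈ (algebraMap A B).range := by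
  classical
  have hπ : (∏ i, x i) ≠ 0 := Finset.prod_ne_zero_iff.mpr fun i _ => (hx i).ne_zero
  have hinj : Function.Injective (algebraMap A B) :=
    IsLocalization.injective B (powers_le_nonZeroDivisors_of_noZeroDivisors hπ)
  by_cases hr : r = 0
  · subst hr
    -- π = 1, so B = A
    have hu : IsUnit (algebraMap A B (∏ i, x i)) := IsLocalization.Away.algebraMap_isUnit _
    obtain ⟨t, a, hta⟩ := IsLocalization.Away.surj (∏ i, x i) w
    refine ⟨a, ?_⟩
    rw [← hta]
    simp
  have hk : k ≠ 0 := by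
    have : 0 < r := Nat.pos_of_ne_zero hr
    have := he ⟨0, this⟩
    omega
  obtain ⟨a0, ha0⟩ := hw
  have hπk : (∏ i, x i) ^ k = (∏ i, x i ^ e i) * ∏ i, x i ^ (k - e i) := by
    rw [← Finset.prod_mul_distrib, ← Finset.prod_pow]
    refine Finset.prod_congr rfl ?_
    intro i _
    rw [← pow_add]
    congr 1
    have := he i
    omega
  have h1 : (w * algebraMap A B (∏ i, x i)) ^ k ∈ (algebraMap A B).range := by
    refine ⟨a0 * ∏ i, x i ^ (k - e i), ?_⟩
    rw [map_mul, ha0, mul_pow, ← map_pow, hπk, map_mul]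
    ring
  obtain ⟨b, hb⟩ := mem_range_of_pow_mem (∏ i, x i) hπ _ k hk h1
  have h2 : b ^ k * ∏ i, x i ^ e i = (∏ i, x i) ^ k * a0 := by
    apply hinj
    rw [map_mul, map_pow, hb, map_mul, ha0, mul_pow, map_pow]
    ring
  have hdiv : ∀ i, x i ∣ b := by
    intro i
    by_contra hnd
    have hnd' : ¬ x i ∣ b ^ k := fun h => hnd ((hx i).dvd_of_dvd_pow h)
    have h3 : x i ^ k ∣ b ^ k * ∏ j, x j ^ e j := by
      rw [h2]
      exact dvd_mul_of_dvd_left
        (pow_dvd_pow_of_dvd (Finset.dvd_prod_of_mem _ (Finset.mem_univ i)) _) _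
    have h4 := (hx i).pow_dvd_of_dvd_mul_left k hnd' h3
    rw [← Finset.mul_prod_erase Finset.univ _ (Finset.mem_univ i)] at h4
    have h5 : ¬ x i ∣ ∏ j ∈ Finset.univ.erase i, x j ^ e j := by
      intro h
      rw [(hx i).dvd_finset_prod_iff] at h
      obtain ⟨j, hj, hd⟩ := h
      have := (hx i).dvd_of_dvd_pow hd
      exact (Finset.ne_of_mem_erase hj) (hxa i j ((hx i).associated_of_dvd (hx j) this)).symm
    have h6 := (hx i).pow_dvd_of_dvd_mul_right k h5 h4
    rw [pow_dvd_pow_iff (hx i).ne_zero (hx i).not_unit] at h6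
    have := he i
    omega
  obtain ⟨b', hb'⟩ := Fintype.prod_dvd_of_isRelPrime (pairwise_isRelPrime x hx hxa) hdiv
  refine ⟨b', ?_⟩
  have hu : IsUnit (algebraMap A B (∏ i, x i)) := IsLocalization.Away.algebraMap_isUnit _
  apply hu.mul_right_cancel
  rw [← hb, hb', map_mul, mul_comm]

end H9_WittFil
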