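import Mathlib

set_option autoImplicit false
universe u

namespace H9_WittIso

open MvPolynomial

variable (p : ℕ) [hp : Fact p.Prime]

/-- If the "ghost side" of a Witt structure polynomial is isobaric of weight `p^n` for all `n`,
so are the structure polynomials themselves. -/
theorem structure_homog {idx : Type*} (Φ : MvPolynomial idx ℤ) (w : idx × ℕ → ℕ)
    (hΦ : ∀ n, IsWeightedHomogeneous w
      (bind₁ (fun b => rename (Prod.mk b) (wittPolynomial p ℤ n)) Φ) (p ^ n)) (n : ℕ) :
    IsWeightedHomogeneous w (wittStructureInt p Φ n) (p ^ n) := by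
  induction n using Nat.strong_induction_on with
  | _ n ih =>
  have hprop := wittStructureInt_prop p Φ n
  have hL : bind₁ (wittStructureInt p Φ) (wittPolynomial p ℤ n) =
      ∑ i ∈ Finset.range (n + 1), C ((p : ℤ) ^ i) * (wittStructureInt p Φ i) ^ (p ^ (n - i)) := by
    rw [wittPolynomial_eq_sum_C_mul_X_pow, map_sum]
    refine Finset.sum_congr rfl ?_
    intro i _
    rw [map_mul, bind₁_C_right, map_pow (bind₁ _) (X i), bind₁_X_right]
  have hlow : IsWeightedHomogeneous w
      (∑ i ∈ Finset.range n, C ((p : ℤ) ^ i) * (wittStructureInt p Φ i) ^ (p ^ (n - i)))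
      (p ^ n) := by
    apply IsWeightedHomogeneous.sum
    intro i hi
    have hin : i < n := Finset.mem_range.mp hi
    have h1 := ((ih i hin).pow (p ^ (n - i))).C_mul ((p : ℤ) ^ i)
    have e : p ^ (n - i) • p ^ i = p ^ n := by
      simp only [smul_eq_mul]
      rw [← pow_add, Nat.sub_add_cancel hin.le]
    rw [e] at h1
    exact h1
  have htop : IsWeightedHomogeneous w (C ((p : ℤ) ^ n) * wittStructureInt p Φ n) (p ^ n) := by
    have hEq : C ((p : ℤ) ^ n) * wittStructureInt p Φ n =
        bind₁ (fun b => rename (Prod.mk b) (wittPolynomial p ℤ n)) Φ -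
        ∑ i ∈ Finset.range n, C ((p : ℤ) ^ i) * (wittStructureInt p Φ i) ^ (p ^ (n - i)) := by
      rw [← hprop, hL, Finset.sum_range_succ, Nat.sub_self, pow_zero, pow_one]
      ring
    rw [hEq]
    exact (hΦ n).sub hlow
  intro d hd
  apply htop
  rw [coeff_C_mul]
  exact mul_ne_zero (pow_ne_zero _ (by exact_mod_cast hp.out.ne_zero)) hd

/-- `rename (Prod.mk b) (W_n)` is homogeneous of degree `c * p^n` when `w (b, i) = c * p^i`. -/
theorem rename_witt_homog {idx : Type*} (w : idx × ℕ → ℕ) (b : idx) (c : ℕ)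
    (hw : ∀ i, w (b, i) = c * p ^ i) (n : ℕ) :
    IsWeightedHomogeneous w (rename (Prod.mk b) (wittPolynomial p ℤ n)) (c * p ^ n) := by
  rw [wittPolynomial_eq_sum_C_mul_X_pow, map_sum]
  apply IsWeightedHomogeneous.sum
  intro i hi
  have hin : i ≤ n := Nat.lt_succ_iff.mp (Finset.mem_range.mp hi)
  rw [map_mul, rename_C, map_pow (rename _) (X i), rename_X]
  have h1 := ((isWeightedHomogeneous_X (R := ℤ) w (b, i)).pow (p ^ (n - i))).C_mul ((p : ℤ) ^ i)
  have e : p ^ (n - i) • w (b, i) = c * p ^ n := by
    simp only [smul_eq_mul, hw]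
    rw [mul_left_comm, ← pow_add, Nat.sub_add_cancel hin]
  rw [e] at h1
  exact h1

theorem wittAdd_homog (n : ℕ) :
    IsWeightedHomogeneous (fun i : Fin 2 × ℕ => p ^ i.2) (WittVector.wittAdd p n) (p ^ n) := by
  apply structure_homog
  intro n
  rw [map_add, bind₁_X_right, bind₁_X_right]
  have h0 := rename_witt_homog p (fun i : Fin 2 × ℕ => p ^ i.2) 0 1 (by intro i; simp) n
  have h1 := rename_witt_homog p (fun i : Fin 2 × ℕ => p ^ i.2) 1 1 (by intro i; simp) n
  rw [one_mul] at h0 h1
  exact h0.add h1

/-- `wittMul` is isobaric of weight `p^n` in the second group of variables alone. -/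
theorem wittMul_homog (n : ℕ) :
    IsWeightedHomogeneous (fun i : Fin 2 × ℕ => if i.1 = 1 then p ^ i.2 else 0)
      (WittVector.wittMul p n) (p ^ n) := by
  apply structure_homog
  intro n
  rw [map_mul, bind₁_X_right, bind₁_X_right]
  have h0 := rename_witt_homog p (fun i : Fin 2 × ℕ => if i.1 = 1 then p ^ i.2 else 0) 0 0
    (by intro i; simp) n
  have h1 := rename_witt_homog p (fun i : Fin 2 × ℕ => if i.1 = 1 then p ^ i.2 else 0) 1 1
    (by intro i; simp) n
  rw [one_mul] at h1
  rw [zero_mul] at h0
  have := h0.mul h1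
  rwa [zero_add] at this

/-- evaluation of an isobaric integer polynomial on elements of a multiplicative filtration -/
theorem aeval_mem_of_homog {A K : Type*} [CommRing A] [CommRing K] [Algebra A K]
    (N : ℕ → Submodule A K) (h1 : (1 : K) ∈ N 0)
    (hmul : ∀ (i j : ℕ) (a b : K), a ∈ N i → b ∈ N j → a * b ∈ N (i + j))
    {σ : Type*} (w : σ → ℕ) (f : σ → K) (hf : ∀ s, f s ∈ N (w s))
    (P : MvPolynomial σ ℤ) (D : ℕ) (hP : IsWeightedHomogeneous w P D) :
    aeval f P ∈ N D := by
  classical
  have hpow : ∀ (s : σ) (k : ℕ), f s ^ k ∈ N (k • w s) := by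
    intro s k
    induction k with
    | zero => simpa using h1
    | succ k ih =>
      rw [pow_succ, succ_nsmul]
      exact hmul _ _ _ _ ih (hf s)
  have hprod : ∀ d : σ →₀ ℕ, (d.prod fun s k => f s ^ k) ∈ N (Finsupp.weight w d) := by
    intro d
    induction d using Finsupp.induction_linear with
    | zero => simpa using h1
    | add d₁ d₂ h₁ h₂ =>
      rw [Finsupp.prod_add_index' (fun a => pow_zero _) (fun a b₁ b₂ => pow_add _ _ _), map_add]
      exact hmul _ _ _ _ h₁ h₂
    | single s k =>
      rw [Finsupp.prod_single_index (h := fun s k => f s ^ k) (pow_zero _), Finsupp.weight_single]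
      exact hpow s k
  induction hP using IsWeightedHomogeneous.induction_on with
  | zero => simp
  | add q r hq hr ihq ihr => rw [map_add]; exact Submodule.add_mem _ ihq ihr
  | monomial d r hr =>
    rw [aeval_monomial, ← hr]
    have : (algebraMap ℤ K) r * (d.prod fun i k => f i ^ k) = r • (d.prod fun i k => f i ^ k) := by
      rw [Algebra.smul_def]
    rw [this]
    exact zsmul_mem (hprod d) r

end H9_WittIso
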